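import Cfsg.Agent.Dce.Defs

set_option autoImplicit false
set_option maxRecDepth 1000000
set_option maxHeartbeats 0
set_option Elab.async false

namespace CF.Dce.J4
open CF.Comp

noncomputable def rels : List (List Nat) := [[(nat_lit 1), (nat_lit 1)],
  [(nat_lit 3), (nat_lit 3), (nat_lit 3)],
  [(nat_lit 1), (nat_lit 3), (nat_lit 1), (nat_lit 3), (nat_lit 1), (nat_lit 3), (nat_lit 1), (nat_lit 3), (nat_lit 1), (nat_lit 3), (nat_lit 1), (nat_lit 3), (nat_lit 1), (nat_lit 3), (nat_lit 1), (nat_lit 3), (nat_lit 1), (nat_lit 3), (nat_lit 1), (nat_lit 3), (nat_lit 1), (nat_lit 3), (nat_lit 1), (nat_lit 3), (nat_lit 1), (nat_lit 3), (nat_lit 1), (nat_lit 3), (nat_lit 1), (nat_lit 3), (nat_lit 1), (nat_lit 3), (nat_lit 1), (nat_lit 3), (nat_lit 1), (nat_lit 3), (nat_lit 1), (nat_lit 3), (nat_lit 1), (nat_lit 3), (nat_lit 1), (nat_lit 3), (nat_lit 1), (nat_lit 3), (nat_lit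 1), (nat_lit 3)],
  [(nat_lit 2), (nat_lit 4), (nat_lit 1), (nat_lit 3), (nat_lit 2), (nat_lit 4), (nat_lit 1), (nat_lit 3), (nat_lit 2), (nat_lit 4), (nat_lit 1), (nat_lit 3), (nat_lit 2), (nat_lit 4), (nat_lit 1), (nat_lit 3), (nat_lit 2), (nat_lit 4), (nat_lit 1), (nat_lit 3), (nat_lit 2), (nat_lit 4), (nat_lit 1), (nat_lit 3), (nat_lit 2), (nat_lit 4), (nat_lit 1), (nat_lit 3), (nat_lit 2), (nat_lit 4), (nat_lit 1), (nat_lit 3), (nat_lit 2), (nat_lit 4), (nat_lit 1), (nat_lit 3), (nat_lit 2), (nat_lit 4), (nat_lit 1), (nat_lit 3), (nat_lit 2), (nat_lit 4), (nat_lit 1), (nat_lit 3), (nat_lit 2), (nat_lit 4), (nat_lit 1), (nat_lit 3)],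
  [(nat_lit 2), (nat_lit 4), (nat_lit 2), (nat_lit 4), (nat_lit 1), (nat_lit 3), (nat_lit 1), (nat_lit 3), (nat_lit 2), (nat_lit 4), (nat_lit 2), (nat_lit 4), (nat_lit 1), (nat_lit 3), (nat_lit 1), (nat_lit 3), (nat_lit 2), (nat_lit 4), (nat_lit 2), (nat_lit 4), (nat_lit 1), (nat_lit 3), (nat_lit 1), (nat_lit 3), (nat_lit 2), (nat_lit 4), (nat_lit 2), (nat_lit 4), (nat_lit 1), (nat_lit 3), (nat_lit 1), (nat_lit 3), (nat_lit 2), (nat_lit 4), (nat_lit 2), (nat_lit 4), (nat_lit 1), (nat_lit 3), (nat_lit 1), (nat_lit 3)],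
  [(nat_lit 1), (nat_lit 3), (nat_lit 1), (nat_lit 3), (nat_lit 1), (nat_lit 4), (nat_lit 1), (nat_lit 3), (nat_lit 1), (nat_lit 4), (nat_lit 1), (nat_lit 3), (nat_lit 1), (nat_lit 4), (nat_lit 1), (nat_lit 3), (nat_lit 1), (nat_lit 3), (nat_lit 1), (nat_lit 4), (nat_lit 1), (nat_lit 3), (nat_lit 1), (nat_lit 4), (nat_lit 1), (nat_lit 3), (nat_lit 1), (nat_lit 4), (nat_lit 1), (nat_lit 3), (nat_lit 1), (nat_lit 3), (nat_lit 1), (nat_lit 4), (nat_lit 1), (nat_lit 3), (nat_lit 1), (nat_lit 4), (nat_lit 1), (nat_lit 3), (nat_lit 1), (nat_lit 4), (nat_lit 1), (nat_lit 3), (nat_lit 1), (nat_lit 3), (nat_lit 1), (nat_lit 4), (nat_lit 1), (nat_lit 3), (nat_lit 1), (nat_lit 4), (nat_lit 1), (nat_lit 3), (nat_lit 1), (nat_lit 4)],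
  [(nat_lit 1), (nat_lit 3), (nat_lit 1), (nat_lit 3), (nat_lit 1), (nat_lit 4), (nat_lit 1), (nat_lit 3), (nat_lit 1), (nat_lit 3), (nat_lit 1), (nat_lit 4), (nat_lit 1), (nat_lit 3), (nat_lit 1), (nat_lit 3), (nat_lit 1), (nat_lit 4), (nat_lit 1), (nat_lit 3), (nat_lit 1), (nat_lit 4), (nat_lit 1), (nat_lit 4), (nat_lit 1), (nat_lit 3), (nat_lit 1), (nat_lit 4), (nat_lit 1), (nat_lit 4), (nat_lit 1), (nat_lit 3), (nat_lit 1), (nat_lit 4), (nat_lit 1), (nat_lit 4)],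
  [(nat_lit 5), (nat_lit 5)],
  [(nat_lit 6), (nat_lit 4), (nat_lit 2), (nat_lit 4), (nat_lit 2), (nat_lit 4), (nat_lit 2), (nat_lit 3), (nat_lit 2), (nat_lit 3), (nat_lit 2), (nat_lit 4), (nat_lit 2), (nat_lit 4), (nat_lit 5), (nat_lit 3), (nat_lit 1), (nat_lit 3), (nat_lit 1), (nat_lit 4), (nat_lit 1), (nat_lit 4), (nat_lit 1), (nat_lit 3), (nat_lit 1), (nat_lit 3), (nat_lit 1), (nat_lit 3)],
  [(nat_lit 6), (nat_lit 2), (nat_lit 5), (nat_lit 1)],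
  [(nat_lit 3), (nat_lit 2), (nat_lit 3), (nat_lit 2), (nat_lit 4), (nat_lit 2), (nat_lit 3), (nat_lit 2), (nat_lit 4), (nat_lit 5), (nat_lit 3), (nat_lit 1), (nat_lit 4), (nat_lit 1), (nat_lit 3), (nat_lit 1), (nat_lit 4), (nat_lit 1), (nat_lit 3), (nat_lit 2), (nat_lit 3), (nat_lit 2), (nat_lit 4), (nat_lit 2), (nat_lit 3), (nat_lit 2), (nat_lit 4), (nat_lit 5), (nat_lit 3), (nat_lit 1), (nat_lit 4), (nat_lit 1), (nat_lit 3), (nat_lit 1), (nat_lit 4), (nat_lit 1), (nat_lit 3), (nat_lit 2), (nat_lit 3), (nat_lit 2), (nat_lit 4), (nat_lit 2), (nat_lit 3), (nat_lit 2), (nat_lit 4), (nat_lit 5), (nat_lit 3), (nat_lit 1), (nat_lit 4), (nat_lit 1), (nat_lit 3), (nat_lit 1), (nat_lit 4), (nat_lit 1)],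
  [(nat_lit 3), (nat_lit 1), (nat_lit 3), (nat_lit 1), (nat_lit 3), (nat_lit 1), (nat_lit 3), (nat_lit 3), (nat_lit 1), (nat_lit 3), (nat_lit 1), (nat_lit 3), (nat_lit 1), (nat_lit 3), (nat_lit 3), (nat_lit 1), (nat_lit 3), (nat_lit 1), (nat_lit 3), (nat_lit 1), (nat_lit 3), (nat_lit 5), (nat_lit 4), (nat_lit 4), (nat_lit 2), (nat_lit 4), (nat_lit 2), (nat_lit 4), (nat_lit 2), (nat_lit 4), (nat_lit 2), (nat_lit 4), (nat_lit 2), (nat_lit 4), (nat_lit 2), (nat_lit 4), (nat_lit 4), (nat_lit 2), (nat_lit 4), (nat_lit 2), (nat_lit 4), (nat_lit 2), (nat_lit 5), (nat_lit 1), (nat_lit 3), (nat_lit 1), (nat_lit 3), (nat_lit 1), (nat_lit 3), (nat_lit 3), (nat_lit 1), (nat_lit 3), (nat_lit 1), (nat_lit 3), (nat_lit 1), (nat_lit 3), (nat_lit 1), (nat_lit 3), (nat_lit 1), (nat_lit 3), (nat_lit 1), (nat_lit 3), (nat_lit 3), (nat_lit 3), (nat_lit 1), (nat_lit 3), (nat_lit 1), (nat_lit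 3), (nat_lit 1), (nat_lit 3), (nat_lit 3), (nat_lit 1), (nat_lit 3), (nat_lit 1), (nat_lit 3), (nat_lit 1), (nat_lit 3), (nat_lit 3), (nat_lit 1), (nat_lit 3), (nat_lit 1), (nat_lit 3), (nat_lit 1), (nat_lit 3), (nat_lit 5), (nat_lit 4), (nat_lit 4), (nat_lit 2), (nat_lit 4), (nat_lit 2), (nat_lit 4), (nat_lit 2), (nat_lit 4), (nat_lit 2), (nat_lit 4), (nat_lit 2), (nat_lit 4), (nat_lit 2), (nat_lit 4), (nat_lit 4), (nat_lit 2), (nat_lit 4), (nat_lit 2), (nat_lit 4), (nat_lit 2), (nat_lit 5), (nat_lit 1), (nat_lit 3), (nat_lit 1), (nat_lit 3), (nat_lit 1), (nat_lit 3), (nat_lit 3), (nat_lit 1), (nat_lit 3), (nat_lit 1), (nat_lit 3), (nat_lit 1), (nat_lit 3), (nat_lit 1), (nat_lit 3), (nat_lit 1), (nat_lit 3), (nat_lit 1), (nat_lit 3), (nat_lit 3)]]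
noncomputable def R0 : List (List Nat) := [[(nat_lit 1), (nat_lit 1)],
  [(nat_lit 3), (nat_lit 3), (nat_lit 3)],
  [(nat_lit 1), (nat_lit 3), (nat_lit 1), (nat_lit 3), (nat_lit 1), (nat_lit 3), (nat_lit 1), (nat_lit 3), (nat_lit 1), (nat_lit 3), (nat_lit 1), (nat_lit 3), (nat_lit 1), (nat_lit 3), (nat_lit 1), (nat_lit 3), (nat_lit 1), (nat_lit 3), (nat_lit 1), (nat_lit 3), (nat_lit 1), (nat_lit 3), (nat_lit 1), (nat_lit 3), (nat_lit 1), (nat_lit 3), (nat_lit 1), (nat_lit 3), (nat_lit 1), (nat_lit 3), (nat_lit 1), (nat_lit 3), (nat_lit 1), (nat_lit 3), (nat_lit 1), (nat_lit 3), (nat_lit 1), (nat_lit 3), (nat_lit 1), (nat_lit 3), (nat_lit 1), (nat_lit 3), (nat_lit 1), (nat_lit 3), (nat_lit 1), (nat_lit 3)],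
  [(nat_lit 2), (nat_lit 4), (nat_lit 1), (nat_lit 3), (nat_lit 2), (nat_lit 4), (nat_lit 1), (nat_lit 3), (nat_lit 2), (nat_lit 4), (nat_lit 1), (nat_lit 3), (nat_lit 2), (nat_lit 4), (nat_lit 1), (nat_lit 3), (nat_lit 2), (nat_lit 4), (nat_lit 1), (nat_lit 3), (nat_lit 2), (nat_lit 4), (nat_lit 1), (nat_lit 3), (nat_lit 2), (nat_lit 4), (nat_lit 1), (nat_lit 3), (nat_lit 2), (nat_lit 4), (nat_lit 1), (nat_lit 3), (nat_lit 2), (nat_lit 4), (nat_lit 1), (nat_lit 3), (nat_lit 2), (nat_lit 4), (nat_lit 1), (nat_lit 3), (nat_lit 2), (nat_lit 4), (nat_lit 1), (nat_lit 3), (nat_lit 2), (nat_lit 4), (nat_lit 1), (nat_lit 3)],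
  [(nat_lit 2), (nat_lit 4), (nat_lit 2), (nat_lit 4), (nat_lit 1), (nat_lit 3), (nat_lit 1), (nat_lit 3), (nat_lit 2), (nat_lit 4), (nat_lit 2), (nat_lit 4), (nat_lit 1), (nat_lit 3), (nat_lit 1), (nat_lit 3), (nat_lit 2), (nat_lit 4), (nat_lit 2), (nat_lit 4), (nat_lit 1), (nat_lit 3), (nat_lit 1), (nat_lit 3), (nat_lit 2), (nat_lit 4), (nat_lit 2), (nat_lit 4), (nat_lit 1), (nat_lit 3), (nat_lit 1), (nat_lit 3), (nat_lit 2), (nat_lit 4), (nat_lit 2), (nat_lit 4), (nat_lit 1), (nat_lit 3), (nat_lit 1), (nat_lit 3)],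
  [(nat_lit 1), (nat_lit 3), (nat_lit 1), (nat_lit 3), (nat_lit 1), (nat_lit 4), (nat_lit 1), (nat_lit 3), (nat_lit 1), (nat_lit 4), (nat_lit 1), (nat_lit 3), (nat_lit 1), (nat_lit 4), (nat_lit 1), (nat_lit 3), (nat_lit 1), (nat_lit 3), (nat_lit 1), (nat_lit 4), (nat_lit 1), (nat_lit 3), (nat_lit 1), (nat_lit 4), (nat_lit 1), (nat_lit 3), (nat_lit 1), (nat_lit 4), (nat_lit 1), (nat_lit 3), (nat_lit 1), (nat_lit 3), (nat_lit 1), (nat_lit 4), (nat_lit 1), (nat_lit 3), (nat_lit 1), (nat_lit 4), (nat_lit 1), (nat_lit 3), (nat_lit 1), (nat_lit 4), (nat_lit 1), (nat_lit 3), (nat_lit 1), (nat_lit 3), (nat_lit 1), (nat_lit 4), (nat_lit 1), (nat_lit 3), (nat_lit 1), (nat_lit 4), (nat_lit 1), (nat_lit 3), (nat_lit 1), (nat_lit 4)],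
  [(nat_lit 1), (nat_lit 3), (nat_lit 1), (nat_lit 3), (nat_lit 1), (nat_lit 4), (nat_lit 1), (nat_lit 3), (nat_lit 1), (nat_lit 3), (nat_lit 1), (nat_lit 4), (nat_lit 1), (nat_lit 3), (nat_lit 1), (nat_lit 3), (nat_lit 1), (nat_lit 4), (nat_lit 1), (nat_lit 3), (nat_lit 1), (nat_lit 4), (nat_lit 1), (nat_lit 4), (nat_lit 1), (nat_lit 3), (nat_lit 1), (nat_lit 4), (nat_lit 1), (nat_lit 4), (nat_lit 1), (nat_lit 3), (nat_lit 1), (nat_lit 4), (nat_lit 1), (nat_lit 4)]]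
noncomputable def RT : List (List Nat) := [[(nat_lit 1), (nat_lit 1)],
  [(nat_lit 3), (nat_lit 3), (nat_lit 3)]]
noncomputable def H1 : List (List Nat) := [[(nat_lit 1)],
  [(nat_lit 3)]]
noncomputable def WS : List (List Nat) := [[(nat_lit 4), (nat_lit 1), (nat_lit 3), (nat_lit 1), (nat_lit 3), (nat_lit 1), (nat_lit 3), (nat_lit 1), (nat_lit 3), (nat_lit 1), (nat_lit 4), (nat_lit 1), (nat_lit 4), (nat_lit 1), (nat_lit 3)],
  [(nat_lit 1), (nat_lit 3), (nat_lit 1)],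
  [(nat_lit 3), (nat_lit 1), (nat_lit 3), (nat_lit 1), (nat_lit 3), (nat_lit 1), (nat_lit 4), (nat_lit 1), (nat_lit 4)],
  [(nat_lit 3), (nat_lit 1), (nat_lit 4), (nat_lit 1), (nat_lit 3), (nat_lit 1), (nat_lit 3), (nat_lit 1), (nat_lit 4)],
  [(nat_lit 4), (nat_lit 1), (nat_lit 3), (nat_lit 1), (nat_lit 4), (nat_lit 1), (nat_lit 3), (nat_lit 1), (nat_lit 3), (nat_lit 1), (nat_lit 4), (nat_lit 1), (nat_lit 3)],
  [(nat_lit 4), (nat_lit 1), (nat_lit 4), (nat_lit 1), (nat_lit 3), (nat_lit 1), (nat_lit 3), (nat_lit 1), (nat_lit 4), (nat_lit 1), (nat_lit 3), (nat_lit 1), (nat_lit 3)],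
  [(nat_lit 4), (nat_lit 1), (nat_lit 4), (nat_lit 1), (nat_lit 4), (nat_lit 1), (nat_lit 3), (nat_lit 1), (nat_lit 3), (nat_lit 1), (nat_lit 3), (nat_lit 1), (nat_lit 3)]]
noncomputable def R1 : List (List Nat) := [[(nat_lit 3), (nat_lit 10), (nat_lit 6), (nat_lit 9)],
  [(nat_lit 1), (nat_lit 1), (nat_lit 4), (nat_lit 10), (nat_lit 13)],
  [(nat_lit 1), (nat_lit 1), (nat_lit 10), (nat_lit 6), (nat_lit 13)],
  [(nat_lit 3), (nat_lit 7), (nat_lit 3), (nat_lit 12), (nat_lit 7)],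
  [(nat_lit 3), (nat_lit 8), (nat_lit 13), (nat_lit 9), (nat_lit 5)],
  [(nat_lit 1), (nat_lit 12), (nat_lit 13), (nat_lit 11), (nat_lit 2), (nat_lit 10)],
  [(nat_lit 3), (nat_lit 11), (nat_lit 4), (nat_lit 6), (nat_lit 8), (nat_lit 5)],
  [(nat_lit 5), (nat_lit 8), (nat_lit 11), (nat_lit 7), (nat_lit 6), (nat_lit 8)],
  [(nat_lit 5), (nat_lit 13), (nat_lit 12), (nat_lit 14), (nat_lit 11), (nat_lit 14)],
  [(nat_lit 1), (nat_lit 1), (nat_lit 1), (nat_lit 10), (nat_lit 1), (nat_lit 3), (nat_lit 11)],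
  [(nat_lit 1), (nat_lit 1), (nat_lit 1), (nat_lit 10), (nat_lit 13), (nat_lit 2), (nat_lit 10)],
  [(nat_lit 1), (nat_lit 1), (nat_lit 10), (nat_lit 13), (nat_lit 12), (nat_lit 14), (nat_lit 11)],
  [(nat_lit 1), (nat_lit 9), (nat_lit 11), (nat_lit 13), (nat_lit 3), (nat_lit 5), (nat_lit 7)],
  [(nat_lit 3), (nat_lit 7), (nat_lit 3), (nat_lit 7), (nat_lit 6), (nat_lit 8), (nat_lit 5)],
  [(nat_lit 1), (nat_lit 1), (nat_lit 1), (nat_lit 3), (nat_lit 2), (nat_lit 2), (nat_lit 2), (nat_lit 10)],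
  [(nat_lit 1), (nat_lit 1), (nat_lit 13), (nat_lit 11), (nat_lit 6), (nat_lit 8), (nat_lit 3), (nat_lit 9)],
  [(nat_lit 3), (nat_lit 9), (nat_lit 4), (nat_lit 7), (nat_lit 3), (nat_lit 9), (nat_lit 4), (nat_lit 7)],
  [(nat_lit 5), (nat_lit 11), (nat_lit 6), (nat_lit 7), (nat_lit 5), (nat_lit 11), (nat_lit 6), (nat_lit 7)],
  [(nat_lit 5), (nat_lit 12), (nat_lit 13), (nat_lit 11), (nat_lit 5), (nat_lit 12), (nat_lit 13), (nat_lit 11)],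
  [(nat_lit 5), (nat_lit 13), (nat_lit 11), (nat_lit 7), (nat_lit 5), (nat_lit 13), (nat_lit 11), (nat_lit 7)],
  [(nat_lit 1), (nat_lit 1), (nat_lit 1), (nat_lit 13), (nat_lit 12), (nat_lit 14), (nat_lit 2), (nat_lit 10), (nat_lit 4), (nat_lit 9)],
  [(nat_lit 1), (nat_lit 1), (nat_lit 4), (nat_lit 7), (nat_lit 6), (nat_lit 8), (nat_lit 3), (nat_lit 12), (nat_lit 14), (nat_lit 9)],
  [(nat_lit 1), (nat_lit 1), (nat_lit 10), (nat_lit 4), (nat_lit 6), (nat_lit 8), (nat_lit 3), (nat_lit 7), (nat_lit 5), (nat_lit 9)],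
  [(nat_lit 1), (nat_lit 1), (nat_lit 12), (nat_lit 14), (nat_lit 1), (nat_lit 1), (nat_lit 13), (nat_lit 2), (nat_lit 2), (nat_lit 9)],
  [(nat_lit 5), (nat_lit 8), (nat_lit 5), (nat_lit 8), (nat_lit 5), (nat_lit 8), (nat_lit 5), (nat_lit 8), (nat_lit 5), (nat_lit 8)],
  [(nat_lit 11), (nat_lit 14), (nat_lit 11), (nat_lit 14), (nat_lit 11), (nat_lit 14), (nat_lit 11), (nat_lit 14), (nat_lit 11), (nat_lit 14)],
  [(nat_lit 1), (nat_lit 1), (nat_lit 1), (nat_lit 1), (nat_lit 1), (nat_lit 1), (nat_lit 1), (nat_lit 1), (nat_lit 1), (nat_lit 1), (nat_lit 1), (nat_lit 1), (nat_lit 1), (nat_lit 1), (nat_lit 1), (nat_lit 1), (nat_lit 1), (nat_lit 1), (nat_lit 1), (nat_lit 1), (nat_lit 1), (nat_lit 1), (nat_lit 1)],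
  [(nat_lit 3), (nat_lit 3), (nat_lit 3)],
  [(nat_lit 5), (nat_lit 5), (nat_lit 5)],
  [(nat_lit 7), (nat_lit 7), (nat_lit 7)],
  [(nat_lit 9), (nat_lit 9), (nat_lit 9)],
  [(nat_lit 11), (nat_lit 11), (nat_lit 11)],
  [(nat_lit 13), (nat_lit 13), (nat_lit 13)]]
noncomputable def R2 : List (List Nat) := [[(nat_lit 5), (nat_lit 8), (nat_lit 11), (nat_lit 7), (nat_lit 6), (nat_lit 8)],
  [(nat_lit 5), (nat_lit 13), (nat_lit 12), (nat_lit 14), (nat_lit 11), (nat_lit 14)],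
  [(nat_lit 5), (nat_lit 11), (nat_lit 6), (nat_lit 7), (nat_lit 5), (nat_lit 11), (nat_lit 6), (nat_lit 7)],
  [(nat_lit 5), (nat_lit 12), (nat_lit 13), (nat_lit 11), (nat_lit 5), (nat_lit 12), (nat_lit 13), (nat_lit 11)],
  [(nat_lit 5), (nat_lit 13), (nat_lit 11), (nat_lit 7), (nat_lit 5), (nat_lit 13), (nat_lit 11), (nat_lit 7)],
  [(nat_lit 5), (nat_lit 8), (nat_lit 5), (nat_lit 8), (nat_lit 5), (nat_lit 8), (nat_lit 5), (nat_lit 8), (nat_lit 5), (nat_lit 8)],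
  [(nat_lit 11), (nat_lit 14), (nat_lit 11), (nat_lit 14), (nat_lit 11), (nat_lit 14), (nat_lit 11), (nat_lit 14), (nat_lit 11), (nat_lit 14)],
  [(nat_lit 5), (nat_lit 5), (nat_lit 5)],
  [(nat_lit 7), (nat_lit 7), (nat_lit 7)],
  [(nat_lit 11), (nat_lit 11), (nat_lit 11)],
  [(nat_lit 13), (nat_lit 13), (nat_lit 13)]]
noncomputable def R3 : List (List Nat) := [[(nat_lit 5), (nat_lit 8), (nat_lit 11), (nat_lit 7), (nat_lit 6), (nat_lit 8)],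
  [(nat_lit 5), (nat_lit 11), (nat_lit 6), (nat_lit 7), (nat_lit 5), (nat_lit 11), (nat_lit 6), (nat_lit 7)],
  [(nat_lit 5), (nat_lit 8), (nat_lit 5), (nat_lit 8), (nat_lit 5), (nat_lit 8), (nat_lit 5), (nat_lit 8), (nat_lit 5), (nat_lit 8)],
  [(nat_lit 5), (nat_lit 5), (nat_lit 5)],
  [(nat_lit 7), (nat_lit 7), (nat_lit 7)],
  [(nat_lit 11), (nat_lit 11), (nat_lit 11)]]
noncomputable def K1 : List (List Nat) := [[(nat_lit 1)],
  [(nat_lit 3)],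
  [(nat_lit 5)],
  [(nat_lit 7)],
  [(nat_lit 9)],
  [(nat_lit 11)],
  [(nat_lit 13)]]
noncomputable def K2 : List (List Nat) := [[(nat_lit 5)],
  [(nat_lit 7)],
  [(nat_lit 11)],
  [(nat_lit 13)]]
noncomputable def K3 : List (List Nat) := [[(nat_lit 5)],
  [(nat_lit 7)],
  [(nat_lit 11)]]
noncomputable def K4 : List (List Nat) := [[(nat_lit 5)]]
noncomputable def cS : List (List (List Nat × Nat)) := [[([(nat_lit 4), (nat_lit 1), (nat_lit 3), (nat_lit 1), (nat_lit 4), (nat_lit 1), (nat_lit 4), (nat_lit 1), (nat_lit 3), (nat_lit 1), (nat_lit 4), (nat_lit 1), (nat_lit 4), (nat_lit 1)], (nat_lit 13))],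
  [([(nat_lit 4), (nat_lit 1), (nat_lit 4), (nat_lit 1), (nat_lit 4), (nat_lit 1), (nat_lit 4), (nat_lit 1), (nat_lit 3), (nat_lit 1), (nat_lit 4), (nat_lit 1), (nat_lit 4), (nat_lit 1)], (nat_lit 13))],
  [([(nat_lit 4), (nat_lit 1), (nat_lit 4), (nat_lit 1), (nat_lit 4), (nat_lit 1), (nat_lit 4), (nat_lit 1)], (nat_lit 13))],
  [([(nat_lit 3), (nat_lit 1), (nat_lit 4), (nat_lit 1), (nat_lit 4), (nat_lit 1)], (nat_lit 13))],
  [([(nat_lit 3), (nat_lit 1), (nat_lit 3), (nat_lit 1)], (nat_lit 9))],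
  [([(nat_lit 4), (nat_lit 1), (nat_lit 3), (nat_lit 1), (nat_lit 3)], (nat_lit 13))],
  [([(nat_lit 3), (nat_lit 1), (nat_lit 3), (nat_lit 1), (nat_lit 4), (nat_lit 1), (nat_lit 3), (nat_lit 1), (nat_lit 3), (nat_lit 1), (nat_lit 4), (nat_lit 1), (nat_lit 3), (nat_lit 1), (nat_lit 4), (nat_lit 1), (nat_lit 4), (nat_lit 1), (nat_lit 3), (nat_lit 1), (nat_lit 4), (nat_lit 1), (nat_lit 4), (nat_lit 1), (nat_lit 3), (nat_lit 1), (nat_lit 4), (nat_lit 1), (nat_lit 4), (nat_lit 1)], (nat_lit 13))],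
  [([(nat_lit 3), (nat_lit 1), (nat_lit 3)], (nat_lit 13))],
  [([(nat_lit 4), (nat_lit 1), (nat_lit 4), (nat_lit 1), (nat_lit 4), (nat_lit 1), (nat_lit 3), (nat_lit 1), (nat_lit 4), (nat_lit 1), (nat_lit 4), (nat_lit 1)], (nat_lit 13))],
  [([(nat_lit 4), (nat_lit 1), (nat_lit 4), (nat_lit 1), (nat_lit 3), (nat_lit 1)], (nat_lit 9))],
  [([(nat_lit 4), (nat_lit 1), (nat_lit 3), (nat_lit 1), (nat_lit 4), (nat_lit 1), (nat_lit 3), (nat_lit 1), (nat_lit 4), (nat_lit 1), (nat_lit 3), (nat_lit 1), (nat_lit 3), (nat_lit 1), (nat_lit 4), (nat_lit 1), (nat_lit 3), (nat_lit 1), (nat_lit 4), (nat_lit 1), (nat_lit 4), (nat_lit 1), (nat_lit 3), (nat_lit 1), (nat_lit 4), (nat_lit 1), (nat_lit 4), (nat_lit 1), (nat_lit 3), (nat_lit 1), (nat_lit 4), (nat_lit 1), (nat_lit 4), (nat_lit 1)], (nat_lit 13))],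
  [([(nat_lit 4), (nat_lit 1), (nat_lit 3)], (nat_lit 13))],
  [([(nat_lit 4)], (nat_lit 5))],
  [([], (nat_lit 13))],
  [([(nat_lit 4), (nat_lit 1), (nat_lit 3), (nat_lit 1), (nat_lit 4), (nat_lit 1), (nat_lit 3), (nat_lit 1), (nat_lit 4), (nat_lit 1), (nat_lit 3), (nat_lit 1), (nat_lit 4), (nat_lit 1), (nat_lit 4), (nat_lit 1), (nat_lit 3), (nat_lit 1), (nat_lit 4), (nat_lit 1), (nat_lit 4), (nat_lit 1), (nat_lit 3), (nat_lit 1), (nat_lit 4), (nat_lit 1), (nat_lit 4), (nat_lit 1)], (nat_lit 13))],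
  [([(nat_lit 4), (nat_lit 1), (nat_lit 3), (nat_lit 1), (nat_lit 4), (nat_lit 1)], (nat_lit 7))],
  [([(nat_lit 3), (nat_lit 1), (nat_lit 4), (nat_lit 1), (nat_lit 4), (nat_lit 1)], (nat_lit 11))],
  [([(nat_lit 3), (nat_lit 1), (nat_lit 4), (nat_lit 1), (nat_lit 4), (nat_lit 1), (nat_lit 4), (nat_lit 1)], (nat_lit 11))],
  [([(nat_lit 3)], (nat_lit 11))],
  [([(nat_lit 3), (nat_lit 1), (nat_lit 4), (nat_lit 1), (nat_lit 4)], (nat_lit 12))],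
  [([(nat_lit 4), (nat_lit 1), (nat_lit 3), (nat_lit 1), (nat_lit 4), (nat_lit 1), (nat_lit 4), (nat_lit 1), (nat_lit 3), (nat_lit 1), (nat_lit 4)], (nat_lit 12))],
  [([(nat_lit 4), (nat_lit 1), (nat_lit 3), (nat_lit 1), (nat_lit 4), (nat_lit 1), (nat_lit 4)], (nat_lit 12))],
  [([(nat_lit 4), (nat_lit 1), (nat_lit 3), (nat_lit 1), (nat_lit 4), (nat_lit 1), (nat_lit 4), (nat_lit 1), (nat_lit 3), (nat_lit 1), (nat_lit 4), (nat_lit 1), (nat_lit 4), (nat_lit 1)], (nat_lit 11))],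
  [([(nat_lit 4), (nat_lit 1), (nat_lit 3), (nat_lit 1), (nat_lit 4), (nat_lit 1), (nat_lit 4), (nat_lit 1), (nat_lit 4), (nat_lit 1)], (nat_lit 11))],
  [([(nat_lit 3), (nat_lit 1), (nat_lit 4), (nat_lit 1), (nat_lit 3), (nat_lit 1)], (nat_lit 9))],
  [([(nat_lit 4), (nat_lit 1), (nat_lit 4), (nat_lit 1), (nat_lit 4), (nat_lit 1), (nat_lit 3), (nat_lit 1)], (nat_lit 9))],
  [([(nat_lit 4), (nat_lit 1), (nat_lit 3), (nat_lit 1), (nat_lit 3), (nat_lit 1), (nat_lit 4)], (nat_lit 6))],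
  [],
  [],
  [],
  [],
  [],
  []]

end CF.Dce.J4
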