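import Cfsg.Agent.Dce.Defs

set_option autoImplicit false
set_option maxRecDepth 1000000
set_option maxHeartbeats 0
set_option Elab.async false

namespace CF.Dce.J4
open CF.Comp

noncomputable def cF0 : BT Fc := (BT.node (nat_lit 32) (BT.node (nat_lit 16) (BT.node (nat_lit 8) (BT.node (nat_lit 4) (BT.node (nat_lit 2) (BT.node (nat_lit 1) (BT.leaf ⟨(nat_lit 1), (nat_lit 0), (nat_lit 0), (nat_lit 0x609380a013bf0eec0801095c84088), (nat_lit 0x609380a013bf0eec0801095c84088), (nat_lit 0)⟩) (BT.leaf ⟨(nat_lit 1), (nat_lit 0), (nat_lit 0), (nat_lit 0x16a21edf8bc1d46f64e8ad1722f44c7), (nat_lit 0x16a21edf8bc1d46f64e8ad1722f44c7), (nat_lit 0)⟩)) (BT.node (nat_lit 3) (BT.leaf ⟨(nat_lit 1), (nat_lit 0), (nat_lit 0), (nat_lit 0x73b8d33ae74d26b2f38e77bbf9953a), (nat_lit 0x73b8d33ae74d26b2f38e77bbf9953a), (nat_lit 0)⟩) (BT.leaf ⟨(nat_lit 1), (nat_lit 0), (nat_lit 0),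 (nat_lit 0x80402841bd3cedf100125dd1c409d4), (nat_lit 0x80402841bd3cedf100125dd1c409d4), (nat_lit 0)⟩))) (BT.node (nat_lit 6) (BT.node (nat_lit 5) (BT.leaf ⟨(nat_lit 1), (nat_lit 0), (nat_lit 0), (nat_lit 0x6bd6fe74f755a386888501078408a0), (nat_lit 0x6bd6fe74f755a386888501078408a0), (nat_lit 0)⟩) (BT.leaf ⟨(nat_lit 1), (nat_lit 0), (nat_lit 0), (nat_lit 0x11edf5a08013e14050883bb0209380c), (nat_lit 0x11edf5a08013e14050883bb0209380c), (nat_lit 0)⟩)) (BT.node (nat_lit 7) (BT.leaf ⟨(nat_lit 1), (nat_lit 0), (nat_lit 0), (nat_lit 0x1ee96f95535e20840088f8c302798a0), (nat_lit 0x1ee96f95535e20840088f8c302798a0), (nat_lit 0)⟩) (BT.leaf ⟨(nat_lit 1), (nat_lit 0), (nat_lit 0), (nat_lit 0x17a4028214024040480193fbd55c1d4), (nat_lit 0x17a4028214024040480193fbd55c1d4), (nat_lit 0)⟩)))) (BT.node (nat_lit 12) (BT.node (nat_lit 10) (BT.node (nat_lit 9) (BT.leaf ⟨(nat_lit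 1), (nat_lit 0), (nat_lit 0), (nat_lit 0x1a888792b1f44fcd7cc7a5ecbed8e69), (nat_lit 0x1a888792b1f44fcd7cc7a5ecbed8e69), (nat_lit 0)⟩) (BT.leaf ⟨(nat_lit 1), (nat_lit 0), (nat_lit 0), (nat_lit 0x78dea85f44180100d3a420cbea369e), (nat_lit 0x78dea85f44180100d3a420cbea369e), (nat_lit 0)⟩)) (BT.node (nat_lit 11) (BT.leaf ⟨(nat_lit 1), (nat_lit 0), (nat_lit 0), (nat_lit 0xe2b49a363a26547d1d41ab69b90dd5), (nat_lit 0xe2b49a363a26547d1d41ab69b90dd5), (nat_lit 0)⟩) (BT.leaf ⟨(nat_lit 1), (nat_lit 0), (nat_lit 0), (nat_lit 0x1294d9519ecd7fd9ae69eac1f2a3706), (nat_lit 0x1294d9519ecd7fd9ae69eac1f2a3706), (nat_lit 0)⟩))) (BT.node (nat_lit 14) (BT.node (nat_lit 13) (BT.leaf ⟨(nat_lit 1), (nat_lit 0), (nat_lit 0), (nat_lit 0xc4e6f49aa963b713e9e13c5dad8a6a), (nat_lit 0xc4e6f49aa963b713e9e13c5dad8a6a), (nat_lit 0)⟩) (BT.leaf ⟨(nat_lit 1), (nat_lit 0), (nat_lit 0), (nat_lit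 0x100b5cc2068cce84f5d5880e3439e00), (nat_lit 0x100b5cc2068cce84f5d5880e3439e00), (nat_lit 0)⟩)) (BT.node (nat_lit 15) (BT.leaf ⟨(nat_lit 1), (nat_lit 0), (nat_lit 0), (nat_lit 0x1026f044d68106207065f210bbd195), (nat_lit 0x1026f044d68106207065f210bbd195), (nat_lit 0)⟩) (BT.leaf ⟨(nat_lit 1), (nat_lit 0), (nat_lit 0), (nat_lit 0x1d475ca99172e597cc4dc4eae55c5ff), (nat_lit 0x1d475ca99172e597cc4dc4eae55c5ff), (nat_lit 0)⟩))))) (BT.node (nat_lit 24) (BT.node (nat_lit 20) (BT.node (nat_lit 18) (BT.node (nat_lit 17) (BT.leaf ⟨(nat_lit 1), (nat_lit 0), (nat_lit 0), (nat_lit 0xd2631da6ab99cd43c3366b1ee798ed), (nat_lit 0xd2631da6ab99cd43c3366b1ee798ed), (nat_lit 0)⟩) (BT.leaf ⟨(nat_lit 1), (nat_lit 0), (nat_lit 0), (nat_lit 0x1cef1d07c693bbe9d58339deeb9933a), (nat_lit 0x1cef1d07c693bbe9d58339deeb9933a), (nat_lit 0)⟩)) (BT.node (nat_lit 19) (BT.leaf ⟨(nat_lit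 1), (nat_lit 0), (nat_lit 0), (nat_lit 0x4b808ef5e77d1cea49f40202440841), (nat_lit 0x4b808ef5e77d1cea49f40202440841), (nat_lit 0)⟩) (BT.leaf ⟨(nat_lit 1), (nat_lit 0), (nat_lit 0), (nat_lit 0x157017b2f25df6f34d2f1f46bc93b96), (nat_lit 0x157017b2f25df6f34d2f1f46bc93b96), (nat_lit 0)⟩))) (BT.node (nat_lit 22) (BT.node (nat_lit 21) (BT.leaf ⟨(nat_lit 1), (nat_lit 0), (nat_lit 0), (nat_lit 0x14d065e8de1ac4fd6f9df0be2532bfe), (nat_lit 0x14d065e8de1ac4fd6f9df0be2532bfe), (nat_lit 0)⟩) (BT.leaf ⟨(nat_lit 1), (nat_lit 0), (nat_lit 0), (nat_lit 0x12737b0120150080310210408bc7f38), (nat_lit 0x12737b0120150080310210408bc7f38), (nat_lit 0)⟩)) (BT.node (nat_lit 23) (BT.leaf ⟨(nat_lit 1), (nat_lit 0), (nat_lit 0), (nat_lit 0x1918a0500200441af90220235571ce8), (nat_lit 0x1918a0500200441af90220235571ce8), (nat_lit 0)⟩) (BT.leaf ⟨(nat_lit 1), (nat_lit 0), (nat_lit 0),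 (nat_lit 0x1b9154850bf0441f981027fd5927f9d), (nat_lit 0x1b9154850bf0441f981027fd5927f9d), (nat_lit 0)⟩)))) (BT.node (nat_lit 28) (BT.node (nat_lit 26) (BT.node (nat_lit 25) (BT.leaf ⟨(nat_lit 1), (nat_lit 0), (nat_lit 0), (nat_lit 0x110039af4675009c6c08c0027a027e3), (nat_lit 0x110039af4675009c6c08c0027a027e3), (nat_lit 0)⟩) (BT.leaf ⟨(nat_lit 1), (nat_lit 0), (nat_lit 0), (nat_lit 0xbe7bd240082100210c032b1003021f), (nat_lit 0xbe7bd240082100210c032b1003021f), (nat_lit 0)⟩)) (BT.node (nat_lit 27) (BT.leaf ⟨(nat_lit 1), (nat_lit 0), (nat_lit 0), (nat_lit 0xa1d8e7dbce9bf3fa6f5da9b9390ef0), (nat_lit 0xa1d8e7dbce9bf3fa6f5da9b9390ef0), (nat_lit 0)⟩) (BT.leaf ⟨(nat_lit 1), (nat_lit 0), (nat_lit 0), (nat_lit 0x14eac6e73410a010832f408c02a3220), (nat_lit 0x14eac6e73410a010832f408c02a3220), (nat_lit 0)⟩))) (BT.node (nat_lit 30) (BT.node (nat_lit 29) (BT.leaf ⟨(nat_lit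 1), (nat_lit 0), (nat_lit 0), (nat_lit 0x131d6639625e4ba97b2f6e04b6d88fa), (nat_lit 0x131d6639625e4ba97b2f6e04b6d88fa), (nat_lit 0)⟩) (BT.leaf ⟨(nat_lit 1), (nat_lit 0), (nat_lit 0), (nat_lit 0xffb160ed33757219da6f211cc39b35), (nat_lit 0xffb160ed33757219da6f211cc39b35), (nat_lit 0)⟩)) (BT.node (nat_lit 31) (BT.leaf ⟨(nat_lit 1), (nat_lit 0), (nat_lit 0), (nat_lit 0x1ce26cb3a16ed26c187cacab4bbd1ce), (nat_lit 0x1ce26cb3a16ed26c187cacab4bbd1ce), (nat_lit 0)⟩) (BT.leaf ⟨(nat_lit 1), (nat_lit 0), (nat_lit 0), (nat_lit 0x52f041007cee4fef57c5e315c201), (nat_lit 0x52f041007cee4fef57c5e315c201), (nat_lit 0)⟩)))))) (BT.node (nat_lit 48) (BT.node (nat_lit 40) (BT.node (nat_lit 36) (BT.node (nat_lit 34) (BT.node (nat_lit 33) (BT.leaf ⟨(nat_lit 1), (nat_lit 0), (nat_lit 0), (nat_lit 0x220426743015a3e30c0e1ad8e799af), (nat_lit 0x220426743015a3e30c0e1ad8e799af),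 (nat_lit 0)⟩) (BT.leaf ⟨(nat_lit 1), (nat_lit 0), (nat_lit 0), (nat_lit 0x22014208031e177e2b101495f9947b), (nat_lit 0x22014208031e177e2b101495f9947b), (nat_lit 0)⟩)) (BT.node (nat_lit 35) (BT.leaf ⟨(nat_lit 1), (nat_lit 0), (nat_lit 0), (nat_lit 0x220421553002094041e100d8c40fba), (nat_lit 0x220421553002094041e100d8c40fba), (nat_lit 0)⟩) (BT.leaf ⟨(nat_lit 1), (nat_lit 0), (nat_lit 0), (nat_lit 0x52f02100640497747013e3040de9), (nat_lit 0x52f02100640497747013e3040de9), (nat_lit 0)⟩))) (BT.node (nat_lit 38) (BT.node (nat_lit 37) (BT.leaf ⟨(nat_lit 1), (nat_lit 0), (nat_lit 0), (nat_lit 0x131d6612b25e4feae7db35e4b493ea2), (nat_lit 0x131d6612b25e4feae7db35e4b493ea2), (nat_lit 0)⟩) (BT.leaf ⟨(nat_lit 1), (nat_lit 0), (nat_lit 0), (nat_lit 0xffb164533375cda4e738f71ce79c71), (nat_lit 0xffb164533375cda4e738f71ce79c71), (nat_lit 0)⟩)) (BT.node (nat_lit 39) (BT.leaf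 ⟨(nat_lit 1), (nat_lit 0), (nat_lit 0), (nat_lit 0x1ce26cf3e16fcab9deeff74b4b9973a), (nat_lit 0x1ce26cf3e16fcab9deeff74b4b9973a), (nat_lit 0)⟩) (BT.leaf ⟨(nat_lit 1), (nat_lit 0), (nat_lit 0), (nat_lit 0x13a132fb7c167a2b45c8bd2b4af45e0), (nat_lit 0x13a132fb7c167a2b45c8bd2b4af45e0), (nat_lit 0)⟩)))) (BT.node (nat_lit 44) (BT.node (nat_lit 42) (BT.node (nat_lit 41) (BT.leaf ⟨(nat_lit 1), (nat_lit 0), (nat_lit 0), (nat_lit 0x1e77c7c6eba5f37c2f89d45e3132f0d), (nat_lit 0x1e77c7c6eba5f37c2f89d45e3132f0d), (nat_lit 0)⟩) (BT.leaf ⟨(nat_lit 1), (nat_lit 0), (nat_lit 0), (nat_lit 0x1f8d71c6e7cf45df19bc3c6d8e6cbe2), (nat_lit 0x1f8d71c6e7cf45df19bc3c6d8e6cbe2), (nat_lit 0)⟩)) (BT.node (nat_lit 43) (BT.leaf ⟨(nat_lit 1), (nat_lit 0), (nat_lit 0), (nat_lit 0x87d27a5d4fe17fdb9bc71495d2f370), (nat_lit 0x87d27a5d4fe17fdb9bc71495d2f370), (nat_lit 0)⟩) (BT.leaf ⟨(nat_lit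 1), (nat_lit 0), (nat_lit 0), (nat_lit 0x56971be37ce8da371bc94ad8d66790), (nat_lit 0x56971be37ce8da371bc94ad8d66790), (nat_lit 0)⟩))) (BT.node (nat_lit 46) (BT.node (nat_lit 45) (BT.leaf ⟨(nat_lit 3), (nat_lit 0), (nat_lit 1), (nat_lit 0x1001001001001001001001001001001), (nat_lit 0x1001001001001001001001001001001), (nat_lit 0)⟩) (BT.leaf ⟨(nat_lit 3), (nat_lit 1), (nat_lit 0), (nat_lit 0x1001001001001001001001001001001), (nat_lit 0x1001001001001001001001001001001), (nat_lit 0)⟩)) (BT.node (nat_lit 47) (BT.leaf ⟨(nat_lit 2), (nat_lit 1), (nat_lit 1), (nat_lit 0x609380a013bf0eec0801095c84088), (nat_lit 0), (nat_lit 0)⟩) (BT.leaf ⟨(nat_lit 2), (nat_lit 1), (nat_lit 1), (nat_lit 0x16a21edf8bc1d46f64e8ad1722f44c7), (nat_lit 0), (nat_lit 0)⟩))))) (BT.node (nat_lit 56) (BT.node (nat_lit 52) (BT.node (nat_lit 50) (BT.node (nat_lit 49) (BT.leaf ⟨(nat_lit 2),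 (nat_lit 1), (nat_lit 1), (nat_lit 0x14d065e8de1ac4fd6f9df0be2532bfe), (nat_lit 0), (nat_lit 0)⟩) (BT.leaf ⟨(nat_lit 2), (nat_lit 1), (nat_lit 1), (nat_lit 0x1e43bebe17c52951b7e37c66f26c95a), (nat_lit 0), (nat_lit 0)⟩)) (BT.node (nat_lit 51) (BT.leaf ⟨(nat_lit 2), (nat_lit 1), (nat_lit 1), (nat_lit 0x15972fa5f6e12ae8ca1ff6e6f12f6c1), (nat_lit 0), (nat_lit 0)⟩) (BT.leaf ⟨(nat_lit 2), (nat_lit 1), (nat_lit 1), (nat_lit 0xf89d1e0bf2078e8b95a8dc6f1667e3), (nat_lit 0), (nat_lit 0)⟩))) (BT.node (nat_lit 54) (BT.node (nat_lit 53) (BT.leaf ⟨(nat_lit 2), (nat_lit 1), (nat_lit 1), (nat_lit 0x1c34bc8b7a69a8be6bfe8dde26c6f9d), (nat_lit 0), (nat_lit 0)⟩) (BT.leaf ⟨(nat_lit 2), (nat_lit 1), (nat_lit 1), (nat_lit 0x29010039391c55df384ba088eb902), (nat_lit 0), (nat_lit 0)⟩)) (BT.node (nat_lit 55) (BT.leaf ⟨(nat_lit 2), (nat_lit 1), (nat_lit 1), (nat_lit 0x40017980c8cee6b9ce820835490102),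 (nat_lit 0), (nat_lit 0)⟩) (BT.leaf ⟨(nat_lit 2), (nat_lit 1), (nat_lit 1), (nat_lit 0x17e231818dc923b9579d061d580a010), (nat_lit 0), (nat_lit 0)⟩)))) (BT.node (nat_lit 60) (BT.node (nat_lit 58) (BT.node (nat_lit 57) (BT.leaf ⟨(nat_lit 2), (nat_lit 1), (nat_lit 1), (nat_lit 0xceb5cc00880d18f47e3baa27b2fc08), (nat_lit 0), (nat_lit 0)⟩) (BT.leaf ⟨(nat_lit 2), (nat_lit 1), (nat_lit 1), (nat_lit 0x1066f5a85f3ad3e6a1fe0d101d18c0), (nat_lit 0), (nat_lit 0)⟩)) (BT.node (nat_lit 59) (BT.leaf ⟨(nat_lit 2), (nat_lit 1), (nat_lit 1), (nat_lit 0xe5b5cd34c4e2e55d95a89abe4732b1), (nat_lit 0), (nat_lit 0)⟩) (BT.leaf ⟨(nat_lit 2), (nat_lit 1), (nat_lit 1), (nat_lit 0x3b66f49c13d52e4f6c1d3d89fbec1e), (nat_lit 0), (nat_lit 0)⟩))) (BT.node (nat_lit 62) (BT.node (nat_lit 61) (BT.leaf ⟨(nat_lit 2), (nat_lit 1), (nat_lit 1), (nat_lit 0x17fcd9646eadd9ba7742cd2cd465f47),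 (nat_lit 0), (nat_lit 0)⟩) (BT.leaf ⟨(nat_lit 2), (nat_lit 1), (nat_lit 1), (nat_lit 0x9aa7a6e4fe9bc33a6d450e73b7b7db), (nat_lit 0), (nat_lit 0)⟩)) (BT.node (nat_lit 63) (BT.leaf ⟨(nat_lit 2), (nat_lit 1), (nat_lit 1), (nat_lit 0x1c18b7c4008487c209955f36a0a0240), (nat_lit 0), (nat_lit 0)⟩) (BT.leaf ⟨(nat_lit 2), (nat_lit 1), (nat_lit 1), (nat_lit 0x1137652f9572569cb5ffc4f4d154b6c), (nat_lit 0), (nat_lit 0)⟩)))))))
noncomputable def cP0 : BT Pf := (BT.node (nat_lit 32) (BT.node (nat_lit 16) (BT.node (nat_lit 8) (BT.node (nat_lit 4) (BT.node (nat_lit 2) (BT.node (nat_lit 1) (BT.leaf (.base (nat_lit 0))) (BT.leaf (.base (nat_lit 1)))) (BT.node (nat_lit 3) (BT.leaf (.nmul (nat_lit 1) [(nat_lit 0)])) (BT.leaf (.nmul (nat_lit 2) [(nat_lit 1)])))) (BT.node (nat_lit 6) (BT.node (nat_lit 5) (BT.leaf (.nmul (nat_lit 3) [(nat_lit 0)])) (BT.leaf (.nmul (nat_lit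 4) [(nat_lit 1)]))) (BT.node (nat_lit 7) (BT.leaf (.nmul (nat_lit 5) [(nat_lit 1)])) (BT.leaf (.nmul (nat_lit 6) [(nat_lit 0)]))))) (BT.node (nat_lit 12) (BT.node (nat_lit 10) (BT.node (nat_lit 9) (BT.leaf (.nmul (nat_lit 7) [(nat_lit 1)])) (BT.leaf (.nmul (nat_lit 8) [(nat_lit 0)]))) (BT.node (nat_lit 11) (BT.leaf (.nmul (nat_lit 9) [(nat_lit 1)])) (BT.leaf (.nmul (nat_lit 10) [(nat_lit 1)])))) (BT.node (nat_lit 14) (BT.node (nat_lit 13) (BT.leaf (.nmul (nat_lit 11) [(nat_lit 0)])) (BT.leaf (.nmul (nat_lit 12) [(nat_lit 1)]))) (BT.node (nat_lit 15) (BT.leaf (.nmul (nat_lit 13) [(nat_lit 1)])) (BT.leaf (.nmul (nat_lit 14) [(nat_lit 1)])))))) (BT.node (nat_lit 24) (BT.node (nat_lit 20) (BT.node (nat_lit 18) (BT.node (nat_lit 17) (BT.leaf (.nmul (nat_lit 15) [(nat_lit 0)])) (BT.leaf (.nmul (nat_lit 16) [(nat_lit 1)]))) (BT.node (nat_lit 19) (BT.leaf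 (.nmul (nat_lit 17) [(nat_lit 1)])) (BT.leaf (.nmul (nat_lit 18) [(nat_lit 1)])))) (BT.node (nat_lit 22) (BT.node (nat_lit 21) (BT.leaf (.nmul (nat_lit 1) [(nat_lit 1)])) (BT.leaf (.nmul (nat_lit 20) [(nat_lit 1)]))) (BT.node (nat_lit 23) (BT.leaf (.nmul (nat_lit 21) [(nat_lit 0)])) (BT.leaf (.nmul (nat_lit 22) [(nat_lit 1)]))))) (BT.node (nat_lit 28) (BT.node (nat_lit 26) (BT.node (nat_lit 25) (BT.leaf (.nmul (nat_lit 23) [(nat_lit 0)])) (BT.leaf (.nmul (nat_lit 24) [(nat_lit 1)]))) (BT.node (nat_lit 27) (BT.leaf (.nmul (nat_lit 25) [(nat_lit 0)])) (BT.leaf (.nmul (nat_lit 26) [(nat_lit 1)])))) (BT.node (nat_lit 30) (BT.node (nat_lit 29) (BT.leaf (.nmul (nat_lit 27) [(nat_lit 0)])) (BT.leaf (.nmul (nat_lit 28) [(nat_lit 1)]))) (BT.node (nat_lit 31) (BT.leaf (.nmul (nat_lit 29) [(nat_lit 1)])) (BT.leaf (.nmul (nat_lit 30) [(nat_lit 1)]))))))) (BT.node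 (nat_lit 48) (BT.node (nat_lit 40) (BT.node (nat_lit 36) (BT.node (nat_lit 34) (BT.node (nat_lit 33) (BT.leaf (.nmul (nat_lit 31) [(nat_lit 0)])) (BT.leaf (.nmul (nat_lit 32) [(nat_lit 1)]))) (BT.node (nat_lit 35) (BT.leaf (.nmul (nat_lit 33) [(nat_lit 1)])) (BT.leaf (.nmul (nat_lit 34) [(nat_lit 0)])))) (BT.node (nat_lit 38) (BT.node (nat_lit 37) (BT.leaf (.nmul (nat_lit 35) [(nat_lit 1)])) (BT.leaf (.nmul (nat_lit 36) [(nat_lit 1)]))) (BT.node (nat_lit 39) (BT.leaf (.nmul (nat_lit 37) [(nat_lit 1)])) (BT.leaf (.nmul (nat_lit 38) [(nat_lit 0)]))))) (BT.node (nat_lit 44) (BT.node (nat_lit 42) (BT.node (nat_lit 41) (BT.leaf (.nmul (nat_lit 39) [(nat_lit 1)])) (BT.leaf (.nmul (nat_lit 40) [(nat_lit 0)]))) (BT.node (nat_lit 43) (BT.leaf (.nmul (nat_lit 41) [(nat_lit 1)])) (BT.leaf (.nmul (nat_lit 42) [(nat_lit 1)])))) (BT.node (nat_lit 46) (BT.node (nat_lit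 45) (BT.leaf (.dfn [])) (BT.leaf (.inv (nat_lit 44)))) (BT.node (nat_lit 47) (BT.leaf (.ne (nat_lit 0))) (BT.leaf (.ne (nat_lit 1))))))) (BT.node (nat_lit 56) (BT.node (nat_lit 52) (BT.node (nat_lit 50) (BT.node (nat_lit 49) (BT.leaf (.emul [(nat_lit 47), (nat_lit 47)])) (BT.leaf (.emul [(nat_lit 46), (nat_lit 48)]))) (BT.node (nat_lit 51) (BT.leaf (.emul [(nat_lit 47), (nat_lit 49)])) (BT.leaf (.emul [(nat_lit 47), (nat_lit 50)])))) (BT.node (nat_lit 54) (BT.node (nat_lit 53) (BT.leaf (.emul [(nat_lit 46), (nat_lit 51)])) (BT.leaf (.emul [(nat_lit 47), (nat_lit 52)]))) (BT.node (nat_lit 55) (BT.leaf (.emul [(nat_lit 46), (nat_lit 53)])) (BT.leaf (.emul [(nat_lit 47), (nat_lit 54)]))))) (BT.node (nat_lit 60) (BT.node (nat_lit 58) (BT.node (nat_lit 57) (BT.leaf (.emul [(nat_lit 46), (nat_lit 55)])) (BT.leaf (.emul [(nat_lit 47), (nat_lit 56)]))) (BT.node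 (nat_lit 59) (BT.leaf (.emul [(nat_lit 47), (nat_lit 57)])) (BT.leaf (.emul [(nat_lit 47), (nat_lit 58)])))) (BT.node (nat_lit 62) (BT.node (nat_lit 61) (BT.leaf (.emul [(nat_lit 46), (nat_lit 59)])) (BT.leaf (.emul [(nat_lit 47), (nat_lit 60)]))) (BT.node (nat_lit 63) (BT.leaf (.emul [(nat_lit 46), (nat_lit 61)])) (BT.leaf (.emul [(nat_lit 47), (nat_lit 62)]))))))))
noncomputable def cF64 : BT Fc := (BT.node (nat_lit 96) (BT.node (nat_lit 80) (BT.node (nat_lit 72) (BT.node (nat_lit 68) (BT.node (nat_lit 66) (BT.node (nat_lit 65) (BT.leaf ⟨(nat_lit 2), (nat_lit 1), (nat_lit 1), (nat_lit 0x1a79d26272edb0476a6a13d272cf3d8), (nat_lit 0), (nat_lit 0)⟩) (BT.leaf ⟨(nat_lit 2), (nat_lit 1), (nat_lit 1), (nat_lit 0x17560089e71bf8d9d600881002082f4), (nat_lit 0), (nat_lit 0)⟩)) (BT.node (nat_lit 67) (BT.leaf ⟨(nat_lit 2), (nat_lit 1), (nat_lit 1), (nat_lit 0xc0487567e7e76fc13fdc806208050),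 (nat_lit 0), (nat_lit 0)⟩) (BT.leaf ⟨(nat_lit 2), (nat_lit 1), (nat_lit 1), (nat_lit 0x410847f46be40b46d73600600a03b9), (nat_lit 0), (nat_lit 0)⟩))) (BT.node (nat_lit 70) (BT.node (nat_lit 69) (BT.leaf ⟨(nat_lit 2), (nat_lit 1), (nat_lit 1), (nat_lit 0x9740104200c409f0abb25a00f7b471), (nat_lit 0), (nat_lit 0)⟩) (BT.leaf ⟨(nat_lit 2), (nat_lit 1), (nat_lit 1), (nat_lit 0xf8ef42b90400412fc9e8e64bd0073a), (nat_lit 0), (nat_lit 0)⟩)) (BT.node (nat_lit 71) (BT.leaf ⟨(nat_lit 2), (nat_lit 1), (nat_lit 1), (nat_lit 0x1edd32976bd93a3059e85a466e1ede9), (nat_lit 0), (nat_lit 0)⟩) (BT.leaf ⟨(nat_lit 2), (nat_lit 1), (nat_lit 1), (nat_lit 0x11bbc7b8df5be76e97cdf182dc65ea2), (nat_lit 0), (nat_lit 0)⟩)))) (BT.node (nat_lit 76) (BT.node (nat_lit 74) (BT.node (nat_lit 73) (BT.leaf ⟨(nat_lit 2), (nat_lit 1), (nat_lit 1), (nat_lit 0x11b971bf346df8df3d176c782fbe9e3),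 (nat_lit 0), (nat_lit 0)⟩) (BT.leaf ⟨(nat_lit 2), (nat_lit 1), (nat_lit 1), (nat_lit 0x97527b5fa3287d3f85f4af74b2fb8a), (nat_lit 0), (nat_lit 0)⟩)) (BT.node (nat_lit 75) (BT.leaf ⟨(nat_lit 2), (nat_lit 1), (nat_lit 1), (nat_lit 0x19ce31f9066b572b9bfe866a1e3bc73), (nat_lit 0), (nat_lit 0)⟩) (BT.leaf ⟨(nat_lit 2), (nat_lit 1), (nat_lit 1), (nat_lit 0x1bbf1d56539cd2795738b074eb8d2d2), (nat_lit 0), (nat_lit 0)⟩))) (BT.node (nat_lit 78) (BT.node (nat_lit 77) (BT.leaf ⟨(nat_lit 2), (nat_lit 1), (nat_lit 1), (nat_lit 0x1d1c08be2403cec8080193e75002f8c), (nat_lit 0), (nat_lit 0)⟩) (BT.leaf ⟨(nat_lit 2), (nat_lit 1), (nat_lit 1), (nat_lit 0x107a4070d35f5a041088f8c2816fb63), (nat_lit 0), (nat_lit 0)⟩)) (BT.node (nat_lit 79) (BT.leaf ⟨(nat_lit 2), (nat_lit 1), (nat_lit 1), (nat_lit 0x10202400a8f7e1404088df8031f5a57), (nat_lit 0), (nat_lit 0)⟩) (BT.leaf ⟨(nat_lit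 2), (nat_lit 1), (nat_lit 1), (nat_lit 0x3011c880f7420ab40885002816fb63), (nat_lit 0), (nat_lit 0)⟩))))) (BT.node (nat_lit 88) (BT.node (nat_lit 84) (BT.node (nat_lit 82) (BT.node (nat_lit 81) (BT.leaf ⟨(nat_lit 2), (nat_lit 1), (nat_lit 1), (nat_lit 0x1bd639009bd24079d80125c75002f8c), (nat_lit 0), (nat_lit 0)⟩) (BT.leaf ⟨(nat_lit 2), (nat_lit 1), (nat_lit 1), (nat_lit 0xcbf0a9afd444fc974c7ab99a48792d), (nat_lit 0), (nat_lit 0)⟩)) (BT.node (nat_lit 83) (BT.leaf ⟨(nat_lit 2), (nat_lit 1), (nat_lit 1), (nat_lit 0xcbff42013c78014053a173a79eab00), (nat_lit 0), (nat_lit 0)⟩) (BT.leaf ⟨(nat_lit 2), (nat_lit 1), (nat_lit 1), (nat_lit 0x169b2c0fa714654ee9d4a97757499c5), (nat_lit 0), (nat_lit 0)⟩))) (BT.node (nat_lit 86) (BT.node (nat_lit 85) (BT.leaf ⟨(nat_lit 2), (nat_lit 1), (nat_lit 1), (nat_lit 0xa65e1a20049b50100a0ecc0c25f420), (nat_lit 0), (nat_lit 0)⟩)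 (BT.leaf ⟨(nat_lit 2), (nat_lit 1), (nat_lit 1), (nat_lit 0x12692d9d1048812f600cde041202044), (nat_lit 0), (nat_lit 0)⟩)) (BT.node (nat_lit 87) (BT.leaf ⟨(nat_lit 2), (nat_lit 1), (nat_lit 1), (nat_lit 0x1081e1f660487d7d68a04400c030299), (nat_lit 0), (nat_lit 0)⟩) (BT.leaf ⟨(nat_lit 3), (nat_lit 1), (nat_lit 1), (nat_lit 0x107989c9f1db37a5f49c9345d9d23d8), (nat_lit 0x1b29b65ffd72be54cd83ea2ac554bb9), (nat_lit 0)⟩)))) (BT.node (nat_lit 92) (BT.node (nat_lit 90) (BT.node (nat_lit 89) (BT.leaf ⟨(nat_lit 1), (nat_lit 0), (nat_lit 0), (nat_lit 0x73b8d33ae74d26b2f38e77bbf9953a), (nat_lit 0x73b8d33ae74d26b2f38e77bbf9953a), (nat_lit 0)⟩) (BT.leaf ⟨(nat_lit 1), (nat_lit 0), (nat_lit 0), (nat_lit 0x16a15719b98fedefc5e0ea382e1ece8), (nat_lit 0x16a15719b98fedefc5e0ea382e1ece8), (nat_lit 0)⟩)) (BT.node (nat_lit 91) (BT.leaf ⟨(nat_lit 1), (nat_lit 0), (nat_lit 0),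 (nat_lit 0x14d0bc8b77fd1bb46f0d62774865f9d), (nat_lit 0x14d0bc8b77fd1bb46f0d62774865f9d), (nat_lit 0)⟩) (BT.leaf ⟨(nat_lit 1), (nat_lit 0), (nat_lit 0), (nat_lit 0x126a6f176d832734f49f93d23a5f09e), (nat_lit 0x126a6f176d832734f49f93d23a5f09e), (nat_lit 0)⟩))) (BT.node (nat_lit 94) (BT.node (nat_lit 93) (BT.leaf ⟨(nat_lit 1), (nat_lit 0), (nat_lit 0), (nat_lit 0x174ac6e8da69f37d6bfe8dde332c789), (nat_lit 0x174ac6e8da69f37d6bfe8dde332c789), (nat_lit 0)⟩) (BT.leaf ⟨(nat_lit 1), (nat_lit 0), (nat_lit 0), (nat_lit 0x123acf69e9349a9ec6c193989fbec1e), (nat_lit 0x123acf69e9349a9ec6c193989fbec1e), (nat_lit 0)⟩)) (BT.node (nat_lit 95) (BT.leaf ⟨(nat_lit 1), (nat_lit 0), (nat_lit 0), (nat_lit 0x1edef44e8ad0b4ae45f898e7a3f45ec), (nat_lit 0x1edef44e8ad0b4ae45f898e7a3f45ec), (nat_lit 0)⟩) (BT.leaf ⟨(nat_lit 1), (nat_lit 0), (nat_lit 0), (nat_lit 0x141d184008810be6a1fd68be4a00c0),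 (nat_lit 0x141d184008810be6a1fd68be4a00c0), (nat_lit 0)⟩)))))) (BT.node (nat_lit 112) (BT.node (nat_lit 104) (BT.node (nat_lit 100) (BT.node (nat_lit 98) (BT.node (nat_lit 97) (BT.leaf ⟨(nat_lit 1), (nat_lit 0), (nat_lit 0), (nat_lit 0xe29eaa362aa3e8ee9c5ddf754ea9d1), (nat_lit 0xe29eaa362aa3e8ee9c5ddf754ea9d1), (nat_lit 0)⟩) (BT.leaf ⟨(nat_lit 1), (nat_lit 0), (nat_lit 0), (nat_lit 0xfcd71be17c51b91b7e3c17e4166363), (nat_lit 0xfcd71be17c51b91b7e3c17e4166363), (nat_lit 0)⟩)) (BT.node (nat_lit 99) (BT.leaf ⟨(nat_lit 3), (nat_lit 1), (nat_lit 1), (nat_lit 0x14d35cbb9472a6713f51562af554ab8), (nat_lit 0x97927a1f0bf595b825b37897c734ab), (nat_lit 0)⟩) (BT.leaf ⟨(nat_lit 3), (nat_lit 1), (nat_lit 2), (nat_lit 0x14bdcb12e35e4b495fdb2dfa88938fa), (nat_lit 0x1001001001001001001001001001001), (nat_lit 0)⟩))) (BT.node (nat_lit 102) (BT.node (nat_lit 101) (BT.leaf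 ⟨(nat_lit 2), (nat_lit 1), (nat_lit 1), (nat_lit 0x10ce396738f6a1dff57366b14f1655c), (nat_lit 0), (nat_lit 0)⟩) (BT.leaf ⟨(nat_lit 2), (nat_lit 1), (nat_lit 1), (nat_lit 0x7515c3e24024b804f47203e312f003), (nat_lit 0), (nat_lit 0)⟩)) (BT.node (nat_lit 103) (BT.leaf ⟨(nat_lit 2), (nat_lit 1), (nat_lit 1), (nat_lit 0x87d6fd196bee2ae91bc0be95f2fec1), (nat_lit 0), (nat_lit 0)⟩) (BT.leaf ⟨(nat_lit 2), (nat_lit 1), (nat_lit 1), (nat_lit 0xe292db5fa33b052ba5f37817f2fcab), (nat_lit 0), (nat_lit 0)⟩)))) (BT.node (nat_lit 108) (BT.node (nat_lit 106) (BT.node (nat_lit 105) (BT.leaf ⟨(nat_lit 2), (nat_lit 1), (nat_lit 1), (nat_lit 0x7c69001012780425f7c6040012b9), (nat_lit 0), (nat_lit 0)⟩) (BT.leaf ⟨(nat_lit 2), (nat_lit 1), (nat_lit 1), (nat_lit 0xa6414766049b511027f04028030453), (nat_lit 0), (nat_lit 0)⟩)) (BT.node (nat_lit 107) (BT.leaf ⟨(nat_lit 2), (nat_lit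 1), (nat_lit 1), (nat_lit 0x1b50140a0f5aa64180204ffd98305c8), (nat_lit 0), (nat_lit 0)⟩) (BT.leaf ⟨(nat_lit 1), (nat_lit 0), (nat_lit 0), (nat_lit 0x1ce3c7abb7c200c0912d8e3273a2102), (nat_lit 0x1ce3c7abb7c200c0912d8e3273a2102), (nat_lit 0)⟩))) (BT.node (nat_lit 110) (BT.node (nat_lit 109) (BT.leaf ⟨(nat_lit 1), (nat_lit 0), (nat_lit 0), (nat_lit 0x40149e4be4bc80473e750037a010), (nat_lit 0x40149e4be4bc80473e750037a010), (nat_lit 0)⟩) (BT.leaf ⟨(nat_lit 1), (nat_lit 0), (nat_lit 0), (nat_lit 0x131ef41e8c1666efc2d2bd36a3f44e8), (nat_lit 0x131ef41e8c1666efc2d2bd36a3f44e8), (nat_lit 0)⟩)) (BT.node (nat_lit 111) (BT.leaf ⟨(nat_lit 1), (nat_lit 0), (nat_lit 0), (nat_lit 0xff932fcdba42df46f8cd454d32c79d), (nat_lit 0xff932fcdba42df46f8cd454d32c79d), (nat_lit 0)⟩) (BT.leaf ⟨(nat_lit 1), (nat_lit 0), (nat_lit 0), (nat_lit 0x17d0032fce68234f0b94808067a204), (nat_lit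 0x17d0032fce68234f0b94808067a204), (nat_lit 0)⟩))))) (BT.node (nat_lit 120) (BT.node (nat_lit 116) (BT.node (nat_lit 114) (BT.node (nat_lit 113) (BT.leaf ⟨(nat_lit 2), (nat_lit 2), (nat_lit 2), (nat_lit 0x15a1329763d131f05dec5a57e157751), (nat_lit 0), (nat_lit 0)⟩) (BT.leaf ⟨(nat_lit 3), (nat_lit 2), (nat_lit 1), (nat_lit 0x1001001001001001001001001001001), (nat_lit 0x14bdcb12e35e4b495fdb2dfa88938fa), (nat_lit 0)⟩)) (BT.node (nat_lit 115) (BT.leaf ⟨(nat_lit 2), (nat_lit 1), (nat_lit 1), (nat_lit 0x160f0aeeff754eb9c72a39dcfa6cb49), (nat_lit 0), (nat_lit 0)⟩) (BT.leaf ⟨(nat_lit 2), (nat_lit 1), (nat_lit 1), (nat_lit 0x73b0af3b0f9ca99d53ab062de6cad2), (nat_lit 0), (nat_lit 0)⟩))) (BT.node (nat_lit 118) (BT.node (nat_lit 117) (BT.leaf ⟨(nat_lit 2), (nat_lit 1), (nat_lit 1), (nat_lit 0x8063912edea404209d493e00d2f78c), (nat_lit 0), (nat_lit 0)⟩) (BT.leaf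 ⟨(nat_lit 2), (nat_lit 1), (nat_lit 1), (nat_lit 0x89e18a0f5a08412766060880306d4), (nat_lit 0), (nat_lit 0)⟩)) (BT.node (nat_lit 119) (BT.leaf ⟨(nat_lit 2), (nat_lit 1), (nat_lit 1), (nat_lit 0x1f37c6f89f0b4d3cee8de1b1bb2c6a2), (nat_lit 0), (nat_lit 0)⟩) (BT.leaf ⟨(nat_lit 2), (nat_lit 1), (nat_lit 1), (nat_lit 0x1112df89019bc102104e84f9c0292b), (nat_lit 0), (nat_lit 0)⟩)))) (BT.node (nat_lit 124) (BT.node (nat_lit 122) (BT.node (nat_lit 121) (BT.leaf ⟨(nat_lit 2), (nat_lit 1), (nat_lit 1), (nat_lit 0x715278184204fdf9f5622004154812), (nat_lit 0), (nat_lit 0)⟩) (BT.leaf ⟨(nat_lit 2), (nat_lit 1), (nat_lit 1), (nat_lit 0x10796fa806c620840180f8c282798c0), (nat_lit 0), (nat_lit 0)⟩)) (BT.node (nat_lit 123) (BT.leaf ⟨(nat_lit 2), (nat_lit 1), (nat_lit 1), (nat_lit 0xf63a375694ad1a8ce46f8dd9957706), (nat_lit 0), (nat_lit 0)⟩) (BT.leaf ⟨(nat_lit 2), (nat_lit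 1), (nat_lit 1), (nat_lit 0x1fd090180201401afe46209a371d0d5), (nat_lit 0), (nat_lit 0)⟩))) (BT.node (nat_lit 126) (BT.node (nat_lit 125) (BT.leaf ⟨(nat_lit 1), (nat_lit 0), (nat_lit 0), (nat_lit 0x73a6cb3addfcfbdd53ae761f30a8b7), (nat_lit 0x73a6cb3addfcfbdd53ae761f30a8b7), (nat_lit 0)⟩) (BT.leaf ⟨(nat_lit 1), (nat_lit 0), (nat_lit 0), (nat_lit 0x16a2f519bc175a2f4ce8ea372132976), (nat_lit 0x16a2f519bc175a2f4ce8ea372132976), (nat_lit 0)⟩)) (BT.node (nat_lit 127) (BT.leaf ⟨(nat_lit 1), (nat_lit 0), (nat_lit 0), (nat_lit 0x73b99565e71ceec1d3ae7c1f1d273a), (nat_lit 0x73b99565e71ceec1d3ae7c1f1d273a), (nat_lit 0)⟩) (BT.leaf ⟨(nat_lit 1), (nat_lit 0), (nat_lit 0), (nat_lit 0x80440be20024ba4f9d4043bd600de9), (nat_lit 0x80440be20024ba4f9d4043bd600de9), (nat_lit 0)⟩)))))))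
noncomputable def cP64 : BT Pf := (BT.node (nat_lit 96) (BT.node (nat_lit 80) (BT.node (nat_lit 72) (BT.node (nat_lit 68) (BT.node (nat_lit 66) (BT.node (nat_lit 65) (BT.leaf (.emul [(nat_lit 47), (nat_lit 63)])) (BT.leaf (.emul [(nat_lit 47), (nat_lit 64)]))) (BT.node (nat_lit 67) (BT.leaf (.emul [(nat_lit 46), (nat_lit 65)])) (BT.leaf (.emul [(nat_lit 47), (nat_lit 66)])))) (BT.node (nat_lit 70) (BT.node (nat_lit 69) (BT.leaf (.emul [(nat_lit 46), (nat_lit 67)])) (BT.leaf (.emul [(nat_lit 47), (nat_lit 68)]))) (BT.node (nat_lit 71) (BT.leaf (.emul [(nat_lit 47), (nat_lit 69)])) (BT.leaf (.emul [(nat_lit 47), (nat_lit 70)]))))) (BT.node (nat_lit 76) (BT.node (nat_lit 74) (BT.node (nat_lit 73) (BT.leaf (.emul [(nat_lit 46), (nat_lit 71)])) (BT.leaf (.emul [(nat_lit 47), (nat_lit 72)]))) (BT.node (nat_lit 75) (BT.leaf (.emul [(nat_lit 46), (nat_lit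 58)])) (BT.leaf (.emul [(nat_lit 47), (nat_lit 74)])))) (BT.node (nat_lit 78) (BT.node (nat_lit 77) (BT.leaf (.emul [(nat_lit 47), (nat_lit 75)])) (BT.leaf (.emul [(nat_lit 46), (nat_lit 76)]))) (BT.node (nat_lit 79) (BT.leaf (.emul [(nat_lit 47), (nat_lit 77)])) (BT.leaf (.emul [(nat_lit 47), (nat_lit 78)])))))) (BT.node (nat_lit 88) (BT.node (nat_lit 84) (BT.node (nat_lit 82) (BT.node (nat_lit 81) (BT.leaf (.emul [(nat_lit 46), (nat_lit 79)])) (BT.leaf (.emul [(nat_lit 47), (nat_lit 80)]))) (BT.node (nat_lit 83) (BT.leaf (.emul [(nat_lit 46), (nat_lit 81)])) (BT.leaf (.emul [(nat_lit 47), (nat_lit 82)])))) (BT.node (nat_lit 86) (BT.node (nat_lit 85) (BT.leaf (.emul [(nat_lit 46), (nat_lit 83)])) (BT.leaf (.emul [(nat_lit 47), (nat_lit 84)]))) (BT.node (nat_lit 87) (BT.leaf (.emul [(nat_lit 47), (nat_lit 85)])) (BT.leaf (.base (nat_lit 2)))))) (BT.node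 (nat_lit 92) (BT.node (nat_lit 90) (BT.node (nat_lit 89) (BT.leaf (.nmul (nat_lit 1) [(nat_lit 0)])) (BT.leaf (.nmul (nat_lit 88) [(nat_lit 19)]))) (BT.node (nat_lit 91) (BT.leaf (.nmul (nat_lit 89) [(nat_lit 1)])) (BT.leaf (.nmul (nat_lit 90) [(nat_lit 19)])))) (BT.node (nat_lit 94) (BT.node (nat_lit 93) (BT.leaf (.nmul (nat_lit 19) [(nat_lit 19)])) (BT.leaf (.nmul (nat_lit 92) [(nat_lit 19)]))) (BT.node (nat_lit 95) (BT.leaf (.nmul (nat_lit 93) [(nat_lit 43)])) (BT.leaf (.nmul (nat_lit 94) [(nat_lit 43)]))))))) (BT.node (nat_lit 112) (BT.node (nat_lit 104) (BT.node (nat_lit 100) (BT.node (nat_lit 98) (BT.node (nat_lit 97) (BT.leaf (.nmul (nat_lit 95) [(nat_lit 43)])) (BT.leaf (.nmul (nat_lit 96) [(nat_lit 19)]))) (BT.node (nat_lit 99) (BT.leaf (.rel (nat_lit 45) (nat_lit 0) [(nat_lit 97), (nat_lit 91)] [⟨(nat_lit 0), [], []⟩])) (BT.leaf (.dfn [(nat_lit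 3)])))) (BT.node (nat_lit 102) (BT.node (nat_lit 101) (BT.leaf (.emul [(nat_lit 73), (nat_lit 47)])) (BT.leaf (.emul [(nat_lit 86), (nat_lit 100)]))) (BT.node (nat_lit 103) (BT.leaf (.emul [(nat_lit 86), (nat_lit 73)])) (BT.leaf (.emul [(nat_lit 86), (nat_lit 102)]))))) (BT.node (nat_lit 108) (BT.node (nat_lit 106) (BT.node (nat_lit 105) (BT.leaf (.emul [(nat_lit 73), (nat_lit 103)])) (BT.leaf (.emul [(nat_lit 86), (nat_lit 104)]))) (BT.node (nat_lit 107) (BT.leaf (.emul [(nat_lit 73), (nat_lit 105)])) (BT.leaf (.nmul (nat_lit 88) [(nat_lit 43)])))) (BT.node (nat_lit 110) (BT.node (nat_lit 109) (BT.leaf (.nmul (nat_lit 107) [(nat_lit 1)])) (BT.leaf (.nmul (nat_lit 108) [(nat_lit 1)]))) (BT.node (nat_lit 111) (BT.leaf (.nmul (nat_lit 109) [(nat_lit 1)])) (BT.leaf (.nmul (nat_lit 97) [(nat_lit 43)])))))) (BT.node (nat_lit 120) (BT.node (nat_lit 116)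 (BT.node (nat_lit 114) (BT.node (nat_lit 113) (BT.leaf (.cmp (nat_lit 99) ⟨(nat_lit 99), [(nat_lit 101), (nat_lit 106)], [(nat_lit 111), (nat_lit 110)]⟩)) (BT.leaf (.inv (nat_lit 99)))) (BT.node (nat_lit 115) (BT.leaf (.emul [(nat_lit 47), (nat_lit 100)])) (BT.leaf (.emul [(nat_lit 73), (nat_lit 114)])))) (BT.node (nat_lit 118) (BT.node (nat_lit 117) (BT.leaf (.emul [(nat_lit 47), (nat_lit 115)])) (BT.leaf (.emul [(nat_lit 73), (nat_lit 86)]))) (BT.node (nat_lit 119) (BT.leaf (.emul [(nat_lit 86), (nat_lit 117)])) (BT.leaf (.emul [(nat_lit 73), (nat_lit 118)]))))) (BT.node (nat_lit 124) (BT.node (nat_lit 122) (BT.node (nat_lit 121) (BT.leaf (.emul [(nat_lit 86), (nat_lit 119)])) (BT.leaf (.emul [(nat_lit 86), (nat_lit 120)]))) (BT.node (nat_lit 123) (BT.leaf (.emul [(nat_lit 73), (nat_lit 121)])) (BT.leaf (.emul [(nat_lit 86), (nat_lit 122)])))) (BT.node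 (nat_lit 126) (BT.node (nat_lit 125) (BT.leaf (.nmul (nat_lit 1) [(nat_lit 19)])) (BT.leaf (.nmul (nat_lit 124) [(nat_lit 19)]))) (BT.node (nat_lit 127) (BT.leaf (.nmul (nat_lit 125) [(nat_lit 19)])) (BT.leaf (.nmul (nat_lit 126) [(nat_lit 1)]))))))))
noncomputable def cF128 : BT Fc := (BT.node (nat_lit 160) (BT.node (nat_lit 144) (BT.node (nat_lit 136) (BT.node (nat_lit 132) (BT.node (nat_lit 130) (BT.node (nat_lit 129) (BT.leaf ⟨(nat_lit 1), (nat_lit 0), (nat_lit 0), (nat_lit 0x1bd77a7f450e73b6a44d4d5bc0d92f4), (nat_lit 0x1bd77a7f450e73b6a44d4d5bc0d92f4), (nat_lit 0)⟩) (BT.leaf ⟨(nat_lit 1), (nat_lit 0), (nat_lit 0), (nat_lit 0xbe4b7a4043f6a38304408030030433), (nat_lit 0xbe4b7a4043f6a38304408030030433), (nat_lit 0)⟩)) (BT.node (nat_lit 131) (BT.leaf ⟨(nat_lit 1), (nat_lit 0), (nat_lit 0), (nat_lit 0x1bc0bcff4dc873b6a674fb7bd4d94ab), (nat_lit 0x1bc0bcff4dc873b6a674fb7bd4d94ab),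 (nat_lit 0)⟩) (BT.leaf ⟨(nat_lit 2), (nat_lit 2), (nat_lit 2), (nat_lit 0x1b9127bf338a062470100a17e154f56), (nat_lit 0), (nat_lit 0)⟩))) (BT.node (nat_lit 134) (BT.node (nat_lit 133) (BT.leaf ⟨(nat_lit 2), (nat_lit 1), (nat_lit 1), (nat_lit 0xa0101240172cbf4f60044017ea3204), (nat_lit 0), (nat_lit 0)⟩) (BT.leaf ⟨(nat_lit 2), (nat_lit 1), (nat_lit 1), (nat_lit 0x4b817fdbab8cbf3493f1f44aed8b70), (nat_lit 0), (nat_lit 0)⟩)) (BT.node (nat_lit 135) (BT.leaf ⟨(nat_lit 2), (nat_lit 1), (nat_lit 1), (nat_lit 0x157231e7369369943d7366b14c39f90), (nat_lit 0), (nat_lit 0)⟩) (BT.leaf ⟨(nat_lit 2), (nat_lit 1), (nat_lit 1), (nat_lit 0x2e75cb96ea2a657cabbc4edb154d34), (nat_lit 0), (nat_lit 0)⟩)))) (BT.node (nat_lit 140) (BT.node (nat_lit 138) (BT.node (nat_lit 137) (BT.leaf ⟨(nat_lit 2), (nat_lit 1), (nat_lit 1), (nat_lit 0xffac6e8df3ba8a375d2f5be272c78c), (nat_lit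 0), (nat_lit 0)⟩) (BT.leaf ⟨(nat_lit 2), (nat_lit 1), (nat_lit 1), (nat_lit 0x25f5f4e11002804257f0a0624b2b1), (nat_lit 0), (nat_lit 0)⟩)) (BT.node (nat_lit 139) (BT.leaf ⟨(nat_lit 2), (nat_lit 1), (nat_lit 1), (nat_lit 0x775f5888e9d0212b8080188224b6fc), (nat_lit 0), (nat_lit 0)⟩) (BT.leaf ⟨(nat_lit 1), (nat_lit 0), (nat_lit 0), (nat_lit 0x6566f21fe0d10060040089f35d1eb4), (nat_lit 0x6566f21fe0d10060040089f35d1eb4), (nat_lit 0)⟩))) (BT.node (nat_lit 142) (BT.node (nat_lit 141) (BT.leaf ⟨(nat_lit 1), (nat_lit 0), (nat_lit 0), (nat_lit 0x145f7a6e4da8a1f7afdbce89ab7b6b4), (nat_lit 0x145f7a6e4da8a1f7afdbce89ab7b6b4), (nat_lit 0)⟩) (BT.leaf ⟨(nat_lit 1), (nat_lit 0), (nat_lit 0), (nat_lit 0x14ea6cd6516fceda49cee7cb4b0aeef), (nat_lit 0x14ea6cd6516fceda49cee7cb4b0aeef), (nat_lit 0)⟩)) (BT.node (nat_lit 143) (BT.leaf ⟨(nat_lit 1), (nat_lit 0), (nat_lit 0), (nat_lit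 0x7512f3e20064bb9da01043e3239747), (nat_lit 0x7512f3e20064bb9da01043e3239747), (nat_lit 0)⟩) (BT.leaf ⟨(nat_lit 2), (nat_lit 2), (nat_lit 2), (nat_lit 0x1e74483f3420443950120a1d5954df8), (nat_lit 0), (nat_lit 0)⟩))))) (BT.node (nat_lit 152) (BT.node (nat_lit 148) (BT.node (nat_lit 146) (BT.node (nat_lit 145) (BT.leaf ⟨(nat_lit 2), (nat_lit 1), (nat_lit 1), (nat_lit 0x1bbdd27baa74d279507ce7c2df8d738), (nat_lit 0), (nat_lit 0)⟩) (BT.leaf ⟨(nat_lit 2), (nat_lit 1), (nat_lit 1), (nat_lit 0x5d98e5ecc177a6b44e8bf178132da8), (nat_lit 0), (nat_lit 0)⟩)) (BT.node (nat_lit 147) (BT.leaf ⟨(nat_lit 2), (nat_lit 1), (nat_lit 1), (nat_lit 0x3b7653fef216999ad73ce71ee3bc33), (nat_lit 0), (nat_lit 0)⟩) (BT.leaf ⟨(nat_lit 2), (nat_lit 1), (nat_lit 1), (nat_lit 0xce9d2738aca1f0e772addfeeb8d583), (nat_lit 0), (nat_lit 0)⟩))) (BT.node (nat_lit 150) (BT.node (nat_lit 149)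 (BT.leaf ⟨(nat_lit 2), (nat_lit 1), (nat_lit 1), (nat_lit 0x1bc12dbe700811012742209e24029d1), (nat_lit 0), (nat_lit 0)⟩) (BT.leaf ⟨(nat_lit 2), (nat_lit 1), (nat_lit 1), (nat_lit 0x14d3c6c6eba5f37d6f0dd1be272c78c), (nat_lit 0), (nat_lit 0)⟩)) (BT.node (nat_lit 151) (BT.leaf ⟨(nat_lit 1), (nat_lit 0), (nat_lit 0), (nat_lit 0x6084008810777c28094111ee4b088), (nat_lit 0x6084008810777c28094111ee4b088), (nat_lit 0)⟩) (BT.leaf ⟨(nat_lit 1), (nat_lit 0), (nat_lit 0), (nat_lit 0x1467a34a5bfef63a7335c8dd1d57742), (nat_lit 0x1467a34a5bfef63a7335c8dd1d57742), (nat_lit 0)⟩)))) (BT.node (nat_lit 156) (BT.node (nat_lit 154) (BT.node (nat_lit 153) (BT.leaf ⟨(nat_lit 1), (nat_lit 0), (nat_lit 0), (nat_lit 0xc1e1a20841723b302104114c300a0), (nat_lit 0xc1e1a20841723b302104114c300a0), (nat_lit 0)⟩) (BT.leaf ⟨(nat_lit 1), (nat_lit 0), (nat_lit 0), (nat_lit 0xd1ba264666a1f3b35ffcd3464d9747),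 (nat_lit 0xd1ba264666a1f3b35ffcd3464d9747), (nat_lit 0)⟩)) (BT.node (nat_lit 155) (BT.leaf ⟨(nat_lit 2), (nat_lit 2), (nat_lit 2), (nat_lit 0x2e75c95aa68ac713abb5f37fd54f51), (nat_lit 0), (nat_lit 0)⟩) (BT.leaf ⟨(nat_lit 2), (nat_lit 1), (nat_lit 1), (nat_lit 0xaefa212d006f848108293804b7b25d), (nat_lit 0), (nat_lit 0)⟩))) (BT.node (nat_lit 158) (BT.node (nat_lit 157) (BT.leaf ⟨(nat_lit 2), (nat_lit 1), (nat_lit 1), (nat_lit 0x15cecf300301a3481101c8d400a0104), (nat_lit 0), (nat_lit 0)⟩) (BT.leaf ⟨(nat_lit 2), (nat_lit 1), (nat_lit 1), (nat_lit 0x1b0527d196bf2ac2fa7f4be6f32fb70), (nat_lit 0), (nat_lit 0)⟩)) (BT.node (nat_lit 159) (BT.leaf ⟨(nat_lit 2), (nat_lit 1), (nat_lit 1), (nat_lit 0x127900080200ae4080204bef8c0112f), (nat_lit 0), (nat_lit 0)⟩) (BT.leaf ⟨(nat_lit 2), (nat_lit 1), (nat_lit 1), (nat_lit 0x1b51e1824ecd14c507ad4fe08030022), (nat_lit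 0), (nat_lit 0)⟩)))))) (BT.node (nat_lit 176) (BT.node (nat_lit 168) (BT.node (nat_lit 164) (BT.node (nat_lit 162) (BT.node (nat_lit 161) (BT.leaf ⟨(nat_lit 2), (nat_lit 1), (nat_lit 1), (nat_lit 0xa65e1fad141723b30240409fc30420), (nat_lit 0), (nat_lit 0)⟩) (BT.leaf ⟨(nat_lit 2), (nat_lit 1), (nat_lit 1), (nat_lit 0xffbc6f85f122df46f9df5b74b2c38d), (nat_lit 0), (nat_lit 0)⟩)) (BT.node (nat_lit 163) (BT.leaf ⟨(nat_lit 1), (nat_lit 0), (nat_lit 0), (nat_lit 0xe589392f27fa8997b7098f570b7d2f), (nat_lit 0xe589392f27fa8997b7098f570b7d2f), (nat_lit 0)⟩) (BT.leaf ⟨(nat_lit 1), (nat_lit 0), (nat_lit 0), (nat_lit 0x19cd00208c0078d97a04a742e67a210), (nat_lit 0x19cd00208c0078d97a04a742e67a210), (nat_lit 0)⟩))) (BT.node (nat_lit 166) (BT.node (nat_lit 165) (BT.leaf ⟨(nat_lit 1), (nat_lit 0), (nat_lit 0), (nat_lit 0xc087822048080faa7f440a678d0a0), (nat_lit 0xc087822048080faa7f440a678d0a0),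 (nat_lit 0)⟩) (BT.leaf ⟨(nat_lit 1), (nat_lit 0), (nat_lit 0), (nat_lit 0x1748bcea2e1b1b989f9dd1ae37c7f89), (nat_lit 0x1748bcea2e1b1b989f9dd1ae37c7f89), (nat_lit 0)⟩)) (BT.node (nat_lit 167) (BT.leaf ⟨(nat_lit 1), (nat_lit 0), (nat_lit 0), (nat_lit 0x63996fc018822f0257010ac493888), (nat_lit 0x63996fc018822f0257010ac493888), (nat_lit 0)⟩) (BT.leaf ⟨(nat_lit 1), (nat_lit 0), (nat_lit 0), (nat_lit 0x17561e9952aa357779c51f47472c1d4), (nat_lit 0x17561e9952aa357779c51f47472c1d4), (nat_lit 0)⟩)))) (BT.node (nat_lit 172) (BT.node (nat_lit 170) (BT.node (nat_lit 169) (BT.leaf ⟨(nat_lit 2), (nat_lit 2), (nat_lit 2), (nat_lit 0xcd465ca568dd39ec742e0d7fd57756), (nat_lit 0), (nat_lit 0)⟩) (BT.leaf ⟨(nat_lit 1), (nat_lit 0), (nat_lit 0), (nat_lit 0x6027988035ea03e30c0ad0d8c48088), (nat_lit 0x6027988035ea03e30c0ad0d8c48088), (nat_lit 0)⟩)) (BT.node (nat_lit 171)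 (BT.leaf ⟨(nat_lit 1), (nat_lit 0), (nat_lit 0), (nat_lit 0x1002be7de0410121d10888112df42), (nat_lit 0x1002be7de0410121d10888112df42), (nat_lit 0)⟩) (BT.leaf ⟨(nat_lit 1), (nat_lit 0), (nat_lit 0), (nat_lit 0x172087a7f4400c0127665327d5e1ed4), (nat_lit 0x172087a7f4400c0127665327d5e1ed4), (nat_lit 0)⟩))) (BT.node (nat_lit 174) (BT.node (nat_lit 173) (BT.leaf ⟨(nat_lit 1), (nat_lit 0), (nat_lit 0), (nat_lit 0x1bbdea9d11f5755c554bb4c7d72c195), (nat_lit 0x1bbdea9d11f5755c554bb4c7d72c195), (nat_lit 0)⟩) (BT.leaf ⟨(nat_lit 1), (nat_lit 0), (nat_lit 0), (nat_lit 0x1272cf41e4d589e4717693ec4e4b54b), (nat_lit 0x1272cf41e4d589e4717693ec4e4b54b), (nat_lit 0)⟩)) (BT.node (nat_lit 175) (BT.leaf ⟨(nat_lit 1), (nat_lit 0), (nat_lit 0), (nat_lit 0x190112d104f864e01204400fc7a5d), (nat_lit 0x190112d104f864e01204400fc7a5d), (nat_lit 0)⟩) (BT.leaf ⟨(nat_lit 1), (nat_lit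 0), (nat_lit 0), (nat_lit 0x2208478501202804408e9cac64b018), (nat_lit 0x2208478501202804408e9cac64b018), (nat_lit 0)⟩))))) (BT.node (nat_lit 184) (BT.node (nat_lit 180) (BT.node (nat_lit 178) (BT.node (nat_lit 177) (BT.leaf ⟨(nat_lit 1), (nat_lit 0), (nat_lit 0), (nat_lit 0x751ead4b6d87747d5a63ea744eadd5), (nat_lit 0x751ead4b6d87747d5a63ea744eadd5), (nat_lit 0)⟩) (BT.leaf ⟨(nat_lit 1), (nat_lit 0), (nat_lit 0), (nat_lit 0x3b6cf17613cf613549f62707bbee27), (nat_lit 0x3b6cf17613cf613549f62707bbee27), (nat_lit 0)⟩)) (BT.node (nat_lit 179) (BT.leaf ⟨(nat_lit 1), (nat_lit 0), (nat_lit 0), (nat_lit 0x97d0073a8e6080202b993c00401004), (nat_lit 0x97d0073a8e6080202b993c00401004), (nat_lit 0)⟩) (BT.leaf ⟨(nat_lit 2), (nat_lit 1), (nat_lit 1), (nat_lit 0x6027988035ea03e30c0ad0d8c48088), (nat_lit 0), (nat_lit 0)⟩))) (BT.node (nat_lit 182) (BT.node (nat_lit 181)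 (BT.leaf ⟨(nat_lit 2), (nat_lit 1), (nat_lit 1), (nat_lit 0x63995e08f67777e2b1f0a95c84088), (nat_lit 0), (nat_lit 0)⟩) (BT.leaf ⟨(nat_lit 2), (nat_lit 1), (nat_lit 1), (nat_lit 0xa03f453a403a7997e7341017ea3204), (nat_lit 0), (nat_lit 0)⟩)) (BT.node (nat_lit 183) (BT.leaf ⟨(nat_lit 2), (nat_lit 1), (nat_lit 1), (nat_lit 0x103a3080200004023e30200200149e), (nat_lit 0), (nat_lit 0)⟩) (BT.leaf ⟨(nat_lit 2), (nat_lit 1), (nat_lit 1), (nat_lit 0x7d490024ecca6418020140880306d4), (nat_lit 0), (nat_lit 0)⟩)))) (BT.node (nat_lit 188) (BT.node (nat_lit 186) (BT.node (nat_lit 185) (BT.leaf ⟨(nat_lit 2), (nat_lit 1), (nat_lit 1), (nat_lit 0xc4c65f9dd1affb86fadf131bb2c6a2), (nat_lit 0), (nat_lit 0)⟩) (BT.leaf ⟨(nat_lit 2), (nat_lit 1), (nat_lit 1), (nat_lit 0x1268422042097b3a1024f12f9c0292b), (nat_lit 0), (nat_lit 0)⟩)) (BT.node (nat_lit 187) (BT.leaf ⟨(nat_lit 2),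 (nat_lit 1), (nat_lit 1), (nat_lit 0x1b900a3f3eadca88879d03004154812), (nat_lit 0), (nat_lit 0)⟩) (BT.leaf ⟨(nat_lit 2), (nat_lit 1), (nat_lit 1), (nat_lit 0x6bc480803015a3e3088500282798c0), (nat_lit 0), (nat_lit 0)⟩))) (BT.node (nat_lit 190) (BT.node (nat_lit 189) (BT.leaf ⟨(nat_lit 2), (nat_lit 1), (nat_lit 1), (nat_lit 0x19a6a3519c8ccd7e374eeadd9957706), (nat_lit 0), (nat_lit 0)⟩) (BT.leaf ⟨(nat_lit 2), (nat_lit 1), (nat_lit 1), (nat_lit 0x40971b5fc8c40482300301a371d0d5), (nat_lit 0), (nat_lit 0)⟩)) (BT.node (nat_lit 191) (BT.leaf ⟨(nat_lit 1), (nat_lit 0), (nat_lit 0), (nat_lit 0x73b8d56516fca99d6efe7dce26cd3a), (nat_lit 0x73b8d56516fca99d6efe7dce26cd3a), (nat_lit 0)⟩) (BT.leaf ⟨(nat_lit 1), (nat_lit 0), (nat_lit 0), (nat_lit 0x16a1575f82ec7a0cde0bad1782f54e8), (nat_lit 0x16a1575f82ec7a0cde0bad1782f54e8), (nat_lit 0)⟩)))))))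
noncomputable def cP128 : BT Pf := (BT.node (nat_lit 160) (BT.node (nat_lit 144) (BT.node (nat_lit 136) (BT.node (nat_lit 132) (BT.node (nat_lit 130) (BT.node (nat_lit 129) (BT.leaf (.nmul (nat_lit 19) [(nat_lit 43)])) (BT.leaf (.nmul (nat_lit 128) [(nat_lit 19)]))) (BT.node (nat_lit 131) (BT.leaf (.nmul (nat_lit 129) [(nat_lit 19)])) (BT.leaf (.cmp (nat_lit 99) ⟨(nat_lit 99), [(nat_lit 116), (nat_lit 123)], [(nat_lit 130), (nat_lit 127)]⟩)))) (BT.node (nat_lit 134) (BT.node (nat_lit 133) (BT.leaf (.emul [(nat_lit 86), (nat_lit 46)])) (BT.leaf (.emul [(nat_lit 46), (nat_lit 132)]))) (BT.node (nat_lit 135) (BT.leaf (.emul [(nat_lit 47), (nat_lit 133)])) (BT.leaf (.emul [(nat_lit 46), (nat_lit 134)]))))) (BT.node (nat_lit 140) (BT.node (nat_lit 138) (BT.node (nat_lit 137) (BT.leaf (.emul [(nat_lit 86), (nat_lit 105)])) (BT.leaf (.emul [(nat_lit 86),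 (nat_lit 136)]))) (BT.node (nat_lit 139) (BT.leaf (.emul [(nat_lit 73), (nat_lit 137)])) (BT.leaf (.nmul (nat_lit 1) [(nat_lit 43)])))) (BT.node (nat_lit 142) (BT.node (nat_lit 141) (BT.leaf (.nmul (nat_lit 139) [(nat_lit 19)])) (BT.leaf (.nmul (nat_lit 140) [(nat_lit 43)]))) (BT.node (nat_lit 143) (BT.leaf (.nmul (nat_lit 141) [(nat_lit 1)])) (BT.leaf (.cmp (nat_lit 99) ⟨(nat_lit 99), [(nat_lit 135), (nat_lit 138)], [(nat_lit 130), (nat_lit 142)]⟩)))))) (BT.node (nat_lit 152) (BT.node (nat_lit 148) (BT.node (nat_lit 146) (BT.node (nat_lit 145) (BT.leaf (.emul [(nat_lit 86), (nat_lit 47)])) (BT.leaf (.emul [(nat_lit 86), (nat_lit 144)]))) (BT.node (nat_lit 147) (BT.leaf (.emul [(nat_lit 73), (nat_lit 145)])) (BT.leaf (.emul [(nat_lit 47), (nat_lit 146)])))) (BT.node (nat_lit 150) (BT.node (nat_lit 149) (BT.leaf (.emul [(nat_lit 86), (nat_lit 121)]))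 (BT.leaf (.emul [(nat_lit 73), (nat_lit 148)]))) (BT.node (nat_lit 151) (BT.leaf (.nmul (nat_lit 92) [(nat_lit 43)])) (BT.leaf (.nmul (nat_lit 150) [(nat_lit 43)]))))) (BT.node (nat_lit 156) (BT.node (nat_lit 154) (BT.node (nat_lit 153) (BT.leaf (.nmul (nat_lit 151) [(nat_lit 43)])) (BT.leaf (.nmul (nat_lit 152) [(nat_lit 19)]))) (BT.node (nat_lit 155) (BT.leaf (.cmp (nat_lit 99) ⟨(nat_lit 99), [(nat_lit 147), (nat_lit 149)], [(nat_lit 153), (nat_lit 127)]⟩)) (BT.leaf (.emul [(nat_lit 86), (nat_lit 133)])))) (BT.node (nat_lit 158) (BT.node (nat_lit 157) (BT.leaf (.emul [(nat_lit 46), (nat_lit 155)])) (BT.leaf (.emul [(nat_lit 86), (nat_lit 103)]))) (BT.node (nat_lit 159) (BT.leaf (.emul [(nat_lit 73), (nat_lit 157)])) (BT.leaf (.emul [(nat_lit 86), (nat_lit 158)]))))))) (BT.node (nat_lit 176) (BT.node (nat_lit 168) (BT.node (nat_lit 164) (BT.node (nat_lit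 162) (BT.node (nat_lit 161) (BT.leaf (.emul [(nat_lit 73), (nat_lit 159)])) (BT.leaf (.emul [(nat_lit 86), (nat_lit 160)]))) (BT.node (nat_lit 163) (BT.leaf (.nmul (nat_lit 108) [(nat_lit 19)])) (BT.leaf (.nmul (nat_lit 162) [(nat_lit 0)])))) (BT.node (nat_lit 166) (BT.node (nat_lit 165) (BT.leaf (.nmul (nat_lit 151) [(nat_lit 19)])) (BT.leaf (.nmul (nat_lit 164) [(nat_lit 43)]))) (BT.node (nat_lit 167) (BT.leaf (.nmul (nat_lit 165) [(nat_lit 43)])) (BT.leaf (.nmul (nat_lit 166) [(nat_lit 19)]))))) (BT.node (nat_lit 172) (BT.node (nat_lit 170) (BT.node (nat_lit 169) (BT.leaf (.cmp (nat_lit 99) ⟨(nat_lit 99), [(nat_lit 156), (nat_lit 161)], [(nat_lit 167), (nat_lit 163)]⟩)) (BT.leaf (.nmul (nat_lit 0) [(nat_lit 1)]))) (BT.node (nat_lit 171) (BT.leaf (.nmul (nat_lit 169) [(nat_lit 43)])) (BT.leaf (.nmul (nat_lit 170) [(nat_lit 1)])))) (BT.node (nat_lit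 174) (BT.node (nat_lit 173) (BT.leaf (.nmul (nat_lit 171) [(nat_lit 0)])) (BT.leaf (.nmul (nat_lit 172) [(nat_lit 43)]))) (BT.node (nat_lit 175) (BT.leaf (.nmul (nat_lit 43) [(nat_lit 19)])) (BT.leaf (.nmul (nat_lit 174) [(nat_lit 19)])))))) (BT.node (nat_lit 184) (BT.node (nat_lit 180) (BT.node (nat_lit 178) (BT.node (nat_lit 177) (BT.leaf (.nmul (nat_lit 175) [(nat_lit 19)])) (BT.leaf (.nmul (nat_lit 176) [(nat_lit 43)]))) (BT.node (nat_lit 179) (BT.leaf (.nmul (nat_lit 177) [(nat_lit 19)])) (BT.leaf (.emul [(nat_lit 47), (nat_lit 46)])))) (BT.node (nat_lit 182) (BT.node (nat_lit 181) (BT.leaf (.emul [(nat_lit 47), (nat_lit 179)])) (BT.leaf (.emul [(nat_lit 86), (nat_lit 180)]))) (BT.node (nat_lit 183) (BT.leaf (.emul [(nat_lit 73), (nat_lit 102)])) (BT.leaf (.emul [(nat_lit 86), (nat_lit 182)]))))) (BT.node (nat_lit 188) (BT.node (nat_lit 186) (BT.node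 (nat_lit 185) (BT.leaf (.emul [(nat_lit 86), (nat_lit 183)])) (BT.leaf (.emul [(nat_lit 73), (nat_lit 184)]))) (BT.node (nat_lit 187) (BT.leaf (.emul [(nat_lit 86), (nat_lit 185)])) (BT.leaf (.emul [(nat_lit 86), (nat_lit 186)])))) (BT.node (nat_lit 190) (BT.node (nat_lit 189) (BT.leaf (.emul [(nat_lit 73), (nat_lit 187)])) (BT.leaf (.emul [(nat_lit 86), (nat_lit 188)]))) (BT.node (nat_lit 191) (BT.leaf (.nmul (nat_lit 89) [(nat_lit 19)])) (BT.leaf (.nmul (nat_lit 190) [(nat_lit 19)]))))))))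
noncomputable def cF192 : BT Fc := (BT.node (nat_lit 224) (BT.node (nat_lit 208) (BT.node (nat_lit 200) (BT.node (nat_lit 196) (BT.node (nat_lit 194) (BT.node (nat_lit 193) (BT.leaf ⟨(nat_lit 1), (nat_lit 0), (nat_lit 0), (nat_lit 0xd266cf3ae77ce05bb3a5a5eeb8d583), (nat_lit 0xd266cf3ae77ce05bb3a5a5eeb8d583), (nat_lit 0)⟩) (BT.leaf ⟨(nat_lit 1), (nat_lit 0), (nat_lit 0), (nat_lit 0x1edef54c7ea3780bb19b5a57a5575ec), (nat_lit 0x1edef54c7ea3780bb19b5a57a5575ec), (nat_lit 0)⟩)) (BT.node (nat_lit 195) (BT.leaf ⟨(nat_lit 1), (nat_lit 0), (nat_lit 0), (nat_lit 0x1cab990b7e7dbbf9d5655a560f8d7ba), (nat_lit 0x1cab990b7e7dbbf9d5655a560f8d7ba), (nat_lit 0)⟩) (BT.leaf ⟨(nat_lit 1), (nat_lit 0), (nat_lit 0), (nat_lit 0x977a200a105271f081208500bc7806), (nat_lit 0x977a200a105271f081208500bc7806), (nat_lit 0)⟩))) (BT.node (nat_lit 198) (BT.node (nat_lit 197) (BT.leaf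 ⟨(nat_lit 1), (nat_lit 0), (nat_lit 0), (nat_lit 0x4fc87e6925731d97b701f4e58939af), (nat_lit 0x4fc87e6925731d97b701f4e58939af), (nat_lit 0)⟩) (BT.leaf ⟨(nat_lit 1), (nat_lit 0), (nat_lit 0), (nat_lit 0x12acbced4ce9ad3fa6e44d4bd0d96f0), (nat_lit 0x12acbced4ce9ad3fa6e44d4bd0d96f0), (nat_lit 0)⟩)) (BT.node (nat_lit 199) (BT.leaf ⟨(nat_lit 3), (nat_lit 2), (nat_lit 1), (nat_lit 0x182e52be27c6e8cad1bcf20fad71bc3), (nat_lit 0x555ead4b3ae3eaeae586d8754e2a36), (nat_lit 0)⟩) (BT.leaf ⟨(nat_lit 3), (nat_lit 1), (nat_lit 2), (nat_lit 0x555ead4b3ae3eaeae586d8754e2a36), (nat_lit 0x182e52be27c6e8cad1bcf20fad71bc3), (nat_lit 0)⟩)))) (BT.node (nat_lit 204) (BT.node (nat_lit 202) (BT.node (nat_lit 201) (BT.leaf ⟨(nat_lit 2), (nat_lit 1), (nat_lit 1), (nat_lit 0x4bb0acc735f9a597b9625e4aed8b70), (nat_lit 0), (nat_lit 0)⟩) (BT.leaf ⟨(nat_lit 2), (nat_lit 1), (nat_lit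 1), (nat_lit 0xaeef573800c409f0c7104404b7b25d), (nat_lit 0), (nat_lit 0)⟩)) (BT.node (nat_lit 203) (BT.leaf ⟨(nat_lit 1), (nat_lit 0), (nat_lit 0), (nat_lit 0x17572c1dd6d86551b5a61f4715ea9d4), (nat_lit 0x17572c1dd6d86551b5a61f4715ea9d4), (nat_lit 0)⟩) (BT.leaf ⟨(nat_lit 1), (nat_lit 0), (nat_lit 0), (nat_lit 0x1c1ba27c67b17fe8c87c66b91b49e69), (nat_lit 0x1c1ba27c67b17fe8c87c66b91b49e69), (nat_lit 0)⟩))) (BT.node (nat_lit 206) (BT.node (nat_lit 205) (BT.leaf ⟨(nat_lit 1), (nat_lit 0), (nat_lit 0), (nat_lit 0x9aacf49f7b03b64d176c4f2725f69e), (nat_lit 0x9aacf49f7b03b64d176c4f2725f69e), (nat_lit 0)⟩) (BT.leaf ⟨(nat_lit 1), (nat_lit 0), (nat_lit 0), (nat_lit 0xb4af419bb917a6b45a83d131d32ce8), (nat_lit 0xb4af419bb917a6b45a83d131d32ce8), (nat_lit 0)⟩)) (BT.node (nat_lit 207) (BT.leaf ⟨(nat_lit 1), (nat_lit 0), (nat_lit 0), (nat_lit 0x1e31328b7f13a8bc2d34f9affbc7f9d),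 (nat_lit 0x1e31328b7f13a8bc2d34f9affbc7f9d), (nat_lit 0)⟩) (BT.leaf ⟨(nat_lit 1), (nat_lit 0), (nat_lit 0), (nat_lit 0x140b7eb4881c1ad40410850cc300c0), (nat_lit 0x140b7eb4881c1ad40410850cc300c0), (nat_lit 0)⟩))))) (BT.node (nat_lit 216) (BT.node (nat_lit 212) (BT.node (nat_lit 210) (BT.node (nat_lit 209) (BT.leaf ⟨(nat_lit 1), (nat_lit 0), (nat_lit 0), (nat_lit 0xe2b90eef6d87d4cada61f47532c1d1), (nat_lit 0xe2b90eef6d87d4cada61f47532c1d1), (nat_lit 0)⟩) (BT.leaf ⟨(nat_lit 1), (nat_lit 0), (nat_lit 0), (nat_lit 0xfcdd1e0b7cf2968b9bc8dc56bbeb63), (nat_lit 0xfcdd1e0b7cf2968b9bc8dc56bbeb63), (nat_lit 0)⟩)) (BT.node (nat_lit 211) (BT.leaf ⟨(nat_lit 2), (nat_lit 2), (nat_lit 2), (nat_lit 0x824f1d50102037a010f1b7a001746), (nat_lit 0), (nat_lit 0)⟩) (BT.leaf ⟨(nat_lit 1), (nat_lit 0), (nat_lit 0), (nat_lit 0x1801001e3501a79042104408127a201), (nat_lit 0x1801001e3501a79042104408127a201),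 (nat_lit 0)⟩))) (BT.node (nat_lit 214) (BT.node (nat_lit 213) (BT.leaf ⟨(nat_lit 1), (nat_lit 0), (nat_lit 0), (nat_lit 0x15cc179022024006ad00c8c600a03b9), (nat_lit 0x15cc179022024006ad00c8c600a03b9), (nat_lit 0)⟩) (BT.leaf ⟨(nat_lit 1), (nat_lit 0), (nat_lit 0), (nat_lit 0x17ec6a08172cbcf1e734408067a204), (nat_lit 0x17ec6a08172cbcf1e734408067a204), (nat_lit 0)⟩)) (BT.node (nat_lit 215) (BT.leaf ⟨(nat_lit 1), (nat_lit 0), (nat_lit 0), (nat_lit 0x44084646a01fd180101d1b5cf1d180), (nat_lit 0x44084646a01fd180101d1b5cf1d180), (nat_lit 0)⟩) (BT.leaf ⟨(nat_lit 1), (nat_lit 0), (nat_lit 0), (nat_lit 0x1801eaa20ce6901800b9d3c17ff4201), (nat_lit 0x1801eaa20ce6901800b9d3c17ff4201), (nat_lit 0)⟩)))) (BT.node (nat_lit 220) (BT.node (nat_lit 218) (BT.node (nat_lit 217) (BT.leaf ⟨(nat_lit 1), (nat_lit 0), (nat_lit 0), (nat_lit 0xee6cf68d202354805009d0440a0573), (nat_lit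 0xee6cf68d202354805009d0440a0573), (nat_lit 0)⟩) (BT.leaf ⟨(nat_lit 2), (nat_lit 1), (nat_lit 1), (nat_lit 0x1d1e008093a9cec80ef504200c02801), (nat_lit 0), (nat_lit 0)⟩)) (BT.node (nat_lit 219) (BT.leaf ⟨(nat_lit 2), (nat_lit 1), (nat_lit 1), (nat_lit 0x1f6cb79afcd24b89fb2f2564bc87cc7), (nat_lit 0), (nat_lit 0)⟩) (BT.leaf ⟨(nat_lit 2), (nat_lit 1), (nat_lit 1), (nat_lit 0xe37c6e8df3ac4fc2f898ddc372c3fe), (nat_lit 0), (nat_lit 0)⟩))) (BT.node (nat_lit 222) (BT.node (nat_lit 221) (BT.leaf ⟨(nat_lit 2), (nat_lit 1), (nat_lit 1), (nat_lit 0x10201474e111bf1040180100324b009), (nat_lit 0), (nat_lit 0)⟩) (BT.leaf ⟨(nat_lit 2), (nat_lit 1), (nat_lit 1), (nat_lit 0x1802c6b00408cbcf1a804408427a0b9), (nat_lit 0), (nat_lit 0)⟩)) (BT.node (nat_lit 223) (BT.leaf ⟨(nat_lit 1), (nat_lit 0), (nat_lit 0), (nat_lit 0x63995e08f67777e2b1f0a95c84088), (nat_lit 0x63995e08f67777e2b1f0a95c84088),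 (nat_lit 0)⟩) (BT.leaf ⟨(nat_lit 1), (nat_lit 0), (nat_lit 0), (nat_lit 0x1002f473a572080204737c601001001), (nat_lit 0x1002f473a572080204737c601001001), (nat_lit 0)⟩)))))) (BT.node (nat_lit 240) (BT.node (nat_lit 232) (BT.node (nat_lit 228) (BT.node (nat_lit 226) (BT.node (nat_lit 225) (BT.leaf ⟨(nat_lit 1), (nat_lit 0), (nat_lit 0), (nat_lit 0x16a132de92ed7b3a8ad2f6f722f44c7), (nat_lit 0x16a132de92ed7b3a8ad2f6f722f44c7), (nat_lit 0)⟩) (BT.leaf ⟨(nat_lit 1), (nat_lit 0), (nat_lit 0), (nat_lit 0x65424433b50302200420a1f35d1eb4), (nat_lit 0x65424433b50302200420a1f35d1eb4), (nat_lit 0)⟩)) (BT.node (nat_lit 227) (BT.leaf ⟨(nat_lit 1), (nat_lit 0), (nat_lit 0), (nat_lit 0x1d0ba374e66b9a652dffeccd1957519), (nat_lit 0x1d0ba374e66b9a652dffeccd1957519), (nat_lit 0)⟩) (BT.leaf ⟨(nat_lit 1), (nat_lit 0), (nat_lit 0), (nat_lit 0x280879f54ffeb411024ecd14f8d030),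 (nat_lit 0x280879f54ffeb411024ecd14f8d030), (nat_lit 0)⟩))) (BT.node (nat_lit 230) (BT.node (nat_lit 229) (BT.leaf ⟨(nat_lit 3), (nat_lit 2), (nat_lit 1), (nat_lit 0x1e3c65b1371a2df5158dd1b4d32c79d), (nat_lit 0x7d4505c8f5a1825f220ecc0938d021), (nat_lit 0)⟩) (BT.leaf ⟨(nat_lit 3), (nat_lit 1), (nat_lit 2), (nat_lit 0x7d4505c8f5a1825f220ecc0938d021), (nat_lit 0x1e3c65b1371a2df5158dd1b4d32c79d), (nat_lit 0)⟩)) (BT.node (nat_lit 231) (BT.leaf ⟨(nat_lit 2), (nat_lit 1), (nat_lit 1), (nat_lit 0x1002f473a572080204737c601001001), (nat_lit 0), (nat_lit 0)⟩) (BT.leaf ⟨(nat_lit 2), (nat_lit 1), (nat_lit 1), (nat_lit 0x10838d5c88a7eb4fa8210400c030299), (nat_lit 0), (nat_lit 0)⟩)))) (BT.node (nat_lit 236) (BT.node (nat_lit 234) (BT.node (nat_lit 233) (BT.leaf ⟨(nat_lit 2), (nat_lit 1), (nat_lit 1), (nat_lit 0xe35328b7f19e1589d34f5bc372c3fe), (nat_lit 0), (nat_lit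 0)⟩) (BT.leaf ⟨(nat_lit 2), (nat_lit 1), (nat_lit 1), (nat_lit 0x11ec140084ae777c280ce9c0624b2b1), (nat_lit 0), (nat_lit 0)⟩)) (BT.node (nat_lit 235) (BT.leaf ⟨(nat_lit 1), (nat_lit 0), (nat_lit 0), (nat_lit 0x16a132df8b91edef4cc7ad05dbf460b), (nat_lit 0x16a132df8b91edef4cc7ad05dbf460b), (nat_lit 0)⟩) (BT.leaf ⟨(nat_lit 1), (nat_lit 0), (nat_lit 0), (nat_lit 0x14d3c7e8df131bb513fef0ae372c5d2), (nat_lit 0x14d3c7e8df131bb513fef0ae372c5d2), (nat_lit 0)⟩))) (BT.node (nat_lit 238) (BT.node (nat_lit 237) (BT.leaf ⟨(nat_lit 1), (nat_lit 0), (nat_lit 0), (nat_lit 0x1020938081108237e009e9cac64b018), (nat_lit 0x1020938081108237e009e9cac64b018), (nat_lit 0)⟩) (BT.leaf ⟨(nat_lit 1), (nat_lit 0), (nat_lit 0), (nat_lit 0xee571b002093a32335fd1a6031d573), (nat_lit 0xee571b002093a32335fd1a6031d573), (nat_lit 0)⟩)) (BT.node (nat_lit 239) (BT.leaf ⟨(nat_lit 2), (nat_lit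 2), (nat_lit 2), (nat_lit 0x1edd2ea7f4b687d2be2c6e0e2b2fdd2), (nat_lit 0), (nat_lit 0)⟩) (BT.leaf ⟨(nat_lit 1), (nat_lit 0), (nat_lit 0), (nat_lit 0x1eeb9973aacbce05bf3e39cd278d72a), (nat_lit 0x1eeb9973aacbce05bf3e39cd278d72a), (nat_lit 0)⟩))))) (BT.node (nat_lit 248) (BT.node (nat_lit 244) (BT.node (nat_lit 242) (BT.node (nat_lit 241) (BT.leaf ⟨(nat_lit 1), (nat_lit 0), (nat_lit 0), (nat_lit 0x1ba23e10244b405082e7000fc7a5d), (nat_lit 0x1ba23e10244b405082e7000fc7a5d), (nat_lit 0)⟩) (BT.leaf ⟨(nat_lit 1), (nat_lit 0), (nat_lit 0), (nat_lit 0x6bc87b2f6e1f6f3492b25b5709393f), (nat_lit 0x6bc87b2f6e1f6f3492b25b5709393f), (nat_lit 0)⟩)) (BT.node (nat_lit 243) (BT.leaf ⟨(nat_lit 2), (nat_lit 1), (nat_lit 1), (nat_lit 0x774eab6ca9769aea9953a28db909f5), (nat_lit 0), (nat_lit 0)⟩) (BT.leaf ⟨(nat_lit 2), (nat_lit 1), (nat_lit 1), (nat_lit 0x252f6f593f7a401841f18f895c021),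 (nat_lit 0), (nat_lit 0)⟩))) (BT.node (nat_lit 246) (BT.node (nat_lit 245) (BT.leaf ⟨(nat_lit 2), (nat_lit 1), (nat_lit 1), (nat_lit 0x6bd6632fa5fa8897b9625adc2d892b), (nat_lit 0), (nat_lit 0)⟩) (BT.leaf ⟨(nat_lit 2), (nat_lit 1), (nat_lit 1), (nat_lit 0x1bf084088e9c024067850300224b00a), (nat_lit 0), (nat_lit 0)⟩)) (BT.node (nat_lit 247) (BT.leaf ⟨(nat_lit 2), (nat_lit 1), (nat_lit 1), (nat_lit 0xac48474e110777c280c41095e4b408), (nat_lit 0), (nat_lit 0)⟩) (BT.leaf ⟨(nat_lit 1), (nat_lit 0), (nat_lit 0), (nat_lit 0x17ff5c95a89abe558f51532aec730b9), (nat_lit 0x17ff5c95a89abe558f51532aec730b9), (nat_lit 0)⟩)))) (BT.node (nat_lit 252) (BT.node (nat_lit 250) (BT.node (nat_lit 249) (BT.leaf ⟨(nat_lit 1), (nat_lit 0), (nat_lit 0), (nat_lit 0x3b631bfe866a1e39b49b4d5ce3bd5c), (nat_lit 0x3b631bfe866a1e39b49b4d5ce3bd5c), (nat_lit 0)⟩) (BT.leaf ⟨(nat_lit 1), (nat_lit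 0), (nat_lit 0), (nat_lit 0x97f2fec195687db87b737817d6fdd2), (nat_lit 0x97f2fec195687db87b737817d6fdd2), (nat_lit 0)⟩)) (BT.node (nat_lit 251) (BT.leaf ⟨(nat_lit 1), (nat_lit 0), (nat_lit 0), (nat_lit 0x1757908d538a654fa95546c7472c1d4), (nat_lit 0x1757908d538a654fa95546c7472c1d4), (nat_lit 0)⟩) (BT.leaf ⟨(nat_lit 3), (nat_lit 2), (nat_lit 2), (nat_lit 0x1d1238822025271f09d7015e3c03402), (nat_lit 0x1e7465f852f3a37d6f8df9be3fc4b8d), (nat_lit 0)⟩))) (BT.node (nat_lit 254) (BT.node (nat_lit 253) (BT.leaf ⟨(nat_lit 1), (nat_lit 0), (nat_lit 0), (nat_lit 0x6542421ff9a14219eb40896a0a0240), (nat_lit 0x6542421ff9a14219eb40896a0a0240), (nat_lit 0)⟩) (BT.leaf ⟨(nat_lit 1), (nat_lit 0), (nat_lit 0), (nat_lit 0x17fd1c95a576ee6c18b95334d154b6c), (nat_lit 0x17fd1c95a576ee6c18b95334d154b6c), (nat_lit 0)⟩)) (BT.node (nat_lit 255) (BT.leaf ⟨(nat_lit 1), (nat_lit 0),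 (nat_lit 0), (nat_lit 0xd1865f4ef8d9a652f56c8dd0957747), (nat_lit 0xd1865f4ef8d9a652f56c8dd0957747), (nat_lit 0)⟩) (BT.leaf ⟨(nat_lit 1), (nat_lit 0), (nat_lit 0), (nat_lit 0x114e5f1f5043eb4114204402838d299), (nat_lit 0x114e5f1f5043eb4114204402838d299), (nat_lit 0)⟩)))))))
noncomputable def cP192 : BT Pf := (BT.node (nat_lit 224) (BT.node (nat_lit 208) (BT.node (nat_lit 200) (BT.node (nat_lit 196) (BT.node (nat_lit 194) (BT.node (nat_lit 193) (BT.leaf (.nmul (nat_lit 128) [(nat_lit 43)])) (BT.leaf (.nmul (nat_lit 192) [(nat_lit 19)]))) (BT.node (nat_lit 195) (BT.leaf (.nmul (nat_lit 193) [(nat_lit 19)])) (BT.leaf (.nmul (nat_lit 194) [(nat_lit 43)])))) (BT.node (nat_lit 198) (BT.node (nat_lit 197) (BT.leaf (.nmul (nat_lit 195) [(nat_lit 43)])) (BT.leaf (.nmul (nat_lit 196) [(nat_lit 43)]))) (BT.node (nat_lit 199) (BT.leaf (.rel (nat_lit 45) (nat_lit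 3) [(nat_lit 178), (nat_lit 173)] [⟨(nat_lit 0), [], []⟩, ⟨(nat_lit 99), [(nat_lit 181), (nat_lit 189)], [(nat_lit 197), (nat_lit 191)]⟩])) (BT.leaf (.inv (nat_lit 198)))))) (BT.node (nat_lit 204) (BT.node (nat_lit 202) (BT.node (nat_lit 201) (BT.leaf (.emul [(nat_lit 46), (nat_lit 181)])) (BT.leaf (.emul [(nat_lit 86), (nat_lit 200)]))) (BT.node (nat_lit 203) (BT.leaf (.nmul (nat_lit 0) [(nat_lit 19)])) (BT.leaf (.nmul (nat_lit 202) [(nat_lit 1)])))) (BT.node (nat_lit 206) (BT.node (nat_lit 205) (BT.leaf (.nmul (nat_lit 203) [(nat_lit 0)])) (BT.leaf (.nmul (nat_lit 204) [(nat_lit 43)]))) (BT.node (nat_lit 207) (BT.leaf (.nmul (nat_lit 205) [(nat_lit 1)])) (BT.leaf (.nmul (nat_lit 193) [(nat_lit 43)])))))) (BT.node (nat_lit 216) (BT.node (nat_lit 212) (BT.node (nat_lit 210) (BT.node (nat_lit 209) (BT.leaf (.nmul (nat_lit 207) [(nat_lit 43)])) (BT.leaf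 (.nmul (nat_lit 208) [(nat_lit 19)]))) (BT.node (nat_lit 211) (BT.leaf (.cmp (nat_lit 199) ⟨(nat_lit 99), [(nat_lit 201), (nat_lit 122)], [(nat_lit 209), (nat_lit 206)]⟩)) (BT.leaf (.nmul (nat_lit 43) [(nat_lit 43)])))) (BT.node (nat_lit 214) (BT.node (nat_lit 213) (BT.leaf (.nmul (nat_lit 211) [(nat_lit 19)])) (BT.leaf (.nmul (nat_lit 212) [(nat_lit 19)]))) (BT.node (nat_lit 215) (BT.leaf (.nmul (nat_lit 213) [(nat_lit 43)])) (BT.leaf (.nmul (nat_lit 214) [(nat_lit 19)]))))) (BT.node (nat_lit 220) (BT.node (nat_lit 218) (BT.node (nat_lit 217) (BT.leaf (.nmul (nat_lit 215) [(nat_lit 43)])) (BT.leaf (.emul [(nat_lit 47), (nat_lit 144)]))) (BT.node (nat_lit 219) (BT.leaf (.emul [(nat_lit 47), (nat_lit 217)])) (BT.leaf (.emul [(nat_lit 86), (nat_lit 86)])))) (BT.node (nat_lit 222) (BT.node (nat_lit 221) (BT.leaf (.emul [(nat_lit 86), (nat_lit 219)]))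 (BT.leaf (.emul [(nat_lit 86), (nat_lit 220)]))) (BT.node (nat_lit 223) (BT.leaf (.nmul (nat_lit 169) [(nat_lit 1)])) (BT.leaf (.nmul (nat_lit 222) [(nat_lit 0)]))))))) (BT.node (nat_lit 240) (BT.node (nat_lit 232) (BT.node (nat_lit 228) (BT.node (nat_lit 226) (BT.node (nat_lit 225) (BT.leaf (.nmul (nat_lit 223) [(nat_lit 1)])) (BT.leaf (.nmul (nat_lit 224) [(nat_lit 43)]))) (BT.node (nat_lit 227) (BT.leaf (.nmul (nat_lit 175) [(nat_lit 43)])) (BT.leaf (.nmul (nat_lit 226) [(nat_lit 19)])))) (BT.node (nat_lit 230) (BT.node (nat_lit 229) (BT.leaf (.rel (nat_lit 87) (nat_lit 0) [(nat_lit 216), (nat_lit 139)] [⟨(nat_lit 99), [(nat_lit 218), (nat_lit 221)], [(nat_lit 227), (nat_lit 225)]⟩])) (BT.leaf (.inv (nat_lit 228)))) (BT.node (nat_lit 231) (BT.leaf (.emul [(nat_lit 46), (nat_lit 180)])) (BT.leaf (.emul [(nat_lit 86), (nat_lit 230)]))))) (BT.node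 (nat_lit 236) (BT.node (nat_lit 234) (BT.node (nat_lit 233) (BT.leaf (.emul [(nat_lit 86), (nat_lit 231)])) (BT.leaf (.emul [(nat_lit 86), (nat_lit 149)]))) (BT.node (nat_lit 235) (BT.leaf (.nmul (nat_lit 124) [(nat_lit 0)])) (BT.leaf (.nmul (nat_lit 234) [(nat_lit 1)])))) (BT.node (nat_lit 238) (BT.node (nat_lit 237) (BT.leaf (.nmul (nat_lit 235) [(nat_lit 43)])) (BT.leaf (.nmul (nat_lit 211) [(nat_lit 43)]))) (BT.node (nat_lit 239) (BT.leaf (.cmp (nat_lit 229) ⟨(nat_lit 99), [(nat_lit 232), (nat_lit 233)], [(nat_lit 237), (nat_lit 236)]⟩)) (BT.leaf (.nmul (nat_lit 130) [(nat_lit 43)])))))) (BT.node (nat_lit 248) (BT.node (nat_lit 244) (BT.node (nat_lit 242) (BT.node (nat_lit 241) (BT.leaf (.nmul (nat_lit 239) [(nat_lit 43)])) (BT.leaf (.nmul (nat_lit 240) [(nat_lit 43)]))) (BT.node (nat_lit 243) (BT.leaf (.emul [(nat_lit 47), (nat_lit 132)])) (BT.leaf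 (.emul [(nat_lit 73), (nat_lit 242)])))) (BT.node (nat_lit 246) (BT.node (nat_lit 245) (BT.leaf (.emul [(nat_lit 47), (nat_lit 243)])) (BT.leaf (.emul [(nat_lit 86), (nat_lit 184)]))) (BT.node (nat_lit 247) (BT.leaf (.emul [(nat_lit 73), (nat_lit 245)])) (BT.leaf (.nmul (nat_lit 139) [(nat_lit 1)]))))) (BT.node (nat_lit 252) (BT.node (nat_lit 250) (BT.node (nat_lit 249) (BT.leaf (.nmul (nat_lit 247) [(nat_lit 0)])) (BT.leaf (.nmul (nat_lit 248) [(nat_lit 19)]))) (BT.node (nat_lit 251) (BT.leaf (.nmul (nat_lit 129) [(nat_lit 43)])) (BT.leaf (.rel (nat_lit 113) (nat_lit 1) [(nat_lit 241), (nat_lit 126)] [⟨(nat_lit 99), [(nat_lit 244), (nat_lit 246)], [(nat_lit 250), (nat_lit 249)]⟩])))) (BT.node (nat_lit 254) (BT.node (nat_lit 253) (BT.leaf (.nmul (nat_lit 234) [(nat_lit 43)])) (BT.leaf (.nmul (nat_lit 252) [(nat_lit 1)]))) (BT.node (nat_lit 255) (BT.leaf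 (.nmul (nat_lit 164) [(nat_lit 19)])) (BT.leaf (.nmul (nat_lit 254) [(nat_lit 19)]))))))))
noncomputable def cF256 : BT Fc := (BT.node (nat_lit 288) (BT.node (nat_lit 272) (BT.node (nat_lit 264) (BT.node (nat_lit 260) (BT.node (nat_lit 258) (BT.node (nat_lit 257) (BT.leaf ⟨(nat_lit 1), (nat_lit 0), (nat_lit 0), (nat_lit 0x1e3132b137fde1751534d1be27c7b8d), (nat_lit 0x1e3132b137fde1751534d1be27c7b8d), (nat_lit 0)⟩) (BT.leaf ⟨(nat_lit 1), (nat_lit 0), (nat_lit 0), (nat_lit 0xbd37b7dbce9bf1356e4d69bc27a6f5), (nat_lit 0xbd37b7dbce9bf1356e4d69bc27a6f5), (nat_lit 0)⟩)) (BT.node (nat_lit 259) (BT.leaf ⟨(nat_lit 1), (nat_lit 0), (nat_lit 0), (nat_lit 0x160f0a9cee7c1f169565ddfeeb1d349), (nat_lit 0x160f0a9cee7c1f169565ddfeeb1d349), (nat_lit 0)⟩) (BT.leaf ⟨(nat_lit 1), (nat_lit 0), (nat_lit 0), (nat_lit 0x100b7b7381040882101293801801003), (nat_lit 0x100b7b7381040882101293801801003),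 (nat_lit 0)⟩))) (BT.node (nat_lit 262) (BT.node (nat_lit 261) (BT.leaf ⟨(nat_lit 1), (nat_lit 0), (nat_lit 0), (nat_lit 0x11ec245e0013d3b7e40801022093ab1), (nat_lit 0x11ec245e0013d3b7e40801022093ab1), (nat_lit 0)⟩) (BT.leaf ⟨(nat_lit 1), (nat_lit 0), (nat_lit 0), (nat_lit 0x1d1f49f0666bd983e5ff94bd08d9346), (nat_lit 0x1d1f49f0666bd983e5ff94bd08d9346), (nat_lit 0)⟩)) (BT.node (nat_lit 263) (BT.leaf ⟨(nat_lit 3), (nat_lit 2), (nat_lit 2), (nat_lit 0x15a3db9763d0b4a63a65c16abbf431c), (nat_lit 0x66cf45e0f6f3a305a6598eabbf431c), (nat_lit 0)⟩) (BT.leaf ⟨(nat_lit 1), (nat_lit 0), (nat_lit 0), (nat_lit 0x739d2583a75cf99d73a6922df8d738), (nat_lit 0x739d2583a75cf99d73a6922df8d738), (nat_lit 0)⟩)))) (BT.node (nat_lit 268) (BT.node (nat_lit 266) (BT.node (nat_lit 265) (BT.leaf ⟨(nat_lit 1), (nat_lit 0), (nat_lit 0), (nat_lit 0x80600c9f3a808420de9e7600c02801),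 (nat_lit 0x80600c9f3a808420de9e7600c02801), (nat_lit 0)⟩) (BT.leaf ⟨(nat_lit 1), (nat_lit 0), (nat_lit 0), (nat_lit 0x3e8b7d2fcd24adcb6a225c4bc87cc7), (nat_lit 0x3e8b7d2fcd24adcb6a225c4bc87cc7), (nat_lit 0)⟩)) (BT.node (nat_lit 267) (BT.leaf ⟨(nat_lit 1), (nat_lit 0), (nat_lit 0), (nat_lit 0x1467a207cf8d91b8375694ad18d9742), (nat_lit 0x1467a207cf8d91b8375694ad18d9742), (nat_lit 0)⟩) (BT.leaf ⟨(nat_lit 1), (nat_lit 0), (nat_lit 0), (nat_lit 0xc0145c80428836a42004514c300a0), (nat_lit 0xc0145c80428836a42004514c300a0), (nat_lit 0)⟩))) (BT.node (nat_lit 270) (BT.node (nat_lit 269) (BT.leaf ⟨(nat_lit 2), (nat_lit 1), (nat_lit 1), (nat_lit 0x73b8d33ae74d26b2f38e77bbf9953a), (nat_lit 0), (nat_lit 0)⟩) (BT.leaf ⟨(nat_lit 1), (nat_lit 0), (nat_lit 0), (nat_lit 0x8052f12ef1840410ef5e7600e009d4), (nat_lit 0x8052f12ef1840410ef5e7600e009d4), (nat_lit 0)⟩)) (BT.node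 (nat_lit 271) (BT.leaf ⟨(nat_lit 1), (nat_lit 0), (nat_lit 0), (nat_lit 0x6bc422806c6208aa8c0ad0600480a0), (nat_lit 0x6bc422806c6208aa8c0ad0600480a0), (nat_lit 0)⟩) (BT.leaf ⟨(nat_lit 1), (nat_lit 0), (nat_lit 0), (nat_lit 0x44017e8d6be35480104fe8ee4a0180), (nat_lit 0x44017e8d6be35480104fe8ee4a0180), (nat_lit 0)⟩))))) (BT.node (nat_lit 280) (BT.node (nat_lit 276) (BT.node (nat_lit 274) (BT.node (nat_lit 273) (BT.leaf ⟨(nat_lit 1), (nat_lit 0), (nat_lit 0), (nat_lit 0x97f7a008021279f1880e75000ea804), (nat_lit 0x97f7a008021279f1880e75000ea804), (nat_lit 0)⟩) (BT.leaf ⟨(nat_lit 1), (nat_lit 0), (nat_lit 0), (nat_lit 0xfce6cca537982cf1be77c256bbeb63), (nat_lit 0xfce6cca537982cf1be77c256bbeb63), (nat_lit 0)⟩)) (BT.node (nat_lit 275) (BT.leaf ⟨(nat_lit 2), (nat_lit 1), (nat_lit 1), (nat_lit 0x1d080282400cf9c821d1e7c01042204), (nat_lit 0), (nat_lit 0)⟩) (BT.leaf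 ⟨(nat_lit 2), (nat_lit 1), (nat_lit 1), (nat_lit 0x1b50878240409fc18766043720141f5), (nat_lit 0), (nat_lit 0)⟩))) (BT.node (nat_lit 278) (BT.node (nat_lit 277) (BT.leaf ⟨(nat_lit 2), (nat_lit 1), (nat_lit 1), (nat_lit 0x655eab8a3ba746ead4b2abbbcea9f5), (nat_lit 0), (nat_lit 0)⟩) (BT.leaf ⟨(nat_lit 2), (nat_lit 1), (nat_lit 1), (nat_lit 0x1c1ba3519c8d7ffab4a5e85d39573d8), (nat_lit 0), (nat_lit 0)⟩)) (BT.node (nat_lit 279) (BT.leaf ⟨(nat_lit 1), (nat_lit 0), (nat_lit 0), (nat_lit 0x73b1d58316fcefdd738693bbe6c87c), (nat_lit 0x73b1d58316fcefdd738693bbe6c87c), (nat_lit 0)⟩) (BT.leaf ⟨(nat_lit 1), (nat_lit 0), (nat_lit 0), (nat_lit 0x16a3f45ec2edd46f4de0f6f82ef55c8), (nat_lit 0x16a3f45ec2edd46f4de0f6f82ef55c8), (nat_lit 0)⟩)))) (BT.node (nat_lit 284) (BT.node (nat_lit 282) (BT.node (nat_lit 281) (BT.leaf ⟨(nat_lit 1), (nat_lit 0), (nat_lit 0), (nat_lit 0xd013e18e24b4052bb08401bc7c02),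 (nat_lit 0xd013e18e24b4052bb08401bc7c02), (nat_lit 0)⟩) (BT.leaf ⟨(nat_lit 1), (nat_lit 0), (nat_lit 0), (nat_lit 0xac48400a4afe14ee80cdf82224b47b), (nat_lit 0xac48400a4afe14ee80cdf82224b47b), (nat_lit 0)⟩)) (BT.node (nat_lit 283) (BT.leaf ⟨(nat_lit 1), (nat_lit 0), (nat_lit 0), (nat_lit 0xd1ba3669eadd39ec7c60f9d0957747), (nat_lit 0xd1ba3669eadd39ec7c60f9d0957747), (nat_lit 0)⟩) (BT.leaf ⟨(nat_lit 1), (nat_lit 0), (nat_lit 0), (nat_lit 0x114c87fad8407d410021b902838d299), (nat_lit 0x114c87fad8407d410021b902838d299), (nat_lit 0)⟩))) (BT.node (nat_lit 286) (BT.node (nat_lit 285) (BT.leaf ⟨(nat_lit 1), (nat_lit 0), (nat_lit 0), (nat_lit 0x1e30bcf85a68c4e373fef9be27c7b8d), (nat_lit 0x1e30bcf85a68c4e373fef9be27c7b8d), (nat_lit 0)⟩) (BT.leaf ⟨(nat_lit 1), (nat_lit 0), (nat_lit 0), (nat_lit 0x11ef9974e811781040093ba22093ab1), (nat_lit 0x11ef9974e811781040093ba22093ab1),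 (nat_lit 0)⟩)) (BT.node (nat_lit 287) (BT.leaf ⟨(nat_lit 3), (nat_lit 2), (nat_lit 2), (nat_lit 0x180b784443e100216b41806566f240), (nat_lit 0x6bed892d25649db87dbd44cbf0a8fa), (nat_lit 0)⟩) (BT.leaf ⟨(nat_lit 1), (nat_lit 0), (nat_lit 0), (nat_lit 0x1464d966966a1f1ec5ff94bd5ba3742), (nat_lit 0x1464d966966a1f1ec5ff94bd5ba3742), (nat_lit 0)⟩)))))) (BT.node (nat_lit 304) (BT.node (nat_lit 296) (BT.node (nat_lit 292) (BT.node (nat_lit 290) (BT.node (nat_lit 289) (BT.leaf ⟨(nat_lit 1), (nat_lit 0), (nat_lit 0), (nat_lit 0x145e7a28739dbd57a26a957fd18e6d4), (nat_lit 0x145e7a28739dbd57a26a957fd18e6d4), (nat_lit 0)⟩) (BT.leaf ⟨(nat_lit 1), (nat_lit 0), (nat_lit 0), (nat_lit 0x14eb1d73be70d26c1ad2e55cebbd0b7), (nat_lit 0x14eb1d73be70d26c1ad2e55cebbd0b7), (nat_lit 0)⟩)) (BT.node (nat_lit 291) (BT.leaf ⟨(nat_lit 1), (nat_lit 0), (nat_lit 0), (nat_lit 0x7500892e003cee4ff8c2037a55c003),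 (nat_lit 0x7500892e003cee4ff8c2037a55c003), (nat_lit 0)⟩) (BT.leaf ⟨(nat_lit 1), (nat_lit 0), (nat_lit 0), (nat_lit 0x56b5cd3472dd455ce2717360d5eab1), (nat_lit 0x56b5cd3472dd455ce2717360d5eab1), (nat_lit 0)⟩))) (BT.node (nat_lit 294) (BT.node (nat_lit 293) (BT.leaf ⟨(nat_lit 1), (nat_lit 0), (nat_lit 0), (nat_lit 0x1e41d19e3fc745e52be27c2d8fbe95a), (nat_lit 0x1e41d19e3fc745e52be27c2d8fbe95a), (nat_lit 0)⟩) (BT.leaf ⟨(nat_lit 1), (nat_lit 0), (nat_lit 0), (nat_lit 0x10239900a0128200400cbc006014257), (nat_lit 0x10239900a0128200400cbc006014257), (nat_lit 0)⟩)) (BT.node (nat_lit 295) (BT.leaf ⟨(nat_lit 1), (nat_lit 0), (nat_lit 0), (nat_lit 0x169a1e9dd6d83547d155ddf757499c5), (nat_lit 0x169a1e9dd6d83547d155ddf757499c5), (nat_lit 0)⟩) (BT.leaf ⟨(nat_lit 1), (nat_lit 0), (nat_lit 0), (nat_lit 0x1cab0ad3ae76b483e33a16ed271d7ba), (nat_lit 0x1cab0ad3ae76b483e33a16ed271d7ba),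 (nat_lit 0)⟩)))) (BT.node (nat_lit 300) (BT.node (nat_lit 298) (BT.node (nat_lit 297) (BT.leaf ⟨(nat_lit 1), (nat_lit 0), (nat_lit 0), (nat_lit 0x7a132ce8ea2b4ae419b2ededff45e9), (nat_lit 0x7a132ce8ea2b4ae419b2ededff45e9), (nat_lit 0)⟩) (BT.leaf ⟨(nat_lit 3), (nat_lit 2), (nat_lit 2), (nat_lit 0x1bf0d944d2f273b7aee450ec7390ef6), (nat_lit 0x5e746f8cf0a2ddff79da6832fc6d8d), (nat_lit 0)⟩)) (BT.node (nat_lit 299) (BT.leaf ⟨(nat_lit 1), (nat_lit 0), (nat_lit 0), (nat_lit 0xbe42404088010be6841b50140a0433), (nat_lit 0xbe42404088010be6841b50140a0433), (nat_lit 0)⟩) (BT.leaf ⟨(nat_lit 1), (nat_lit 0), (nat_lit 0), (nat_lit 0x175749a366d83e8eeda632ae28ea9d4), (nat_lit 0x175749a366d83e8eeda632ae28ea9d4), (nat_lit 0)⟩))) (BT.node (nat_lit 302) (BT.node (nat_lit 301) (BT.leaf ⟨(nat_lit 1), (nat_lit 0), (nat_lit 0), (nat_lit 0x189e5f69e13c9a9ec49fa9723bbe8ed), (nat_lit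 0x189e5f69e13c9a9ec49fa9723bbe8ed), (nat_lit 0)⟩) (BT.leaf ⟨(nat_lit 2), (nat_lit 1), (nat_lit 1), (nat_lit 0x14d065e8de1ac4fd6f9df0be2532bfe), (nat_lit 0), (nat_lit 0)⟩)) (BT.node (nat_lit 303) (BT.leaf ⟨(nat_lit 2), (nat_lit 1), (nat_lit 1), (nat_lit 0x12737b0120150080310210408bc7f38), (nat_lit 0), (nat_lit 0)⟩) (BT.leaf ⟨(nat_lit 2), (nat_lit 1), (nat_lit 1), (nat_lit 0x1ad0b78c048110028706089f34245a8), (nat_lit 0), (nat_lit 0)⟩))))) (BT.node (nat_lit 312) (BT.node (nat_lit 308) (BT.node (nat_lit 306) (BT.node (nat_lit 305) (BT.leaf ⟨(nat_lit 2), (nat_lit 1), (nat_lit 1), (nat_lit 0x2e7652b16d8be5dcc4d532aed1cd34), (nat_lit 0), (nat_lit 0)⟩) (BT.leaf ⟨(nat_lit 2), (nat_lit 1), (nat_lit 1), (nat_lit 0x152dd241e7b189e4769e93527a4b49c), (nat_lit 0), (nat_lit 0)⟩)) (BT.node (nat_lit 307) (BT.leaf ⟨(nat_lit 1), (nat_lit 0), (nat_lit 0), (nat_lit 0x14d065e8de1ac4fd6f9df0be2532bfe),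 (nat_lit 0x14d065e8de1ac4fd6f9df0be2532bfe), (nat_lit 0)⟩) (BT.leaf ⟨(nat_lit 1), (nat_lit 0), (nat_lit 0), (nat_lit 0x12737b0120150080310210408bc7f38), (nat_lit 0x12737b0120150080310210408bc7f38), (nat_lit 0)⟩))) (BT.node (nat_lit 310) (BT.node (nat_lit 309) (BT.leaf ⟨(nat_lit 1), (nat_lit 0), (nat_lit 0), (nat_lit 0x1918a0500200441af90220235571ce8), (nat_lit 0x1918a0500200441af90220235571ce8), (nat_lit 0)⟩) (BT.leaf ⟨(nat_lit 3), (nat_lit 2), (nat_lit 2), (nat_lit 0x53a149a408030126f025696e3babd), (nat_lit 0xb7e8cb700be6f1afcabd8296c7362c), (nat_lit 0)⟩)) (BT.node (nat_lit 311) (BT.leaf ⟨(nat_lit 3), (nat_lit 1), (nat_lit 3), (nat_lit 0x11345ca396d8ae0732bbbfe569cb2bd), (nat_lit 0x1001001001001001001001001001001), (nat_lit 0)⟩) (BT.leaf ⟨(nat_lit 2), (nat_lit 1), (nat_lit 1), (nat_lit 0x1721575e998fd44f4176f6f82e1ece8), (nat_lit 0), (nat_lit 0)⟩))))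 (BT.node (nat_lit 316) (BT.node (nat_lit 314) (BT.node (nat_lit 313) (BT.leaf ⟨(nat_lit 2), (nat_lit 1), (nat_lit 1), (nat_lit 0x2df1d583e70d259d1ceacbce9d207c), (nat_lit 0), (nat_lit 0)⟩) (BT.leaf ⟨(nat_lit 2), (nat_lit 1), (nat_lit 1), (nat_lit 0xc08c9f003cec20a017c57a600ef5), (nat_lit 0), (nat_lit 0)⟩)) (BT.node (nat_lit 315) (BT.leaf ⟨(nat_lit 2), (nat_lit 1), (nat_lit 1), (nat_lit 0x774140184111ec4474e0180224b00a), (nat_lit 0), (nat_lit 0)⟩) (BT.leaf ⟨(nat_lit 2), (nat_lit 1), (nat_lit 1), (nat_lit 0x1a7ac6a803c6805023004208827a240), (nat_lit 0), (nat_lit 0)⟩))) (BT.node (nat_lit 318) (BT.node (nat_lit 317) (BT.leaf ⟨(nat_lit 2), (nat_lit 1), (nat_lit 1), (nat_lit 0x12380a7567e6717ce9104200c154850), (nat_lit 0), (nat_lit 0)⟩) (BT.leaf ⟨(nat_lit 2), (nat_lit 1), (nat_lit 1), (nat_lit 0x19d048180101078447c66c7c3679955), (nat_lit 0), (nat_lit 0)⟩))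 (BT.node (nat_lit 319) (BT.leaf ⟨(nat_lit 2), (nat_lit 1), (nat_lit 1), (nat_lit 0x4ac42742049bc10210400803002c9a), (nat_lit 0), (nat_lit 0)⟩) (BT.leaf ⟨(nat_lit 1), (nat_lit 0), (nat_lit 0), (nat_lit 0x60040f0df75f194041e104d8c48088), (nat_lit 0x60040f0df75f194041e104d8c48088), (nat_lit 0)⟩)))))))
noncomputable def cP256 : BT Pf := (BT.node (nat_lit 288) (BT.node (nat_lit 272) (BT.node (nat_lit 264) (BT.node (nat_lit 260) (BT.node (nat_lit 258) (BT.node (nat_lit 257) (BT.leaf (.nmul (nat_lit 255) [(nat_lit 43)])) (BT.leaf (.nmul (nat_lit 95) [(nat_lit 19)]))) (BT.node (nat_lit 259) (BT.leaf (.nmul (nat_lit 257) [(nat_lit 43)])) (BT.leaf (.nmul (nat_lit 258) [(nat_lit 43)])))) (BT.node (nat_lit 262) (BT.node (nat_lit 261) (BT.leaf (.nmul (nat_lit 259) [(nat_lit 19)])) (BT.leaf (.nmul (nat_lit 260) [(nat_lit 43)]))) (BT.node (nat_lit 263) (BT.leaf (.rel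 (nat_lit 251) (nat_lit 1) [(nat_lit 256), (nat_lit 253)] [⟨(nat_lit 251), [], [(nat_lit 261), (nat_lit 235)]⟩])) (BT.leaf (.nmul (nat_lit 89) [(nat_lit 0)]))))) (BT.node (nat_lit 268) (BT.node (nat_lit 266) (BT.node (nat_lit 265) (BT.leaf (.nmul (nat_lit 263) [(nat_lit 1)])) (BT.leaf (.nmul (nat_lit 264) [(nat_lit 1)]))) (BT.node (nat_lit 267) (BT.leaf (.nmul (nat_lit 166) [(nat_lit 43)])) (BT.leaf (.nmul (nat_lit 266) [(nat_lit 19)])))) (BT.node (nat_lit 270) (BT.node (nat_lit 269) (BT.leaf (.emul [(nat_lit 46), (nat_lit 47)])) (BT.leaf (.nmul (nat_lit 169) [(nat_lit 19)]))) (BT.node (nat_lit 271) (BT.leaf (.nmul (nat_lit 269) [(nat_lit 0)])) (BT.leaf (.nmul (nat_lit 111) [(nat_lit 19)])))))) (BT.node (nat_lit 280) (BT.node (nat_lit 276) (BT.node (nat_lit 274) (BT.node (nat_lit 273) (BT.leaf (.nmul (nat_lit 271) [(nat_lit 43)])) (BT.leaf (.nmul (nat_lit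 272) [(nat_lit 43)]))) (BT.node (nat_lit 275) (BT.leaf (.emul [(nat_lit 86), (nat_lit 179)])) (BT.leaf (.emul [(nat_lit 47), (nat_lit 274)])))) (BT.node (nat_lit 278) (BT.node (nat_lit 277) (BT.leaf (.emul [(nat_lit 46), (nat_lit 275)])) (BT.leaf (.emul [(nat_lit 86), (nat_lit 189)]))) (BT.node (nat_lit 279) (BT.leaf (.nmul (nat_lit 125) [(nat_lit 0)])) (BT.leaf (.nmul (nat_lit 278) [(nat_lit 19)]))))) (BT.node (nat_lit 284) (BT.node (nat_lit 282) (BT.node (nat_lit 281) (BT.leaf (.nmul (nat_lit 192) [(nat_lit 43)])) (BT.leaf (.nmul (nat_lit 280) [(nat_lit 19)]))) (BT.node (nat_lit 283) (BT.leaf (.nmul (nat_lit 281) [(nat_lit 43)])) (BT.leaf (.nmul (nat_lit 282) [(nat_lit 19)])))) (BT.node (nat_lit 286) (BT.node (nat_lit 285) (BT.leaf (.nmul (nat_lit 283) [(nat_lit 43)])) (BT.leaf (.nmul (nat_lit 284) [(nat_lit 43)]))) (BT.node (nat_lit 287) (BT.leaf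 (.rel (nat_lit 113) (nat_lit 4) [(nat_lit 267), (nat_lit 265)] [⟨(nat_lit 87), [(nat_lit 268)], [(nat_lit 273), (nat_lit 270)]⟩, ⟨(nat_lit 99), [(nat_lit 276), (nat_lit 277)], [(nat_lit 285), (nat_lit 279)]⟩])) (BT.leaf (.nmul (nat_lit 0) [(nat_lit 43)]))))))) (BT.node (nat_lit 304) (BT.node (nat_lit 296) (BT.node (nat_lit 292) (BT.node (nat_lit 290) (BT.node (nat_lit 289) (BT.leaf (.nmul (nat_lit 287) [(nat_lit 1)])) (BT.leaf (.nmul (nat_lit 288) [(nat_lit 43)]))) (BT.node (nat_lit 291) (BT.leaf (.nmul (nat_lit 289) [(nat_lit 1)])) (BT.leaf (.nmul (nat_lit 290) [(nat_lit 19)])))) (BT.node (nat_lit 294) (BT.node (nat_lit 293) (BT.leaf (.nmul (nat_lit 250) [(nat_lit 19)])) (BT.leaf (.nmul (nat_lit 90) [(nat_lit 43)]))) (BT.node (nat_lit 295) (BT.leaf (.nmul (nat_lit 293) [(nat_lit 19)])) (BT.leaf (.nmul (nat_lit 94) [(nat_lit 19)]))))) (BT.node (nat_lit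 300) (BT.node (nat_lit 298) (BT.node (nat_lit 297) (BT.leaf (.nmul (nat_lit 295) [(nat_lit 19)])) (BT.leaf (.rel (nat_lit 113) (nat_lit 3) [(nat_lit 292), (nat_lit 291)] [⟨(nat_lit 98), [(nat_lit 179)], [(nat_lit 197), (nat_lit 294)]⟩, ⟨(nat_lit 99), [(nat_lit 231), (nat_lit 158)], [(nat_lit 296), (nat_lit 191)]⟩]))) (BT.node (nat_lit 299) (BT.leaf (.nmul (nat_lit 296) [(nat_lit 43)])) (BT.leaf (.nmul (nat_lit 298) [(nat_lit 43)])))) (BT.node (nat_lit 302) (BT.node (nat_lit 301) (BT.leaf (.nmul (nat_lit 299) [(nat_lit 43)])) (BT.leaf (.emul [(nat_lit 47), (nat_lit 47)]))) (BT.node (nat_lit 303) (BT.leaf (.emul [(nat_lit 47), (nat_lit 301)])) (BT.leaf (.emul [(nat_lit 86), (nat_lit 302)])))))) (BT.node (nat_lit 312) (BT.node (nat_lit 308) (BT.node (nat_lit 306) (BT.node (nat_lit 305) (BT.leaf (.emul [(nat_lit 47), (nat_lit 303)])) (BT.leaf (.emul [(nat_lit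 47), (nat_lit 304)]))) (BT.node (nat_lit 307) (BT.leaf (.nmul (nat_lit 1) [(nat_lit 1)])) (BT.leaf (.nmul (nat_lit 306) [(nat_lit 1)])))) (BT.node (nat_lit 310) (BT.node (nat_lit 309) (BT.leaf (.nmul (nat_lit 307) [(nat_lit 0)])) (BT.leaf (.rel (nat_lit 113) (nat_lit 0) [(nat_lit 300), (nat_lit 293)] [⟨(nat_lit 99), [(nat_lit 305), (nat_lit 157)], [(nat_lit 273), (nat_lit 308)]⟩]))) (BT.node (nat_lit 311) (BT.leaf (.dfn [(nat_lit 3), (nat_lit 1), (nat_lit 3)])) (BT.leaf (.emul [(nat_lit 46), (nat_lit 144)]))))) (BT.node (nat_lit 316) (BT.node (nat_lit 314) (BT.node (nat_lit 313) (BT.leaf (.emul [(nat_lit 86), (nat_lit 311)])) (BT.leaf (.emul [(nat_lit 47), (nat_lit 312)]))) (BT.node (nat_lit 315) (BT.leaf (.emul [(nat_lit 86), (nat_lit 118)])) (BT.leaf (.emul [(nat_lit 86), (nat_lit 314)])))) (BT.node (nat_lit 318) (BT.node (nat_lit 317) (BT.leaf (.emul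 [(nat_lit 73), (nat_lit 315)])) (BT.leaf (.emul [(nat_lit 86), (nat_lit 316)]))) (BT.node (nat_lit 319) (BT.leaf (.emul [(nat_lit 86), (nat_lit 317)])) (BT.leaf (.nmul (nat_lit 222) [(nat_lit 1)]))))))))
noncomputable def cF320 : BT Fc := (BT.node (nat_lit 352) (BT.node (nat_lit 336) (BT.node (nat_lit 328) (BT.node (nat_lit 324) (BT.node (nat_lit 322) (BT.node (nat_lit 321) (BT.leaf ⟨(nat_lit 1), (nat_lit 0), (nat_lit 0), (nat_lit 0x8055c49fbd20848080101200e009d4), (nat_lit 0x8055c49fbd20848080101200e009d4), (nat_lit 0)⟩) (BT.leaf ⟨(nat_lit 1), (nat_lit 0), (nat_lit 0), (nat_lit 0x10090100a577271f0c71e70977c7803), (nat_lit 0x10090100a577271f0c71e70977c7803), (nat_lit 0)⟩)) (BT.node (nat_lit 323) (BT.leaf ⟨(nat_lit 2), (nat_lit 3), (nat_lit 3), (nat_lit 0x18035cc0871bf8d9d2f4a5ed1a085d5), (nat_lit 0), (nat_lit 0)⟩) (BT.leaf ⟨(nat_lit 3), (nat_lit 3),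 (nat_lit 1), (nat_lit 0x1001001001001001001001001001001), (nat_lit 0x11345ca396d8ae0732bbbfe569cb2bd), (nat_lit 0)⟩))) (BT.node (nat_lit 326) (BT.node (nat_lit 325) (BT.leaf ⟨(nat_lit 2), (nat_lit 1), (nat_lit 1), (nat_lit 0x131d329e8b917a7dbda8ea25dbf460b), (nat_lit 0), (nat_lit 0)⟩) (BT.leaf ⟨(nat_lit 2), (nat_lit 1), (nat_lit 1), (nat_lit 0x14ea6cf2addfeeb9f1ce6921f30a8b7), (nat_lit 0), (nat_lit 0)⟩)) (BT.node (nat_lit 327) (BT.leaf ⟨(nat_lit 2), (nat_lit 1), (nat_lit 1), (nat_lit 0x182ef45682ed7b2fc4c7bd33a2f55e0), (nat_lit 0), (nat_lit 0)⟩) (BT.leaf ⟨(nat_lit 2), (nat_lit 1), (nat_lit 1), (nat_lit 0x1ceb8d73e39dcabdd738b061f3bd53a), (nat_lit 0), (nat_lit 0)⟩)))) (BT.node (nat_lit 332) (BT.node (nat_lit 330) (BT.node (nat_lit 329) (BT.leaf ⟨(nat_lit 1), (nat_lit 0), (nat_lit 0), (nat_lit 0x108a021fb50be6198400a0903bd706), (nat_lit 0x108a021fb50be6198400a0903bd706),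 (nat_lit 0)⟩) (BT.leaf ⟨(nat_lit 2), (nat_lit 3), (nat_lit 3), (nat_lit 0x1d983027fda809229fad1408825f022), (nat_lit 0), (nat_lit 0)⟩)) (BT.node (nat_lit 331) (BT.leaf ⟨(nat_lit 1), (nat_lit 0), (nat_lit 0), (nat_lit 0x1ce3c78120149755dc9c1044b501102), (nat_lit 0x1ce3c78120149755dc9c1044b501102), (nat_lit 0)⟩) (BT.leaf ⟨(nat_lit 2), (nat_lit 1), (nat_lit 1), (nat_lit 0x1f19573d868c1f3835ffecd466a3742), (nat_lit 0), (nat_lit 0)⟩))) (BT.node (nat_lit 334) (BT.node (nat_lit 333) (BT.leaf ⟨(nat_lit 2), (nat_lit 1), (nat_lit 1), (nat_lit 0x1a79002046018002fa2042078e7a32f), (nat_lit 0), (nat_lit 0)⟩) (BT.leaf ⟨(nat_lit 1), (nat_lit 0), (nat_lit 0), (nat_lit 0xd5c0094024ba4fef5e77e3200801), (nat_lit 0xd5c0094024ba4fef5e77e3200801), (nat_lit 0)⟩)) (BT.node (nat_lit 335) (BT.leaf ⟨(nat_lit 1), (nat_lit 0), (nat_lit 0), (nat_lit 0x4bed89af1f557297b2f25c4b4b7cc7),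 (nat_lit 0x4bed89af1f557297b2f25c4b4b7cc7), (nat_lit 0)⟩) (BT.leaf ⟨(nat_lit 1), (nat_lit 0), (nat_lit 0), (nat_lit 0x123a6f31393f2724f09ed3c3b64b41e), (nat_lit 0x123a6f31393f2724f09ed3c3b64b41e), (nat_lit 0)⟩))))) (BT.node (nat_lit 344) (BT.node (nat_lit 340) (BT.node (nat_lit 338) (BT.node (nat_lit 337) (BT.leaf ⟨(nat_lit 1), (nat_lit 0), (nat_lit 0), (nat_lit 0x1ede1ede033731f05f519d17a5575ec), (nat_lit 0x1ede1ede033731f05f519d17a5575ec), (nat_lit 0)⟩) (BT.leaf ⟨(nat_lit 3), (nat_lit 3), (nat_lit 3), (nat_lit 0x20938094ae032f020811002884018), (nat_lit 0x14beeac0013cbd201440802ceb5cd00), (nat_lit 0)⟩)) (BT.node (nat_lit 339) (BT.leaf ⟨(nat_lit 2), (nat_lit 1), (nat_lit 1), (nat_lit 0x11ec8474e019bf3c288841006399009), (nat_lit 0), (nat_lit 0)⟩) (BT.leaf ⟨(nat_lit 2), (nat_lit 1), (nat_lit 1), (nat_lit 0x806a3300420cbd042043c6a03f40b9), (nat_lit 0),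 (nat_lit 0)⟩))) (BT.node (nat_lit 342) (BT.node (nat_lit 341) (BT.leaf ⟨(nat_lit 2), (nat_lit 1), (nat_lit 1), (nat_lit 0x3eb909c51ab698aa9f57147772c54b), (nat_lit 0), (nat_lit 0)⟩) (BT.leaf ⟨(nat_lit 2), (nat_lit 1), (nat_lit 1), (nat_lit 0x84907ad141b511027fecc0c030299), (nat_lit 0), (nat_lit 0)⟩)) (BT.node (nat_lit 343) (BT.leaf ⟨(nat_lit 2), (nat_lit 1), (nat_lit 1), (nat_lit 0x14d065f85f13a8a375d2d1bc372c3fe), (nat_lit 0), (nat_lit 0)⟩) (BT.leaf ⟨(nat_lit 2), (nat_lit 1), (nat_lit 1), (nat_lit 0x11ec8420803002804257e9c0324b009), (nat_lit 0), (nat_lit 0)⟩)))) (BT.node (nat_lit 348) (BT.node (nat_lit 346) (BT.node (nat_lit 345) (BT.leaf ⟨(nat_lit 2), (nat_lit 1), (nat_lit 1), (nat_lit 0x806a31e35009011005f6008427a0b9), (nat_lit 0), (nat_lit 0)⟩) (BT.leaf ⟨(nat_lit 2), (nat_lit 1), (nat_lit 1), (nat_lit 0x714483f3eac1401801022084154ee4), (nat_lit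 0), (nat_lit 0)⟩)) (BT.node (nat_lit 347) (BT.leaf ⟨(nat_lit 2), (nat_lit 1), (nat_lit 1), (nat_lit 0x107842080300557868a0f8cd8e799af), (nat_lit 0), (nat_lit 0)⟩) (BT.leaf ⟨(nat_lit 1), (nat_lit 0), (nat_lit 0), (nat_lit 0x1d1f49f6666bc1a52b460f9d0ba25ff), (nat_lit 0x1d1f49f6666bc1a52b460f9d0ba25ff), (nat_lit 0)⟩))) (BT.node (nat_lit 350) (BT.node (nat_lit 349) (BT.leaf ⟨(nat_lit 1), (nat_lit 0), (nat_lit 0), (nat_lit 0x1755ea8fab4c8daa5b6c1aae28ea9d4), (nat_lit 0x1755ea8fab4c8daa5b6c1aae28ea9d4), (nat_lit 0)⟩) (BT.leaf ⟨(nat_lit 1), (nat_lit 0), (nat_lit 0), (nat_lit 0x1e4171c6e378f85f1be73c6fcd6615a), (nat_lit 0x1e4171c6e378f85f1be73c6fcd6615a), (nat_lit 0)⟩)) (BT.node (nat_lit 351) (BT.leaf ⟨(nat_lit 1), (nat_lit 0), (nat_lit 0), (nat_lit 0x9750149c0240289688220500bc7806), (nat_lit 0x9750149c0240289688220500bc7806), (nat_lit 0)⟩) (BT.leaf ⟨(nat_lit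 1), (nat_lit 0), (nat_lit 0), (nat_lit 0x4fc17cc76e19a7ed92b25ee58939af), (nat_lit 0x4fc17cc76e19a7ed92b25ee58939af), (nat_lit 0)⟩)))))) (BT.node (nat_lit 368) (BT.node (nat_lit 360) (BT.node (nat_lit 356) (BT.node (nat_lit 354) (BT.node (nat_lit 353) (BT.leaf ⟨(nat_lit 1), (nat_lit 0), (nat_lit 0), (nat_lit 0x12af7a6b4dc9b50e7674a2ebd0d96f0), (nat_lit 0x12af7a6b4dc9b50e7674a2ebd0d96f0), (nat_lit 0)⟩) (BT.leaf ⟨(nat_lit 1), (nat_lit 0), (nat_lit 0), (nat_lit 0x1caa6ceefaca2df9c73ea7560f8d7ba), (nat_lit 0x1caa6ceefaca2df9c73ea7560f8d7ba), (nat_lit 0)⟩)) (BT.node (nat_lit 355) (BT.leaf ⟨(nat_lit 3), (nat_lit 3), (nat_lit 3), (nat_lit 0x2dfbd7385a560f9573e39deeb0ab49), (nat_lit 0xf9d7195a7c5f8e371e3c16d8fbed17), (nat_lit 0)⟩) (BT.leaf ⟨(nat_lit 1), (nat_lit 0), (nat_lit 0), (nat_lit 0x189ecf26a93fa78bb09e93d23bbe8ed), (nat_lit 0x189ecf26a93fa78bb09e93d23bbe8ed),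 (nat_lit 0)⟩))) (BT.node (nat_lit 358) (BT.node (nat_lit 357) (BT.leaf ⟨(nat_lit 1), (nat_lit 0), (nat_lit 0), (nat_lit 0x7a2f42d23373a2d4751c17edff45e9), (nat_lit 0x7a2f42d23373a2d4751c17edff45e9), (nat_lit 0)⟩) (BT.leaf ⟨(nat_lit 1), (nat_lit 0), (nat_lit 0), (nat_lit 0xbe5d1842082100cac40480140a0433), (nat_lit 0xbe5d1842082100cac40480140a0433), (nat_lit 0)⟩)) (BT.node (nat_lit 359) (BT.leaf ⟨(nat_lit 1), (nat_lit 0), (nat_lit 0), (nat_lit 0x1bc37b6fc89bf6e8ba87fe8bd27a4ab), (nat_lit 0x1bc37b6fc89bf6e8ba87fe8bd27a4ab), (nat_lit 0)⟩) (BT.leaf ⟨(nat_lit 1), (nat_lit 0), (nat_lit 0), (nat_lit 0x1eeb0a87c67473a9d73be7560f1d72a), (nat_lit 0x1eeb0a87c67473a9d73be7560f1d72a), (nat_lit 0)⟩)))) (BT.node (nat_lit 364) (BT.node (nat_lit 362) (BT.node (nat_lit 361) (BT.leaf ⟨(nat_lit 1), (nat_lit 0), (nat_lit 0), (nat_lit 0x1b7b022577ce0814717c30080125d), (nat_lit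 0x1b7b022577ce0814717c30080125d), (nat_lit 0)⟩) (BT.leaf ⟨(nat_lit 1), (nat_lit 0), (nat_lit 0), (nat_lit 0x3e96655c25a4fc95b2f25c4bcb7e69), (nat_lit 0x3e96655c25a4fc95b2f25c4bcb7e69), (nat_lit 0)⟩)) (BT.node (nat_lit 363) (BT.leaf ⟨(nat_lit 1), (nat_lit 0), (nat_lit 0), (nat_lit 0x9aa7a6f5fb72af3a7f450f45f90ed4), (nat_lit 0x9aa7a6f5fb72af3a7f450f45f90ed4), (nat_lit 0)⟩) (BT.leaf ⟨(nat_lit 1), (nat_lit 0), (nat_lit 0), (nat_lit 0x1801eab2fce678d04210a7417ea3204), (nat_lit 0x1801eab2fce678d04210a7417ea3204), (nat_lit 0)⟩))) (BT.node (nat_lit 366) (BT.node (nat_lit 365) (BT.leaf ⟨(nat_lit 1), (nat_lit 0), (nat_lit 0), (nat_lit 0xe5817e69a5f31d9792e25a4fc93d5c), (nat_lit 0xe5817e69a5f31d9792e25a4fc93d5c), (nat_lit 0)⟩) (BT.leaf ⟨(nat_lit 3), (nat_lit 3), (nat_lit 2), (nat_lit 0x6031d3b9d1ac03fa1042013a171e46), (nat_lit 0x15978d1ceddfcea9d0b7e7d60f1d33a),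 (nat_lit 0)⟩)) (BT.node (nat_lit 367) (BT.leaf ⟨(nat_lit 3), (nat_lit 2), (nat_lit 3), (nat_lit 0x15978d1ceddfcea9d0b7e7d60f1d33a), (nat_lit 0x6031d3b9d1ac03fa1042013a171e46), (nat_lit 0)⟩) (BT.leaf ⟨(nat_lit 1), (nat_lit 0), (nat_lit 0), (nat_lit 0x1e43bea367cf45df09bc8ddf8d7195a), (nat_lit 0x1e43bea367cf45df09bc8ddf8d7195a), (nat_lit 0)⟩))))) (BT.node (nat_lit 376) (BT.node (nat_lit 372) (BT.node (nat_lit 370) (BT.node (nat_lit 369) (BT.leaf ⟨(nat_lit 1), (nat_lit 0), (nat_lit 0), (nat_lit 0x15972fd194fe17d2f9bc4ba87d27ec1), (nat_lit 0x15972fd194fe17d2f9bc4ba87d27ec1), (nat_lit 0)⟩) (BT.leaf ⟨(nat_lit 1), (nat_lit 0), (nat_lit 0), (nat_lit 0x4954830f3a441f9a1027e71527df8), (nat_lit 0x4954830f3a441f9a1027e71527df8), (nat_lit 0)⟩)) (BT.node (nat_lit 371) (BT.leaf ⟨(nat_lit 2), (nat_lit 2), (nat_lit 2), (nat_lit 0x1bd12fbe3f1a0239d01008001001001), (nat_lit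 0), (nat_lit 0)⟩) (BT.leaf ⟨(nat_lit 2), (nat_lit 2), (nat_lit 2), (nat_lit 0x10f4cddc8fd0b4af05ec98f7e157751), (nat_lit 0), (nat_lit 0)⟩))) (BT.node (nat_lit 374) (BT.node (nat_lit 373) (BT.leaf ⟨(nat_lit 1), (nat_lit 0), (nat_lit 0), (nat_lit 0x6be79fc6f7455441088100600480a0), (nat_lit 0x6be79fc6f7455441088100600480a0), (nat_lit 0)⟩) (BT.leaf ⟨(nat_lit 1), (nat_lit 0), (nat_lit 0), (nat_lit 0xa648782004208bd6c20da80c38d453), (nat_lit 0xa648782004208bd6c20da80c38d453), (nat_lit 0)⟩)) (BT.node (nat_lit 375) (BT.leaf ⟨(nat_lit 3), (nat_lit 3), (nat_lit 3), (nat_lit 0x107840980100b7d1c88812020842280), (nat_lit 0x1b937b721a2fad37e44d4d5fd27a1ce), (nat_lit 0)⟩) (BT.leaf ⟨(nat_lit 1), (nat_lit 0), (nat_lit 0), (nat_lit 0x1bf27a6e439dbc255fdb5e9fd18e6d4), (nat_lit 0x1bf27a6e439dbc255fdb5e9fd18e6d4), (nat_lit 0)⟩)))) (BT.node (nat_lit 380) (BT.node (nat_lit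 378) (BT.node (nat_lit 377) (BT.leaf ⟨(nat_lit 1), (nat_lit 0), (nat_lit 0), (nat_lit 0xa6414766049b511027f04028030453), (nat_lit 0xa6414766049b511027f04028030453), (nat_lit 0)⟩) (BT.leaf ⟨(nat_lit 2), (nat_lit 1), (nat_lit 1), (nat_lit 0x4fd27810060717ce910eac06154c8e), (nat_lit 0), (nat_lit 0)⟩)) (BT.node (nat_lit 379) (BT.leaf ⟨(nat_lit 2), (nat_lit 1), (nat_lit 1), (nat_lit 0x2096f8a0e1b078447c6300a0279e74), (nat_lit 0), (nat_lit 0)⟩) (BT.leaf ⟨(nat_lit 1), (nat_lit 0), (nat_lit 0), (nat_lit 0x1fd37b6f039ca1e26efc5e9f6d8e26a), (nat_lit 0x1fd37b6f039ca1e26efc5e9f6d8e26a), (nat_lit 0)⟩))) (BT.node (nat_lit 382) (BT.node (nat_lit 381) (BT.leaf ⟨(nat_lit 1), (nat_lit 0), (nat_lit 0), (nat_lit 0x80500208420cbcf1a8060017e7a600), (nat_lit 0x80500208420cbcf1a8060017e7a600), (nat_lit 0)⟩) (BT.leaf ⟨(nat_lit 1), (nat_lit 0), (nat_lit 0), (nat_lit 0xee4178d5a01a3481101600440a0573),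 (nat_lit 0xee4178d5a01a3481101600440a0573), (nat_lit 0)⟩)) (BT.node (nat_lit 383) (BT.leaf ⟨(nat_lit 3), (nat_lit 3), (nat_lit 2), (nat_lit 0x4aef62bd208810030440280323b824), (nat_lit 0x1b527a1b2fe9134bc9cee43f6f7826a), (nat_lit 0)⟩) (BT.leaf ⟨(nat_lit 3), (nat_lit 2), (nat_lit 3), (nat_lit 0x1b527a1b2fe9134bc9cee43f6f7826a), (nat_lit 0x4aef62bd208810030440280323b824), (nat_lit 0)⟩)))))))
noncomputable def cP320 : BT Pf := (BT.node (nat_lit 352) (BT.node (nat_lit 336) (BT.node (nat_lit 328) (BT.node (nat_lit 324) (BT.node (nat_lit 322) (BT.node (nat_lit 321) (BT.leaf (.nmul (nat_lit 319) [(nat_lit 19)])) (BT.leaf (.nmul (nat_lit 97) [(nat_lit 19)]))) (BT.node (nat_lit 323) (BT.leaf (.cmp (nat_lit 310) ⟨(nat_lit 310), [(nat_lit 313), (nat_lit 318)], [(nat_lit 321), (nat_lit 320)]⟩)) (BT.leaf (.inv (nat_lit 310))))) (BT.node (nat_lit 326) (BT.node (nat_lit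 325) (BT.leaf (.emul [(nat_lit 86), (nat_lit 268)])) (BT.leaf (.emul [(nat_lit 46), (nat_lit 324)]))) (BT.node (nat_lit 327) (BT.leaf (.emul [(nat_lit 86), (nat_lit 325)])) (BT.leaf (.emul [(nat_lit 86), (nat_lit 326)]))))) (BT.node (nat_lit 332) (BT.node (nat_lit 330) (BT.node (nat_lit 329) (BT.leaf (.nmul (nat_lit 288) [(nat_lit 19)])) (BT.leaf (.cmp (nat_lit 310) ⟨(nat_lit 310), [(nat_lit 327), (nat_lit 149)], [(nat_lit 128), (nat_lit 328)]⟩))) (BT.node (nat_lit 331) (BT.leaf (.nmul (nat_lit 190) [(nat_lit 43)])) (BT.leaf (.emul [(nat_lit 47), (nat_lit 242)])))) (BT.node (nat_lit 334) (BT.node (nat_lit 333) (BT.leaf (.emul [(nat_lit 86), (nat_lit 138)])) (BT.leaf (.nmul (nat_lit 169) [(nat_lit 0)]))) (BT.node (nat_lit 335) (BT.leaf (.nmul (nat_lit 333) [(nat_lit 1)])) (BT.leaf (.nmul (nat_lit 165) [(nat_lit 19)])))))) (BT.node (nat_lit 344) (BT.node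 (nat_lit 340) (BT.node (nat_lit 338) (BT.node (nat_lit 337) (BT.leaf (.nmul (nat_lit 335) [(nat_lit 43)])) (BT.leaf (.rel (nat_lit 323) (nat_lit 0) [(nat_lit 215), (nat_lit 330)] [⟨(nat_lit 310), [(nat_lit 331), (nat_lit 332)], [(nat_lit 336), (nat_lit 334)]⟩]))) (BT.node (nat_lit 339) (BT.leaf (.emul [(nat_lit 86), (nat_lit 301)])) (BT.leaf (.emul [(nat_lit 86), (nat_lit 338)])))) (BT.node (nat_lit 342) (BT.node (nat_lit 341) (BT.leaf (.emul [(nat_lit 47), (nat_lit 339)])) (BT.leaf (.emul [(nat_lit 73), (nat_lit 183)]))) (BT.node (nat_lit 343) (BT.leaf (.emul [(nat_lit 86), (nat_lit 341)])) (BT.leaf (.emul [(nat_lit 86), (nat_lit 342)]))))) (BT.node (nat_lit 348) (BT.node (nat_lit 346) (BT.node (nat_lit 345) (BT.leaf (.emul [(nat_lit 86), (nat_lit 343)])) (BT.leaf (.emul [(nat_lit 73), (nat_lit 344)]))) (BT.node (nat_lit 347) (BT.leaf (.emul [(nat_lit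 86), (nat_lit 345)])) (BT.leaf (.nmul (nat_lit 172) [(nat_lit 1)])))) (BT.node (nat_lit 350) (BT.node (nat_lit 349) (BT.leaf (.nmul (nat_lit 150) [(nat_lit 19)])) (BT.leaf (.nmul (nat_lit 348) [(nat_lit 19)]))) (BT.node (nat_lit 351) (BT.leaf (.nmul (nat_lit 349) [(nat_lit 19)])) (BT.leaf (.nmul (nat_lit 350) [(nat_lit 43)]))))))) (BT.node (nat_lit 368) (BT.node (nat_lit 360) (BT.node (nat_lit 356) (BT.node (nat_lit 354) (BT.node (nat_lit 353) (BT.leaf (.nmul (nat_lit 351) [(nat_lit 43)])) (BT.leaf (.nmul (nat_lit 352) [(nat_lit 43)]))) (BT.node (nat_lit 355) (BT.leaf (.rel (nat_lit 323) (nat_lit 0) [(nat_lit 193), (nat_lit 222)] [⟨(nat_lit 310), [(nat_lit 340), (nat_lit 346)], [(nat_lit 353), (nat_lit 347)]⟩])) (BT.leaf (.nmul (nat_lit 348) [(nat_lit 43)])))) (BT.node (nat_lit 358) (BT.node (nat_lit 357) (BT.leaf (.nmul (nat_lit 355) [(nat_lit 43)]))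 (BT.leaf (.nmul (nat_lit 356) [(nat_lit 43)]))) (BT.node (nat_lit 359) (BT.leaf (.nmul (nat_lit 357) [(nat_lit 19)])) (BT.leaf (.nmul (nat_lit 358) [(nat_lit 43)]))))) (BT.node (nat_lit 364) (BT.node (nat_lit 362) (BT.node (nat_lit 361) (BT.leaf (.nmul (nat_lit 359) [(nat_lit 43)])) (BT.leaf (.nmul (nat_lit 269) [(nat_lit 1)]))) (BT.node (nat_lit 363) (BT.leaf (.nmul (nat_lit 361) [(nat_lit 43)])) (BT.leaf (.nmul (nat_lit 362) [(nat_lit 1)])))) (BT.node (nat_lit 366) (BT.node (nat_lit 365) (BT.leaf (.nmul (nat_lit 321) [(nat_lit 43)])) (BT.leaf (.rel (nat_lit 113) (nat_lit 0) [(nat_lit 360), (nat_lit 308)] [⟨(nat_lit 310), [(nat_lit 325), (nat_lit 332)], [(nat_lit 364), (nat_lit 363)]⟩]))) (BT.node (nat_lit 367) (BT.leaf (.inv (nat_lit 365))) (BT.leaf (.nmul (nat_lit 202) [(nat_lit 19)])))))) (BT.node (nat_lit 376) (BT.node (nat_lit 372) (BT.node (nat_lit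 370) (BT.node (nat_lit 369) (BT.leaf (.nmul (nat_lit 367) [(nat_lit 1)])) (BT.leaf (.nmul (nat_lit 368) [(nat_lit 43)]))) (BT.node (nat_lit 371) (BT.leaf (.emul [(nat_lit 210), (nat_lit 210)])) (BT.leaf (.emul [(nat_lit 112), (nat_lit 370)])))) (BT.node (nat_lit 374) (BT.node (nat_lit 373) (BT.leaf (.nmul (nat_lit 320) [(nat_lit 0)])) (BT.leaf (.nmul (nat_lit 153) [(nat_lit 43)]))) (BT.node (nat_lit 375) (BT.leaf (.rel (nat_lit 365) (nat_lit 0) [(nat_lit 97), (nat_lit 369)] [⟨(nat_lit 366), [(nat_lit 238), (nat_lit 371)], [(nat_lit 373), (nat_lit 372)]⟩])) (BT.leaf (.nmul (nat_lit 328) [(nat_lit 19)]))))) (BT.node (nat_lit 380) (BT.node (nat_lit 378) (BT.node (nat_lit 377) (BT.leaf (.nmul (nat_lit 254) [(nat_lit 43)])) (BT.leaf (.emul [(nat_lit 86), (nat_lit 148)]))) (BT.node (nat_lit 379) (BT.leaf (.emul [(nat_lit 86), (nat_lit 377)])) (BT.leaf (.nmul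 (nat_lit 328) [(nat_lit 0)])))) (BT.node (nat_lit 382) (BT.node (nat_lit 381) (BT.leaf (.nmul (nat_lit 349) [(nat_lit 43)])) (BT.leaf (.nmul (nat_lit 380) [(nat_lit 19)]))) (BT.node (nat_lit 383) (BT.leaf (.rel (nat_lit 113) (nat_lit 0) [(nat_lit 376), (nat_lit 375)] [⟨(nat_lit 310), [(nat_lit 340), (nat_lit 378)], [(nat_lit 381), (nat_lit 379)]⟩])) (BT.leaf (.inv (nat_lit 382)))))))))
noncomputable def cF384 : BT Fc := (BT.node (nat_lit 416) (BT.node (nat_lit 400) (BT.node (nat_lit 392) (BT.node (nat_lit 388) (BT.node (nat_lit 386) (BT.node (nat_lit 385) (BT.leaf ⟨(nat_lit 1), (nat_lit 0), (nat_lit 0), (nat_lit 0x66c39c7b66ad2619da6ab91cf653fe), (nat_lit 0x66c39c7b66ad2619da6ab91cf653fe), (nat_lit 0)⟩) (BT.leaf ⟨(nat_lit 1), (nat_lit 0), (nat_lit 0), (nat_lit 0x160d54ab9c4fd4626a99172ac76515a), (nat_lit 0x160d54ab9c4fd4626a99172ac76515a), (nat_lit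 0)⟩)) (BT.node (nat_lit 387) (BT.leaf ⟨(nat_lit 1), (nat_lit 0), (nat_lit 0), (nat_lit 0x127ecf17613cc4f4f49aa97079d26c1), (nat_lit 0x127ecf17613cc4f4f49aa97079d26c1), (nat_lit 0)⟩) (BT.leaf ⟨(nat_lit 1), (nat_lit 0), (nat_lit 0), (nat_lit 0x17deaa405008829d210411803f4204), (nat_lit 0x17deaa405008829d210411803f4204), (nat_lit 0)⟩))) (BT.node (nat_lit 390) (BT.node (nat_lit 389) (BT.leaf ⟨(nat_lit 3), (nat_lit 3), (nat_lit 3), (nat_lit 0x28087a7f8400a010c53da80825f024), (nat_lit 0x131c879af25d4bcb7acc257f6c7d396), (nat_lit 0)⟩) (BT.leaf ⟨(nat_lit 1), (nat_lit 0), (nat_lit 0), (nat_lit 0x131f0ab70cd2e58d792f257a889392d), (nat_lit 0x131f0ab70cd2e58d792f257a889392d), (nat_lit 0)⟩)) (BT.node (nat_lit 391) (BT.leaf ⟨(nat_lit 1), (nat_lit 0), (nat_lit 0), (nat_lit 0xffa3979050e3b63d99b8a71c679c73), (nat_lit 0xffa3979050e3b63d99b8a71c679c73), (nat_lit 0)⟩)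 (BT.leaf ⟨(nat_lit 1), (nat_lit 0), (nat_lit 0), (nat_lit 0x6bc17fdb256cbe63b70d455709393f), (nat_lit 0x6bc17fdb256cbe63b70d455709393f), (nat_lit 0)⟩)))) (BT.node (nat_lit 396) (BT.node (nat_lit 394) (BT.node (nat_lit 393) (BT.leaf ⟨(nat_lit 1), (nat_lit 0), (nat_lit 0), (nat_lit 0x1bc37a1cece9fd35a6e4df9bd4d94ab), (nat_lit 0x1bc37a1cece9fd35a6e4df9bd4d94ab), (nat_lit 0)⟩) (BT.leaf ⟨(nat_lit 1), (nat_lit 0), (nat_lit 0), (nat_lit 0x300b7da80829035a44032abe430050), (nat_lit 0x300b7da80829035a44032abe430050), (nat_lit 0)⟩)) (BT.node (nat_lit 395) (BT.leaf ⟨(nat_lit 1), (nat_lit 0), (nat_lit 0), (nat_lit 0x74790995b4c35777b6ca977572c38a), (nat_lit 0x74790995b4c35777b6ca977572c38a), (nat_lit 0)⟩) (BT.leaf ⟨(nat_lit 1), (nat_lit 0), (nat_lit 0), (nat_lit 0x1b50d96f04d5b937aefc95745cbceb4), (nat_lit 0x1b50d96f04d5b937aefc95745cbceb4), (nat_lit 0)⟩))) (BT.node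 (nat_lit 398) (BT.node (nat_lit 397) (BT.leaf ⟨(nat_lit 1), (nat_lit 0), (nat_lit 0), (nat_lit 0x8127a220c00c0197a803c617d010b9), (nat_lit 0x8127a220c00c0197a803c617d010b9), (nat_lit 0)⟩) (BT.leaf ⟨(nat_lit 3), (nat_lit 3), (nat_lit 3), (nat_lit 0x1cfb992d2dded259d583aca2df1d53a), (nat_lit 0x2239900841006158c08013e14841dd), (nat_lit 0)⟩)) (BT.node (nat_lit 399) (BT.leaf ⟨(nat_lit 1), (nat_lit 0), (nat_lit 0), (nat_lit 0x8052f041e8e084049d425dbd639003), (nat_lit 0x8052f041e8e084049d425dbd639003), (nat_lit 0)⟩) (BT.leaf ⟨(nat_lit 1), (nat_lit 0), (nat_lit 0), (nat_lit 0x6bc4267483c554400a05003011c980), (nat_lit 0x6bc4267483c554400a05003011c980), (nat_lit 0)⟩))))) (BT.node (nat_lit 408) (BT.node (nat_lit 404) (BT.node (nat_lit 402) (BT.node (nat_lit 401) (BT.leaf ⟨(nat_lit 1), (nat_lit 0), (nat_lit 0), (nat_lit 0x1bc04273ebd9269f3f8920874602004), (nat_lit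 0x1bc04273ebd9269f3f8920874602004), (nat_lit 0)⟩) (BT.leaf ⟨(nat_lit 1), (nat_lit 0), (nat_lit 0), (nat_lit 0x87d2f7b7acb466e91bc4ba9fd27a57), (nat_lit 0x87d2f7b7acb466e91bc4ba9fd27a57), (nat_lit 0)⟩)) (BT.node (nat_lit 403) (BT.leaf ⟨(nat_lit 1), (nat_lit 0), (nat_lit 0), (nat_lit 0x745ea9dd38b52d1b15532a750eab8a), (nat_lit 0x745ea9dd38b52d1b15532a750eab8a), (nat_lit 0)⟩) (BT.leaf ⟨(nat_lit 1), (nat_lit 0), (nat_lit 0), (nat_lit 0x107acf3d8d825db4f49aa963b7bec8e), (nat_lit 0x107acf3d8d825db4f49aa963b7bec8e), (nat_lit 0)⟩))) (BT.node (nat_lit 406) (BT.node (nat_lit 405) (BT.leaf ⟨(nat_lit 1), (nat_lit 0), (nat_lit 0), (nat_lit 0x17b2f45c8bf16a2745682ed7a7f47b7), (nat_lit 0x17b2f45c8bf16a2745682ed7a7f47b7), (nat_lit 0)⟩) (BT.leaf ⟨(nat_lit 2), (nat_lit 3), (nat_lit 3), (nat_lit 0x1e423bda68f79ce39d5c50f0ce390ed), (nat_lit 0), (nat_lit 0)⟩)) (BT.node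 (nat_lit 407) (BT.leaf ⟨(nat_lit 1), (nat_lit 0), (nat_lit 0), (nat_lit 0xe36c68b7f3beb7e6f0dd45e272c78c), (nat_lit 0xe36c68b7f3beb7e6f0dd45e272c78c), (nat_lit 0)⟩) (BT.leaf ⟨(nat_lit 3), (nat_lit 3), (nat_lit 3), (nat_lit 0x6cb7b6fc4d5ad37aa8739cc717a7f4), (nat_lit 0x96d27a1f4fe95fdbb8a6e09782f9bc), (nat_lit 0)⟩)))) (BT.node (nat_lit 412) (BT.node (nat_lit 410) (BT.node (nat_lit 409) (BT.leaf ⟨(nat_lit 2), (nat_lit 1), (nat_lit 1), (nat_lit 0xd5c0094024ba4fef5e77e3200801), (nat_lit 0), (nat_lit 0)⟩) (BT.leaf ⟨(nat_lit 2), (nat_lit 1), (nat_lit 1), (nat_lit 0xbe7650b92b4aee26b96ea2ac75ca99), (nat_lit 0), (nat_lit 0)⟩)) (BT.node (nat_lit 411) (BT.leaf ⟨(nat_lit 2), (nat_lit 1), (nat_lit 1), (nat_lit 0x169a397908e70ceae4716939cc39bfe), (nat_lit 0), (nat_lit 0)⟩) (BT.leaf ⟨(nat_lit 2), (nat_lit 1), (nat_lit 1), (nat_lit 0x127d5c00104275001841bd2f8a00809),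 (nat_lit 0), (nat_lit 0)⟩))) (BT.node (nat_lit 414) (BT.node (nat_lit 413) (BT.leaf ⟨(nat_lit 2), (nat_lit 1), (nat_lit 1), (nat_lit 0x145df5be77c6569f9ca56c71b966236), (nat_lit 0), (nat_lit 0)⟩) (BT.leaf ⟨(nat_lit 2), (nat_lit 1), (nat_lit 1), (nat_lit 0x569f5c6e37945cf1b6394af9d663e2), (nat_lit 0), (nat_lit 0)⟩)) (BT.node (nat_lit 415) (BT.leaf ⟨(nat_lit 2), (nat_lit 1), (nat_lit 1), (nat_lit 0x11cd000084be4bdf1804200040012b9), (nat_lit 0), (nat_lit 0)⟩) (BT.leaf ⟨(nat_lit 2), (nat_lit 1), (nat_lit 1), (nat_lit 0x85e1a204fe08810030ecc28030453), (nat_lit 0), (nat_lit 0)⟩)))))) (BT.node (nat_lit 432) (BT.node (nat_lit 424) (BT.node (nat_lit 420) (BT.node (nat_lit 418) (BT.node (nat_lit 417) (BT.leaf ⟨(nat_lit 1), (nat_lit 0), (nat_lit 0), (nat_lit 0x11000405724039d47325f0000125f), (nat_lit 0x11000405724039d47325f0000125f), (nat_lit 0)⟩) (BT.leaf ⟨(nat_lit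 2), (nat_lit 2), (nat_lit 2), (nat_lit 0x1400c46391c7160801212004554814), (nat_lit 0), (nat_lit 0)⟩)) (BT.node (nat_lit 419) (BT.leaf ⟨(nat_lit 2), (nat_lit 2), (nat_lit 2), (nat_lit 0x408216f6044977c7abb4057a801744), (nat_lit 0), (nat_lit 0)⟩) (BT.leaf ⟨(nat_lit 2), (nat_lit 2), (nat_lit 2), (nat_lit 0x75c41738dec4b4212bb93801801003), (nat_lit 0), (nat_lit 0)⟩))) (BT.node (nat_lit 422) (BT.node (nat_lit 421) (BT.leaf ⟨(nat_lit 1), (nat_lit 0), (nat_lit 0), (nat_lit 0x17b00a49a3a24ac06789209bc202742), (nat_lit 0x17b00a49a3a24ac06789209bc202742), (nat_lit 0)⟩) (BT.leaf ⟨(nat_lit 1), (nat_lit 0), (nat_lit 0), (nat_lit 0x1eea400806c7c34aac1e500302798a0), (nat_lit 0x1eea400806c7c34aac1e500302798a0), (nat_lit 0)⟩)) (BT.node (nat_lit 423) (BT.leaf ⟨(nat_lit 1), (nat_lit 0), (nat_lit 0), (nat_lit 0x17b132da8ad1721695f8c177a7f47b7), (nat_lit 0x17b132da8ad1721695f8c177a7f47b7),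 (nat_lit 0)⟩) (BT.leaf ⟨(nat_lit 1), (nat_lit 0), (nat_lit 0), (nat_lit 0x30024195089f342121f4810cca0050), (nat_lit 0x30024195089f342121f4810cca0050), (nat_lit 0)⟩)))) (BT.node (nat_lit 428) (BT.node (nat_lit 426) (BT.node (nat_lit 425) (BT.leaf ⟨(nat_lit 1), (nat_lit 0), (nat_lit 0), (nat_lit 0x74749d4b2aa7747d1c51aa750eab8a), (nat_lit 0x74749d4b2aa7747d1c51aa750eab8a), (nat_lit 0)⟩) (BT.leaf ⟨(nat_lit 3), (nat_lit 3), (nat_lit 3), (nat_lit 0x4223dab13bb783c280a01325824208), (nat_lit 0xd7eb2a1f4bb2ad2f85f4bcdc316519), (nat_lit 0)⟩)) (BT.node (nat_lit 427) (BT.leaf ⟨(nat_lit 1), (nat_lit 0), (nat_lit 0), (nat_lit 0x13a171d73d1a6028030077391acf102), (nat_lit 0x13a171d73d1a6028030077391acf102), (nat_lit 0)⟩) (BT.leaf ⟨(nat_lit 1), (nat_lit 0), (nat_lit 0), (nat_lit 0x189dd249ed8352d89c9ad3d07a4b0ed), (nat_lit 0x189dd249ed8352d89c9ad3d07a4b0ed), (nat_lit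 0)⟩))) (BT.node (nat_lit 430) (BT.node (nat_lit 429) (BT.leaf ⟨(nat_lit 1), (nat_lit 0), (nat_lit 0), (nat_lit 0x12f412f020f8e4f080200004eaa5f), (nat_lit 0x12f412f020f8e4f080200004eaa5f), (nat_lit 0)⟩) (BT.leaf ⟨(nat_lit 1), (nat_lit 0), (nat_lit 0), (nat_lit 0x6bf0aea2a5e4b49792e65ee596613f), (nat_lit 0x6bf0aea2a5e4b49792e65ee596613f), (nat_lit 0)⟩)) (BT.node (nat_lit 431) (BT.leaf ⟨(nat_lit 2), (nat_lit 2), (nat_lit 2), (nat_lit 0x1ca89fc637e7e752781012005154811), (nat_lit 0), (nat_lit 0)⟩) (BT.leaf ⟨(nat_lit 1), (nat_lit 0), (nat_lit 0), (nat_lit 0x923b806089bc0e8f3ee840300a104), (nat_lit 0x923b806089bc0e8f3ee840300a104), (nat_lit 0)⟩))))) (BT.node (nat_lit 440) (BT.node (nat_lit 436) (BT.node (nat_lit 434) (BT.node (nat_lit 433) (BT.leaf ⟨(nat_lit 1), (nat_lit 0), (nat_lit 0), (nat_lit 0xe287335f95687d3ffb7d8297f2fa5d), (nat_lit 0xe287335f95687d3ffb7d8297f2fa5d),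 (nat_lit 0)⟩) (BT.leaf ⟨(nat_lit 1), (nat_lit 0), (nat_lit 0), (nat_lit 0x7a21e976ad182e63df85a57b1575e9), (nat_lit 0x7a21e976ad182e63df85a57b1575e9), (nat_lit 0)⟩)) (BT.node (nat_lit 435) (BT.leaf ⟨(nat_lit 1), (nat_lit 0), (nat_lit 0), (nat_lit 0xbe66f5a80889035a21f08430030433), (nat_lit 0xbe66f5a80889035a21f08430030433), (nat_lit 0)⟩) (BT.leaf ⟨(nat_lit 3), (nat_lit 3), (nat_lit 2), (nat_lit 0x8e679e746c6220602df141ee8409af), (nat_lit 0x481e1a7f3ea08810c530600825f6d4), (nat_lit 0)⟩))) (BT.node (nat_lit 438) (BT.node (nat_lit 437) (BT.leaf ⟨(nat_lit 3), (nat_lit 2), (nat_lit 3), (nat_lit 0x481e1a7f3ea08810c530600825f6d4), (nat_lit 0x8e679e746c6220602df141ee8409af), (nat_lit 0)⟩) (BT.leaf ⟨(nat_lit 2), (nat_lit 3), (nat_lit 3), (nat_lit 0x17a10010093d1cc021d500208001008), (nat_lit 0), (nat_lit 0)⟩)) (BT.node (nat_lit 439) (BT.leaf ⟨(nat_lit 1), (nat_lit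 0), (nat_lit 0), (nat_lit 0x7d487824b91080180220420825f6d4), (nat_lit 0x7d487824b91080180220420825f6d4), (nat_lit 0)⟩) (BT.leaf ⟨(nat_lit 1), (nat_lit 0), (nat_lit 0), (nat_lit 0x7d5eab8adde716ea8d52aa77749995), (nat_lit 0x7d5eab8adde716ea8d52aa77749995), (nat_lit 0)⟩)))) (BT.node (nat_lit 444) (BT.node (nat_lit 442) (BT.node (nat_lit 441) (BT.leaf ⟨(nat_lit 1), (nat_lit 0), (nat_lit 0), (nat_lit 0x1d0b49ca5e8f91b83756e9df18d95ff), (nat_lit 0x1d0b49ca5e8f91b83756e9df18d95ff), (nat_lit 0)⟩) (BT.leaf ⟨(nat_lit 1), (nat_lit 0), (nat_lit 0), (nat_lit 0x7a2f560bbf05daf05689d17b1575e9), (nat_lit 0x7a2f560bbf05daf05689d17b1575e9), (nat_lit 0)⟩)) (BT.node (nat_lit 443) (BT.leaf ⟨(nat_lit 3), (nat_lit 3), (nat_lit 3), (nat_lit 0x11ee3bc6350ed27c8453ae79ce79c73), (nat_lit 0x10037a7467c6004402b90084bc0173a), (nat_lit 0)⟩) (BT.leaf ⟨(nat_lit 2), (nat_lit 3), (nat_lit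 3), (nat_lit 0x2e50032f5008812005fd3c8127a201), (nat_lit 0), (nat_lit 0)⟩))) (BT.node (nat_lit 446) (BT.node (nat_lit 445) (BT.leaf ⟨(nat_lit 2), (nat_lit 3), (nat_lit 3), (nat_lit 0x15190032fd3c81339d8d5008827a208), (nat_lit 0), (nat_lit 0)⟩) (BT.leaf ⟨(nat_lit 1), (nat_lit 0), (nat_lit 0), (nat_lit 0x9777b1028e2108112bb01400c01006), (nat_lit 0x9777b1028e2108112bb01400c01006), (nat_lit 0)⟩)) (BT.node (nat_lit 447) (BT.leaf ⟨(nat_lit 1), (nat_lit 0), (nat_lit 0), (nat_lit 0x4ff0a92f25c3eb5152fcd3571661af), (nat_lit 0x4ff0a92f25c3eb5152fcd3571661af), (nat_lit 0)⟩) (BT.leaf ⟨(nat_lit 1), (nat_lit 0), (nat_lit 0), (nat_lit 0xe3532ea2a691b989bfef5b74bc7f8c), (nat_lit 0xe3532ea2a691b989bfef5b74bc7f8c), (nat_lit 0)⟩)))))))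
noncomputable def cP384 : BT Pf := (BT.node (nat_lit 416) (BT.node (nat_lit 400) (BT.node (nat_lit 392) (BT.node (nat_lit 388) (BT.node (nat_lit 386) (BT.node (nat_lit 385) (BT.leaf (.nmul (nat_lit 334) [(nat_lit 1)])) (BT.leaf (.nmul (nat_lit 384) [(nat_lit 0)]))) (BT.node (nat_lit 387) (BT.leaf (.nmul (nat_lit 385) [(nat_lit 1)])) (BT.leaf (.nmul (nat_lit 209) [(nat_lit 43)])))) (BT.node (nat_lit 390) (BT.node (nat_lit 389) (BT.leaf (.rel (nat_lit 365) (nat_lit 5) [(nat_lit 273), (nat_lit 172)] [⟨(nat_lit 286), [], [(nat_lit 376), (nat_lit 109)]⟩, ⟨(nat_lit 366), [], [(nat_lit 387), (nat_lit 386)]⟩])) (BT.leaf (.nmul (nat_lit 307) [(nat_lit 43)]))) (BT.node (nat_lit 391) (BT.leaf (.nmul (nat_lit 389) [(nat_lit 1)])) (BT.leaf (.nmul (nat_lit 174) [(nat_lit 43)]))))) (BT.node (nat_lit 396) (BT.node (nat_lit 394) (BT.node (nat_lit 393) (BT.leaf (.nmul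 (nat_lit 391) [(nat_lit 43)])) (BT.leaf (.nmul (nat_lit 392) [(nat_lit 19)]))) (BT.node (nat_lit 395) (BT.leaf (.nmul (nat_lit 393) [(nat_lit 43)])) (BT.leaf (.nmul (nat_lit 139) [(nat_lit 0)])))) (BT.node (nat_lit 398) (BT.node (nat_lit 397) (BT.leaf (.nmul (nat_lit 395) [(nat_lit 1)])) (BT.leaf (.rel (nat_lit 354) (nat_lit 0) [(nat_lit 394), (nat_lit 390)] [⟨(nat_lit 354), [], [(nat_lit 165), (nat_lit 396)]⟩]))) (BT.node (nat_lit 399) (BT.leaf (.nmul (nat_lit 124) [(nat_lit 1)])) (BT.leaf (.nmul (nat_lit 398) [(nat_lit 0)])))))) (BT.node (nat_lit 408) (BT.node (nat_lit 404) (BT.node (nat_lit 402) (BT.node (nat_lit 401) (BT.leaf (.nmul (nat_lit 399) [(nat_lit 43)])) (BT.leaf (.nmul (nat_lit 400) [(nat_lit 0)]))) (BT.node (nat_lit 403) (BT.leaf (.nmul (nat_lit 281) [(nat_lit 19)])) (BT.leaf (.nmul (nat_lit 402) [(nat_lit 43)])))) (BT.node (nat_lit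 406) (BT.node (nat_lit 405) (BT.leaf (.nmul (nat_lit 403) [(nat_lit 43)])) (BT.leaf (.emul [(nat_lit 329), (nat_lit 329)]))) (BT.node (nat_lit 407) (BT.leaf (.nmul (nat_lit 351) [(nat_lit 19)])) (BT.leaf (.rel (nat_lit 337) (nat_lit 1) [(nat_lit 404), (nat_lit 401)] [⟨(nat_lit 388), [(nat_lit 405)], [(nat_lit 406), (nat_lit 395)]⟩]))))) (BT.node (nat_lit 412) (BT.node (nat_lit 410) (BT.node (nat_lit 409) (BT.leaf (.emul [(nat_lit 46), (nat_lit 179)])) (BT.leaf (.emul [(nat_lit 86), (nat_lit 408)]))) (BT.node (nat_lit 411) (BT.leaf (.emul [(nat_lit 86), (nat_lit 409)])) (BT.leaf (.emul [(nat_lit 86), (nat_lit 410)])))) (BT.node (nat_lit 414) (BT.node (nat_lit 413) (BT.leaf (.emul [(nat_lit 86), (nat_lit 315)])) (BT.leaf (.emul [(nat_lit 73), (nat_lit 412)]))) (BT.node (nat_lit 415) (BT.leaf (.emul [(nat_lit 86), (nat_lit 413)])) (BT.leaf (.emul [(nat_lit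 86), (nat_lit 414)]))))))) (BT.node (nat_lit 432) (BT.node (nat_lit 424) (BT.node (nat_lit 420) (BT.node (nat_lit 418) (BT.node (nat_lit 417) (BT.leaf (.nmul (nat_lit 355) [(nat_lit 19)])) (BT.leaf (.emul [(nat_lit 210), (nat_lit 143)]))) (BT.node (nat_lit 419) (BT.leaf (.emul [(nat_lit 143), (nat_lit 417)])) (BT.leaf (.emul [(nat_lit 210), (nat_lit 418)])))) (BT.node (nat_lit 422) (BT.node (nat_lit 421) (BT.leaf (.nmul (nat_lit 368) [(nat_lit 0)])) (BT.leaf (.nmul (nat_lit 420) [(nat_lit 19)]))) (BT.node (nat_lit 423) (BT.leaf (.nmul (nat_lit 258) [(nat_lit 19)])) (BT.leaf (.nmul (nat_lit 422) [(nat_lit 43)]))))) (BT.node (nat_lit 428) (BT.node (nat_lit 426) (BT.node (nat_lit 425) (BT.leaf (.nmul (nat_lit 423) [(nat_lit 43)])) (BT.leaf (.rel (nat_lit 323) (nat_lit 5) [(nat_lit 97), (nat_lit 369)] [⟨(nat_lit 99), [(nat_lit 411), (nat_lit 415)], [(nat_lit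 416), (nat_lit 289)]⟩, ⟨(nat_lit 383), [(nat_lit 419)], [(nat_lit 424), (nat_lit 421)]⟩]))) (BT.node (nat_lit 427) (BT.leaf (.nmul (nat_lit 107) [(nat_lit 0)])) (BT.leaf (.nmul (nat_lit 250) [(nat_lit 43)])))) (BT.node (nat_lit 430) (BT.node (nat_lit 429) (BT.leaf (.nmul (nat_lit 427) [(nat_lit 19)])) (BT.leaf (.nmul (nat_lit 428) [(nat_lit 19)]))) (BT.node (nat_lit 431) (BT.leaf (.emul [(nat_lit 210), (nat_lit 131)])) (BT.leaf (.nmul (nat_lit 247) [(nat_lit 19)])))))) (BT.node (nat_lit 440) (BT.node (nat_lit 436) (BT.node (nat_lit 434) (BT.node (nat_lit 433) (BT.leaf (.nmul (nat_lit 431) [(nat_lit 0)])) (BT.leaf (.nmul (nat_lit 194) [(nat_lit 19)]))) (BT.node (nat_lit 435) (BT.leaf (.nmul (nat_lit 433) [(nat_lit 43)])) (BT.leaf (.rel (nat_lit 286) (nat_lit 0) [(nat_lit 429), (nat_lit 426)] [⟨(nat_lit 366), [(nat_lit 430)], [(nat_lit 434), (nat_lit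 432)]⟩])))) (BT.node (nat_lit 438) (BT.node (nat_lit 437) (BT.leaf (.inv (nat_lit 435))) (BT.leaf (.cmp (nat_lit 436) ⟨(nat_lit 366), [(nat_lit 417)], [(nat_lit 92), (nat_lit 173)]⟩))) (BT.node (nat_lit 439) (BT.leaf (.nmul (nat_lit 203) [(nat_lit 43)])) (BT.leaf (.nmul (nat_lit 438) [(nat_lit 0)]))))) (BT.node (nat_lit 444) (BT.node (nat_lit 442) (BT.node (nat_lit 441) (BT.leaf (.nmul (nat_lit 439) [(nat_lit 1)])) (BT.leaf (.nmul (nat_lit 427) [(nat_lit 43)]))) (BT.node (nat_lit 443) (BT.leaf (.rel (nat_lit 374) (nat_lit 0) [(nat_lit 355), (nat_lit 440)] [⟨(nat_lit 397), [(nat_lit 322)], [(nat_lit 441), (nat_lit 89)]⟩])) (BT.leaf (.emul [(nat_lit 322), (nat_lit 322)])))) (BT.node (nat_lit 446) (BT.node (nat_lit 445) (BT.leaf (.emul [(nat_lit 437), (nat_lit 443)])) (BT.leaf (.nmul (nat_lit 295) [(nat_lit 43)]))) (BT.node (nat_lit 447) (BT.leaf (.nmul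 (nat_lit 445) [(nat_lit 43)])) (BT.leaf (.nmul (nat_lit 446) [(nat_lit 19)]))))))))
noncomputable def cF448 : BT Fc := (BT.node (nat_lit 480) (BT.node (nat_lit 464) (BT.node (nat_lit 456) (BT.node (nat_lit 452) (BT.node (nat_lit 450) (BT.node (nat_lit 449) (BT.leaf ⟨(nat_lit 3), (nat_lit 3), (nat_lit 3), (nat_lit 0x95daf9bc0beb7f164aba329fd27a5f), (nat_lit 0x6be79e745008e5b1980900300aa880), (nat_lit 0)⟩) (BT.leaf ⟨(nat_lit 1), (nat_lit 0), (nat_lit 0), (nat_lit 0x157039b35ae6a1ccdb498e31ef65790), (nat_lit 0x157039b35ae6a1ccdb498e31ef65790), (nat_lit 0)⟩)) (BT.node (nat_lit 451) (BT.leaf ⟨(nat_lit 1), (nat_lit 0), (nat_lit 0), (nat_lit 0x1d1c65ca5eacf63a77c6ecd46557346), (nat_lit 0x1d1c65ca5eacf63a77c6ecd46557346), (nat_lit 0)⟩) (BT.leaf ⟨(nat_lit 1), (nat_lit 0), (nat_lit 0), (nat_lit 0xa665f022840080fa821ecc0c38d453), (nat_lit 0xa665f022840080fa821ecc0c38d453),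 (nat_lit 0)⟩))) (BT.node (nat_lit 454) (BT.node (nat_lit 453) (BT.leaf ⟨(nat_lit 2), (nat_lit 2), (nat_lit 2), (nat_lit 0x4ac96fdb98e6bf5102f65eb308796f), (nat_lit 0), (nat_lit 0)⟩) (BT.leaf ⟨(nat_lit 2), (nat_lit 2), (nat_lit 2), (nat_lit 0x1ce897c73081e36000101017a001746), (nat_lit 0), (nat_lit 0)⟩)) (BT.node (nat_lit 455) (BT.leaf ⟨(nat_lit 2), (nat_lit 2), (nat_lit 2), (nat_lit 0x1782d47b798ffa2b45ec3d17a1575ea), (nat_lit 0), (nat_lit 0)⟩) (BT.leaf ⟨(nat_lit 1), (nat_lit 0), (nat_lit 0), (nat_lit 0x126a6f69ec4e5d9ec0ed62627a4b6c1), (nat_lit 0x126a6f69ec4e5d9ec0ed62627a4b6c1), (nat_lit 0)⟩)))) (BT.node (nat_lit 460) (BT.node (nat_lit 458) (BT.node (nat_lit 457) (BT.leaf ⟨(nat_lit 2), (nat_lit 3), (nat_lit 3), (nat_lit 0x1c19577c6cd2d1afff4eead29465e46), (nat_lit 0), (nat_lit 0)⟩) (BT.leaf ⟨(nat_lit 2), (nat_lit 3), (nat_lit 3), (nat_lit 0x1b2b5ce2772dd46ffab86d8568733b9),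 (nat_lit 0), (nat_lit 0)⟩)) (BT.node (nat_lit 459) (BT.leaf ⟨(nat_lit 2), (nat_lit 3), (nat_lit 3), (nat_lit 0x17a1575e9bf0b4b05dea9d07a21efb7), (nat_lit 0), (nat_lit 0)⟩) (BT.leaf ⟨(nat_lit 1), (nat_lit 0), (nat_lit 0), (nat_lit 0xac55eb6c7734d15caf9ea389f65396), (nat_lit 0xac55eb6c7734d15caf9ea389f65396), (nat_lit 0)⟩))) (BT.node (nat_lit 462) (BT.node (nat_lit 461) (BT.leaf ⟨(nat_lit 1), (nat_lit 0), (nat_lit 0), (nat_lit 0xd1a4009e801023f1dd58807a200af4), (nat_lit 0xd1a4009e801023f1dd58807a200af4), (nat_lit 0)⟩) (BT.leaf ⟨(nat_lit 1), (nat_lit 0), (nat_lit 0), (nat_lit 0x10cc247cd08265420440d68300a02f9), (nat_lit 0x10cc247cd08265420440d68300a02f9), (nat_lit 0)⟩)) (BT.node (nat_lit 463) (BT.leaf ⟨(nat_lit 1), (nat_lit 0), (nat_lit 0), (nat_lit 0x753499ddb4d52d1b36cdde744eadd5), (nat_lit 0x753499ddb4d52d1b36cdde744eadd5), (nat_lit 0)⟩) (BT.leaf ⟨(nat_lit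 1), (nat_lit 0), (nat_lit 0), (nat_lit 0x569e1a36378f8df0be7c16d8d66790), (nat_lit 0x569e1a36378f8df0be7c16d8d66790), (nat_lit 0)⟩))))) (BT.node (nat_lit 472) (BT.node (nat_lit 468) (BT.node (nat_lit 466) (BT.node (nat_lit 465) (BT.leaf ⟨(nat_lit 3), (nat_lit 3), (nat_lit 3), (nat_lit 0x56b653b94722e5588e6ea37fdcb299), (nat_lit 0xa66e41f5840080114be0501801810f), (nat_lit 0)⟩) (BT.leaf ⟨(nat_lit 1), (nat_lit 0), (nat_lit 0), (nat_lit 0xee554d34c4e2e6ffaf9ea2ac76515a), (nat_lit 0xee554d34c4e2e6ffaf9ea2ac76515a), (nat_lit 0)⟩)) (BT.node (nat_lit 467) (BT.leaf ⟨(nat_lit 1), (nat_lit 0), (nat_lit 0), (nat_lit 0x1239d249c13cc4ea5c9f4d43b64b41e), (nat_lit 0x1239d249c13cc4ea5c9f4d43b64b41e), (nat_lit 0)⟩) (BT.leaf ⟨(nat_lit 1), (nat_lit 0), (nat_lit 0), (nat_lit 0x17a6f45a8ea37216919bbc17b3f41e8), (nat_lit 0x17a6f45a8ea37216919bbc17b3f41e8), (nat_lit 0)⟩)))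 (BT.node (nat_lit 470) (BT.node (nat_lit 469) (BT.leaf ⟨(nat_lit 1), (nat_lit 0), (nat_lit 0), (nat_lit 0x10cdd1995881f3421041e0c300a02f9), (nat_lit 0x10cdd1995881f3421041e0c300a02f9), (nat_lit 0)⟩) (BT.leaf ⟨(nat_lit 1), (nat_lit 0), (nat_lit 0), (nat_lit 0x44171ff420391a745001ab5cf1d180), (nat_lit 0x44171ff420391a745001ab5cf1d180), (nat_lit 0)⟩)) (BT.node (nat_lit 471) (BT.leaf ⟨(nat_lit 1), (nat_lit 0), (nat_lit 0), (nat_lit 0x1801012401728829d6733c617ff4201), (nat_lit 0x1801012401728829d6733c617ff4201), (nat_lit 0)⟩) (BT.leaf ⟨(nat_lit 3), (nat_lit 3), (nat_lit 3), (nat_lit 0xffa39453ae6a1d9ac73b4d1deae790), (nat_lit 0x96c4249a4080163b80ce7dd08821d1), (nat_lit 0)⟩)))) (BT.node (nat_lit 476) (BT.node (nat_lit 474) (BT.node (nat_lit 473) (BT.leaf ⟨(nat_lit 1), (nat_lit 0), (nat_lit 0), (nat_lit 0x1f34b7af9b503002870608810bbd195), (nat_lit 0x1f34b7af9b503002870608810bbd195),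 (nat_lit 0)⟩) (BT.leaf ⟨(nat_lit 1), (nat_lit 0), (nat_lit 0), (nat_lit 0xd8d71a36fc6f8df0be2a2e569663f3), (nat_lit 0xd8d71a36fc6f8df0be2a2e569663f3), (nat_lit 0)⟩)) (BT.node (nat_lit 475) (BT.leaf ⟨(nat_lit 1), (nat_lit 0), (nat_lit 0), (nat_lit 0x8110069e17278d97e73a758027a05f), (nat_lit 0x8110069e17278d97e73a758027a05f), (nat_lit 0)⟩) (BT.leaf ⟨(nat_lit 1), (nat_lit 0), (nat_lit 0), (nat_lit 0x123808f56030043ce830dc9ca848050), (nat_lit 0x123808f56030043ce830dc9ca848050), (nat_lit 0)⟩))) (BT.node (nat_lit 478) (BT.node (nat_lit 477) (BT.leaf ⟨(nat_lit 3), (nat_lit 3), (nat_lit 3), (nat_lit 0xcbff4200480a0102600410806a369e), (nat_lit 0xe375cc80fc7800f440068d0419d500), (nat_lit 0)⟩) (BT.leaf ⟨(nat_lit 1), (nat_lit 0), (nat_lit 0), (nat_lit 0x1ce2f54022042095dbe100602bc792d), (nat_lit 0x1ce2f54022042095dbe100602bc792d), (nat_lit 0)⟩)) (BT.node (nat_lit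 479) (BT.leaf ⟨(nat_lit 1), (nat_lit 0), (nat_lit 0), (nat_lit 0x7c68400200224f25f25e20001473), (nat_lit 0x7c68400200224f25f25e20001473), (nat_lit 0)⟩) (BT.leaf ⟨(nat_lit 2), (nat_lit 2), (nat_lit 2), (nat_lit 0x4b64e6f6015008eb812405d10015ea), (nat_lit 0), (nat_lit 0)⟩)))))) (BT.node (nat_lit 496) (BT.node (nat_lit 488) (BT.node (nat_lit 484) (BT.node (nat_lit 482) (BT.node (nat_lit 481) (BT.leaf ⟨(nat_lit 2), (nat_lit 2), (nat_lit 2), (nat_lit 0x8092ef38f1e089f081293800c01006), (nat_lit 0), (nat_lit 0)⟩) (BT.leaf ⟨(nat_lit 2), (nat_lit 2), (nat_lit 2), (nat_lit 0x127096c02085bda388124bbd10015ea), (nat_lit 0), (nat_lit 0)⟩)) (BT.node (nat_lit 483) (BT.leaf ⟨(nat_lit 1), (nat_lit 0), (nat_lit 0), (nat_lit 0x3026f2408816a383041f9abe430050), (nat_lit 0x3026f2408816a383041f9abe430050), (nat_lit 0)⟩) (BT.leaf ⟨(nat_lit 1), (nat_lit 0), (nat_lit 0), (nat_lit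 0x7461e8d56d8654fada63bb7572c38a), (nat_lit 0x7461e8d56d8654fada63bb7572c38a), (nat_lit 0)⟩))) (BT.node (nat_lit 486) (BT.node (nat_lit 485) (BT.leaf ⟨(nat_lit 1), (nat_lit 0), (nat_lit 0), (nat_lit 0xd8e6c9e37cf45e529bc46de43bebf3), (nat_lit 0xd8e6c9e37cf45e529bc46de43bebf3), (nat_lit 0)⟩) (BT.leaf ⟨(nat_lit 3), (nat_lit 3), (nat_lit 3), (nat_lit 0x16a2b47b7ea382e741e84ca5daf519b), (nat_lit 0x4b4b7ea265edc07d4c727e43c97669), (nat_lit 0)⟩)) (BT.node (nat_lit 487) (BT.leaf ⟨(nat_lit 1), (nat_lit 0), (nat_lit 0), (nat_lit 0x20244083bb1ec44208013d3a4b5e0), (nat_lit 0x20244083bb1ec44208013d3a4b5e0), (nat_lit 0)⟩) (BT.leaf ⟨(nat_lit 1), (nat_lit 0), (nat_lit 0), (nat_lit 0x60242084afbf3a700c3baac493888), (nat_lit 0x60242084afbf3a700c3baac493888), (nat_lit 0)⟩)))) (BT.node (nat_lit 492) (BT.node (nat_lit 490) (BT.node (nat_lit 489) (BT.leaf ⟨(nat_lit 1),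 (nat_lit 0), (nat_lit 0), (nat_lit 0x146749e46eac1f3b37c67b0d18d9742), (nat_lit 0x146749e46eac1f3b37c67b0d18d9742), (nat_lit 0)⟩) (BT.leaf ⟨(nat_lit 3), (nat_lit 3), (nat_lit 3), (nat_lit 0x5da1ea65bd13a263ad2b91edccdfe8), (nat_lit 0x6561ee937aa8db778fa3bae2ad31d5), (nat_lit 0)⟩)) (BT.node (nat_lit 491) (BT.leaf ⟨(nat_lit 1), (nat_lit 0), (nat_lit 0), (nat_lit 0x145d8e6f04d5bd626ff450ff6f90eb4), (nat_lit 0x145d8e6f04d5bd626ff450ff6f90eb4), (nat_lit 0)⟩) (BT.leaf ⟨(nat_lit 1), (nat_lit 0), (nat_lit 0), (nat_lit 0x17ec6a20c00cbf4f210a759cea30b9), (nat_lit 0x17ec6a20c00cbf4f210a759cea30b9), (nat_lit 0)⟩))) (BT.node (nat_lit 494) (BT.node (nat_lit 493) (BT.leaf ⟨(nat_lit 1), (nat_lit 0), (nat_lit 0), (nat_lit 0x77a12f8e6f8e4f2b9040010eac00), (nat_lit 0x77a12f8e6f8e4f2b9040010eac00), (nat_lit 0)⟩) (BT.leaf ⟨(nat_lit 1), (nat_lit 0), (nat_lit 0), (nat_lit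 0xe58b7ea26e04b49792bcd26bd6655c), (nat_lit 0xe58b7ea26e04b49792bcd26bd6655c), (nat_lit 0)⟩)) (BT.node (nat_lit 495) (BT.leaf ⟨(nat_lit 3), (nat_lit 3), (nat_lit 3), (nat_lit 0x7472c5d51ab698aaf213af52db60fa), (nat_lit 0x1b927a287da92ad7a17963945f786fc), (nat_lit 0)⟩) (BT.leaf ⟨(nat_lit 1), (nat_lit 0), (nat_lit 0), (nat_lit 0x107a5f3d891d270bb627626279d20ed), (nat_lit 0x107a5f3d891d270bb627626279d20ed), (nat_lit 0)⟩))))) (BT.node (nat_lit 504) (BT.node (nat_lit 500) (BT.node (nat_lit 498) (BT.node (nat_lit 497) (BT.leaf ⟨(nat_lit 2), (nat_lit 3), (nat_lit 3), (nat_lit 0xf9e3bf899348100212bde00904200c), (nat_lit 0), (nat_lit 0)⟩) (BT.leaf ⟨(nat_lit 1), (nat_lit 0), (nat_lit 0), (nat_lit 0x739d233a0f9caac18b7e77ceb1d738), (nat_lit 0x739d233a0f9caac18b7e77ceb1d738), (nat_lit 0)⟩)) (BT.node (nat_lit 499) (BT.leaf ⟨(nat_lit 1), (nat_lit 0), (nat_lit 0),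 (nat_lit 0x1ce2f52bb0449760100a8e2f840112d), (nat_lit 0x1ce2f52bb0449760100a8e2f840112d), (nat_lit 0)⟩) (BT.leaf ⟨(nat_lit 1), (nat_lit 0), (nat_lit 0), (nat_lit 0x938d020532883b3021da828090030), (nat_lit 0x938d020532883b3021da828090030), (nat_lit 0)⟩))) (BT.node (nat_lit 502) (BT.node (nat_lit 501) (BT.leaf ⟨(nat_lit 1), (nat_lit 0), (nat_lit 0), (nat_lit 0x1c37c7c6e71ba37d6bfe16fe27c6dd2), (nat_lit 0x1c37c7c6e71ba37d6bfe16fe27c6dd2), (nat_lit 0)⟩) (BT.leaf ⟨(nat_lit 3), (nat_lit 3), (nat_lit 3), (nat_lit 0x10235cc40808d1aeaaf4cbece9c6fe3), (nat_lit 0xc727a721de1b9255ed4dec7397a7f4), (nat_lit 0)⟩)) (BT.node (nat_lit 503) (BT.leaf ⟨(nat_lit 1), (nat_lit 0), (nat_lit 0), (nat_lit 0x17a61ecc7bf1780bb568b51edd571e8), (nat_lit 0x17a61ecc7bf1780bb568b51edd571e8), (nat_lit 0)⟩) (BT.leaf ⟨(nat_lit 1), (nat_lit 0), (nat_lit 0), (nat_lit 0x160e6c8b7675bbf9d73b39dcab8d349),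 (nat_lit 0x160e6c8b7675bbf9d73b39dcab8d349), (nat_lit 0)⟩)))) (BT.node (nat_lit 508) (BT.node (nat_lit 506) (BT.node (nat_lit 505) (BT.leaf ⟨(nat_lit 1), (nat_lit 0), (nat_lit 0), (nat_lit 0x123acf49c13d52d35627627079d26c1), (nat_lit 0x123acf49c13d52d35627627079d26c1), (nat_lit 0)⟩) (BT.leaf ⟨(nat_lit 3), (nat_lit 3), (nat_lit 3), (nat_lit 0x17e18e5ea98f82ef05c8bd97a0cdda8), (nat_lit 0x1f18422df1046bc6041e5008e5b1955), (nat_lit 0)⟩)) (BT.node (nat_lit 507) (BT.leaf ⟨(nat_lit 1), (nat_lit 0), (nat_lit 0), (nat_lit 0x11ec141dd4ae023a72b1f0a0608400c), (nat_lit 0x11ec141dd4ae023a72b1f0a0608400c), (nat_lit 0)⟩) (BT.leaf ⟨(nat_lit 1), (nat_lit 0), (nat_lit 0), (nat_lit 0xac4246fc810822f0009f0a06093c7b), (nat_lit 0xac4246fc810822f0009f0a06093c7b), (nat_lit 0)⟩))) (BT.node (nat_lit 510) (BT.node (nat_lit 509) (BT.leaf ⟨(nat_lit 1), (nat_lit 0), (nat_lit 0),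 (nat_lit 0xd1b4987cbff91b83335e9d464d9747), (nat_lit 0xd1b4987cbff91b83335e9d464d9747), (nat_lit 0)⟩) (BT.leaf ⟨(nat_lit 3), (nat_lit 3), (nat_lit 3), (nat_lit 0xfce6cacc74729637236378d8cf1f7d), (nat_lit 0xaf4736b92b4be713a994722e69a583), (nat_lit 0)⟩)) (BT.node (nat_lit 511) (BT.leaf ⟨(nat_lit 1), (nat_lit 0), (nat_lit 0), (nat_lit 0x1bc390fdb50fbf13544d39cbd27a4ab), (nat_lit 0x1bc390fdb50fbf13544d39cbd27a4ab), (nat_lit 0)⟩) (BT.leaf ⟨(nat_lit 1), (nat_lit 0), (nat_lit 0), (nat_lit 0x1ee9d21cee761f16933ae7160f1d72a), (nat_lit 0x1ee9d21cee761f16933ae7160f1d72a), (nat_lit 0)⟩)))))))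
noncomputable def cP448 : BT Pf := (BT.node (nat_lit 480) (BT.node (nat_lit 464) (BT.node (nat_lit 456) (BT.node (nat_lit 452) (BT.node (nat_lit 450) (BT.node (nat_lit 449) (BT.leaf (.rel (nat_lit 337) (nat_lit 1) [(nat_lit 348), (nat_lit 173)] [⟨(nat_lit 425), [(nat_lit 444)], [(nat_lit 447), (nat_lit 400)]⟩])) (BT.leaf (.nmul (nat_lit 333) [(nat_lit 43)]))) (BT.node (nat_lit 451) (BT.leaf (.nmul (nat_lit 227) [(nat_lit 19)])) (BT.leaf (.nmul (nat_lit 450) [(nat_lit 19)])))) (BT.node (nat_lit 454) (BT.node (nat_lit 453) (BT.leaf (.emul [(nat_lit 210), (nat_lit 238)])) (BT.leaf (.emul [(nat_lit 210), (nat_lit 370)]))) (BT.node (nat_lit 455) (BT.leaf (.emul [(nat_lit 112), (nat_lit 453)])) (BT.leaf (.nmul (nat_lit 287) [(nat_lit 0)]))))) (BT.node (nat_lit 460) (BT.node (nat_lit 458) (BT.node (nat_lit 457) (BT.leaf (.emul [(nat_lit 329), (nat_lit 322)]))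 (BT.leaf (.emul [(nat_lit 437), (nat_lit 456)]))) (BT.node (nat_lit 459) (BT.leaf (.emul [(nat_lit 329), (nat_lit 457)])) (BT.leaf (.nmul (nat_lit 333) [(nat_lit 19)])))) (BT.node (nat_lit 462) (BT.node (nat_lit 461) (BT.leaf (.nmul (nat_lit 459) [(nat_lit 43)])) (BT.leaf (.nmul (nat_lit 257) [(nat_lit 19)]))) (BT.node (nat_lit 463) (BT.leaf (.nmul (nat_lit 461) [(nat_lit 43)])) (BT.leaf (.nmul (nat_lit 462) [(nat_lit 19)])))))) (BT.node (nat_lit 472) (BT.node (nat_lit 468) (BT.node (nat_lit 466) (BT.node (nat_lit 465) (BT.leaf (.rel (nat_lit 382) (nat_lit 3) [(nat_lit 451), (nat_lit 449)] [⟨(nat_lit 383), [(nat_lit 452), (nat_lit 454)], [(nat_lit 422), (nat_lit 455)]⟩, ⟨(nat_lit 354), [(nat_lit 458)], [(nat_lit 463), (nat_lit 460)]⟩])) (BT.leaf (.nmul (nat_lit 269) [(nat_lit 19)]))) (BT.node (nat_lit 467) (BT.leaf (.nmul (nat_lit 208) [(nat_lit 43)]))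 (BT.leaf (.nmul (nat_lit 177) [(nat_lit 43)])))) (BT.node (nat_lit 470) (BT.node (nat_lit 469) (BT.leaf (.nmul (nat_lit 467) [(nat_lit 43)])) (BT.leaf (.nmul (nat_lit 111) [(nat_lit 43)]))) (BT.node (nat_lit 471) (BT.leaf (.nmul (nat_lit 469) [(nat_lit 19)])) (BT.leaf (.rel (nat_lit 323) (nat_lit 3) [(nat_lit 466), (nat_lit 465)] [⟨(nat_lit 99), [(nat_lit 326), (nat_lit 345)], [(nat_lit 468), (nat_lit 206)]⟩, ⟨(nat_lit 366), [(nat_lit 371)], [(nat_lit 470), (nat_lit 89)]⟩]))))) (BT.node (nat_lit 476) (BT.node (nat_lit 474) (BT.node (nat_lit 473) (BT.leaf (.nmul (nat_lit 288) [(nat_lit 0)])) (BT.leaf (.nmul (nat_lit 416) [(nat_lit 43)]))) (BT.node (nat_lit 475) (BT.leaf (.nmul (nat_lit 473) [(nat_lit 43)])) (BT.leaf (.nmul (nat_lit 460) [(nat_lit 0)])))) (BT.node (nat_lit 478) (BT.node (nat_lit 477) (BT.leaf (.rel (nat_lit 337) (nat_lit 4) [(nat_lit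 284), (nat_lit 472)] [⟨(nat_lit 442), [], [(nat_lit 474), (nat_lit 320)]⟩, ⟨(nat_lit 337), [(nat_lit 443)], [(nat_lit 364), (nat_lit 475)]⟩])) (BT.leaf (.nmul (nat_lit 263) [(nat_lit 43)]))) (BT.node (nat_lit 479) (BT.leaf (.nmul (nat_lit 477) [(nat_lit 1)])) (BT.leaf (.emul [(nat_lit 143), (nat_lit 430)]))))))) (BT.node (nat_lit 496) (BT.node (nat_lit 488) (BT.node (nat_lit 484) (BT.node (nat_lit 482) (BT.node (nat_lit 481) (BT.leaf (.emul [(nat_lit 210), (nat_lit 479)])) (BT.leaf (.emul [(nat_lit 210), (nat_lit 480)]))) (BT.node (nat_lit 483) (BT.leaf (.nmul (nat_lit 130) [(nat_lit 19)])) (BT.leaf (.nmul (nat_lit 482) [(nat_lit 43)])))) (BT.node (nat_lit 486) (BT.node (nat_lit 485) (BT.leaf (.nmul (nat_lit 483) [(nat_lit 19)])) (BT.leaf (.rel (nat_lit 365) (nat_lit 3) [(nat_lit 194), (nat_lit 170)] [⟨(nat_lit 297), [(nat_lit 417)], [(nat_lit 474),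 (nat_lit 478)]⟩, ⟨(nat_lit 383), [(nat_lit 481)], [(nat_lit 484), (nat_lit 465)]⟩]))) (BT.node (nat_lit 487) (BT.leaf (.nmul (nat_lit 307) [(nat_lit 19)])) (BT.leaf (.nmul (nat_lit 445) [(nat_lit 19)]))))) (BT.node (nat_lit 492) (BT.node (nat_lit 490) (BT.node (nat_lit 489) (BT.leaf (.nmul (nat_lit 487) [(nat_lit 43)])) (BT.leaf (.rel (nat_lit 442) (nat_lit 1) [(nat_lit 250), (nat_lit 202)] [⟨(nat_lit 476), [(nat_lit 456)], [(nat_lit 488), (nat_lit 486)]⟩]))) (BT.node (nat_lit 491) (BT.leaf (.nmul (nat_lit 334) [(nat_lit 43)])) (BT.leaf (.nmul (nat_lit 490) [(nat_lit 1)])))) (BT.node (nat_lit 494) (BT.node (nat_lit 493) (BT.leaf (.nmul (nat_lit 212) [(nat_lit 43)])) (BT.leaf (.nmul (nat_lit 492) [(nat_lit 19)]))) (BT.node (nat_lit 495) (BT.leaf (.rel (nat_lit 442) (nat_lit 0) [(nat_lit 493), (nat_lit 491)] [⟨(nat_lit 471), [(nat_lit 322)], [(nat_lit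 359), (nat_lit 202)]⟩])) (BT.leaf (.nmul (nat_lit 459) [(nat_lit 1)])))))) (BT.node (nat_lit 504) (BT.node (nat_lit 500) (BT.node (nat_lit 498) (BT.node (nat_lit 497) (BT.leaf (.emul [(nat_lit 322), (nat_lit 456)])) (BT.leaf (.nmul (nat_lit 234) [(nat_lit 19)]))) (BT.node (nat_lit 499) (BT.leaf (.nmul (nat_lit 497) [(nat_lit 43)])) (BT.leaf (.nmul (nat_lit 431) [(nat_lit 1)])))) (BT.node (nat_lit 502) (BT.node (nat_lit 501) (BT.leaf (.nmul (nat_lit 499) [(nat_lit 43)])) (BT.leaf (.rel (nat_lit 489) (nat_lit 4) [(nat_lit 164), (nat_lit 495)] [⟨(nat_lit 425), [(nat_lit 496)], [(nat_lit 254), (nat_lit 498)]⟩, ⟨(nat_lit 476), [(nat_lit 456)], [(nat_lit 373), (nat_lit 500)]⟩]))) (BT.node (nat_lit 503) (BT.leaf (.nmul (nat_lit 239) [(nat_lit 19)])) (BT.leaf (.nmul (nat_lit 502) [(nat_lit 19)]))))) (BT.node (nat_lit 508) (BT.node (nat_lit 506) (BT.node (nat_lit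 505) (BT.leaf (.nmul (nat_lit 465) [(nat_lit 1)])) (BT.leaf (.rel (nat_lit 501) (nat_lit 0) [(nat_lit 503), (nat_lit 491)] [⟨(nat_lit 425), [(nat_lit 496)], [(nat_lit 130), (nat_lit 504)]⟩]))) (BT.node (nat_lit 507) (BT.leaf (.nmul (nat_lit 270) [(nat_lit 1)])) (BT.leaf (.nmul (nat_lit 447) [(nat_lit 43)])))) (BT.node (nat_lit 510) (BT.node (nat_lit 509) (BT.leaf (.nmul (nat_lit 507) [(nat_lit 43)])) (BT.leaf (.rel (nat_lit 505) (nat_lit 1) [(nat_lit 150), (nat_lit 506)] [⟨(nat_lit 489), [(nat_lit 329)], [(nat_lit 508), (nat_lit 386)]⟩]))) (BT.node (nat_lit 511) (BT.leaf (.nmul (nat_lit 298) [(nat_lit 19)])) (BT.leaf (.nmul (nat_lit 510) [(nat_lit 43)]))))))))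
noncomputable def cF512 : BT Fc := (BT.node (nat_lit 544) (BT.node (nat_lit 528) (BT.node (nat_lit 520) (BT.node (nat_lit 516) (BT.node (nat_lit 514) (BT.node (nat_lit 513) (BT.leaf ⟨(nat_lit 1), (nat_lit 0), (nat_lit 0), (nat_lit 0x17e231830eac4409f812031b9208010), (nat_lit 0x17e231830eac4409f812031b9208010), (nat_lit 0)⟩) (BT.leaf ⟨(nat_lit 1), (nat_lit 0), (nat_lit 0), (nat_lit 0x1079d254b93f27a4e09e2ed89e4b48e), (nat_lit 0x1079d254b93f27a4e09e2ed89e4b48e), (nat_lit 0)⟩)) (BT.node (nat_lit 515) (BT.leaf ⟨(nat_lit 3), (nat_lit 3), (nat_lit 3), (nat_lit 0xcbc179afa5e43c96e15d4449eae12b), (nat_lit 0xc231910dc8842475f87e6053ab010), (nat_lit 0)⟩) (BT.leaf ⟨(nat_lit 3), (nat_lit 3), (nat_lit 3), (nat_lit 0xc231910dc8842475f87e6053ab010), (nat_lit 0xcbc179afa5e43c96e15d4449eae12b), (nat_lit 0)⟩))) (BT.node (nat_lit 518) (BT.node (nat_lit 517) (BT.leaf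 ⟨(nat_lit 2), (nat_lit 2), (nat_lit 2), (nat_lit 0x302225b0488123bdec80805002abd), (nat_lit 0), (nat_lit 0)⟩) (BT.leaf ⟨(nat_lit 2), (nat_lit 2), (nat_lit 2), (nat_lit 0x1c1b236930f9f18d9742197d1157746), (nat_lit 0), (nat_lit 0)⟩)) (BT.node (nat_lit 519) (BT.leaf ⟨(nat_lit 2), (nat_lit 2), (nat_lit 2), (nat_lit 0x25f108125c75200de98e4ae002811), (nat_lit 0), (nat_lit 0)⟩) (BT.leaf ⟨(nat_lit 2), (nat_lit 2), (nat_lit 2), (nat_lit 0x32d9af4ea8d297b3742c8d7fd57756), (nat_lit 0), (nat_lit 0)⟩)))) (BT.node (nat_lit 524) (BT.node (nat_lit 522) (BT.node (nat_lit 521) (BT.leaf ⟨(nat_lit 1), (nat_lit 0), (nat_lit 0), (nat_lit 0x811013005014e910210d3c807f405f), (nat_lit 0x811013005014e910210d3c807f405f), (nat_lit 0)⟩) (BT.leaf ⟨(nat_lit 1), (nat_lit 0), (nat_lit 0), (nat_lit 0x600843002033a323500200ee71d110), (nat_lit 0x600843002033a323500200ee71d110), (nat_lit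 0)⟩)) (BT.node (nat_lit 523) (BT.leaf ⟨(nat_lit 1), (nat_lit 0), (nat_lit 0), (nat_lit 0x13a31008e6100102b97c70000125f), (nat_lit 0x13a31008e6100102b97c70000125f), (nat_lit 0)⟩) (BT.leaf ⟨(nat_lit 1), (nat_lit 0), (nat_lit 0), (nat_lit 0xe3465fade1a2df46f9d8dde272c78c), (nat_lit 0xe3465fade1a2df46f9d8dde272c78c), (nat_lit 0)⟩))) (BT.node (nat_lit 526) (BT.node (nat_lit 525) (BT.leaf ⟨(nat_lit 3), (nat_lit 3), (nat_lit 3), (nat_lit 0x4bad890f65edc0d792f1f45bc9693f), (nat_lit 0x1d3a4b02801802558efc4aefac05208), (nat_lit 0)⟩) (BT.leaf ⟨(nat_lit 1), (nat_lit 0), (nat_lit 0), (nat_lit 0x282402801115a3e3363105eea79980), (nat_lit 0x282402801115a3e3363105eea79980), (nat_lit 0)⟩)) (BT.node (nat_lit 527) (BT.leaf ⟨(nat_lit 1), (nat_lit 0), (nat_lit 0), (nat_lit 0x1e32c6fcde1ba345bf9d62774b2c38d), (nat_lit 0x1e32c6fcde1ba345bf9d62774b2c38d), (nat_lit 0)⟩) (BT.leaf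 ⟨(nat_lit 1), (nat_lit 0), (nat_lit 0), (nat_lit 0x11ec841dd01802005257bc00624b2b1), (nat_lit 0x11ec841dd01802005257bc00624b2b1), (nat_lit 0)⟩))))) (BT.node (nat_lit 536) (BT.node (nat_lit 532) (BT.node (nat_lit 530) (BT.node (nat_lit 529) (BT.leaf ⟨(nat_lit 2), (nat_lit 3), (nat_lit 3), (nat_lit 0x1cf5cc08a007a1a3401baacea0852f), (nat_lit 0), (nat_lit 0)⟩) (BT.leaf ⟨(nat_lit 1), (nat_lit 0), (nat_lit 0), (nat_lit 0x9a8bcef039dbd57a6d4ce9bf18e517), (nat_lit 0x9a8bcef039dbd57a6d4ce9bf18e517), (nat_lit 0)⟩)) (BT.node (nat_lit 531) (BT.leaf ⟨(nat_lit 1), (nat_lit 0), (nat_lit 0), (nat_lit 0x1c19d1a1fb5030028195082103bd7cd), (nat_lit 0x1c19d1a1fb5030028195082103bd7cd), (nat_lit 0)⟩) (BT.leaf ⟨(nat_lit 3), (nat_lit 3), (nat_lit 3), (nat_lit 0x4b4b792b65e3ebedd5ca5e0bdb812f), (nat_lit 0xe3465c6ef9affa9a2652f3e2746ea2), (nat_lit 0)⟩))) (BT.node (nat_lit 534)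 (BT.node (nat_lit 533) (BT.leaf ⟨(nat_lit 1), (nat_lit 0), (nat_lit 0), (nat_lit 0x1b5014021040090185c84fe881e1fad), (nat_lit 0x1b5014021040090185c84fe881e1fad), (nat_lit 0)⟩) (BT.leaf ⟨(nat_lit 1), (nat_lit 0), (nat_lit 0), (nat_lit 0x8104212bbd8090827897ce7452d806), (nat_lit 0x8104212bbd8090827897ce7452d806), (nat_lit 0)⟩)) (BT.node (nat_lit 535) (BT.leaf ⟨(nat_lit 3), (nat_lit 3), (nat_lit 3), (nat_lit 0x19a6d88fa5984bd979af6e0e5a6382f), (nat_lit 0x100100004de80055cbe30104bc081d5), (nat_lit 0)⟩) (BT.leaf ⟨(nat_lit 3), (nat_lit 2), (nat_lit 4), (nat_lit 0x1fa18e5ec87b7e263976b517a2742d2), (nat_lit 0x1001001001001001001001001001001), (nat_lit 0)⟩)))) (BT.node (nat_lit 540) (BT.node (nat_lit 538) (BT.node (nat_lit 537) (BT.leaf ⟨(nat_lit 2), (nat_lit 2), (nat_lit 2), (nat_lit 0x97501022105ce08101225a00c01006), (nat_lit 0), (nat_lit 0)⟩) (BT.leaf ⟨(nat_lit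 2), (nat_lit 2), (nat_lit 2), (nat_lit 0xdb11cd83172e58ad2bbc4fd4554dff), (nat_lit 0), (nat_lit 0)⟩)) (BT.node (nat_lit 539) (BT.leaf ⟨(nat_lit 1), (nat_lit 0), (nat_lit 0), (nat_lit 0x60141dd01202005408df91ee4b088), (nat_lit 0x60141dd01202005408df91ee4b088), (nat_lit 0)⟩) (BT.leaf ⟨(nat_lit 1), (nat_lit 0), (nat_lit 0), (nat_lit 0x146465bd866b29734dff0f9d1d57742), (nat_lit 0x146465bd866b29734dff0f9d1d57742), (nat_lit 0)⟩))) (BT.node (nat_lit 542) (BT.node (nat_lit 541) (BT.leaf ⟨(nat_lit 2), (nat_lit 4), (nat_lit 4), (nat_lit 0x146465bd866b29734dff0f9d1d57742), (nat_lit 0), (nat_lit 0)⟩) (BT.leaf ⟨(nat_lit 3), (nat_lit 4), (nat_lit 2), (nat_lit 0x1001001001001001001001001001001), (nat_lit 0x1fa18e5ec87b7e263976b517a2742d2), (nat_lit 0)⟩)) (BT.node (nat_lit 543) (BT.leaf ⟨(nat_lit 2), (nat_lit 2), (nat_lit 2), (nat_lit 0x4af9f25b209bc042742808af402814),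 (nat_lit 0), (nat_lit 0)⟩) (BT.leaf ⟨(nat_lit 2), (nat_lit 2), (nat_lit 2), (nat_lit 0x1fa0f44c787ab4af05e9b91d45575f8), (nat_lit 0), (nat_lit 0)⟩)))))) (BT.node (nat_lit 560) (BT.node (nat_lit 552) (BT.node (nat_lit 548) (BT.node (nat_lit 546) (BT.node (nat_lit 545) (BT.leaf ⟨(nat_lit 1), (nat_lit 0), (nat_lit 0), (nat_lit 0xe5b0a92d257a887d37098e6bd6655c), (nat_lit 0xe5b0a92d257a887d37098e6bd6655c), (nat_lit 0)⟩) (BT.leaf ⟨(nat_lit 2), (nat_lit 4), (nat_lit 4), (nat_lit 0x20b7b00a8044b5f0803204aec01012), (nat_lit 0), (nat_lit 0)⟩)) (BT.node (nat_lit 547) (BT.leaf ⟨(nat_lit 2), (nat_lit 2), (nat_lit 2), (nat_lit 0x189d4ceca5f34d0732bb472ae154abd), (nat_lit 0), (nat_lit 0)⟩) (BT.leaf ⟨(nat_lit 2), (nat_lit 2), (nat_lit 2), (nat_lit 0x39a26bb9472be5cb2bb5637fd54f51), (nat_lit 0), (nat_lit 0)⟩))) (BT.node (nat_lit 550) (BT.node (nat_lit 549) (BT.leaf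 ⟨(nat_lit 2), (nat_lit 2), (nat_lit 2), (nat_lit 0xe5ac1b6c5628e45cabba68ae154abd), (nat_lit 0), (nat_lit 0)⟩) (BT.leaf ⟨(nat_lit 2), (nat_lit 2), (nat_lit 2), (nat_lit 0x127897a5f080800402b98017a001746), (nat_lit 0), (nat_lit 0)⟩)) (BT.node (nat_lit 551) (BT.leaf ⟨(nat_lit 1), (nat_lit 0), (nat_lit 0), (nat_lit 0xc25f0204fe08bd6824b90a678d0a0), (nat_lit 0xc25f0204fe08bd6824b90a678d0a0), (nat_lit 0)⟩) (BT.leaf ⟨(nat_lit 1), (nat_lit 0), (nat_lit 0), (nat_lit 0x174932c6ef3ba8bc2f0df9ae37c7f89), (nat_lit 0x174932c6ef3ba8bc2f0df9ae37c7f89), (nat_lit 0)⟩)))) (BT.node (nat_lit 556) (BT.node (nat_lit 554) (BT.node (nat_lit 553) (BT.leaf ⟨(nat_lit 2), (nat_lit 4), (nat_lit 4), (nat_lit 0xd8c40a80181f1ab4180e1a22279c1e), (nat_lit 0), (nat_lit 0)⟩) (BT.leaf ⟨(nat_lit 2), (nat_lit 2), (nat_lit 2), (nat_lit 0x204ea3e28020279dde908200c02801), (nat_lit 0), (nat_lit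 0)⟩)) (BT.node (nat_lit 555) (BT.leaf ⟨(nat_lit 2), (nat_lit 2), (nat_lit 2), (nat_lit 0x1d3a52b35ecc32da3742f8dd1157746), (nat_lit 0), (nat_lit 0)⟩) (BT.leaf ⟨(nat_lit 1), (nat_lit 0), (nat_lit 0), (nat_lit 0x1a8bc6f8c8dd749ff68da69e14bc8b7), (nat_lit 0x1a8bc6f8c8dd749ff68da69e14bc8b7), (nat_lit 0)⟩))) (BT.node (nat_lit 558) (BT.node (nat_lit 557) (BT.leaf ⟨(nat_lit 1), (nat_lit 0), (nat_lit 0), (nat_lit 0x11c6f512d4baf879c01293820901003), (nat_lit 0x11c6f512d4baf879c01293820901003), (nat_lit 0)⟩) (BT.leaf ⟨(nat_lit 1), (nat_lit 0), (nat_lit 0), (nat_lit 0x4b8b7fdb27ecbc96b7098e4ac17d5c), (nat_lit 0x4b8b7fdb27ecbc96b7098e4ac17d5c), (nat_lit 0)⟩)) (BT.node (nat_lit 559) (BT.leaf ⟨(nat_lit 2), (nat_lit 4), (nat_lit 4), (nat_lit 0x410a064622035746b5f2055cf1d180), (nat_lit 0), (nat_lit 0)⟩) (BT.leaf ⟨(nat_lit 1), (nat_lit 0), (nat_lit 0), (nat_lit 0x1e41d1e0b2b51b9f0be294af9fbefe3),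 (nat_lit 0x1e41d1e0b2b51b9f0be294af9fbefe3), (nat_lit 0)⟩))))) (BT.node (nat_lit 568) (BT.node (nat_lit 564) (BT.node (nat_lit 562) (BT.node (nat_lit 561) (BT.leaf ⟨(nat_lit 3), (nat_lit 2), (nat_lit 4), (nat_lit 0x3ead31d53a2db0e2e58715a4ea5995), (nat_lit 0x33995e00130200c0083ba8224b00a), (nat_lit 0)⟩) (BT.leaf ⟨(nat_lit 2), (nat_lit 2), (nat_lit 2), (nat_lit 0x1e3040821403cec80f4725c00c02801), (nat_lit 0), (nat_lit 0)⟩)) (BT.node (nat_lit 563) (BT.leaf ⟨(nat_lit 2), (nat_lit 2), (nat_lit 2), (nat_lit 0x7a3f42d2ad131f05de92edd45575f8), (nat_lit 0), (nat_lit 0)⟩) (BT.leaf ⟨(nat_lit 1), (nat_lit 0), (nat_lit 0), (nat_lit 0x12700101204497638f3810410ba23e1), (nat_lit 0x12700101204497638f3810410ba23e1), (nat_lit 0)⟩))) (BT.node (nat_lit 566) (BT.node (nat_lit 565) (BT.leaf ⟨(nat_lit 2), (nat_lit 4), (nat_lit 4), (nat_lit 0x404821bd2807c64720822055c401),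 (nat_lit 0), (nat_lit 0)⟩) (BT.leaf ⟨(nat_lit 3), (nat_lit 4), (nat_lit 2), (nat_lit 0x33995e00130200c0083ba8224b00a), (nat_lit 0x3ead31d53a2db0e2e58715a4ea5995), (nat_lit 0)⟩)) (BT.node (nat_lit 567) (BT.leaf ⟨(nat_lit 1), (nat_lit 0), (nat_lit 0), (nat_lit 0x14d065fadba5f3746f898dde77c7bfe), (nat_lit 0x14d065fadba5f3746f898dde77c7bfe), (nat_lit 0)⟩) (BT.leaf ⟨(nat_lit 1), (nat_lit 0), (nat_lit 0), (nat_lit 0x6001790020840b46b5f9d15cca0110), (nat_lit 0x6001790020840b46b5f9d15cca0110), (nat_lit 0)⟩)))) (BT.node (nat_lit 572) (BT.node (nat_lit 570) (BT.node (nat_lit 569) (BT.leaf ⟨(nat_lit 1), (nat_lit 0), (nat_lit 0), (nat_lit 0x806c6b2f5008234f210a7417e7a600), (nat_lit 0x806c6b2f5008234f210a7417e7a600), (nat_lit 0)⟩) (BT.leaf ⟨(nat_lit 1), (nat_lit 0), (nat_lit 0), (nat_lit 0x15cc847f420991a7435f2044431d3b9), (nat_lit 0x15cc847f420991a7435f2044431d3b9),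 (nat_lit 0)⟩)) (BT.node (nat_lit 571) (BT.leaf ⟨(nat_lit 1), (nat_lit 0), (nat_lit 0), (nat_lit 0x7a373a1000802001025e97c01400), (nat_lit 0x7a373a1000802001025e97c01400), (nat_lit 0)⟩) (BT.leaf ⟨(nat_lit 3), (nat_lit 4), (nat_lit 4), (nat_lit 0x7a17a44071acea97c048412032f873), (nat_lit 0x17dc56c195696d6f9bc4aed7f2fd65), (nat_lit 0)⟩))) (BT.node (nat_lit 574) (BT.node (nat_lit 573) (BT.leaf ⟨(nat_lit 1), (nat_lit 0), (nat_lit 0), (nat_lit 0xd27bd1cee554e85bf3be75ee9d2565), (nat_lit 0xd27bd1cee554e85bf3be75ee9d2565), (nat_lit 0)⟩) (BT.leaf ⟨(nat_lit 1), (nat_lit 0), (nat_lit 0), (nat_lit 0x1edd8e5a83d13a0bb75198f7a6f45f8), (nat_lit 0x1edd8e5a83d13a0bb75198f7a6f45f8), (nat_lit 0)⟩)) (BT.node (nat_lit 575) (BT.leaf ⟨(nat_lit 1), (nat_lit 0), (nat_lit 0), (nat_lit 0xa65e1ed44ffd9ae402404428030453), (nat_lit 0xa65e1ed44ffd9ae402404428030453), (nat_lit 0)⟩)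 (BT.leaf ⟨(nat_lit 1), (nat_lit 0), (nat_lit 0), (nat_lit 0xd270aad2acb4e8e773ee71cab1d583), (nat_lit 0xd270aad2acb4e8e773ee71cab1d583), (nat_lit 0)⟩)))))))
noncomputable def cP512 : BT Pf := (BT.node (nat_lit 544) (BT.node (nat_lit 528) (BT.node (nat_lit 520) (BT.node (nat_lit 516) (BT.node (nat_lit 514) (BT.node (nat_lit 513) (BT.leaf (.nmul (nat_lit 368) [(nat_lit 19)])) (BT.leaf (.nmul (nat_lit 394) [(nat_lit 43)]))) (BT.node (nat_lit 515) (BT.leaf (.rel (nat_lit 494) (nat_lit 2) [(nat_lit 511), (nat_lit 126)] [⟨(nat_lit 448), [], [(nat_lit 380), (nat_lit 512)]⟩, ⟨(nat_lit 471), [(nat_lit 329)], [(nat_lit 513), (nat_lit 252)]⟩])) (BT.leaf (.inv (nat_lit 514))))) (BT.node (nat_lit 518) (BT.node (nat_lit 517) (BT.leaf (.emul [(nat_lit 210), (nat_lit 112)])) (BT.leaf (.emul [(nat_lit 143), (nat_lit 516)]))) (BT.node (nat_lit 519) (BT.leaf (.emul [(nat_lit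 131), (nat_lit 517)])) (BT.leaf (.emul [(nat_lit 210), (nat_lit 518)]))))) (BT.node (nat_lit 524) (BT.node (nat_lit 522) (BT.node (nat_lit 521) (BT.leaf (.nmul (nat_lit 237) [(nat_lit 19)])) (BT.leaf (.nmul (nat_lit 520) [(nat_lit 19)]))) (BT.node (nat_lit 523) (BT.leaf (.nmul (nat_lit 521) [(nat_lit 43)])) (BT.leaf (.nmul (nat_lit 376) [(nat_lit 43)])))) (BT.node (nat_lit 526) (BT.node (nat_lit 525) (BT.leaf (.rel (nat_lit 382) (nat_lit 4) [(nat_lit 97), (nat_lit 288)] [⟨(nat_lit 383), [(nat_lit 452), (nat_lit 519)], [(nat_lit 522), (nat_lit 139)]⟩, ⟨(nat_lit 407), [(nat_lit 444)], [(nat_lit 523), (nat_lit 235)]⟩])) (BT.leaf (.nmul (nat_lit 290) [(nat_lit 0)]))) (BT.node (nat_lit 527) (BT.leaf (.nmul (nat_lit 391) [(nat_lit 19)])) (BT.leaf (.nmul (nat_lit 526) [(nat_lit 43)])))))) (BT.node (nat_lit 536) (BT.node (nat_lit 532) (BT.node (nat_lit 530)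 (BT.node (nat_lit 529) (BT.leaf (.emul [(nat_lit 322), (nat_lit 437)])) (BT.leaf (.nmul (nat_lit 472) [(nat_lit 19)]))) (BT.node (nat_lit 531) (BT.leaf (.nmul (nat_lit 529) [(nat_lit 0)])) (BT.leaf (.rel (nat_lit 514) (nat_lit 1) [(nat_lit 527), (nat_lit 525)] [⟨(nat_lit 485), [(nat_lit 528)], [(nat_lit 482), (nat_lit 530)]⟩])))) (BT.node (nat_lit 534) (BT.node (nat_lit 533) (BT.leaf (.nmul (nat_lit 203) [(nat_lit 19)])) (BT.leaf (.nmul (nat_lit 532) [(nat_lit 1)]))) (BT.node (nat_lit 535) (BT.leaf (.rel (nat_lit 485) (nat_lit 4) [(nat_lit 355), (nat_lit 533)] [⟨(nat_lit 531), [(nat_lit 329)], [(nat_lit 355), (nat_lit 173)]⟩, ⟨(nat_lit 514), [(nat_lit 329)], [(nat_lit 433)]⟩])) (BT.leaf (.dfn [(nat_lit 1), (nat_lit 3), (nat_lit 1), (nat_lit 4), (nat_lit 1), (nat_lit 3), (nat_lit 1), (nat_lit 3), (nat_lit 1), (nat_lit 4), (nat_lit 1), (nat_lit 4), (nat_lit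 1), (nat_lit 3)]))))) (BT.node (nat_lit 540) (BT.node (nat_lit 538) (BT.node (nat_lit 537) (BT.leaf (.emul [(nat_lit 112), (nat_lit 168)])) (BT.leaf (.emul [(nat_lit 143), (nat_lit 536)]))) (BT.node (nat_lit 539) (BT.leaf (.nmul (nat_lit 195) [(nat_lit 19)])) (BT.leaf (.nmul (nat_lit 538) [(nat_lit 43)])))) (BT.node (nat_lit 542) (BT.node (nat_lit 541) (BT.leaf (.cmp (nat_lit 535) ⟨(nat_lit 535), [(nat_lit 537)], [(nat_lit 539)]⟩)) (BT.leaf (.inv (nat_lit 535)))) (BT.node (nat_lit 543) (BT.leaf (.emul [(nat_lit 168), (nat_lit 430)])) (BT.leaf (.emul [(nat_lit 210), (nat_lit 542)]))))))) (BT.node (nat_lit 560) (BT.node (nat_lit 552) (BT.node (nat_lit 548) (BT.node (nat_lit 546) (BT.node (nat_lit 545) (BT.leaf (.nmul (nat_lit 259) [(nat_lit 43)])) (BT.leaf (.cmp (nat_lit 535) ⟨(nat_lit 535), [(nat_lit 543)], [(nat_lit 544), (nat_lit 455)]⟩))) (BT.node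 (nat_lit 547) (BT.leaf (.emul [(nat_lit 210), (nat_lit 154)])) (BT.leaf (.emul [(nat_lit 210), (nat_lit 546)])))) (BT.node (nat_lit 550) (BT.node (nat_lit 549) (BT.leaf (.emul [(nat_lit 210), (nat_lit 547)])) (BT.leaf (.emul [(nat_lit 143), (nat_lit 548)]))) (BT.node (nat_lit 551) (BT.leaf (.nmul (nat_lit 488) [(nat_lit 43)])) (BT.leaf (.nmul (nat_lit 550) [(nat_lit 43)]))))) (BT.node (nat_lit 556) (BT.node (nat_lit 554) (BT.node (nat_lit 553) (BT.leaf (.cmp (nat_lit 535) ⟨(nat_lit 535), [(nat_lit 238), (nat_lit 549)], [(nat_lit 551), (nat_lit 459)]⟩)) (BT.leaf (.emul [(nat_lit 210), (nat_lit 517)]))) (BT.node (nat_lit 555) (BT.leaf (.emul [(nat_lit 210), (nat_lit 553)])) (BT.leaf (.nmul (nat_lit 334) [(nat_lit 19)])))) (BT.node (nat_lit 558) (BT.node (nat_lit 557) (BT.leaf (.nmul (nat_lit 555) [(nat_lit 1)])) (BT.leaf (.nmul (nat_lit 556) [(nat_lit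 43)]))) (BT.node (nat_lit 559) (BT.leaf (.cmp (nat_lit 535) ⟨(nat_lit 535), [(nat_lit 554)], [(nat_lit 174), (nat_lit 557)]⟩)) (BT.leaf (.nmul (nat_lit 90) [(nat_lit 0)])))))) (BT.node (nat_lit 568) (BT.node (nat_lit 564) (BT.node (nat_lit 562) (BT.node (nat_lit 561) (BT.leaf (.rel (nat_lit 541) (nat_lit 0) [(nat_lit 404), (nat_lit 559)] [⟨(nat_lit 251), [(nat_lit 143)], [(nat_lit 194), (nat_lit 330)]⟩])) (BT.leaf (.emul [(nat_lit 154), (nat_lit 112)]))) (BT.node (nat_lit 563) (BT.leaf (.emul [(nat_lit 143), (nat_lit 561)])) (BT.leaf (.nmul (nat_lit 235) [(nat_lit 1)])))) (BT.node (nat_lit 566) (BT.node (nat_lit 565) (BT.leaf (.cmp (nat_lit 560) ⟨(nat_lit 560), [(nat_lit 452), (nat_lit 562)], [(nat_lit 166), (nat_lit 563)]⟩)) (BT.leaf (.inv (nat_lit 560)))) (BT.node (nat_lit 567) (BT.leaf (.nmul (nat_lit 367) [(nat_lit 0)])) (BT.leaf (.nmul (nat_lit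 520) [(nat_lit 43)]))))) (BT.node (nat_lit 572) (BT.node (nat_lit 570) (BT.node (nat_lit 569) (BT.leaf (.nmul (nat_lit 567) [(nat_lit 19)])) (BT.leaf (.nmul (nat_lit 568) [(nat_lit 43)]))) (BT.node (nat_lit 571) (BT.leaf (.nmul (nat_lit 569) [(nat_lit 43)])) (BT.leaf (.rel (nat_lit 565) (nat_lit 0) [(nat_lit 196), (nat_lit 566)] [⟨(nat_lit 535), [(nat_lit 561)], [(nat_lit 570), (nat_lit 163)]⟩])))) (BT.node (nat_lit 574) (BT.node (nat_lit 573) (BT.leaf (.nmul (nat_lit 449) [(nat_lit 1)])) (BT.leaf (.nmul (nat_lit 572) [(nat_lit 19)]))) (BT.node (nat_lit 575) (BT.leaf (.nmul (nat_lit 282) [(nat_lit 43)])) (BT.leaf (.nmul (nat_lit 356) [(nat_lit 19)]))))))))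
noncomputable def cF576 : BT Fc := (BT.node (nat_lit 608) (BT.node (nat_lit 592) (BT.node (nat_lit 584) (BT.node (nat_lit 580) (BT.node (nat_lit 578) (BT.node (nat_lit 577) (BT.leaf ⟨(nat_lit 3), (nat_lit 4), (nat_lit 2), (nat_lit 0xe92cf49eefb26a4f8ed9bd07b4f6c1), (nat_lit 0x8d9f9beb378f0df1fe37473663760b), (nat_lit 0)⟩) (BT.leaf ⟨(nat_lit 3), (nat_lit 2), (nat_lit 4), (nat_lit 0x8d9f9beb378f0df1fe37473663760b), (nat_lit 0xe92cf49eefb26a4f8ed9bd07b4f6c1), (nat_lit 0)⟩)) (BT.node (nat_lit 579) (BT.leaf ⟨(nat_lit 1), (nat_lit 0), (nat_lit 0), (nat_lit 0x123b80c00c090825ec2568112df42), (nat_lit 0x123b80c00c090825ec2568112df42), (nat_lit 0)⟩) (BT.leaf ⟨(nat_lit 1), (nat_lit 0), (nat_lit 0), (nat_lit 0x442cf0d5209a348135fc8cee4a0180), (nat_lit 0x442cf0d5209a348135fc8cee4a0180), (nat_lit 0)⟩))) (BT.node (nat_lit 582) (BT.node (nat_lit 581) (BT.leaf ⟨(nat_lit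 1), (nat_lit 0), (nat_lit 0), (nat_lit 0x15ce31da68a6ff99a8ed50ed263955c), (nat_lit 0x15ce31da68a6ff99a8ed50ed263955c), (nat_lit 0)⟩) (BT.leaf ⟨(nat_lit 1), (nat_lit 0), (nat_lit 0), (nat_lit 0x1cab1d07ce7dce0e733aa75cef0ab49), (nat_lit 0x1cab1d07ce7dce0e733aa75cef0ab49), (nat_lit 0)⟩)) (BT.node (nat_lit 583) (BT.leaf ⟨(nat_lit 1), (nat_lit 0), (nat_lit 0), (nat_lit 0x12af7b51750e9ab7e44dda9bd67a6f0), (nat_lit 0x12af7b51750e9ab7e44dda9bd67a6f0), (nat_lit 0)⟩) (BT.leaf ⟨(nat_lit 3), (nat_lit 4), (nat_lit 4), (nat_lit 0xf864e5ea25b1c4412bb3ae04b7b25d), (nat_lit 0x1ce0115ea20401801a5d3af00b7b2bb), (nat_lit 0)⟩)))) (BT.node (nat_lit 588) (BT.node (nat_lit 586) (BT.node (nat_lit 585) (BT.leaf ⟨(nat_lit 1), (nat_lit 0), (nat_lit 0), (nat_lit 0x1ce1012bb938208031028e208b7b00a), (nat_lit 0x1ce1012bb938208031028e208b7b00a), (nat_lit 0)⟩) (BT.leaf ⟨(nat_lit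 1), (nat_lit 0), (nat_lit 0), (nat_lit 0x4eac9e80002010010e7401100080), (nat_lit 0x4eac9e80002010010e7401100080), (nat_lit 0)⟩)) (BT.node (nat_lit 587) (BT.leaf ⟨(nat_lit 1), (nat_lit 0), (nat_lit 0), (nat_lit 0x2201474e030020eec08bc095c93809), (nat_lit 0x2201474e030020eec08bc095c93809), (nat_lit 0)⟩) (BT.leaf ⟨(nat_lit 1), (nat_lit 0), (nat_lit 0), (nat_lit 0x1bd4bc9ce89bfd35a287a2fbc0d92f4), (nat_lit 0x1bd4bc9ce89bfd35a287a2fbc0d92f4), (nat_lit 0)⟩))) (BT.node (nat_lit 590) (BT.node (nat_lit 589) (BT.leaf ⟨(nat_lit 3), (nat_lit 4), (nat_lit 4), (nat_lit 0xf0fb36d4f5b14d3f82405108011021), (nat_lit 0x1e26e965871b637d6f8d197e1532fcd), (nat_lit 0)⟩) (BT.leaf ⟨(nat_lit 3), (nat_lit 2), (nat_lit 5), (nat_lit 0x14bdcb12e35e4b495fdb2dfa88938fa), (nat_lit 0x1001001001001001001001001001001), (nat_lit 0)⟩)) (BT.node (nat_lit 591) (BT.leaf ⟨(nat_lit 2), (nat_lit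 2), (nat_lit 2), (nat_lit 0x1238180900a0716080108c605154811), (nat_lit 0), (nat_lit 0)⟩) (BT.leaf ⟨(nat_lit 2), (nat_lit 2), (nat_lit 2), (nat_lit 0x93f72018120fcc180102217e154f56), (nat_lit 0), (nat_lit 0)⟩))))) (BT.node (nat_lit 600) (BT.node (nat_lit 596) (BT.node (nat_lit 594) (BT.node (nat_lit 593) (BT.leaf ⟨(nat_lit 2), (nat_lit 2), (nat_lit 2), (nat_lit 0x210e88448084124d7427ce01002806), (nat_lit 0), (nat_lit 0)⟩) (BT.leaf ⟨(nat_lit 1), (nat_lit 0), (nat_lit 0), (nat_lit 0x11c439f9066b57076a876931cf653fe), (nat_lit 0x11c439f9066b57076a876931cf653fe), (nat_lit 0)⟩)) (BT.node (nat_lit 595) (BT.leaf ⟨(nat_lit 2), (nat_lit 5), (nat_lit 5), (nat_lit 0x1e3008809bd2f889720104200402803), (nat_lit 0), (nat_lit 0)⟩) (BT.leaf ⟨(nat_lit 3), (nat_lit 5), (nat_lit 2), (nat_lit 0x1001001001001001001001001001001), (nat_lit 0x14bdcb12e35e4b495fdb2dfa88938fa),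 (nat_lit 0)⟩))) (BT.node (nat_lit 598) (BT.node (nat_lit 597) (BT.leaf ⟨(nat_lit 1), (nat_lit 0), (nat_lit 0), (nat_lit 0x73a6cfba0f9595a4ad2e7dbbf9953a), (nat_lit 0x73a6cfba0f9595a4ad2e7dbbf9953a), (nat_lit 0)⟩) (BT.leaf ⟨(nat_lit 1), (nat_lit 0), (nat_lit 0), (nat_lit 0x1ce10100604404801842105273a2102), (nat_lit 0x1ce10100604404801842105273a2102), (nat_lit 0)⟩)) (BT.node (nat_lit 599) (BT.leaf ⟨(nat_lit 2), (nat_lit 2), (nat_lit 2), (nat_lit 0xf63b3546e0cd1b49f42365d1957744), (nat_lit 0), (nat_lit 0)⟩) (BT.leaf ⟨(nat_lit 2), (nat_lit 2), (nat_lit 2), (nat_lit 0x97b7ac9f102085f15e9e7600402803), (nat_lit 0), (nat_lit 0)⟩)))) (BT.node (nat_lit 604) (BT.node (nat_lit 602) (BT.node (nat_lit 601) (BT.leaf ⟨(nat_lit 2), (nat_lit 2), (nat_lit 2), (nat_lit 0x19a43e519e9c6c99af4268dd1957744), (nat_lit 0), (nat_lit 0)⟩) (BT.leaf ⟨(nat_lit 2), (nat_lit 2), (nat_lit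 2), (nat_lit 0x127c971d40831cb7af47f1804402ab8), (nat_lit 0), (nat_lit 0)⟩)) (BT.node (nat_lit 603) (BT.leaf ⟨(nat_lit 3), (nat_lit 5), (nat_lit 3), (nat_lit 0x1e419a8731db8b36547bce75ce3bb49), (nat_lit 0x823a74960100612b80c7d62202400a), (nat_lit 0)⟩) (BT.leaf ⟨(nat_lit 3), (nat_lit 3), (nat_lit 5), (nat_lit 0x823a74960100612b80c7d62202400a), (nat_lit 0x1e419a8731db8b36547bce75ce3bb49), (nat_lit 0)⟩))) (BT.node (nat_lit 606) (BT.node (nat_lit 605) (BT.leaf ⟨(nat_lit 1), (nat_lit 0), (nat_lit 0), (nat_lit 0x17ff43004094e997e73411801000b9), (nat_lit 0x17ff43004094e997e73411801000b9), (nat_lit 0)⟩) (BT.leaf ⟨(nat_lit 1), (nat_lit 0), (nat_lit 0), (nat_lit 0x4af0a92d6e131d97b9625e4fc93d5c), (nat_lit 0x4af0a92d6e131d97b9625e4fc93d5c), (nat_lit 0)⟩)) (BT.node (nat_lit 607) (BT.leaf ⟨(nat_lit 1), (nat_lit 0), (nat_lit 0), (nat_lit 0x1c3532f85f3a2df46f89d44e372c5d2),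 (nat_lit 0x1c3532f85f3a2df46f89d44e372c5d2), (nat_lit 0)⟩) (BT.leaf ⟨(nat_lit 2), (nat_lit 5), (nat_lit 5), (nat_lit 0xb8c881029d1a34803002080bc90108), (nat_lit 0), (nat_lit 0)⟩)))))) (BT.node (nat_lit 624) (BT.node (nat_lit 616) (BT.node (nat_lit 612) (BT.node (nat_lit 610) (BT.node (nat_lit 609) (BT.leaf ⟨(nat_lit 2), (nat_lit 1), (nat_lit 1), (nat_lit 0x80402841bd3cedf100125dd1c409d4), (nat_lit 0), (nat_lit 0)⟩) (BT.leaf ⟨(nat_lit 2), (nat_lit 1), (nat_lit 1), (nat_lit 0x3e887b96d444b9b84c7ab9f6c93e69), (nat_lit 0), (nat_lit 0)⟩)) (BT.node (nat_lit 611) (BT.leaf ⟨(nat_lit 2), (nat_lit 1), (nat_lit 1), (nat_lit 0xcd63b8ed8e3573c83fe6939ce79a87), (nat_lit 0), (nat_lit 0)⟩) (BT.leaf ⟨(nat_lit 2), (nat_lit 1), (nat_lit 1), (nat_lit 0x40408ef508200c00809bd2f880292e), (nat_lit 0), (nat_lit 0)⟩))) (BT.node (nat_lit 614) (BT.node (nat_lit 613) (BT.leaf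 ⟨(nat_lit 2), (nat_lit 1), (nat_lit 1), (nat_lit 0x17b12d80cf13cf88220404801002806), (nat_lit 0), (nat_lit 0)⟩) (BT.leaf ⟨(nat_lit 2), (nat_lit 1), (nat_lit 1), (nat_lit 0x1ca927a100317e3ab3f3f3a0c154850), (nat_lit 0), (nat_lit 0)⟩)) (BT.node (nat_lit 615) (BT.leaf ⟨(nat_lit 2), (nat_lit 1), (nat_lit 1), (nat_lit 0x14e9002104119cd401e34088827a240), (nat_lit 0), (nat_lit 0)⟩) (BT.leaf ⟨(nat_lit 2), (nat_lit 2), (nat_lit 2), (nat_lit 0x81202024f132680674225601802804), (nat_lit 0), (nat_lit 0)⟩)))) (BT.node (nat_lit 620) (BT.node (nat_lit 618) (BT.node (nat_lit 617) (BT.leaf ⟨(nat_lit 3), (nat_lit 5), (nat_lit 3), (nat_lit 0x2e5eae7341017d08200b1a81101600), (nat_lit 0xaed01012ded7abc7c02e7002a4e042), (nat_lit 0)⟩) (BT.leaf ⟨(nat_lit 3), (nat_lit 3), (nat_lit 5), (nat_lit 0xaed01012ded7abc7c02e7002a4e042), (nat_lit 0x2e5eae7341017d08200b1a81101600), (nat_lit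 0)⟩)) (BT.node (nat_lit 619) (BT.leaf ⟨(nat_lit 1), (nat_lit 0), (nat_lit 0), (nat_lit 0xd25d253ae7cb483e565e75cab1d583), (nat_lit 0xd25d253ae7cb483e565e75cab1d583), (nat_lit 0)⟩) (BT.leaf ⟨(nat_lit 1), (nat_lit 0), (nat_lit 0), (nat_lit 0xef5102104108110127c297401402), (nat_lit 0xef5102104108110127c297401402), (nat_lit 0)⟩))) (BT.node (nat_lit 622) (BT.node (nat_lit 621) (BT.leaf ⟨(nat_lit 1), (nat_lit 0), (nat_lit 0), (nat_lit 0xac799208013bf3a740801406093c7b), (nat_lit 0xac799208013bf3a740801406093c7b), (nat_lit 0)⟩) (BT.leaf ⟨(nat_lit 3), (nat_lit 3), (nat_lit 5), (nat_lit 0xd7c17920600ee723110a01678827f4), (nat_lit 0x4bf3496f27e49ed8b9625df6c17b2f), (nat_lit 0)⟩)) (BT.node (nat_lit 623) (BT.leaf ⟨(nat_lit 3), (nat_lit 5), (nat_lit 3), (nat_lit 0x4bf3496f27e49ed8b9625df6c17b2f), (nat_lit 0xd7c17920600ee723110a01678827f4), (nat_lit 0)⟩) (BT.leaf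 ⟨(nat_lit 3), (nat_lit 3), (nat_lit 5), (nat_lit 0xd7c17920600ee723110a01678827f4), (nat_lit 0x4bf3496f27e49ed8b9625df6c17b2f), (nat_lit 0)⟩))))) (BT.node (nat_lit 632) (BT.node (nat_lit 628) (BT.node (nat_lit 626) (BT.node (nat_lit 625) (BT.leaf ⟨(nat_lit 1), (nat_lit 0), (nat_lit 0), (nat_lit 0x1d0a3b824f12110820042577b202204), (nat_lit 0x1d0a3b824f12110820042577b202204), (nat_lit 0)⟩) (BT.leaf ⟨(nat_lit 1), (nat_lit 0), (nat_lit 0), (nat_lit 0x2816ffc683d9d1401afe1beea79980), (nat_lit 0x2816ffc683d9d1401afe1beea79980), (nat_lit 0)⟩)) (BT.node (nat_lit 627) (BT.leaf ⟨(nat_lit 2), (nat_lit 5), (nat_lit 5), (nat_lit 0x1e33ce8b74cba37e6d8d626e372c5d2), (nat_lit 0), (nat_lit 0)⟩) (BT.leaf ⟨(nat_lit 1), (nat_lit 0), (nat_lit 0), (nat_lit 0x10835ce00675755a344071b4be08500), (nat_lit 0x10835ce00675755a344071b4be08500), (nat_lit 0)⟩))) (BT.node (nat_lit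 630) (BT.node (nat_lit 629) (BT.leaf ⟨(nat_lit 1), (nat_lit 0), (nat_lit 0), (nat_lit 0x1126f195083c1b5a2f90850cca0050), (nat_lit 0x1126f195083c1b5a2f90850cca0050), (nat_lit 0)⟩) (BT.leaf ⟨(nat_lit 1), (nat_lit 0), (nat_lit 0), (nat_lit 0x1eea6cf38e7dceb77d650f8d278d72a), (nat_lit 0x1eea6cf38e7dceb77d650f8d278d72a), (nat_lit 0)⟩)) (BT.node (nat_lit 631) (BT.leaf ⟨(nat_lit 1), (nat_lit 0), (nat_lit 0), (nat_lit 0x17a6f55e0ad131f05df8b91edd571e8), (nat_lit 0x17a6f55e0ad131f05df8b91edd571e8), (nat_lit 0)⟩) (BT.leaf ⟨(nat_lit 1), (nat_lit 0), (nat_lit 0), (nat_lit 0x10ccb7f06089ad12021ff9a140302f9), (nat_lit 0x10ccb7f06089ad12021ff9a140302f9), (nat_lit 0)⟩)))) (BT.node (nat_lit 636) (BT.node (nat_lit 634) (BT.node (nat_lit 633) (BT.leaf ⟨(nat_lit 2), (nat_lit 1), (nat_lit 1), (nat_lit 0x1e43bebe17c52951b7e37c66f26c95a), (nat_lit 0), (nat_lit 0)⟩) (BT.leaf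 ⟨(nat_lit 2), (nat_lit 1), (nat_lit 1), (nat_lit 0x15972fa5f6e12ae8ca1ff6e6f12f6c1), (nat_lit 0), (nat_lit 0)⟩)) (BT.node (nat_lit 635) (BT.leaf ⟨(nat_lit 2), (nat_lit 1), (nat_lit 1), (nat_lit 0x17b00a00c4081124d6f0e7de2442742), (nat_lit 0), (nat_lit 0)⟩) (BT.leaf ⟨(nat_lit 2), (nat_lit 1), (nat_lit 1), (nat_lit 0x2814088e9cac40c2084afe164b1dd), (nat_lit 0), (nat_lit 0)⟩))) (BT.node (nat_lit 638) (BT.node (nat_lit 637) (BT.leaf ⟨(nat_lit 2), (nat_lit 1), (nat_lit 1), (nat_lit 0x902c6a046019cd401e30be8227a69e), (nat_lit 0), (nat_lit 0)⟩) (BT.leaf ⟨(nat_lit 2), (nat_lit 1), (nat_lit 1), (nat_lit 0x1400a79d2217e3ab3f302006154c8e), (nat_lit 0), (nat_lit 0)⟩)) (BT.node (nat_lit 639) (BT.leaf ⟨(nat_lit 2), (nat_lit 1), (nat_lit 1), (nat_lit 0x55448088f8dee8c0080140a0279e74), (nat_lit 0), (nat_lit 0)⟩) (BT.leaf ⟨(nat_lit 2), (nat_lit 1), (nat_lit 1), (nat_lit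 0x1d1ea374ef8c1f323519ecdd59575ff), (nat_lit 0), (nat_lit 0)⟩)))))))
noncomputable def cP576 : BT Pf := (BT.node (nat_lit 608) (BT.node (nat_lit 592) (BT.node (nat_lit 584) (BT.node (nat_lit 580) (BT.node (nat_lit 578) (BT.node (nat_lit 577) (BT.leaf (.rel (nat_lit 297) (nat_lit 5) [(nat_lit 574), (nat_lit 573)] [⟨(nat_lit 251), [(nat_lit 452), (nat_lit 210)], [(nat_lit 575), (nat_lit 401)]⟩, ⟨(nat_lit 535), [(nat_lit 112)], [(nat_lit 256), (nat_lit 294)]⟩])) (BT.leaf (.inv (nat_lit 576)))) (BT.node (nat_lit 579) (BT.leaf (.nmul (nat_lit 319) [(nat_lit 43)])) (BT.leaf (.nmul (nat_lit 213) [(nat_lit 19)])))) (BT.node (nat_lit 582) (BT.node (nat_lit 581) (BT.leaf (.nmul (nat_lit 398) [(nat_lit 43)])) (BT.leaf (.nmul (nat_lit 580) [(nat_lit 1)]))) (BT.node (nat_lit 583) (BT.leaf (.nmul (nat_lit 446) [(nat_lit 43)])) (BT.leaf (.rel (nat_lit 571) (nat_lit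 1) [(nat_lit 579), (nat_lit 578)] [⟨(nat_lit 571), [], [(nat_lit 582), (nat_lit 581)]⟩]))))) (BT.node (nat_lit 588) (BT.node (nat_lit 586) (BT.node (nat_lit 585) (BT.leaf (.nmul (nat_lit 124) [(nat_lit 43)])) (BT.leaf (.nmul (nat_lit 584) [(nat_lit 1)]))) (BT.node (nat_lit 587) (BT.leaf (.nmul (nat_lit 585) [(nat_lit 0)])) (BT.leaf (.nmul (nat_lit 393) [(nat_lit 19)])))) (BT.node (nat_lit 590) (BT.node (nat_lit 589) (BT.leaf (.rel (nat_lit 541) (nat_lit 5) [(nat_lit 130), (nat_lit 236)] [⟨(nat_lit 309), [(nat_lit 417)], [(nat_lit 214), (nat_lit 384)]⟩, ⟨(nat_lit 560), [(nat_lit 238), (nat_lit 112)], [(nat_lit 587), (nat_lit 586)]⟩])) (BT.leaf (.dfn [(nat_lit 3)]))) (BT.node (nat_lit 591) (BT.leaf (.emul [(nat_lit 131), (nat_lit 210)])) (BT.leaf (.emul [(nat_lit 210), (nat_lit 590)])))))) (BT.node (nat_lit 600) (BT.node (nat_lit 596) (BT.node (nat_lit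 594) (BT.node (nat_lit 593) (BT.leaf (.emul [(nat_lit 168), (nat_lit 591)])) (BT.leaf (.nmul (nat_lit 465) [(nat_lit 0)]))) (BT.node (nat_lit 595) (BT.leaf (.cmp (nat_lit 589) ⟨(nat_lit 589), [(nat_lit 238), (nat_lit 592)], [(nat_lit 587), (nat_lit 593)]⟩)) (BT.leaf (.inv (nat_lit 589))))) (BT.node (nat_lit 598) (BT.node (nat_lit 597) (BT.leaf (.nmul (nat_lit 224) [(nat_lit 0)])) (BT.leaf (.nmul (nat_lit 596) [(nat_lit 43)]))) (BT.node (nat_lit 599) (BT.leaf (.emul [(nat_lit 168), (nat_lit 210)])) (BT.leaf (.emul [(nat_lit 210), (nat_lit 598)]))))) (BT.node (nat_lit 604) (BT.node (nat_lit 602) (BT.node (nat_lit 601) (BT.leaf (.emul [(nat_lit 210), (nat_lit 599)])) (BT.leaf (.emul [(nat_lit 143), (nat_lit 600)]))) (BT.node (nat_lit 603) (BT.leaf (.rel (nat_lit 382) (nat_lit 0) [(nat_lit 508), (nat_lit 597)] [⟨(nat_lit 589), [(nat_lit 601)], [(nat_lit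 569), (nat_lit 125)]⟩])) (BT.leaf (.inv (nat_lit 602))))) (BT.node (nat_lit 606) (BT.node (nat_lit 605) (BT.leaf (.nmul (nat_lit 140) [(nat_lit 1)])) (BT.leaf (.nmul (nat_lit 604) [(nat_lit 0)]))) (BT.node (nat_lit 607) (BT.leaf (.nmul (nat_lit 605) [(nat_lit 19)])) (BT.leaf (.cmp (nat_lit 603) ⟨(nat_lit 603), [(nat_lit 444)], [(nat_lit 538), (nat_lit 606)]⟩))))))) (BT.node (nat_lit 624) (BT.node (nat_lit 616) (BT.node (nat_lit 612) (BT.node (nat_lit 610) (BT.node (nat_lit 609) (BT.leaf (.emul [(nat_lit 47), (nat_lit 268)])) (BT.leaf (.emul [(nat_lit 47), (nat_lit 608)]))) (BT.node (nat_lit 611) (BT.leaf (.emul [(nat_lit 47), (nat_lit 609)])) (BT.leaf (.emul [(nat_lit 86), (nat_lit 610)])))) (BT.node (nat_lit 614) (BT.node (nat_lit 613) (BT.leaf (.emul [(nat_lit 73), (nat_lit 161)])) (BT.leaf (.emul [(nat_lit 86), (nat_lit 612)]))) (BT.node (nat_lit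 615) (BT.leaf (.emul [(nat_lit 73), (nat_lit 613)])) (BT.leaf (.emul [(nat_lit 143), (nat_lit 112)]))))) (BT.node (nat_lit 620) (BT.node (nat_lit 618) (BT.node (nat_lit 617) (BT.leaf (.rel (nat_lit 323) (nat_lit 5) [(nat_lit 208), (nat_lit 90)] [⟨(nat_lit 99), [(nat_lit 611), (nat_lit 614)], [(nat_lit 487), (nat_lit 584)]⟩, ⟨(nat_lit 589), [(nat_lit 452), (nat_lit 615)], [(nat_lit 129), (nat_lit 319)]⟩])) (BT.leaf (.inv (nat_lit 616)))) (BT.node (nat_lit 619) (BT.leaf (.nmul (nat_lit 296) [(nat_lit 19)])) (BT.leaf (.nmul (nat_lit 618) [(nat_lit 43)])))) (BT.node (nat_lit 622) (BT.node (nat_lit 621) (BT.leaf (.nmul (nat_lit 619) [(nat_lit 19)])) (BT.leaf (.rel (nat_lit 602) (nat_lit 1) [(nat_lit 620), (nat_lit 1)] [⟨(nat_lit 476), [], [(nat_lit 360), (nat_lit 375)]⟩]))) (BT.node (nat_lit 623) (BT.leaf (.inv (nat_lit 621))) (BT.leaf (.inv (nat_lit 622)))))))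 (BT.node (nat_lit 632) (BT.node (nat_lit 628) (BT.node (nat_lit 626) (BT.node (nat_lit 625) (BT.leaf (.nmul (nat_lit 438) [(nat_lit 1)])) (BT.leaf (.nmul (nat_lit 624) [(nat_lit 19)]))) (BT.node (nat_lit 627) (BT.leaf (.cmp (nat_lit 623) ⟨(nat_lit 603), [(nat_lit 329)], [(nat_lit 441), (nat_lit 625)]⟩)) (BT.leaf (.nmul (nat_lit 247) [(nat_lit 43)])))) (BT.node (nat_lit 630) (BT.node (nat_lit 629) (BT.leaf (.nmul (nat_lit 627) [(nat_lit 1)])) (BT.leaf (.nmul (nat_lit 392) [(nat_lit 43)]))) (BT.node (nat_lit 631) (BT.leaf (.nmul (nat_lit 629) [(nat_lit 19)])) (BT.leaf (.nmul (nat_lit 630) [(nat_lit 43)]))))) (BT.node (nat_lit 636) (BT.node (nat_lit 634) (BT.node (nat_lit 633) (BT.leaf (.emul [(nat_lit 46), (nat_lit 301)])) (BT.leaf (.emul [(nat_lit 47), (nat_lit 632)]))) (BT.node (nat_lit 635) (BT.leaf (.emul [(nat_lit 46), (nat_lit 633)])) (BT.leaf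 (.emul [(nat_lit 73), (nat_lit 220)])))) (BT.node (nat_lit 638) (BT.node (nat_lit 637) (BT.leaf (.emul [(nat_lit 86), (nat_lit 635)])) (BT.leaf (.emul [(nat_lit 73), (nat_lit 636)]))) (BT.node (nat_lit 639) (BT.leaf (.emul [(nat_lit 86), (nat_lit 637)])) (BT.leaf (.emul [(nat_lit 73), (nat_lit 638)]))))))))
noncomputable def cF640 : BT Fc := (BT.node (nat_lit 672) (BT.node (nat_lit 656) (BT.node (nat_lit 648) (BT.node (nat_lit 644) (BT.node (nat_lit 642) (BT.node (nat_lit 641) (BT.leaf ⟨(nat_lit 2), (nat_lit 1), (nat_lit 1), (nat_lit 0xee571b002093a32335fd1a6031d573), (nat_lit 0), (nat_lit 0)⟩) (BT.leaf ⟨(nat_lit 2), (nat_lit 1), (nat_lit 1), (nat_lit 0xcd7a34a5eac1f323519e9dd0957747), (nat_lit 0), (nat_lit 0)⟩)) (BT.node (nat_lit 643) (BT.leaf ⟨(nat_lit 3), (nat_lit 5), (nat_lit 2), (nat_lit 0x1cfb95615675ce1d273ac75cca6cf7a), (nat_lit 0x78d012040be80100a80172841ead8d),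 (nat_lit 0)⟩) (BT.leaf ⟨(nat_lit 3), (nat_lit 2), (nat_lit 5), (nat_lit 0x78d012040be80100a80172841ead8d), (nat_lit 0x1cfb95615675ce1d273ac75cca6cf7a), (nat_lit 0)⟩))) (BT.node (nat_lit 646) (BT.node (nat_lit 645) (BT.leaf ⟨(nat_lit 2), (nat_lit 2), (nat_lit 2), (nat_lit 0x178305d68b910f7dbde93377a1575ea), (nat_lit 0), (nat_lit 0)⟩) (BT.leaf ⟨(nat_lit 2), (nat_lit 5), (nat_lit 5), (nat_lit 0x87d7c841866100226b42dff37bd195), (nat_lit 0), (nat_lit 0)⟩)) (BT.node (nat_lit 647) (BT.leaf ⟨(nat_lit 1), (nat_lit 0), (nat_lit 0), (nat_lit 0x1001000088e6f8c2000493c006f4010), (nat_lit 0x1001000088e6f8c2000493c006f4010), (nat_lit 0)⟩) (BT.leaf ⟨(nat_lit 1), (nat_lit 0), (nat_lit 0), (nat_lit 0x1570178fa6e04b7ed9af25ee5b0ad2f), (nat_lit 0x1570178fa6e04b7ed9af25ee5b0ad2f), (nat_lit 0)⟩)))) (BT.node (nat_lit 652) (BT.node (nat_lit 650) (BT.node (nat_lit 649) (BT.leaf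 ⟨(nat_lit 3), (nat_lit 5), (nat_lit 3), (nat_lit 0x4ac7d02f65e49f0ad5ccd26bed8fdb), (nat_lit 0x1bbf8d63ae70b4b9df3aa74e919d07c), (nat_lit 0)⟩) (BT.leaf ⟨(nat_lit 3), (nat_lit 3), (nat_lit 5), (nat_lit 0x1bbf8d63ae70b4b9df3aa74e919d07c), (nat_lit 0x4ac7d02f65e49f0ad5ccd26bed8fdb), (nat_lit 0)⟩)) (BT.node (nat_lit 651) (BT.leaf ⟨(nat_lit 2), (nat_lit 3), (nat_lit 3), (nat_lit 0x1c683027f0420811012004514e5f0a0), (nat_lit 0), (nat_lit 0)⟩) (BT.leaf ⟨(nat_lit 1), (nat_lit 0), (nat_lit 0), (nat_lit 0x1e7527f2a024060281c591db9208010), (nat_lit 0x1e7527f2a024060281c591db9208010), (nat_lit 0)⟩))) (BT.node (nat_lit 654) (BT.node (nat_lit 653) (BT.leaf ⟨(nat_lit 1), (nat_lit 0), (nat_lit 0), (nat_lit 0x95d27a5d6e1465c56c1f6f594731bc), (nat_lit 0x95d27a5d6e1465c56c1f6f594731bc), (nat_lit 0)⟩) (BT.leaf ⟨(nat_lit 1), (nat_lit 0), (nat_lit 0), (nat_lit 0x301d1fcd43e65420044b510cca0050),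 (nat_lit 0x301d1fcd43e65420044b510cca0050), (nat_lit 0)⟩)) (BT.node (nat_lit 655) (BT.leaf ⟨(nat_lit 2), (nat_lit 5), (nat_lit 5), (nat_lit 0xc4c65f8d2f3963e6d34f18e3746ea2), (nat_lit 0), (nat_lit 0)⟩) (BT.leaf ⟨(nat_lit 3), (nat_lit 2), (nat_lit 6), (nat_lit 0x152ed88edd829a9d2496c4fdf6cf313), (nat_lit 0x1001001001001001001001001001001), (nat_lit 0)⟩))))) (BT.node (nat_lit 664) (BT.node (nat_lit 660) (BT.node (nat_lit 658) (BT.node (nat_lit 657) (BT.leaf ⟨(nat_lit 2), (nat_lit 2), (nat_lit 2), (nat_lit 0x11c4eb80a4ba1081101220401801003), (nat_lit 0), (nat_lit 0)⟩) (BT.leaf ⟨(nat_lit 3), (nat_lit 6), (nat_lit 2), (nat_lit 0x1001001001001001001001001001001), (nat_lit 0x152ed88edd829a9d2496c4fdf6cf313), (nat_lit 0)⟩)) (BT.node (nat_lit 659) (BT.leaf ⟨(nat_lit 2), (nat_lit 2), (nat_lit 2), (nat_lit 0x40420c72043e312f5e9102ae002811), (nat_lit 0), (nat_lit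 0)⟩) (BT.leaf ⟨(nat_lit 2), (nat_lit 2), (nat_lit 2), (nat_lit 0x1a4fe3646365c1b34f42e9d7fd57756), (nat_lit 0), (nat_lit 0)⟩))) (BT.node (nat_lit 662) (BT.node (nat_lit 661) (BT.leaf ⟨(nat_lit 2), (nat_lit 2), (nat_lit 2), (nat_lit 0x97900be28e44064ff4708200402803), (nat_lit 0), (nat_lit 0)⟩) (BT.leaf ⟨(nat_lit 2), (nat_lit 2), (nat_lit 2), (nat_lit 0x19a5ec335c8da4e8cf47f8dd1957744), (nat_lit 0), (nat_lit 0)⟩)) (BT.node (nat_lit 663) (BT.leaf ⟨(nat_lit 1), (nat_lit 0), (nat_lit 0), (nat_lit 0x2dfbd7ba39dceec187c692b49d2738), (nat_lit 0x2dfbd7ba39dceec187c692b49d2738), (nat_lit 0)⟩) (BT.leaf ⟨(nat_lit 2), (nat_lit 2), (nat_lit 2), (nat_lit 0x20bc7902804f849681201401801003), (nat_lit 0), (nat_lit 0)⟩)))) (BT.node (nat_lit 668) (BT.node (nat_lit 666) (BT.node (nat_lit 665) (BT.leaf ⟨(nat_lit 2), (nat_lit 2), (nat_lit 2), (nat_lit 0x7a18e60b3373a1695ecb51d45575f8),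 (nat_lit 0), (nat_lit 0)⟩) (BT.leaf ⟨(nat_lit 3), (nat_lit 6), (nat_lit 3), (nat_lit 0xd199d402bab010f42f4fc702200e00), (nat_lit 0x1f6f0aea235edc09fb2f21e0beae2cc), (nat_lit 0)⟩)) (BT.node (nat_lit 667) (BT.leaf ⟨(nat_lit 3), (nat_lit 3), (nat_lit 6), (nat_lit 0x1f6f0aea235edc09fb2f21e0beae2cc), (nat_lit 0xd199d402bab010f42f4fc702200e00), (nat_lit 0)⟩) (BT.leaf ⟨(nat_lit 2), (nat_lit 3), (nat_lit 3), (nat_lit 0x1e423bda68f79ce39d5c50f0ce390ed), (nat_lit 0), (nat_lit 0)⟩))) (BT.node (nat_lit 670) (BT.node (nat_lit 669) (BT.leaf ⟨(nat_lit 2), (nat_lit 3), (nat_lit 3), (nat_lit 0xe8c300500829002016fd690cc240c0), (nat_lit 0), (nat_lit 0)⟩) (BT.leaf ⟨(nat_lit 2), (nat_lit 6), (nat_lit 6), (nat_lit 0x131fa8d682ed82cf45c85a4abaf64e8), (nat_lit 0), (nat_lit 0)⟩)) (BT.node (nat_lit 671) (BT.leaf ⟨(nat_lit 3), (nat_lit 5), (nat_lit 6), (nat_lit 0xee484101fe8600823009d0d7c17910),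 (nat_lit 0xc71439ce365ad3fa179da9b9378721), (nat_lit 0)⟩) (BT.leaf ⟨(nat_lit 2), (nat_lit 5), (nat_lit 5), (nat_lit 0x1cc90400c11095c0481801042093828), (nat_lit 0), (nat_lit 0)⟩)))))) (BT.node (nat_lit 688) (BT.node (nat_lit 680) (BT.node (nat_lit 676) (BT.node (nat_lit 674) (BT.node (nat_lit 673) (BT.leaf ⟨(nat_lit 2), (nat_lit 5), (nat_lit 5), (nat_lit 0x12fa4709e2ed26b60e9e626e93becde), (nat_lit 0), (nat_lit 0)⟩) (BT.leaf ⟨(nat_lit 1), (nat_lit 0), (nat_lit 0), (nat_lit 0x1e426cd177c478f05fe38dcd8fbe95a), (nat_lit 0x1e426cd177c478f05fe38dcd8fbe95a), (nat_lit 0)⟩)) (BT.node (nat_lit 675) (BT.leaf ⟨(nat_lit 3), (nat_lit 6), (nat_lit 5), (nat_lit 0xc71439ce365ad3fa179da9b9378721), (nat_lit 0xee484101fe8600823009d0d7c17910), (nat_lit 0)⟩) (BT.leaf ⟨(nat_lit 1), (nat_lit 0), (nat_lit 0), (nat_lit 0x1426f706083ad1204400810cc300c0), (nat_lit 0x1426f706083ad1204400810cc300c0),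 (nat_lit 0)⟩))) (BT.node (nat_lit 678) (BT.node (nat_lit 677) (BT.leaf ⟨(nat_lit 1), (nat_lit 0), (nat_lit 0), (nat_lit 0x1e43bebe17c52951b7e37c66f26c95a), (nat_lit 0x1e43bebe17c52951b7e37c66f26c95a), (nat_lit 0)⟩) (BT.leaf ⟨(nat_lit 2), (nat_lit 2), (nat_lit 2), (nat_lit 0x744421044081101274201801002806), (nat_lit 0), (nat_lit 0)⟩)) (BT.node (nat_lit 679) (BT.leaf ⟨(nat_lit 2), (nat_lit 3), (nat_lit 3), (nat_lit 0x16a030050d690cc2219508290024042), (nat_lit 0), (nat_lit 0)⟩) (BT.leaf ⟨(nat_lit 2), (nat_lit 3), (nat_lit 3), (nat_lit 0x1e426cd1737982e52be246c569663f3), (nat_lit 0), (nat_lit 0)⟩)))) (BT.node (nat_lit 684) (BT.node (nat_lit 682) (BT.node (nat_lit 681) (BT.leaf ⟨(nat_lit 2), (nat_lit 3), (nat_lit 3), (nat_lit 0xe8e6cd178ddf8cad3eb7e729566236), (nat_lit 0), (nat_lit 0)⟩) (BT.leaf ⟨(nat_lit 1), (nat_lit 0), (nat_lit 0), (nat_lit 0x108b7c40e0c87d7cfcd082100246b4),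 (nat_lit 0x108b7c40e0c87d7cfcd082100246b4), (nat_lit 0)⟩)) (BT.node (nat_lit 683) (BT.leaf ⟨(nat_lit 1), (nat_lit 0), (nat_lit 0), (nat_lit 0x3eb90b6c3ea716ea9ddb4c8db49eef), (nat_lit 0x3eb90b6c3ea716ea9ddb4c8db49eef), (nat_lit 0)⟩) (BT.leaf ⟨(nat_lit 3), (nat_lit 5), (nat_lit 5), (nat_lit 0xc4fe6dd2d442dd32f8ff0b9623758d), (nat_lit 0x5dad45f89d182d32deabc0ab9697e8), (nat_lit 0)⟩))) (BT.node (nat_lit 686) (BT.node (nat_lit 685) (BT.leaf ⟨(nat_lit 1), (nat_lit 0), (nat_lit 0), (nat_lit 0xc1e18208a7b53d6a99441080878a0), (nat_lit 0xc1e18208a7b53d6a99441080878a0), (nat_lit 0)⟩) (BT.leaf ⟨(nat_lit 3), (nat_lit 3), (nat_lit 6), (nat_lit 0x78d10202600f56c6a011728110053a), (nat_lit 0x422f000924e02006732014ac4eebeb), (nat_lit 0)⟩)) (BT.node (nat_lit 687) (BT.leaf ⟨(nat_lit 3), (nat_lit 6), (nat_lit 3), (nat_lit 0x422f000924e02006732014ac4eebeb), (nat_lit 0x78d10202600f56c6a011728110053a),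 (nat_lit 0)⟩) (BT.leaf ⟨(nat_lit 3), (nat_lit 5), (nat_lit 5), (nat_lit 0x880973800c409f0882e8802901042), (nat_lit 0x3e9b61952aa7d4ee9d13afbbf49a36), (nat_lit 0)⟩))))) (BT.node (nat_lit 696) (BT.node (nat_lit 692) (BT.node (nat_lit 690) (BT.node (nat_lit 689) (BT.leaf ⟨(nat_lit 2), (nat_lit 5), (nat_lit 5), (nat_lit 0x1000401d5400103c6de8010f8c0149e), (nat_lit 0), (nat_lit 0)⟩) (BT.leaf ⟨(nat_lit 1), (nat_lit 0), (nat_lit 0), (nat_lit 0x8050153ace6c01200b9410813f4600), (nat_lit 0x8050153ace6c01200b9410813f4600), (nat_lit 0)⟩)) (BT.node (nat_lit 691) (BT.leaf ⟨(nat_lit 1), (nat_lit 0), (nat_lit 0), (nat_lit 0xee4844e86bec03fa1041aa6031d573), (nat_lit 0xee4844e86bec03fa1041aa6031d573), (nat_lit 0)⟩) (BT.leaf ⟨(nat_lit 3), (nat_lit 5), (nat_lit 5), (nat_lit 0x4480a010129780192e00bbd440801), (nat_lit 0x1200445683008e7868c09e7f1840955), (nat_lit 0)⟩)))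 (BT.node (nat_lit 694) (BT.node (nat_lit 693) (BT.leaf ⟨(nat_lit 2), (nat_lit 5), (nat_lit 5), (nat_lit 0x215c9008e600bc6f46800f8c20001), (nat_lit 0), (nat_lit 0)⟩) (BT.leaf ⟨(nat_lit 1), (nat_lit 0), (nat_lit 0), (nat_lit 0x654b784148011219840881f34245a8), (nat_lit 0x654b784148011219840881f34245a8), (nat_lit 0)⟩)) (BT.node (nat_lit 695) (BT.leaf ⟨(nat_lit 1), (nat_lit 0), (nat_lit 0), (nat_lit 0x17ff653966d8a66c1f515f2aed1cd34), (nat_lit 0x17ff653966d8a66c1f515f2aed1cd34), (nat_lit 0)⟩) (BT.leaf ⟨(nat_lit 1), (nat_lit 0), (nat_lit 0), (nat_lit 0x15cd71e466bffd1801042004431d3b9), (nat_lit 0x15cd71e466bffd1801042004431d3b9), (nat_lit 0)⟩)))) (BT.node (nat_lit 700) (BT.node (nat_lit 698) (BT.node (nat_lit 697) (BT.leaf ⟨(nat_lit 1), (nat_lit 0), (nat_lit 0), (nat_lit 0x17d012204209018028065f803f4204), (nat_lit 0x17d012204209018028065f803f4204), (nat_lit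 0)⟩) (BT.leaf ⟨(nat_lit 3), (nat_lit 5), (nat_lit 5), (nat_lit 0x12782025f25e40000ef4e7401004080), (nat_lit 0x1f334d19e0dd3ba3e937b1d0b237c6), (nat_lit 0)⟩)) (BT.node (nat_lit 699) (BT.leaf ⟨(nat_lit 2), (nat_lit 5), (nat_lit 5), (nat_lit 0x87f1625e1cd97cde4ab4bb7492bb5f), (nat_lit 0), (nat_lit 0)⟩) (BT.leaf ⟨(nat_lit 3), (nat_lit 5), (nat_lit 5), (nat_lit 0xf5510280d3c812c69e34048042ffe8), (nat_lit 0xaf5dcc4d72caed5c2b11ccae5b6239), (nat_lit 0)⟩))) (BT.node (nat_lit 702) (BT.node (nat_lit 701) (BT.leaf ⟨(nat_lit 1), (nat_lit 0), (nat_lit 0), (nat_lit 0x180101220402cbd20204410a02c685f), (nat_lit 0x180101220402cbd20204410a02c685f), (nat_lit 0)⟩) (BT.leaf ⟨(nat_lit 2), (nat_lit 5), (nat_lit 5), (nat_lit 0x9742fec15be95cde24f43f74b2fb8a), (nat_lit 0), (nat_lit 0)⟩)) (BT.node (nat_lit 703) (BT.leaf ⟨(nat_lit 3), (nat_lit 5), (nat_lit 5), (nat_lit 0x1bf36a7214d5ad37244da2ebd0e74f4),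 (nat_lit 0x16a2e47e82ed780f47515a57e305c3d), (nat_lit 0)⟩) (BT.leaf ⟨(nat_lit 2), (nat_lit 3), (nat_lit 3), (nat_lit 0x18010032f402901102104119ce7a280), (nat_lit 0), (nat_lit 0)⟩)))))))
noncomputable def cP640 : BT Pf := (BT.node (nat_lit 672) (BT.node (nat_lit 656) (BT.node (nat_lit 648) (BT.node (nat_lit 644) (BT.node (nat_lit 642) (BT.node (nat_lit 641) (BT.leaf (.emul [(nat_lit 86), (nat_lit 639)])) (BT.leaf (.emul [(nat_lit 86), (nat_lit 640)]))) (BT.node (nat_lit 643) (BT.leaf (.rel (nat_lit 113) (nat_lit 2) [(nat_lit 631), (nat_lit 628)] [⟨(nat_lit 99), [(nat_lit 634), (nat_lit 641)], [(nat_lit 521), (nat_lit 328)]⟩, ⟨(nat_lit 589), [(nat_lit 154)], [(nat_lit 402), (nat_lit 236)]⟩])) (BT.leaf (.inv (nat_lit 642))))) (BT.node (nat_lit 646) (BT.node (nat_lit 645) (BT.leaf (.emul [(nat_lit 210), (nat_lit 592)])) (BT.leaf (.cmp (nat_lit 643) ⟨(nat_lit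 589), [(nat_lit 644)], [(nat_lit 256), (nat_lit 491)]⟩))) (BT.node (nat_lit 647) (BT.leaf (.nmul (nat_lit 504) [(nat_lit 19)])) (BT.leaf (.nmul (nat_lit 646) [(nat_lit 19)]))))) (BT.node (nat_lit 652) (BT.node (nat_lit 650) (BT.node (nat_lit 649) (BT.leaf (.rel (nat_lit 524) (nat_lit 1) [(nat_lit 273), (nat_lit 647)] [⟨(nat_lit 603), [(nat_lit 329)], [(nat_lit 280), (nat_lit 109)]⟩])) (BT.leaf (.inv (nat_lit 648)))) (BT.node (nat_lit 651) (BT.leaf (.emul [(nat_lit 329), (nat_lit 437)])) (BT.leaf (.nmul (nat_lit 426) [(nat_lit 1)])))) (BT.node (nat_lit 654) (BT.node (nat_lit 653) (BT.leaf (.nmul (nat_lit 651) [(nat_lit 43)])) (BT.leaf (.nmul (nat_lit 510) [(nat_lit 19)]))) (BT.node (nat_lit 655) (BT.leaf (.cmp (nat_lit 649) ⟨(nat_lit 603), [(nat_lit 650)], [(nat_lit 653), (nat_lit 652)]⟩)) (BT.leaf (.dfn [(nat_lit 1), (nat_lit 3), (nat_lit 1), (nat_lit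 3), (nat_lit 1), (nat_lit 4)])))))) (BT.node (nat_lit 664) (BT.node (nat_lit 660) (BT.node (nat_lit 658) (BT.node (nat_lit 657) (BT.leaf (.emul [(nat_lit 143), (nat_lit 131)])) (BT.leaf (.inv (nat_lit 655)))) (BT.node (nat_lit 659) (BT.leaf (.emul [(nat_lit 210), (nat_lit 168)])) (BT.leaf (.emul [(nat_lit 210), (nat_lit 658)])))) (BT.node (nat_lit 662) (BT.node (nat_lit 661) (BT.leaf (.emul [(nat_lit 143), (nat_lit 659)])) (BT.leaf (.emul [(nat_lit 210), (nat_lit 660)]))) (BT.node (nat_lit 663) (BT.leaf (.nmul (nat_lit 384) [(nat_lit 1)])) (BT.leaf (.emul [(nat_lit 154), (nat_lit 143)]))))) (BT.node (nat_lit 668) (BT.node (nat_lit 666) (BT.node (nat_lit 665) (BT.leaf (.emul [(nat_lit 168), (nat_lit 663)])) (BT.leaf (.rel (nat_lit 323) (nat_lit 4) [(nat_lit 283), (nat_lit 662)] [⟨(nat_lit 99), [(nat_lit 611), (nat_lit 614)], [(nat_lit 273), (nat_lit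 628)]⟩, ⟨(nat_lit 655), [(nat_lit 664)], [(nat_lit 502), (nat_lit 580)]⟩]))) (BT.node (nat_lit 667) (BT.leaf (.inv (nat_lit 665))) (BT.leaf (.emul [(nat_lit 329), (nat_lit 329)])))) (BT.node (nat_lit 670) (BT.node (nat_lit 669) (BT.leaf (.emul [(nat_lit 437), (nat_lit 667)])) (BT.leaf (.cmp (nat_lit 666) ⟨(nat_lit 666), [(nat_lit 668)], [(nat_lit 392), (nat_lit 107)]⟩))) (BT.node (nat_lit 671) (BT.leaf (.rel (nat_lit 657) (nat_lit 0) [(nat_lit 237), (nat_lit 530)] [⟨(nat_lit 589), [(nat_lit 454)], [(nat_lit 551), (nat_lit 190)]⟩])) (BT.leaf (.emul [(nat_lit 607), (nat_lit 594)]))))))) (BT.node (nat_lit 688) (BT.node (nat_lit 680) (BT.node (nat_lit 676) (BT.node (nat_lit 674) (BT.node (nat_lit 673) (BT.leaf (.emul [(nat_lit 626), (nat_lit 671)])) (BT.leaf (.nmul (nat_lit 492) [(nat_lit 43)]))) (BT.node (nat_lit 675) (BT.leaf (.inv (nat_lit 670))) (BT.leaf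 (.nmul (nat_lit 336) [(nat_lit 43)])))) (BT.node (nat_lit 678) (BT.node (nat_lit 677) (BT.leaf (.nmul (nat_lit 306) [(nat_lit 0)])) (BT.leaf (.emul [(nat_lit 168), (nat_lit 131)]))) (BT.node (nat_lit 679) (BT.leaf (.emul [(nat_lit 329), (nat_lit 443)])) (BT.leaf (.emul [(nat_lit 322), (nat_lit 678)]))))) (BT.node (nat_lit 684) (BT.node (nat_lit 682) (BT.node (nat_lit 681) (BT.leaf (.emul [(nat_lit 437), (nat_lit 679)])) (BT.leaf (.nmul (nat_lit 140) [(nat_lit 19)]))) (BT.node (nat_lit 683) (BT.leaf (.nmul (nat_lit 681) [(nat_lit 43)])) (BT.leaf (.rel (nat_lit 602) (nat_lit 2) [(nat_lit 673), (nat_lit 478)] [⟨(nat_lit 464), [(nat_lit 680)], [(nat_lit 240), (nat_lit 139)]⟩, ⟨(nat_lit 603), [(nat_lit 650)], [(nat_lit 507), (nat_lit 682)]⟩])))) (BT.node (nat_lit 686) (BT.node (nat_lit 685) (BT.leaf (.nmul (nat_lit 202) [(nat_lit 0)])) (BT.leaf (.rel (nat_lit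 674) (nat_lit 0) [(nat_lit 402), (nat_lit 139)] [⟨(nat_lit 602), [(nat_lit 626)], [(nat_lit 447), (nat_lit 684)]⟩]))) (BT.node (nat_lit 687) (BT.leaf (.inv (nat_lit 685))) (BT.leaf (.rel (nat_lit 670) (nat_lit 0) [(nat_lit 467), (nat_lit 431)] [⟨(nat_lit 674), [(nat_lit 669)], [(nat_lit 239), (nat_lit 234)]⟩])))))) (BT.node (nat_lit 696) (BT.node (nat_lit 692) (BT.node (nat_lit 690) (BT.node (nat_lit 689) (BT.leaf (.emul [(nat_lit 645), (nat_lit 645)])) (BT.leaf (.nmul (nat_lit 673) [(nat_lit 43)]))) (BT.node (nat_lit 691) (BT.leaf (.nmul (nat_lit 689) [(nat_lit 19)])) (BT.leaf (.rel (nat_lit 687) (nat_lit 0) [(nat_lit 349), (nat_lit 555)] [⟨(nat_lit 687), [(nat_lit 688)], [(nat_lit 690), (nat_lit 107)]⟩])))) (BT.node (nat_lit 694) (BT.node (nat_lit 693) (BT.leaf (.emul [(nat_lit 654), (nat_lit 607)])) (BT.leaf (.nmul (nat_lit 125) [(nat_lit 43)])))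 (BT.node (nat_lit 695) (BT.leaf (.nmul (nat_lit 693) [(nat_lit 1)])) (BT.leaf (.nmul (nat_lit 380) [(nat_lit 43)]))))) (BT.node (nat_lit 700) (BT.node (nat_lit 698) (BT.node (nat_lit 697) (BT.leaf (.nmul (nat_lit 695) [(nat_lit 19)])) (BT.leaf (.rel (nat_lit 683) (nat_lit 1) [(nat_lit 296), (nat_lit 651)] [⟨(nat_lit 683), [(nat_lit 692)], [(nat_lit 696), (nat_lit 694)]⟩]))) (BT.node (nat_lit 699) (BT.leaf (.emul [(nat_lit 594), (nat_lit 654)])) (BT.leaf (.rel (nat_lit 687) (nat_lit 0) [(nat_lit 212), (nat_lit 319)] [⟨(nat_lit 687), [(nat_lit 698)], [(nat_lit 258), (nat_lit 401)]⟩])))) (BT.node (nat_lit 702) (BT.node (nat_lit 701) (BT.leaf (.nmul (nat_lit 529) [(nat_lit 1)])) (BT.leaf (.emul [(nat_lit 626), (nat_lit 594)]))) (BT.node (nat_lit 703) (BT.leaf (.rel (nat_lit 683) (nat_lit 0) [(nat_lit 539), (nat_lit 700)] [⟨(nat_lit 683), [(nat_lit 701)],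 [(nat_lit 483), (nat_lit 347)]⟩])) (BT.leaf (.emul [(nat_lit 329), (nat_lit 496)]))))))))
noncomputable def cF704 : BT Fc := (BT.node (nat_lit 736) (BT.node (nat_lit 720) (BT.node (nat_lit 712) (BT.node (nat_lit 708) (BT.node (nat_lit 706) (BT.node (nat_lit 705) (BT.leaf ⟨(nat_lit 2), (nat_lit 5), (nat_lit 5), (nat_lit 0x7461e8fa38b962eabd546c75cfaeef), (nat_lit 0), (nat_lit 0)⟩) (BT.leaf ⟨(nat_lit 1), (nat_lit 0), (nat_lit 0), (nat_lit 0x1d0b49f66f8dc1b23756cd3d1cd9519), (nat_lit 0x1d0b49f66f8dc1b23756cd3d1cd9519), (nat_lit 0)⟩)) (BT.node (nat_lit 707) (BT.leaf ⟨(nat_lit 3), (nat_lit 5), (nat_lit 5), (nat_lit 0x2e5cb44d5f2aed5ed83ea3b2a9a2b9), (nat_lit 0x17551b1d7dde715b60fa3a2e2ad33d5), (nat_lit 0)⟩) (BT.leaf ⟨(nat_lit 1), (nat_lit 0), (nat_lit 0), (nat_lit 0x1002f40088e7279f1ab908097cea801), (nat_lit 0x1002f40088e7279f1ab908097cea801), (nat_lit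 0)⟩))) (BT.node (nat_lit 710) (BT.node (nat_lit 709) (BT.leaf ⟨(nat_lit 2), (nat_lit 5), (nat_lit 5), (nat_lit 0x877af3be8ef8820ab8f180240292e), (nat_lit 0), (nat_lit 0)⟩) (BT.leaf ⟨(nat_lit 2), (nat_lit 5), (nat_lit 5), (nat_lit 0x7461e9d738a7d4ea95546c3eb2c1dd), (nat_lit 0), (nat_lit 0)⟩)) (BT.node (nat_lit 711) (BT.leaf ⟨(nat_lit 1), (nat_lit 0), (nat_lit 0), (nat_lit 0x11cf164538e3e423da87692cd765673), (nat_lit 0x11cf164538e3e423da87692cd765673), (nat_lit 0)⟩) (BT.leaf ⟨(nat_lit 1), (nat_lit 0), (nat_lit 0), (nat_lit 0xf8808f8c25c807a3f3b00608600901), (nat_lit 0xf8808f8c25c807a3f3b00608600901), (nat_lit 0)⟩)))) (BT.node (nat_lit 716) (BT.node (nat_lit 714) (BT.node (nat_lit 713) (BT.leaf ⟨(nat_lit 1), (nat_lit 0), (nat_lit 0), (nat_lit 0x14d0bce8d71bf345bdd2f0bc37c6f9d), (nat_lit 0x14d0bce8d71bf345bdd2f0bc37c6f9d), (nat_lit 0)⟩) (BT.leaf ⟨(nat_lit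 3), (nat_lit 4), (nat_lit 5), (nat_lit 0x6cb90979da873bedc4ddf9ad33a26a), (nat_lit 0x17b0f42aeb510f6fc751fd17ab05ce8), (nat_lit 0)⟩)) (BT.node (nat_lit 715) (BT.leaf ⟨(nat_lit 3), (nat_lit 5), (nat_lit 4), (nat_lit 0x17b0f42aeb510f6fc751fd17ab05ce8), (nat_lit 0x6cb90979da873bedc4ddf9ad33a26a), (nat_lit 0)⟩) (BT.leaf ⟨(nat_lit 2), (nat_lit 5), (nat_lit 5), (nat_lit 0x4b55d8228e2008ebf444bb2739c006), (nat_lit 0), (nat_lit 0)⟩))) (BT.node (nat_lit 718) (BT.node (nat_lit 717) (BT.leaf ⟨(nat_lit 2), (nat_lit 5), (nat_lit 5), (nat_lit 0x1ccbdd73ea75de9d272a6758eb9c0b7), (nat_lit 0), (nat_lit 0)⟩) (BT.leaf ⟨(nat_lit 1), (nat_lit 0), (nat_lit 0), (nat_lit 0x78df5b638dcf9cad3e1f20f8dd1e0b), (nat_lit 0x78df5b638dcf9cad3e1f20f8dd1e0b), (nat_lit 0)⟩)) (BT.node (nat_lit 719) (BT.leaf ⟨(nat_lit 2), (nat_lit 4), (nat_lit 6), (nat_lit 0x3eb511af25a5bc93fdb21edc097e69),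 (nat_lit 0), (nat_lit 0)⟩) (BT.leaf ⟨(nat_lit 2), (nat_lit 6), (nat_lit 4), (nat_lit 0x974ebc71204108055ea045ce0413e1), (nat_lit 0), (nat_lit 0)⟩))))) (BT.node (nat_lit 728) (BT.node (nat_lit 724) (BT.node (nat_lit 722) (BT.node (nat_lit 721) (BT.leaf ⟨(nat_lit 3), (nat_lit 4), (nat_lit 2), (nat_lit 0x974ebc71204108055ea045ce0413e1), (nat_lit 0x152ed88edd829a9d2496c4fdf6cf313), (nat_lit 0)⟩) (BT.leaf ⟨(nat_lit 3), (nat_lit 4), (nat_lit 3), (nat_lit 0x849725e006015f149fbd2204ea101), (nat_lit 0x1f6f0aea235edc09fb2f21e0beae2cc), (nat_lit 0)⟩)) (BT.node (nat_lit 723) (BT.leaf ⟨(nat_lit 3), (nat_lit 4), (nat_lit 3), (nat_lit 0xe2b49dd53a8754eb9f53a2f547d721), (nat_lit 0x78d10202600f56c6a011728110053a), (nat_lit 0)⟩) (BT.leaf ⟨(nat_lit 3), (nat_lit 2), (nat_lit 4), (nat_lit 0x152ed88edd829a9d2496c4fdf6cf313), (nat_lit 0x974ebc71204108055ea045ce0413e1), (nat_lit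 0)⟩))) (BT.node (nat_lit 726) (BT.node (nat_lit 725) (BT.leaf ⟨(nat_lit 3), (nat_lit 3), (nat_lit 4), (nat_lit 0x1f6f0aea235edc09fb2f21e0beae2cc), (nat_lit 0x849725e006015f149fbd2204ea101), (nat_lit 0)⟩) (BT.leaf ⟨(nat_lit 3), (nat_lit 3), (nat_lit 4), (nat_lit 0x78d10202600f56c6a011728110053a), (nat_lit 0xe2b49dd53a8754eb9f53a2f547d721), (nat_lit 0)⟩)) (BT.node (nat_lit 727) (BT.leaf ⟨(nat_lit 1), (nat_lit 0), (nat_lit 0), (nat_lit 0x60171ce8a00c03fa101204ee71d110), (nat_lit 0x60171ce8a00c03fa101204ee71d110), (nat_lit 0)⟩) (BT.leaf ⟨(nat_lit 2), (nat_lit 4), (nat_lit 4), (nat_lit 0x6004170d110301b1a392aa24240084), (nat_lit 0), (nat_lit 0)⟩)))) (BT.node (nat_lit 732) (BT.node (nat_lit 730) (BT.node (nat_lit 729) (BT.leaf ⟨(nat_lit 2), (nat_lit 4), (nat_lit 4), (nat_lit 0x1723a8ce8b51fa18e7b75a466ef4568), (nat_lit 0), (nat_lit 0)⟩) (BT.leaf ⟨(nat_lit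 2), (nat_lit 4), (nat_lit 4), (nat_lit 0x7a19d60068d0060252f5e908240440), (nat_lit 0), (nat_lit 0)⟩)) (BT.node (nat_lit 731) (BT.leaf ⟨(nat_lit 3), (nat_lit 3), (nat_lit 2), (nat_lit 0x1d10410128e2aee013e1939ce12e803), (nat_lit 0xbf0a93f2df31cd792efb76c59792f), (nat_lit 0)⟩) (BT.leaf ⟨(nat_lit 3), (nat_lit 2), (nat_lit 3), (nat_lit 0xbf0a93f2df31cd792efb76c59792f), (nat_lit 0x1d10410128e2aee013e1939ce12e803), (nat_lit 0)⟩))) (BT.node (nat_lit 734) (BT.node (nat_lit 733) (BT.leaf ⟨(nat_lit 3), (nat_lit 5), (nat_lit 4), (nat_lit 0xee484101fe8600823009d0d7c17910), (nat_lit 0x96c42404e7c11012204208033a149a), (nat_lit 0)⟩) (BT.leaf ⟨(nat_lit 1), (nat_lit 0), (nat_lit 0), (nat_lit 0x10ce6f6b443fc1ad404432a140302f9), (nat_lit 0x10ce6f6b443fc1ad404432a140302f9), (nat_lit 0)⟩)) (BT.node (nat_lit 735) (BT.leaf ⟨(nat_lit 1), (nat_lit 0), (nat_lit 0), (nat_lit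 0x7521eeef38a7d4ca955a96e2b2c5d5), (nat_lit 0x7521eeef38a7d4ca955a96e2b2c5d5), (nat_lit 0)⟩) (BT.leaf ⟨(nat_lit 3), (nat_lit 5), (nat_lit 5), (nat_lit 0x1e279f6f0089012f60243a20512d884), (nat_lit 0x2e713ab82b48e75cab189adb3652bb), (nat_lit 0)⟩)))))) (BT.node (nat_lit 752) (BT.node (nat_lit 744) (BT.node (nat_lit 740) (BT.node (nat_lit 738) (BT.node (nat_lit 737) (BT.leaf ⟨(nat_lit 1), (nat_lit 0), (nat_lit 0), (nat_lit 0x101002b904097c4073a008023a3100), (nat_lit 0x101002b904097c4073a008023a3100), (nat_lit 0)⟩) (BT.leaf ⟨(nat_lit 1), (nat_lit 0), (nat_lit 0), (nat_lit 0x1d461e976bd982ef05e9b915a18e5f8), (nat_lit 0x1d461e976bd982ef05e9b915a18e5f8), (nat_lit 0)⟩)) (BT.node (nat_lit 739) (BT.leaf ⟨(nat_lit 1), (nat_lit 0), (nat_lit 0), (nat_lit 0x822a32014402e50832f500c027a53a), (nat_lit 0x822a32014402e50832f500c027a53a), (nat_lit 0)⟩) (BT.leaf ⟨(nat_lit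 3), (nat_lit 5), (nat_lit 5), (nat_lit 0xbe5b62bbbff89dcb2395625694c8b9), (nat_lit 0xac7a71273ba95c04088031bf2043eb), (nat_lit 0)⟩))) (BT.node (nat_lit 742) (BT.node (nat_lit 741) (BT.leaf ⟨(nat_lit 1), (nat_lit 0), (nat_lit 0), (nat_lit 0x7a30208000239d00493d1cef425f), (nat_lit 0x7a30208000239d00493d1cef425f), (nat_lit 0)⟩) (BT.leaf ⟨(nat_lit 1), (nat_lit 0), (nat_lit 0), (nat_lit 0x1e41e1be17cf1b91b1bca2efcd6615a), (nat_lit 0x1e41e1be17cf1b91b1bca2efcd6615a), (nat_lit 0)⟩)) (BT.node (nat_lit 743) (BT.leaf ⟨(nat_lit 3), (nat_lit 5), (nat_lit 5), (nat_lit 0x1202b40c05008e44470d9e79d16f880), (nat_lit 0x1203dd6741408e4403639e63016f888), (nat_lit 0)⟩) (BT.leaf ⟨(nat_lit 2), (nat_lit 4), (nat_lit 4), (nat_lit 0x10ce3bbfef211ce388edce6d2679d73), (nat_lit 0), (nat_lit 0)⟩)))) (BT.node (nat_lit 748) (BT.node (nat_lit 746) (BT.node (nat_lit 745) (BT.leaf ⟨(nat_lit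 2), (nat_lit 4), (nat_lit 4), (nat_lit 0x151be3646365d1effca5e9d9a557766), (nat_lit 0), (nat_lit 0)⟩) (BT.leaf ⟨(nat_lit 3), (nat_lit 3), (nat_lit 3), (nat_lit 0x108204de0a1f37bd706091102d4044), (nat_lit 0x75420200101e379d7467c60400425f), (nat_lit 0)⟩)) (BT.node (nat_lit 747) (BT.leaf ⟨(nat_lit 1), (nat_lit 0), (nat_lit 0), (nat_lit 0x281e1f66043b5110420f5aa6430030), (nat_lit 0x281e1f66043b5110420f5aa6430030), (nat_lit 0)⟩) (BT.leaf ⟨(nat_lit 1), (nat_lit 0), (nat_lit 0), (nat_lit 0x1e26c6fad7fc2df46d34f0ae372c5d2), (nat_lit 0x1e26c6fad7fc2df46d34f0ae372c5d2), (nat_lit 0)⟩))) (BT.node (nat_lit 750) (BT.node (nat_lit 749) (BT.leaf ⟨(nat_lit 3), (nat_lit 3), (nat_lit 3), (nat_lit 0x300c0363f8c204d7fba83c20850674), (nat_lit 0x11cda4d5c866a1f39da63371de3deca), (nat_lit 0)⟩) (BT.leaf ⟨(nat_lit 2), (nat_lit 2), (nat_lit 2), (nat_lit 0x4bf9d78d2011cd000103ab7a001746),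 (nat_lit 0), (nat_lit 0)⟩)) (BT.node (nat_lit 751) (BT.leaf ⟨(nat_lit 2), (nat_lit 3), (nat_lit 3), (nat_lit 0xf0c3027f1408801010fda80925f021), (nat_lit 0), (nat_lit 0)⟩) (BT.leaf ⟨(nat_lit 1), (nat_lit 0), (nat_lit 0), (nat_lit 0x1e3040901006025f16f5e7680600f47), (nat_lit 0x1e3040901006025f16f5e7680600f47), (nat_lit 0)⟩))))) (BT.node (nat_lit 760) (BT.node (nat_lit 756) (BT.node (nat_lit 754) (BT.node (nat_lit 753) (BT.leaf ⟨(nat_lit 1), (nat_lit 0), (nat_lit 0), (nat_lit 0x189d5c0b9562db15daf9ea2ee765299), (nat_lit 0x189d5c0b9562db15daf9ea2ee765299), (nat_lit 0)⟩) (BT.leaf ⟨(nat_lit 3), (nat_lit 3), (nat_lit 3), (nat_lit 0x2816f881100211b1f0d9006bd40239), (nat_lit 0xa229f660409fc506d497c18011420), (nat_lit 0)⟩)) (BT.node (nat_lit 755) (BT.leaf ⟨(nat_lit 2), (nat_lit 4), (nat_lit 4), (nat_lit 0x127fbec9ec4e9ab4f09e2ed07a4b0ed), (nat_lit 0), (nat_lit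 0)⟩) (BT.leaf ⟨(nat_lit 2), (nat_lit 4), (nat_lit 4), (nat_lit 0x1cab8d738e7d4e8e77ba0f8ceb1d565), (nat_lit 0), (nat_lit 0)⟩))) (BT.node (nat_lit 758) (BT.node (nat_lit 757) (BT.leaf ⟨(nat_lit 2), (nat_lit 4), (nat_lit 4), (nat_lit 0x1fd18e287df9bd7786b495745e7a7db), (nat_lit 0), (nat_lit 0)⟩) (BT.leaf ⟨(nat_lit 3), (nat_lit 3), (nat_lit 3), (nat_lit 0xf8411738ded0095da5d93875c01f44), (nat_lit 0x39b1625e0bedc28ca1f49e6f1c5565), (nat_lit 0)⟩)) (BT.node (nat_lit 759) (BT.leaf ⟨(nat_lit 3), (nat_lit 5), (nat_lit 5), (nat_lit 0x8e440180104a00d78811203033a363), (nat_lit 0x1810fa4088137a19995281c19d1af9), (nat_lit 0)⟩) (BT.leaf ⟨(nat_lit 1), (nat_lit 0), (nat_lit 0), (nat_lit 0x1d0865e69bffd39ec335e0cd1957519), (nat_lit 0x1d0865e69bffd39ec335e0cd1957519), (nat_lit 0)⟩)))) (BT.node (nat_lit 764) (BT.node (nat_lit 762) (BT.node (nat_lit 761) (BT.leaf ⟨(nat_lit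 2), (nat_lit 3), (nat_lit 3), (nat_lit 0x1cfa6cf38aca1f1697ba16f60f1d72a), (nat_lit 0), (nat_lit 0)⟩) (BT.leaf ⟨(nat_lit 1), (nat_lit 0), (nat_lit 0), (nat_lit 0x1570b792f2563eb5137065e4fd66396), (nat_lit 0x1570b792f2563eb5137065e4fd66396), (nat_lit 0)⟩)) (BT.node (nat_lit 763) (BT.leaf ⟨(nat_lit 1), (nat_lit 0), (nat_lit 0), (nat_lit 0x3b716287f211c4cdc7b8e70cc39d5c), (nat_lit 0x3b716287f211c4cdc7b8e70cc39d5c), (nat_lit 0)⟩) (BT.leaf ⟨(nat_lit 1), (nat_lit 0), (nat_lit 0), (nat_lit 0x812c69e3ce7a79040b96018027a05f), (nat_lit 0x812c69e3ce7a79040b96018027a05f), (nat_lit 0)⟩))) (BT.node (nat_lit 766) (BT.node (nat_lit 765) (BT.leaf ⟨(nat_lit 1), (nat_lit 0), (nat_lit 0), (nat_lit 0x602cf1026be4006a9046015cca0110), (nat_lit 0x602cf1026be4006a9046015cca0110), (nat_lit 0)⟩) (BT.leaf ⟨(nat_lit 3), (nat_lit 3), (nat_lit 5), (nat_lit 0x1ceea89e71b083004088810072fc00),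 (nat_lit 0x1e3c0320202527081471004208eba5d), (nat_lit 0)⟩)) (BT.node (nat_lit 767) (BT.leaf ⟨(nat_lit 3), (nat_lit 5), (nat_lit 3), (nat_lit 0x1e3c0320202527081471004208eba5d), (nat_lit 0x1ceea89e71b083004088810072fc00), (nat_lit 0)⟩) (BT.leaf ⟨(nat_lit 2), (nat_lit 3), (nat_lit 3), (nat_lit 0xaf75ce277737ffa8a39a6960c73396), (nat_lit 0), (nat_lit 0)⟩)))))))
noncomputable def cP704 : BT Pf := (BT.node (nat_lit 736) (BT.node (nat_lit 720) (BT.node (nat_lit 712) (BT.node (nat_lit 708) (BT.node (nat_lit 706) (BT.node (nat_lit 705) (BT.leaf (.emul [(nat_lit 654), (nat_lit 645)])) (BT.leaf (.nmul (nat_lit 376) [(nat_lit 19)]))) (BT.node (nat_lit 707) (BT.leaf (.rel (nat_lit 687) (nat_lit 1) [(nat_lit 376), (nat_lit 362)] [⟨(nat_lit 687), [(nat_lit 704)], [(nat_lit 705), (nat_lit 234)]⟩])) (BT.leaf (.nmul (nat_lit 466) [(nat_lit 19)])))) (BT.node (nat_lit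 710) (BT.node (nat_lit 709) (BT.leaf (.emul [(nat_lit 645), (nat_lit 607)])) (BT.leaf (.emul [(nat_lit 645), (nat_lit 708)]))) (BT.node (nat_lit 711) (BT.leaf (.nmul (nat_lit 459) [(nat_lit 0)])) (BT.leaf (.nmul (nat_lit 710) [(nat_lit 43)]))))) (BT.node (nat_lit 716) (BT.node (nat_lit 714) (BT.node (nat_lit 713) (BT.leaf (.nmul (nat_lit 191) [(nat_lit 1)])) (BT.leaf (.rel (nat_lit 706) (nat_lit 4) [(nat_lit 707), (nat_lit 362)] [⟨(nat_lit 595), [(nat_lit 709)], [(nat_lit 352), (nat_lit 711)]⟩, ⟨(nat_lit 577), [(nat_lit 660)], [(nat_lit 441), (nat_lit 712)]⟩]))) (BT.node (nat_lit 715) (BT.leaf (.inv (nat_lit 713))) (BT.leaf (.emul [(nat_lit 654), (nat_lit 626)])))) (BT.node (nat_lit 718) (BT.node (nat_lit 717) (BT.leaf (.emul [(nat_lit 645), (nat_lit 715)])) (BT.leaf (.nmul (nat_lit 555) [(nat_lit 0)]))) (BT.node (nat_lit 719) (BT.leaf (.cmp (nat_lit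 714) ⟨(nat_lit 670), [(nat_lit 716)], [(nat_lit 241), (nat_lit 717)]⟩)) (BT.leaf (.einv (nat_lit 718))))))) (BT.node (nat_lit 728) (BT.node (nat_lit 724) (BT.node (nat_lit 722) (BT.node (nat_lit 721) (BT.leaf (.trans (nat_lit 657) [(nat_lit 719)] [])) (BT.leaf (.trans (nat_lit 665) [(nat_lit 719)] []))) (BT.node (nat_lit 723) (BT.leaf (.trans (nat_lit 686) [(nat_lit 719)] [])) (BT.leaf (.trans (nat_lit 655) [] [(nat_lit 719)])))) (BT.node (nat_lit 726) (BT.node (nat_lit 725) (BT.leaf (.trans (nat_lit 666) [] [(nat_lit 719)])) (BT.leaf (.trans (nat_lit 685) [] [(nat_lit 719)]))) (BT.node (nat_lit 727) (BT.leaf (.nmul (nat_lit 474) [(nat_lit 43)])) (BT.leaf (.emul [(nat_lit 558), (nat_lit 564)]))))) (BT.node (nat_lit 732) (BT.node (nat_lit 730) (BT.node (nat_lit 729) (BT.leaf (.emul [(nat_lit 564), (nat_lit 727)])) (BT.leaf (.emul [(nat_lit 552), (nat_lit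 728)]))) (BT.node (nat_lit 731) (BT.leaf (.rel (nat_lit 535) (nat_lit 0) [(nat_lit 726), (nat_lit 398)] [⟨(nat_lit 722), [(nat_lit 729)], [(nat_lit 128), (nat_lit 205)]⟩])) (BT.leaf (.inv (nat_lit 730))))) (BT.node (nat_lit 734) (BT.node (nat_lit 733) (BT.leaf (.trans (nat_lit 670) [] [(nat_lit 719)])) (BT.leaf (.nmul (nat_lit 502) [(nat_lit 43)]))) (BT.node (nat_lit 735) (BT.leaf (.nmul (nat_lit 733) [(nat_lit 43)])) (BT.leaf (.rel (nat_lit 699) (nat_lit 1) [(nat_lit 523), (nat_lit 700)] [⟨(nat_lit 706), [], [(nat_lit 734), (nat_lit 624)]⟩]))))))) (BT.node (nat_lit 752) (BT.node (nat_lit 744) (BT.node (nat_lit 740) (BT.node (nat_lit 738) (BT.node (nat_lit 737) (BT.leaf (.nmul (nat_lit 204) [(nat_lit 19)])) (BT.leaf (.nmul (nat_lit 736) [(nat_lit 1)]))) (BT.node (nat_lit 739) (BT.leaf (.nmul (nat_lit 334) [(nat_lit 0)])) (BT.leaf (.rel (nat_lit 702)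 (nat_lit 0) [(nat_lit 673), (nat_lit 737)] [⟨(nat_lit 706), [(nat_lit 594)], [(nat_lit 488), (nat_lit 738)]⟩])))) (BT.node (nat_lit 742) (BT.node (nat_lit 741) (BT.leaf (.nmul (nat_lit 495) [(nat_lit 19)])) (BT.leaf (.nmul (nat_lit 299) [(nat_lit 19)]))) (BT.node (nat_lit 743) (BT.leaf (.rel (nat_lit 616) (nat_lit 2) [(nat_lit 482), (nat_lit 563)] [⟨(nat_lit 485), [(nat_lit 456)], [(nat_lit 521), (nat_lit 253)]⟩, ⟨(nat_lit 617), [(nat_lit 437)], [(nat_lit 741), (nat_lit 740)]⟩])) (BT.leaf (.emul [(nat_lit 552), (nat_lit 545)]))))) (BT.node (nat_lit 748) (BT.node (nat_lit 746) (BT.node (nat_lit 745) (BT.leaf (.emul [(nat_lit 564), (nat_lit 743)])) (BT.leaf (.rel (nat_lit 365) (nat_lit 2) [(nat_lit 734), (nat_lit 333)] [⟨(nat_lit 577), [], [(nat_lit 260), (nat_lit 0)]⟩, ⟨(nat_lit 721), [(nat_lit 744)], [(nat_lit 381), (nat_lit 270)]⟩]))) (BT.node (nat_lit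 747) (BT.leaf (.nmul (nat_lit 226) [(nat_lit 43)])) (BT.leaf (.nmul (nat_lit 746) [(nat_lit 43)])))) (BT.node (nat_lit 750) (BT.node (nat_lit 749) (BT.leaf (.rel (nat_lit 509) (nat_lit 3) [(nat_lit 747), (nat_lit 426)] [⟨(nat_lit 745), [(nat_lit 329)], [(nat_lit 282), (nat_lit 269)]⟩, ⟨(nat_lit 489), [(nat_lit 322)], [(nat_lit 261), (nat_lit 498)]⟩])) (BT.leaf (.emul [(nat_lit 131), (nat_lit 430)]))) (BT.node (nat_lit 751) (BT.leaf (.emul [(nat_lit 437), (nat_lit 496)])) (BT.leaf (.nmul (nat_lit 270) [(nat_lit 19)])))))) (BT.node (nat_lit 760) (BT.node (nat_lit 756) (BT.node (nat_lit 754) (BT.node (nat_lit 753) (BT.leaf (.nmul (nat_lit 751) [(nat_lit 19)])) (BT.leaf (.rel (nat_lit 382) (nat_lit 5) [(nat_lit 482), (nat_lit 253)] [⟨(nat_lit 731), [(nat_lit 749)], [(nat_lit 254), (nat_lit 740)]⟩, ⟨(nat_lit 388), [(nat_lit 750)], [(nat_lit 381), (nat_lit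 752)]⟩]))) (BT.node (nat_lit 755) (BT.leaf (.emul [(nat_lit 558), (nat_lit 540)])) (BT.leaf (.emul [(nat_lit 558), (nat_lit 545)])))) (BT.node (nat_lit 758) (BT.node (nat_lit 757) (BT.leaf (.emul [(nat_lit 552), (nat_lit 755)])) (BT.leaf (.rel (nat_lit 724) (nat_lit 2) [(nat_lit 575), (nat_lit 400)] [⟨(nat_lit 588), [(nat_lit 754)], [(nat_lit 364), (nat_lit 293)]⟩, ⟨(nat_lit 721), [(nat_lit 756)], [(nat_lit 240), (nat_lit 386)]⟩]))) (BT.node (nat_lit 759) (BT.leaf (.rel (nat_lit 742) (nat_lit 0) [(nat_lit 406), (nat_lit 529)] [⟨(nat_lit 697), [(nat_lit 594)], [(nat_lit 285), (nat_lit 584)]⟩])) (BT.leaf (.nmul (nat_lit 373) [(nat_lit 19)]))))) (BT.node (nat_lit 764) (BT.node (nat_lit 762) (BT.node (nat_lit 761) (BT.leaf (.emul [(nat_lit 322), (nat_lit 329)])) (BT.leaf (.nmul (nat_lit 619) [(nat_lit 43)]))) (BT.node (nat_lit 763) (BT.leaf (.nmul (nat_lit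 290) [(nat_lit 43)])) (BT.leaf (.nmul (nat_lit 381) [(nat_lit 19)])))) (BT.node (nat_lit 766) (BT.node (nat_lit 765) (BT.leaf (.nmul (nat_lit 763) [(nat_lit 19)])) (BT.leaf (.rel (nat_lit 602) (nat_lit 2) [(nat_lit 759), (nat_lit 126)] [⟨(nat_lit 757), [(nat_lit 760)], [(nat_lit 761), (nat_lit 108)]⟩, ⟨(nat_lit 464), [(nat_lit 528)], [(nat_lit 764), (nat_lit 762)]⟩]))) (BT.node (nat_lit 767) (BT.leaf (.inv (nat_lit 765))) (BT.leaf (.emul [(nat_lit 322), (nat_lit 444)]))))))))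
noncomputable def cF768 : BT Fc := (BT.node (nat_lit 800) (BT.node (nat_lit 784) (BT.node (nat_lit 776) (BT.node (nat_lit 772) (BT.node (nat_lit 770) (BT.node (nat_lit 769) (BT.leaf ⟨(nat_lit 3), (nat_lit 5), (nat_lit 5), (nat_lit 0x197d6f8e64b695dafa5e4bb7492fd19), (nat_lit 0x16c64d3a41da27b13c9e9bd272cf69e), (nat_lit 0)⟩) (BT.leaf ⟨(nat_lit 3), (nat_lit 2), (nat_lit 7), (nat_lit 0xabbf42659d0b4b0597687b7a6fc5a8), (nat_lit 0x1001001001001001001001001001001), (nat_lit 0)⟩)) (BT.node (nat_lit 771) (BT.leaf ⟨(nat_lit 2), (nat_lit 2), (nat_lit 2), (nat_lit 0xbe558a39c4f4d0732b9d94af554ab8), (nat_lit 0), (nat_lit 0)⟩) (BT.leaf ⟨(nat_lit 2), (nat_lit 2), (nat_lit 2), (nat_lit 0x8e69a2b11ccbe5cb2b9773d4554dff), (nat_lit 0), (nat_lit 0)⟩))) (BT.node (nat_lit 774) (BT.node (nat_lit 773) (BT.leaf ⟨(nat_lit 2), (nat_lit 2), (nat_lit 2), (nat_lit 0xac57cd3472c8e45cab96d8af554ab8),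 (nat_lit 0), (nat_lit 0)⟩) (BT.leaf ⟨(nat_lit 2), (nat_lit 2), (nat_lit 2), (nat_lit 0x1008040093c800400104bfd18015e8), (nat_lit 0), (nat_lit 0)⟩)) (BT.node (nat_lit 775) (BT.leaf ⟨(nat_lit 1), (nat_lit 0), (nat_lit 0), (nat_lit 0xac414785018028042574102224b47b), (nat_lit 0xac414785018028042574102224b47b), (nat_lit 0)⟩) (BT.leaf ⟨(nat_lit 2), (nat_lit 7), (nat_lit 7), (nat_lit 0x40971d731ab400826463013a0a0300), (nat_lit 0), (nat_lit 0)⟩)))) (BT.node (nat_lit 780) (BT.node (nat_lit 778) (BT.node (nat_lit 777) (BT.leaf ⟨(nat_lit 3), (nat_lit 7), (nat_lit 2), (nat_lit 0x1001001001001001001001001001001), (nat_lit 0xabbf42659d0b4b0597687b7a6fc5a8), (nat_lit 0)⟩) (BT.leaf ⟨(nat_lit 1), (nat_lit 0), (nat_lit 0), (nat_lit 0xdc127d194ae975c521ff6e9fd2db5f), (nat_lit 0xdc127d194ae975c521ff6e9fd2db5f), (nat_lit 0)⟩)) (BT.node (nat_lit 779) (BT.leaf ⟨(nat_lit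 1), (nat_lit 0), (nat_lit 0), (nat_lit 0x1e4171d176c6f8e5295a8dcf9de1bf3), (nat_lit 0x1e4171d176c6f8e5295a8dcf9de1bf3), (nat_lit 0)⟩) (BT.leaf ⟨(nat_lit 3), (nat_lit 7), (nat_lit 4), (nat_lit 0x10072fc083d14019d073a5ed1a085d5), (nat_lit 0x1e3132d8dd45eb746e5816ff37c4c6e), (nat_lit 0)⟩))) (BT.node (nat_lit 782) (BT.node (nat_lit 781) (BT.leaf ⟨(nat_lit 3), (nat_lit 4), (nat_lit 7), (nat_lit 0x1e3132d8dd45eb746e5816ff37c4c6e), (nat_lit 0x10072fc083d14019d073a5ed1a085d5), (nat_lit 0)⟩) (BT.leaf ⟨(nat_lit 1), (nat_lit 0), (nat_lit 0), (nat_lit 0xd8de1be37c48da377e33c6569663f3), (nat_lit 0xd8de1be37c48da377e33c6569663f3), (nat_lit 0)⟩)) (BT.node (nat_lit 783) (BT.leaf ⟨(nat_lit 1), (nat_lit 0), (nat_lit 0), (nat_lit 0xbd0bceb450fb50e744ddf92acd96f5), (nat_lit 0xbd0bceb450fb50e744ddf92acd96f5), (nat_lit 0)⟩) (BT.leaf ⟨(nat_lit 1), (nat_lit 0), (nat_lit 0),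 (nat_lit 0x160f996efe762df9c33a0f9cab8d349), (nat_lit 0x160f996efe762df9c33a0f9cab8d349), (nat_lit 0)⟩))))) (BT.node (nat_lit 792) (BT.node (nat_lit 788) (BT.node (nat_lit 786) (BT.node (nat_lit 785) (BT.leaf ⟨(nat_lit 1), (nat_lit 0), (nat_lit 0), (nat_lit 0x100ba249c8e202896abb044977c7803), (nat_lit 0x100ba249c8e202896abb044977c7803), (nat_lit 0)⟩) (BT.leaf ⟨(nat_lit 1), (nat_lit 0), (nat_lit 0), (nat_lit 0xe2b49a3638a3e8fa9d1a97755ea955), (nat_lit 0xe2b49a3638a3e8fa9d1a97755ea955), (nat_lit 0)⟩)) (BT.node (nat_lit 787) (BT.leaf ⟨(nat_lit 1), (nat_lit 0), (nat_lit 0), (nat_lit 0xe34bcc6e7fda8bc2d3416f74bc7f8c), (nat_lit 0xe34bcc6e7fda8bc2d3416f74bc7f8c), (nat_lit 0)⟩) (BT.leaf ⟨(nat_lit 1), (nat_lit 0), (nat_lit 0), (nat_lit 0x3b66f49cd82c4ea5c9a2ed23a4b627), (nat_lit 0x3b66f49cd82c4ea5c9a2ed23a4b627), (nat_lit 0)⟩))) (BT.node (nat_lit 790) (BT.node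 (nat_lit 789) (BT.leaf ⟨(nat_lit 3), (nat_lit 3), (nat_lit 3), (nat_lit 0xb8dd19bc3c6b33bed176c6f9d1b790), (nat_lit 0x4b6d8b7025d57297ea265eb33348fa), (nat_lit 0)⟩) (BT.leaf ⟨(nat_lit 1), (nat_lit 0), (nat_lit 0), (nat_lit 0xe5887cc725d9a7edd2fd444fc93d5c), (nat_lit 0xe5887cc725d9a7edd2fd444fc93d5c), (nat_lit 0)⟩)) (BT.node (nat_lit 791) (BT.leaf ⟨(nat_lit 2), (nat_lit 2), (nat_lit 2), (nat_lit 0x10037a0208e7ce8802b925e01001001), (nat_lit 0), (nat_lit 0)⟩) (BT.leaf ⟨(nat_lit 2), (nat_lit 2), (nat_lit 2), (nat_lit 0x1e7631f2adc84fdf981091dd5954df8), (nat_lit 0), (nat_lit 0)⟩)))) (BT.node (nat_lit 796) (BT.node (nat_lit 794) (BT.node (nat_lit 793) (BT.leaf ⟨(nat_lit 3), (nat_lit 7), (nat_lit 5), (nat_lit 0x108200404a5e1cdc6c4080302300500), (nat_lit 0x1ce00178f044aed2e9028040290149c), (nat_lit 0)⟩) (BT.leaf ⟨(nat_lit 3), (nat_lit 5), (nat_lit 7), (nat_lit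 0x1ce00178f044aed2e9028040290149c), (nat_lit 0x108200404a5e1cdc6c4080302300500), (nat_lit 0)⟩)) (BT.node (nat_lit 795) (BT.leaf ⟨(nat_lit 2), (nat_lit 5), (nat_lit 5), (nat_lit 0x1cca9d6eff75ce05bf2a675367bd3a4), (nat_lit 0), (nat_lit 0)⟩) (BT.leaf ⟨(nat_lit 1), (nat_lit 0), (nat_lit 0), (nat_lit 0x42f41001004bc0425fe75000ea804), (nat_lit 0x42f41001004bc0425fe75000ea804), (nat_lit 0)⟩))) (BT.node (nat_lit 798) (BT.node (nat_lit 797) (BT.leaf ⟨(nat_lit 3), (nat_lit 7), (nat_lit 7), (nat_lit 0x8d9f13f3598d8df39e38dcf0e8bca5), (nat_lit 0x1b939513f03004a472a922104048011), (nat_lit 0)⟩) (BT.leaf ⟨(nat_lit 1), (nat_lit 0), (nat_lit 0), (nat_lit 0x4112ddece7c8100349a3a21123b80c), (nat_lit 0x4112ddece7c8100349a3a21123b80c), (nat_lit 0)⟩)) (BT.node (nat_lit 799) (BT.leaf ⟨(nat_lit 1), (nat_lit 0), (nat_lit 0), (nat_lit 0x200480c0104600d7d6883c55440fc6), (nat_lit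 0x200480c0104600d7d6883c55440fc6), (nat_lit 0)⟩) (BT.leaf ⟨(nat_lit 2), (nat_lit 4), (nat_lit 4), (nat_lit 0x10798997613d27f13cbe7b1379d277d), (nat_lit 0), (nat_lit 0)⟩)))))) (BT.node (nat_lit 816) (BT.node (nat_lit 808) (BT.node (nat_lit 804) (BT.node (nat_lit 802) (BT.node (nat_lit 801) (BT.leaf ⟨(nat_lit 2), (nat_lit 4), (nat_lit 4), (nat_lit 0x655b65d546d52f77c3d715a4f909d7), (nat_lit 0), (nat_lit 0)⟩) (BT.leaf ⟨(nat_lit 2), (nat_lit 4), (nat_lit 4), (nat_lit 0x14eab2f3a39d3670af3ee71ca9d2583), (nat_lit 0), (nat_lit 0)⟩)) (BT.node (nat_lit 803) (BT.leaf ⟨(nat_lit 1), (nat_lit 0), (nat_lit 0), (nat_lit 0x80600841dea4064f80325d7a408801), (nat_lit 0x80600841dea4064f80325d7a408801), (nat_lit 0)⟩) (BT.leaf ⟨(nat_lit 3), (nat_lit 7), (nat_lit 3), (nat_lit 0x1bd95d902bd4029f081204400d01082), (nat_lit 0x603dd2801813cc42155ad1f18410a0), (nat_lit 0)⟩)))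 (BT.node (nat_lit 806) (BT.node (nat_lit 805) (BT.leaf ⟨(nat_lit 3), (nat_lit 3), (nat_lit 7), (nat_lit 0x603dd2801813cc42155ad1f18410a0), (nat_lit 0x1bd95d902bd4029f081204400d01082), (nat_lit 0)⟩) (BT.leaf ⟨(nat_lit 2), (nat_lit 5), (nat_lit 5), (nat_lit 0x8db908fad267d4eeb6c3a26572c6ef), (nat_lit 0), (nat_lit 0)⟩)) (BT.node (nat_lit 807) (BT.leaf ⟨(nat_lit 2), (nat_lit 5), (nat_lit 5), (nat_lit 0x1cca9d4d9f75deb9dad2675bbf9c71a), (nat_lit 0), (nat_lit 0)⟩) (BT.leaf ⟨(nat_lit 3), (nat_lit 7), (nat_lit 7), (nat_lit 0x1edef05e9ea2ab9695f83377aa63de8), (nat_lit 0x17d04201172800f1e0040963597d46), (nat_lit 0)⟩)))) (BT.node (nat_lit 812) (BT.node (nat_lit 810) (BT.node (nat_lit 809) (BT.leaf ⟨(nat_lit 1), (nat_lit 0), (nat_lit 0), (nat_lit 0x129465fc60f8cd5a374ebff9a7a3706), (nat_lit 0x129465fc60f8cd5a374ebff9a7a3706), (nat_lit 0)⟩) (BT.leaf ⟨(nat_lit 2),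 (nat_lit 5), (nat_lit 5), (nat_lit 0xceb5cd000e74be102f4801f8f2f89e), (nat_lit 0), (nat_lit 0)⟩)) (BT.node (nat_lit 811) (BT.leaf ⟨(nat_lit 3), (nat_lit 3), (nat_lit 3), (nat_lit 0x1eb510453ecc08a5f27f0480a010860), (nat_lit 0x1721100a03ea08a5f0300420a012060), (nat_lit 0)⟩) (BT.leaf ⟨(nat_lit 2), (nat_lit 1), (nat_lit 1), (nat_lit 0x189dd254bd8327b4f0ed62707a6f49a), (nat_lit 0), (nat_lit 0)⟩))) (BT.node (nat_lit 814) (BT.node (nat_lit 813) (BT.leaf ⟨(nat_lit 2), (nat_lit 1), (nat_lit 1), (nat_lit 0x9a9d249f93db0647176934f626f313), (nat_lit 0), (nat_lit 0)⟩) (BT.leaf ⟨(nat_lit 1), (nat_lit 0), (nat_lit 0), (nat_lit 0x744423e740926895ef0e7c0112df89), (nat_lit 0x744423e740926895ef0e7c0112df89), (nat_lit 0)⟩)) (BT.node (nat_lit 815) (BT.leaf ⟨(nat_lit 1), (nat_lit 0), (nat_lit 0), (nat_lit 0x1078422803015a33a7ba104d8c48088), (nat_lit 0x1078422803015a33a7ba104d8c48088),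 (nat_lit 0)⟩) (BT.leaf ⟨(nat_lit 1), (nat_lit 0), (nat_lit 0), (nat_lit 0x1e2532f85e1ac4e3779d16fe33c7dd2), (nat_lit 0x1e2532f85e1ac4e3779d16fe33c7dd2), (nat_lit 0)⟩))))) (BT.node (nat_lit 824) (BT.node (nat_lit 820) (BT.node (nat_lit 818) (BT.node (nat_lit 817) (BT.leaf ⟨(nat_lit 2), (nat_lit 3), (nat_lit 3), (nat_lit 0x2e75ce276d856ac1c4d72dd4473534), (nat_lit 0), (nat_lit 0)⟩) (BT.leaf ⟨(nat_lit 2), (nat_lit 3), (nat_lit 3), (nat_lit 0x1519577c6ead2943e1b2cd2d1865d19), (nat_lit 0), (nat_lit 0)⟩)) (BT.node (nat_lit 819) (BT.leaf ⟨(nat_lit 1), (nat_lit 0), (nat_lit 0), (nat_lit 0x882c68b96018002fb2f5008227a69e), (nat_lit 0x882c68b96018002fb2f5008227a69e), (nat_lit 0)⟩) (BT.leaf ⟨(nat_lit 3), (nat_lit 7), (nat_lit 3), (nat_lit 0xf84f1cd9c17f8dd1bc3f206f1f3beb), (nat_lit 0x19a6d8cc765e43db82ccd444ac9702f), (nat_lit 0)⟩))) (BT.node (nat_lit 822) (BT.node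 (nat_lit 821) (BT.leaf ⟨(nat_lit 3), (nat_lit 3), (nat_lit 7), (nat_lit 0x19a6d8cc765e43db82ccd444ac9702f), (nat_lit 0xf84f1cd9c17f8dd1bc3f206f1f3beb), (nat_lit 0)⟩) (BT.leaf ⟨(nat_lit 1), (nat_lit 0), (nat_lit 0), (nat_lit 0x14d3c68b7ba5e175179d627e27c7b8d), (nat_lit 0x14d3c68b7ba5e175179d627e27c7b8d), (nat_lit 0)⟩)) (BT.node (nat_lit 823) (BT.leaf ⟨(nat_lit 1), (nat_lit 0), (nat_lit 0), (nat_lit 0x1272f50037c220a3890280408801042), (nat_lit 0x1272f50037c220a3890280408801042), (nat_lit 0)⟩) (BT.leaf ⟨(nat_lit 3), (nat_lit 3), (nat_lit 3), (nat_lit 0x4b95c041012087a3901402045f16f5), (nat_lit 0x17a020080e8dcebc6804572008081d5), (nat_lit 0)⟩)))) (BT.node (nat_lit 828) (BT.node (nat_lit 826) (BT.node (nat_lit 825) (BT.leaf ⟨(nat_lit 3), (nat_lit 3), (nat_lit 3), (nat_lit 0x17a020080e8dcebc6804572008081d5), (nat_lit 0x4b95c041012087a3901402045f16f5), (nat_lit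 0)⟩) (BT.leaf ⟨(nat_lit 1), (nat_lit 0), (nat_lit 0), (nat_lit 0x805eab001734e91067365e813f4600), (nat_lit 0x805eab001734e91067365e813f4600), (nat_lit 0)⟩)) (BT.node (nat_lit 827) (BT.leaf ⟨(nat_lit 1), (nat_lit 0), (nat_lit 0), (nat_lit 0x15cecf100a0040b46901fe8600a03b9), (nat_lit 0x15cecf100a0040b46901fe8600a03b9), (nat_lit 0)⟩) (BT.leaf ⟨(nat_lit 1), (nat_lit 0), (nat_lit 0), (nat_lit 0x6f43e35724bc04473e74010eac00), (nat_lit 0x6f43e35724bc04473e74010eac00), (nat_lit 0)⟩))) (BT.node (nat_lit 830) (BT.node (nat_lit 829) (BT.leaf ⟨(nat_lit 2), (nat_lit 3), (nat_lit 3), (nat_lit 0x1fa1575e9f6f82d6931c98fd461edf8), (nat_lit 0), (nat_lit 0)⟩) (BT.leaf ⟨(nat_lit 1), (nat_lit 0), (nat_lit 0), (nat_lit 0xf7b04202440b9c08225a97401402), (nat_lit 0xf7b04202440b9c08225a97401402), (nat_lit 0)⟩)) (BT.node (nat_lit 831) (BT.leaf ⟨(nat_lit 3), (nat_lit 7), (nat_lit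 3), (nat_lit 0xbc9f92eb62cbc95d2ffb63e9664c7), (nat_lit 0x137a4731397d272d8c1e93f25876d9e), (nat_lit 0)⟩) (BT.leaf ⟨(nat_lit 3), (nat_lit 3), (nat_lit 7), (nat_lit 0x137a4731397d272d8c1e93f25876d9e), (nat_lit 0xbc9f92eb62cbc95d2ffb63e9664c7), (nat_lit 0)⟩)))))))
noncomputable def cP768 : BT Pf := (BT.node (nat_lit 800) (BT.node (nat_lit 784) (BT.node (nat_lit 776) (BT.node (nat_lit 772) (BT.node (nat_lit 770) (BT.node (nat_lit 769) (BT.leaf (.rel (nat_lit 766) (nat_lit 0) [(nat_lit 511), (nat_lit 110)] [⟨(nat_lit 765), [(nat_lit 767)], [(nat_lit 215), (nat_lit 110)]⟩])) (BT.leaf (.dfn [(nat_lit 4), (nat_lit 1), (nat_lit 4)]))) (BT.node (nat_lit 771) (BT.leaf (.emul [(nat_lit 168), (nat_lit 516)])) (BT.leaf (.emul [(nat_lit 210), (nat_lit 770)])))) (BT.node (nat_lit 774) (BT.node (nat_lit 773) (BT.leaf (.emul [(nat_lit 210), (nat_lit 771)])) (BT.leaf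 (.emul [(nat_lit 143), (nat_lit 772)]))) (BT.node (nat_lit 775) (BT.leaf (.nmul (nat_lit 523) [(nat_lit 43)])) (BT.leaf (.cmp (nat_lit 769) ⟨(nat_lit 769), [(nat_lit 238), (nat_lit 773)], [(nat_lit 774), (nat_lit 400)]⟩))))) (BT.node (nat_lit 780) (BT.node (nat_lit 778) (BT.node (nat_lit 777) (BT.leaf (.inv (nat_lit 769))) (BT.leaf (.nmul (nat_lit 710) [(nat_lit 19)]))) (BT.node (nat_lit 779) (BT.leaf (.nmul (nat_lit 777) [(nat_lit 1)])) (BT.leaf (.rel (nat_lit 720) (nat_lit 0) [(nat_lit 482), (nat_lit 605)] [⟨(nat_lit 769), [(nat_lit 519)], [(nat_lit 355), (nat_lit 778)]⟩])))) (BT.node (nat_lit 782) (BT.node (nat_lit 781) (BT.leaf (.inv (nat_lit 779))) (BT.leaf (.nmul (nat_lit 522) [(nat_lit 43)]))) (BT.node (nat_lit 783) (BT.leaf (.nmul (nat_lit 207) [(nat_lit 19)])) (BT.leaf (.nmul (nat_lit 782) [(nat_lit 43)])))))) (BT.node (nat_lit 792) (BT.node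 (nat_lit 788) (BT.node (nat_lit 786) (BT.node (nat_lit 785) (BT.leaf (.nmul (nat_lit 783) [(nat_lit 43)])) (BT.leaf (.nmul (nat_lit 506) [(nat_lit 19)]))) (BT.node (nat_lit 787) (BT.leaf (.nmul (nat_lit 373) [(nat_lit 43)])) (BT.leaf (.nmul (nat_lit 786) [(nat_lit 19)])))) (BT.node (nat_lit 790) (BT.node (nat_lit 789) (BT.leaf (.rel (nat_lit 617) (nat_lit 4) [(nat_lit 781), (nat_lit 140)] [⟨(nat_lit 766), [(nat_lit 704)], [(nat_lit 784), (nat_lit 222)]⟩, ⟨(nat_lit 753), [(nat_lit 767)], [(nat_lit 787), (nat_lit 785)]⟩])) (BT.leaf (.nmul (nat_lit 784) [(nat_lit 43)]))) (BT.node (nat_lit 791) (BT.leaf (.emul [(nat_lit 168), (nat_lit 112)])) (BT.leaf (.emul [(nat_lit 143), (nat_lit 790)]))))) (BT.node (nat_lit 796) (BT.node (nat_lit 794) (BT.node (nat_lit 793) (BT.leaf (.rel (nat_lit 595) (nat_lit 0) [(nat_lit 789), (nat_lit 379)] [⟨(nat_lit 769), [(nat_lit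 791)], [(nat_lit 406), (nat_lit 191)]⟩])) (BT.leaf (.inv (nat_lit 792)))) (BT.node (nat_lit 795) (BT.leaf (.emul [(nat_lit 626), (nat_lit 607)])) (BT.leaf (.nmul (nat_lit 293) [(nat_lit 0)])))) (BT.node (nat_lit 798) (BT.node (nat_lit 797) (BT.leaf (.rel (nat_lit 776) (nat_lit 5) [(nat_lit 227), (nat_lit 235)] [⟨(nat_lit 589), [(nat_lit 598)], [(nat_lit 696), (nat_lit 385)]⟩, ⟨(nat_lit 793), [(nat_lit 794)], [(nat_lit 97), (nat_lit 795)]⟩])) (BT.leaf (.nmul (nat_lit 684) [(nat_lit 1)]))) (BT.node (nat_lit 799) (BT.leaf (.nmul (nat_lit 797) [(nat_lit 43)])) (BT.leaf (.emul [(nat_lit 552), (nat_lit 564)]))))))) (BT.node (nat_lit 816) (BT.node (nat_lit 808) (BT.node (nat_lit 804) (BT.node (nat_lit 802) (BT.node (nat_lit 801) (BT.leaf (.emul [(nat_lit 552), (nat_lit 799)])) (BT.leaf (.emul [(nat_lit 564), (nat_lit 800)]))) (BT.node (nat_lit 803) (BT.leaf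 (.nmul (nat_lit 497) [(nat_lit 1)])) (BT.leaf (.rel (nat_lit 725) (nat_lit 0) [(nat_lit 474), (nat_lit 798)] [⟨(nat_lit 780), [(nat_lit 801)], [(nat_lit 759), (nat_lit 802)]⟩])))) (BT.node (nat_lit 806) (BT.node (nat_lit 805) (BT.leaf (.inv (nat_lit 803))) (BT.leaf (.emul [(nat_lit 645), (nat_lit 594)]))) (BT.node (nat_lit 807) (BT.leaf (.emul [(nat_lit 654), (nat_lit 805)])) (BT.leaf (.rel (nat_lit 792) (nat_lit 0) [(nat_lit 521), (nat_lit 163)] [⟨(nat_lit 793), [(nat_lit 806)], [(nat_lit 250), (nat_lit 581)]⟩]))))) (BT.node (nat_lit 812) (BT.node (nat_lit 810) (BT.node (nat_lit 809) (BT.leaf (.nmul (nat_lit 438) [(nat_lit 19)])) (BT.leaf (.emul [(nat_lit 645), (nat_lit 701)]))) (BT.node (nat_lit 811) (BT.leaf (.rel (nat_lit 617) (nat_lit 5) [(nat_lit 130), (nat_lit 808)] [⟨(nat_lit 697), [(nat_lit 645)], [(nat_lit 404), (nat_lit 90)]⟩, ⟨(nat_lit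 616), [(nat_lit 809)], [(nat_lit 336), (nat_lit 396)]⟩])) (BT.leaf (.emul [(nat_lit 47), (nat_lit 409)])))) (BT.node (nat_lit 814) (BT.node (nat_lit 813) (BT.leaf (.emul [(nat_lit 73), (nat_lit 811)])) (BT.leaf (.nmul (nat_lit 459) [(nat_lit 19)]))) (BT.node (nat_lit 815) (BT.leaf (.nmul (nat_lit 813) [(nat_lit 43)])) (BT.leaf (.nmul (nat_lit 544) [(nat_lit 19)])))))) (BT.node (nat_lit 824) (BT.node (nat_lit 820) (BT.node (nat_lit 818) (BT.node (nat_lit 817) (BT.leaf (.emul [(nat_lit 329), (nat_lit 760)])) (BT.leaf (.emul [(nat_lit 437), (nat_lit 816)]))) (BT.node (nat_lit 819) (BT.leaf (.nmul (nat_lit 361) [(nat_lit 0)])) (BT.leaf (.rel (nat_lit 323) (nat_lit 4) [(nat_lit 237), (nat_lit 472)] [⟨(nat_lit 310), [(nat_lit 812), (nat_lit 73)], [(nat_lit 815), (nat_lit 814)]⟩, ⟨(nat_lit 804), [(nat_lit 817)], [(nat_lit 358), (nat_lit 818)]⟩])))) (BT.node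 (nat_lit 822) (BT.node (nat_lit 821) (BT.leaf (.inv (nat_lit 819))) (BT.leaf (.nmul (nat_lit 125) [(nat_lit 1)]))) (BT.node (nat_lit 823) (BT.leaf (.nmul (nat_lit 821) [(nat_lit 1)])) (BT.leaf (.rel (nat_lit 494) (nat_lit 2) [(nat_lit 237), (nat_lit 737)] [⟨(nat_lit 788), [(nat_lit 650)], [(nat_lit 241), (nat_lit 798)]⟩, ⟨(nat_lit 489), [], [(nat_lit 359), (nat_lit 822)]⟩]))))) (BT.node (nat_lit 828) (BT.node (nat_lit 826) (BT.node (nat_lit 825) (BT.leaf (.inv (nat_lit 823))) (BT.leaf (.nmul (nat_lit 292) [(nat_lit 43)]))) (BT.node (nat_lit 827) (BT.leaf (.nmul (nat_lit 825) [(nat_lit 43)])) (BT.leaf (.nmul (nat_lit 826) [(nat_lit 43)])))) (BT.node (nat_lit 830) (BT.node (nat_lit 829) (BT.leaf (.emul [(nat_lit 437), (nat_lit 322)])) (BT.leaf (.nmul (nat_lit 575) [(nat_lit 43)]))) (BT.node (nat_lit 831) (BT.leaf (.rel (nat_lit 824) (nat_lit 1) [(nat_lit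 827), (nat_lit 499)] [⟨(nat_lit 804), [(nat_lit 828)], [(nat_lit 829), (nat_lit 278)]⟩])) (BT.leaf (.inv (nat_lit 830)))))))))
noncomputable def cF832 : BT Fc := (BT.node (nat_lit 864) (BT.node (nat_lit 848) (BT.node (nat_lit 840) (BT.node (nat_lit 836) (BT.node (nat_lit 834) (BT.node (nat_lit 833) (BT.leaf ⟨(nat_lit 1), (nat_lit 0), (nat_lit 0), (nat_lit 0x97fa3020573ce88047301000401004), (nat_lit 0x97fa3020573ce88047301000401004), (nat_lit 0)⟩) (BT.leaf ⟨(nat_lit 2), (nat_lit 4), (nat_lit 4), (nat_lit 0x1d9814299044282299f5043b5030220), (nat_lit 0), (nat_lit 0)⟩)) (BT.node (nat_lit 835) (BT.leaf ⟨(nat_lit 2), (nat_lit 4), (nat_lit 4), (nat_lit 0xc4fc7b8d16fe769a6a2e1beb72c7cd), (nat_lit 0), (nat_lit 0)⟩) (BT.leaf ⟨(nat_lit 1), (nat_lit 0), (nat_lit 0), (nat_lit 0x925f7ad840880faa7fecc0c087821), (nat_lit 0x925f7ad840880faa7fecc0c087821), (nat_lit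 0)⟩))) (BT.node (nat_lit 838) (BT.node (nat_lit 837) (BT.leaf ⟨(nat_lit 3), (nat_lit 7), (nat_lit 7), (nat_lit 0x14031d1208af7a120480803042044), (nat_lit 0xa399009df97823dbebe9cac424018), (nat_lit 0)⟩) (BT.leaf ⟨(nat_lit 3), (nat_lit 7), (nat_lit 7), (nat_lit 0xa399009df97823dbebe9cac424018), (nat_lit 0x14031d1208af7a120480803042044), (nat_lit 0)⟩)) (BT.node (nat_lit 839) (BT.leaf ⟨(nat_lit 2), (nat_lit 4), (nat_lit 4), (nat_lit 0x1edd32ad23376a2e45f82ed7b1575e9), (nat_lit 0), (nat_lit 0)⟩) (BT.leaf ⟨(nat_lit 3), (nat_lit 7), (nat_lit 7), (nat_lit 0x10f4aa9dd6d88d8cada61f475749f21), (nat_lit 0x1961b61952aa8d8eedd51aa75749f21), (nat_lit 0)⟩)))) (BT.node (nat_lit 844) (BT.node (nat_lit 842) (BT.node (nat_lit 841) (BT.leaf ⟨(nat_lit 1), (nat_lit 0), (nat_lit 0), (nat_lit 0x17b2f517633782e63f51b507a1577b7), (nat_lit 0x17b2f517633782e63f51b507a1577b7),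 (nat_lit 0)⟩) (BT.leaf ⟨(nat_lit 2), (nat_lit 5), (nat_lit 5), (nat_lit 0x97501022105ce08101225a00c01006), (nat_lit 0), (nat_lit 0)⟩)) (BT.node (nat_lit 843) (BT.leaf ⟨(nat_lit 2), (nat_lit 5), (nat_lit 5), (nat_lit 0xceac1f3e693ce39d9cee65bbfbd0b7), (nat_lit 0), (nat_lit 0)⟩) (BT.leaf ⟨(nat_lit 3), (nat_lit 5), (nat_lit 7), (nat_lit 0x15a14070d1202033a18010222279fba), (nat_lit 0x2212bbeb013cc80c208091bf0ee80c), (nat_lit 0)⟩))) (BT.node (nat_lit 846) (BT.node (nat_lit 845) (BT.leaf ⟨(nat_lit 3), (nat_lit 7), (nat_lit 5), (nat_lit 0x2212bbeb013cc80c208091bf0ee80c), (nat_lit 0x15a14070d1202033a18010222279fba), (nat_lit 0)⟩) (BT.leaf ⟨(nat_lit 2), (nat_lit 1), (nat_lit 1), (nat_lit 0x8014453ecca64186d44ffeb4301f5), (nat_lit 0), (nat_lit 0)⟩)) (BT.node (nat_lit 847) (BT.leaf ⟨(nat_lit 2), (nat_lit 1), (nat_lit 1), (nat_lit 0x9fc145c8141b511029904009030021),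 (nat_lit 0), (nat_lit 0)⟩) (BT.leaf ⟨(nat_lit 2), (nat_lit 1), (nat_lit 1), (nat_lit 0xf9c42789018810e8c9abd80915e92b), (nat_lit 0), (nat_lit 0)⟩))))) (BT.node (nat_lit 856) (BT.node (nat_lit 852) (BT.node (nat_lit 850) (BT.node (nat_lit 849) (BT.leaf ⟨(nat_lit 2), (nat_lit 1), (nat_lit 1), (nat_lit 0x4bd000100411cc401000080200149e), (nat_lit 0), (nat_lit 0)⟩) (BT.leaf ⟨(nat_lit 2), (nat_lit 1), (nat_lit 1), (nat_lit 0xdc12785f4ffede8cb5fba495f2fec1), (nat_lit 0), (nat_lit 0)⟩)) (BT.node (nat_lit 851) (BT.leaf ⟨(nat_lit 2), (nat_lit 1), (nat_lit 1), (nat_lit 0x9756f9bcba5595afd194ae17f2fcab), (nat_lit 0), (nat_lit 0)⟩) (BT.leaf ⟨(nat_lit 2), (nat_lit 2), (nat_lit 2), (nat_lit 0x1b29b63b9d725694cab9563d4554dff), (nat_lit 0), (nat_lit 0)⟩))) (BT.node (nat_lit 854) (BT.node (nat_lit 853) (BT.leaf ⟨(nat_lit 3), (nat_lit 7), (nat_lit 3), (nat_lit 0xaa7652b9bffd455e8e6576ac6c18b9),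 (nat_lit 0xac41400c24fbf1f5f322111ec05496), (nat_lit 0)⟩) (BT.leaf ⟨(nat_lit 3), (nat_lit 3), (nat_lit 7), (nat_lit 0xac41400c24fbf1f5f322111ec05496), (nat_lit 0xaa7652b9bffd455e8e6576ac6c18b9), (nat_lit 0)⟩)) (BT.node (nat_lit 855) (BT.leaf ⟨(nat_lit 2), (nat_lit 5), (nat_lit 5), (nat_lit 0x215cbe38e61024f6f480040001020), (nat_lit 0), (nat_lit 0)⟩) (BT.leaf ⟨(nat_lit 2), (nat_lit 5), (nat_lit 5), (nat_lit 0x5bc60060480100a05a843e107bd044), (nat_lit 0), (nat_lit 0)⟩)))) (BT.node (nat_lit 860) (BT.node (nat_lit 858) (BT.node (nat_lit 857) (BT.leaf ⟨(nat_lit 2), (nat_lit 5), (nat_lit 5), (nat_lit 0x223980457210000f468007540178d), (nat_lit 0), (nat_lit 0)⟩) (BT.leaf ⟨(nat_lit 3), (nat_lit 7), (nat_lit 5), (nat_lit 0x1238bb5b17b125aa5c1e74927a4fec1), (nat_lit 0x151bf469e7ab6350805fce62e502200), (nat_lit 0)⟩)) (BT.node (nat_lit 859) (BT.leaf ⟨(nat_lit 3),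 (nat_lit 5), (nat_lit 7), (nat_lit 0x151bf469e7ab6350805fce62e502200), (nat_lit 0x1238bb5b17b125aa5c1e74927a4fec1), (nat_lit 0)⟩) (BT.leaf ⟨(nat_lit 2), (nat_lit 3), (nat_lit 3), (nat_lit 0x1ce3bda650f0ce29c638f79ce39471), (nat_lit 0), (nat_lit 0)⟩))) (BT.node (nat_lit 862) (BT.node (nat_lit 861) (BT.leaf ⟨(nat_lit 2), (nat_lit 3), (nat_lit 3), (nat_lit 0x1d190010001001239f8d1001000149e), (nat_lit 0), (nat_lit 0)⟩) (BT.leaf ⟨(nat_lit 3), (nat_lit 7), (nat_lit 3), (nat_lit 0x1cef9f4d96922dfbd63a0f960d693a4), (nat_lit 0x1802001e868c1ce8009ebaabd22038d), (nat_lit 0)⟩)) (BT.node (nat_lit 863) (BT.leaf ⟨(nat_lit 3), (nat_lit 3), (nat_lit 7), (nat_lit 0x1802001e868c1ce8009ebaabd22038d), (nat_lit 0x1cef9f4d96922dfbd63a0f960d693a4), (nat_lit 0)⟩) (BT.leaf ⟨(nat_lit 2), (nat_lit 3), (nat_lit 3), (nat_lit 0x1cfa3bf890180110210400c1104249a), (nat_lit 0), (nat_lit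 0)⟩)))))) (BT.node (nat_lit 880) (BT.node (nat_lit 872) (BT.node (nat_lit 868) (BT.node (nat_lit 866) (BT.node (nat_lit 865) (BT.leaf ⟨(nat_lit 1), (nat_lit 0), (nat_lit 0), (nat_lit 0x1b047338a3792ad2ea570bf59527b70), (nat_lit 0x1b047338a3792ad2ea570bf59527b70), (nat_lit 0)⟩) (BT.leaf ⟨(nat_lit 1), (nat_lit 0), (nat_lit 0), (nat_lit 0x137a3e31004bc04010080004eaa5f), (nat_lit 0x137a3e31004bc04010080004eaa5f), (nat_lit 0)⟩)) (BT.node (nat_lit 867) (BT.leaf ⟨(nat_lit 3), (nat_lit 7), (nat_lit 3), (nat_lit 0xf6252f56e0dd09a35ffe8f91ba3519), (nat_lit 0x1f8df1d1794bdf4de15a7e6f9cf1f90), (nat_lit 0)⟩) (BT.leaf ⟨(nat_lit 3), (nat_lit 3), (nat_lit 7), (nat_lit 0x1f8df1d1794bdf4de15a7e6f9cf1f90), (nat_lit 0xf6252f56e0dd09a35ffe8f91ba3519), (nat_lit 0)⟩))) (BT.node (nat_lit 870) (BT.node (nat_lit 869) (BT.leaf ⟨(nat_lit 1), (nat_lit 0), (nat_lit 0), (nat_lit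 0x1055c74704200cea49fdeaf8a00809), (nat_lit 0x1055c74704200cea49fdeaf8a00809), (nat_lit 0)⟩) (BT.leaf ⟨(nat_lit 3), (nat_lit 7), (nat_lit 7), (nat_lit 0xf88208812031c89720100aae000c9f), (nat_lit 0x14022065ffc7ae697e008201ce0009e), (nat_lit 0)⟩)) (BT.node (nat_lit 871) (BT.leaf ⟨(nat_lit 1), (nat_lit 0), (nat_lit 0), (nat_lit 0x15a11c8c0f8dee84415535f9d24070d), (nat_lit 0x15a11c8c0f8dee84415535f9d24070d), (nat_lit 0)⟩) (BT.leaf ⟨(nat_lit 1), (nat_lit 0), (nat_lit 0), (nat_lit 0x97ef449e10002097810041000ea804), (nat_lit 0x97ef449e10002097810041000ea804), (nat_lit 0)⟩)))) (BT.node (nat_lit 876) (BT.node (nat_lit 874) (BT.node (nat_lit 873) (BT.leaf ⟨(nat_lit 3), (nat_lit 7), (nat_lit 4), (nat_lit 0x1b920809002871409210bf006088463), (nat_lit 0x8d8ad3a33c6f0e371bca2fdf5f0ca5), (nat_lit 0)⟩) (BT.leaf ⟨(nat_lit 3), (nat_lit 4), (nat_lit 7), (nat_lit 0x8d8ad3a33c6f0e371bca2fdf5f0ca5),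 (nat_lit 0x1b920809002871409210bf006088463), (nat_lit 0)⟩)) (BT.node (nat_lit 875) (BT.leaf ⟨(nat_lit 1), (nat_lit 0), (nat_lit 0), (nat_lit 0x1c18300c00811017c9950a010a6f6b4), (nat_lit 0x1c18300c00811017c9950a010a6f6b4), (nat_lit 0)⟩) (BT.leaf ⟨(nat_lit 1), (nat_lit 0), (nat_lit 0), (nat_lit 0x1b50d96f5fb6a1f785175e9bf37a6b4), (nat_lit 0x1b50d96f5fb6a1f785175e9bf37a6b4), (nat_lit 0)⟩))) (BT.node (nat_lit 878) (BT.node (nat_lit 877) (BT.leaf ⟨(nat_lit 3), (nat_lit 7), (nat_lit 7), (nat_lit 0x1201447bdf8029f5f3201295fa7208), (nat_lit 0x137a5f0ed2ecc4ed8ba493427b4f3d8), (nat_lit 0)⟩) (BT.leaf ⟨(nat_lit 1), (nat_lit 0), (nat_lit 0), (nat_lit 0x30279d68110555401afce907a40180), (nat_lit 0x30279d68110555401afce907a40180), (nat_lit 0)⟩)) (BT.node (nat_lit 879) (BT.leaf ⟨(nat_lit 1), (nat_lit 0), (nat_lit 0), (nat_lit 0xceb5cdd513d00b0050080110208408), (nat_lit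 0xceb5cdd513d00b0050080110208408), (nat_lit 0)⟩) (BT.leaf ⟨(nat_lit 3), (nat_lit 7), (nat_lit 7), (nat_lit 0x1ce9f181004000a4f5e8573e37a3008), (nat_lit 0x409f0c7108400a4e5ea10475fa200a), (nat_lit 0)⟩))))) (BT.node (nat_lit 888) (BT.node (nat_lit 884) (BT.node (nat_lit 882) (BT.node (nat_lit 881) (BT.leaf ⟨(nat_lit 1), (nat_lit 0), (nat_lit 0), (nat_lit 0x17a52f0093a9cedf100393e00440ef5), (nat_lit 0x17a52f0093a9cedf100393e00440ef5), (nat_lit 0)⟩) (BT.leaf ⟨(nat_lit 2), (nat_lit 5), (nat_lit 5), (nat_lit 0x4b5cb6a2ab94bc7d7db2de4b89392b), (nat_lit 0), (nat_lit 0)⟩)) (BT.node (nat_lit 883) (BT.leaf ⟨(nat_lit 2), (nat_lit 5), (nat_lit 5), (nat_lit 0x1cc8443eb41095e4b5e001077493f85), (nat_lit 0), (nat_lit 0)⟩) (BT.leaf ⟨(nat_lit 1), (nat_lit 0), (nat_lit 0), (nat_lit 0x189e6f54b93527a4e6c14d507a4b0ed), (nat_lit 0x189e6f54b93527a4e6c14d507a4b0ed), (nat_lit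 0)⟩))) (BT.node (nat_lit 886) (BT.node (nat_lit 885) (BT.leaf ⟨(nat_lit 3), (nat_lit 7), (nat_lit 5), (nat_lit 0x1bbda4f7a5a5854e70b7749cab9d33a), (nat_lit 0x84fa830f5a0938d10f1400a2e44be), (nat_lit 0)⟩) (BT.leaf ⟨(nat_lit 3), (nat_lit 5), (nat_lit 7), (nat_lit 0x84fa830f5a0938d10f1400a2e44be), (nat_lit 0x1bbda4f7a5a5854e70b7749cab9d33a), (nat_lit 0)⟩)) (BT.node (nat_lit 887) (BT.leaf ⟨(nat_lit 3), (nat_lit 7), (nat_lit 3), (nat_lit 0x32f46d8de1b74bc68b7f3bf372c785), (nat_lit 0x15709766965e4b4938fa27e43dcb02f), (nat_lit 0)⟩) (BT.leaf ⟨(nat_lit 3), (nat_lit 3), (nat_lit 7), (nat_lit 0x15709766965e4b4938fa27e43dcb02f), (nat_lit 0x32f46d8de1b74bc68b7f3bf372c785), (nat_lit 0)⟩)))) (BT.node (nat_lit 892) (BT.node (nat_lit 890) (BT.node (nat_lit 889) (BT.leaf ⟨(nat_lit 2), (nat_lit 3), (nat_lit 3), (nat_lit 0xae75ce27a6960cad2bb7737fc7336c), (nat_lit 0),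 (nat_lit 0)⟩) (BT.leaf ⟨(nat_lit 3), (nat_lit 3), (nat_lit 7), (nat_lit 0x5bd97e6927f573ed8fab620bdcb1af), (nat_lit 0x1cf96971af75ceb1d4d9a75ce19d732), (nat_lit 0)⟩)) (BT.node (nat_lit 891) (BT.leaf ⟨(nat_lit 3), (nat_lit 7), (nat_lit 3), (nat_lit 0x1cf96971af75ceb1d4d9a75ce19d732), (nat_lit 0x5bd97e6927f573ed8fab620bdcb1af), (nat_lit 0)⟩) (BT.leaf ⟨(nat_lit 1), (nat_lit 0), (nat_lit 0), (nat_lit 0xae55495aa6989ec1f51772db15c44d), (nat_lit 0xae55495aa6989ec1f51772db15c44d), (nat_lit 0)⟩))) (BT.node (nat_lit 894) (BT.node (nat_lit 893) (BT.leaf ⟨(nat_lit 1), (nat_lit 0), (nat_lit 0), (nat_lit 0x11ec39bfef20cd4cdb498e314e79c33), (nat_lit 0x11ec39bfef20cd4cdb498e314e79c33), (nat_lit 0)⟩) (BT.leaf ⟨(nat_lit 2), (nat_lit 5), (nat_lit 5), (nat_lit 0x7440a12bbd92680620420801802804), (nat_lit 0), (nat_lit 0)⟩)) (BT.node (nat_lit 895) (BT.leaf ⟨(nat_lit 2),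 (nat_lit 5), (nat_lit 5), (nat_lit 0x5bd9792e35f4bc9593f25a43c9382f), (nat_lit 0), (nat_lit 0)⟩) (BT.leaf ⟨(nat_lit 3), (nat_lit 7), (nat_lit 7), (nat_lit 0x1bd8019028040895d81225bce23880a), (nat_lit 0x13d30032f403a79022806014e82fa08), (nat_lit 0)⟩)))))))
noncomputable def cP832 : BT Pf := (BT.node (nat_lit 864) (BT.node (nat_lit 848) (BT.node (nat_lit 840) (BT.node (nat_lit 836) (BT.node (nat_lit 834) (BT.node (nat_lit 833) (BT.leaf (.nmul (nat_lit 214) [(nat_lit 43)])) (BT.leaf (.emul [(nat_lit 552), (nat_lit 743)]))) (BT.node (nat_lit 835) (BT.leaf (.emul [(nat_lit 558), (nat_lit 833)])) (BT.leaf (.nmul (nat_lit 785) [(nat_lit 0)])))) (BT.node (nat_lit 838) (BT.node (nat_lit 837) (BT.leaf (.rel (nat_lit 779) (nat_lit 1) [(nat_lit 832), (nat_lit 109)] [⟨(nat_lit 780), [(nat_lit 834)], [(nat_lit 321), (nat_lit 835)]⟩])) (BT.leaf (.inv (nat_lit 836))))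 (BT.node (nat_lit 839) (BT.leaf (.emul [(nat_lit 558), (nat_lit 755)])) (BT.leaf (.rel (nat_lit 779) (nat_lit 0) [(nat_lit 416), (nat_lit 420)] [⟨(nat_lit 780), [(nat_lit 838)], [(nat_lit 335), (nat_lit 162)]⟩]))))) (BT.node (nat_lit 844) (BT.node (nat_lit 842) (BT.node (nat_lit 841) (BT.leaf (.nmul (nat_lit 503) [(nat_lit 19)])) (BT.leaf (.emul [(nat_lit 594), (nat_lit 594)]))) (BT.node (nat_lit 843) (BT.leaf (.emul [(nat_lit 645), (nat_lit 841)])) (BT.leaf (.rel (nat_lit 792) (nat_lit 0) [(nat_lit 840), (nat_lit 555)] [⟨(nat_lit 768), [(nat_lit 842)], [(nat_lit 527), (nat_lit 290)]⟩])))) (BT.node (nat_lit 846) (BT.node (nat_lit 845) (BT.leaf (.inv (nat_lit 843))) (BT.leaf (.emul [(nat_lit 46), (nat_lit 242)]))) (BT.node (nat_lit 847) (BT.leaf (.emul [(nat_lit 73), (nat_lit 845)])) (BT.leaf (.emul [(nat_lit 47), (nat_lit 846)])))))) (BT.node (nat_lit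 856) (BT.node (nat_lit 852) (BT.node (nat_lit 850) (BT.node (nat_lit 849) (BT.leaf (.emul [(nat_lit 86), (nat_lit 412)])) (BT.leaf (.emul [(nat_lit 73), (nat_lit 848)]))) (BT.node (nat_lit 851) (BT.leaf (.emul [(nat_lit 86), (nat_lit 849)])) (BT.leaf (.emul [(nat_lit 112), (nat_lit 599)])))) (BT.node (nat_lit 854) (BT.node (nat_lit 853) (BT.leaf (.rel (nat_lit 323) (nat_lit 4) [(nat_lit 267), (nat_lit 440)] [⟨(nat_lit 99), [(nat_lit 847), (nat_lit 850)], [(nat_lit 215), (nat_lit 498)]⟩, ⟨(nat_lit 769), [(nat_lit 238), (nat_lit 851)], [(nat_lit 176), (nat_lit 319)]⟩])) (BT.leaf (.inv (nat_lit 852)))) (BT.node (nat_lit 855) (BT.leaf (.emul [(nat_lit 626), (nat_lit 805)])) (BT.leaf (.emul [(nat_lit 645), (nat_lit 854)]))))) (BT.node (nat_lit 860) (BT.node (nat_lit 858) (BT.node (nat_lit 857) (BT.leaf (.emul [(nat_lit 645), (nat_lit 855)])) (BT.leaf (.rel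 (nat_lit 683) (nat_lit 1) [(nat_lit 434), (nat_lit 385)] [⟨(nat_lit 843), [(nat_lit 856)], [(nat_lit 551), (nat_lit 432)]⟩]))) (BT.node (nat_lit 859) (BT.leaf (.inv (nat_lit 857))) (BT.leaf (.emul [(nat_lit 437), (nat_lit 678)])))) (BT.node (nat_lit 862) (BT.node (nat_lit 861) (BT.leaf (.emul [(nat_lit 329), (nat_lit 859)])) (BT.leaf (.rel (nat_lit 407) (nat_lit 1) [(nat_lit 582), (nat_lit 738)] [⟨(nat_lit 820), [(nat_lit 860)], [(nat_lit 259), (nat_lit 269)]⟩]))) (BT.node (nat_lit 863) (BT.leaf (.inv (nat_lit 861))) (BT.leaf (.emul [(nat_lit 437), (nat_lit 650)]))))))) (BT.node (nat_lit 880) (BT.node (nat_lit 872) (BT.node (nat_lit 868) (BT.node (nat_lit 866) (BT.node (nat_lit 865) (BT.leaf (.nmul (nat_lit 624) [(nat_lit 0)])) (BT.leaf (.nmul (nat_lit 567) [(nat_lit 43)]))) (BT.node (nat_lit 867) (BT.leaf (.rel (nat_lit 748) (nat_lit 1) [(nat_lit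 696), (nat_lit 711)] [⟨(nat_lit 862), [(nat_lit 863)], [(nat_lit 865), (nat_lit 864)]⟩])) (BT.leaf (.inv (nat_lit 866))))) (BT.node (nat_lit 870) (BT.node (nat_lit 869) (BT.leaf (.nmul (nat_lit 384) [(nat_lit 43)])) (BT.leaf (.rel (nat_lit 844) (nat_lit 0) [(nat_lit 216), (nat_lit 597)] [⟨(nat_lit 843), [(nat_lit 671)], [(nat_lit 129), (nat_lit 868)]⟩]))) (BT.node (nat_lit 871) (BT.leaf (.nmul (nat_lit 486) [(nat_lit 1)])) (BT.leaf (.nmul (nat_lit 579) [(nat_lit 43)]))))) (BT.node (nat_lit 876) (BT.node (nat_lit 874) (BT.node (nat_lit 873) (BT.leaf (.rel (nat_lit 721) (nat_lit 0) [(nat_lit 502), (nat_lit 777)] [⟨(nat_lit 853), [(nat_lit 329)], [(nat_lit 871), (nat_lit 870)]⟩])) (BT.leaf (.inv (nat_lit 872)))) (BT.node (nat_lit 875) (BT.leaf (.nmul (nat_lit 395) [(nat_lit 19)])) (BT.leaf (.nmul (nat_lit 874) [(nat_lit 19)])))) (BT.node (nat_lit 878)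 (BT.node (nat_lit 877) (BT.leaf (.rel (nat_lit 852) (nat_lit 1) [(nat_lit 631), (nat_lit 875)] [⟨(nat_lit 853), [(nat_lit 750)], [(nat_lit 461), (nat_lit 875)]⟩])) (BT.leaf (.nmul (nat_lit 236) [(nat_lit 1)]))) (BT.node (nat_lit 879) (BT.leaf (.nmul (nat_lit 512) [(nat_lit 0)])) (BT.leaf (.rel (nat_lit 844) (nat_lit 0) [(nat_lit 212), (nat_lit 877)] [⟨(nat_lit 843), [(nat_lit 841)], [(nat_lit 193), (nat_lit 878)]⟩])))))) (BT.node (nat_lit 888) (BT.node (nat_lit 884) (BT.node (nat_lit 882) (BT.node (nat_lit 881) (BT.leaf (.nmul (nat_lit 248) [(nat_lit 43)])) (BT.leaf (.emul [(nat_lit 645), (nat_lit 671)]))) (BT.node (nat_lit 883) (BT.leaf (.emul [(nat_lit 645), (nat_lit 881)])) (BT.leaf (.nmul (nat_lit 167) [(nat_lit 43)])))) (BT.node (nat_lit 886) (BT.node (nat_lit 885) (BT.leaf (.rel (nat_lit 683) (nat_lit 1) [(nat_lit 434), (nat_lit 880)] [⟨(nat_lit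 793), [(nat_lit 882)], [(nat_lit 883), (nat_lit 738)]⟩])) (BT.leaf (.inv (nat_lit 884)))) (BT.node (nat_lit 887) (BT.leaf (.rel (nat_lit 810) (nat_lit 0) [(nat_lit 261), (nat_lit 624)] [⟨(nat_lit 804), [(nat_lit 329)], [(nat_lit 579), (nat_lit 191)]⟩])) (BT.leaf (.inv (nat_lit 886)))))) (BT.node (nat_lit 892) (BT.node (nat_lit 890) (BT.node (nat_lit 889) (BT.leaf (.emul [(nat_lit 322), (nat_lit 443)])) (BT.leaf (.rel (nat_lit 819) (nat_lit 1) [(nat_lit 272), (nat_lit 127)] [⟨(nat_lit 753), [(nat_lit 888)], [(nat_lit 520), (nat_lit 556)]⟩]))) (BT.node (nat_lit 891) (BT.leaf (.inv (nat_lit 889))) (BT.leaf (.nmul (nat_lit 328) [(nat_lit 1)])))) (BT.node (nat_lit 894) (BT.node (nat_lit 893) (BT.leaf (.nmul (nat_lit 891) [(nat_lit 0)])) (BT.leaf (.emul [(nat_lit 594), (nat_lit 841)]))) (BT.node (nat_lit 895) (BT.leaf (.emul [(nat_lit 607), (nat_lit 893)]))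 (BT.leaf (.rel (nat_lit 844) (nat_lit 2) [(nat_lit 513), (nat_lit 330)] [⟨(nat_lit 702), [], [(nat_lit 673), (nat_lit 892)]⟩, ⟨(nat_lit 843), [(nat_lit 894)], [(nat_lit 266), (nat_lit 581)]⟩]))))))))
noncomputable def cF896 : BT Fc := (BT.node (nat_lit 928) (BT.node (nat_lit 912) (BT.node (nat_lit 904) (BT.node (nat_lit 900) (BT.node (nat_lit 898) (BT.node (nat_lit 897) (BT.leaf ⟨(nat_lit 2), (nat_lit 5), (nat_lit 5), (nat_lit 0xceb5cfe30e797e00b4680140297b8d), (nat_lit 0), (nat_lit 0)⟩) (BT.leaf ⟨(nat_lit 2), (nat_lit 5), (nat_lit 5), (nat_lit 0x9756fa7f0bf97dc524f43e9792b9bc), (nat_lit 0), (nat_lit 0)⟩)) (BT.node (nat_lit 899) (BT.leaf ⟨(nat_lit 1), (nat_lit 0), (nat_lit 0), (nat_lit 0x12af7b6fcdea73b5a6744d4a1d8e44d), (nat_lit 0x12af7b6fcdea73b5a6744d4a1d8e44d), (nat_lit 0)⟩) (BT.leaf ⟨(nat_lit 3), (nat_lit 7), (nat_lit 7), (nat_lit 0xcea9d615b078eab287c9b3eeb779ce),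 (nat_lit 0x87d200485f2182207069bc303e6eb4), (nat_lit 0)⟩))) (BT.node (nat_lit 902) (BT.node (nat_lit 901) (BT.leaf ⟨(nat_lit 1), (nat_lit 0), (nat_lit 0), (nat_lit 0x1802c6e9e42078d97a804808127a201), (nat_lit 0x1802c6e9e42078d97a804808127a201), (nat_lit 0)⟩) (BT.leaf ⟨(nat_lit 1), (nat_lit 0), (nat_lit 0), (nat_lit 0x237a010040ae40092f10127ba373a), (nat_lit 0x237a010040ae40092f10127ba373a), (nat_lit 0)⟩)) (BT.node (nat_lit 903) (BT.leaf ⟨(nat_lit 1), (nat_lit 0), (nat_lit 0), (nat_lit 0x1bd77b26adc945fede7439d2ae7a2f4), (nat_lit 0x1bd77b26adc945fede7439d2ae7a2f4), (nat_lit 0)⟩) (BT.leaf ⟨(nat_lit 3), (nat_lit 7), (nat_lit 7), (nat_lit 0x600484f36c6b7f3a080472554d7884), (nat_lit 0x18210028ecc7d65f220b91b538d030), (nat_lit 0)⟩)))) (BT.node (nat_lit 908) (BT.node (nat_lit 906) (BT.node (nat_lit 905) (BT.leaf ⟨(nat_lit 3), (nat_lit 7), (nat_lit 7), (nat_lit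 0x18210028ecc7d65f220b91b538d030), (nat_lit 0x600484f36c6b7f3a080472554d7884), (nat_lit 0)⟩) (BT.leaf ⟨(nat_lit 1), (nat_lit 0), (nat_lit 0), (nat_lit 0x12af90a6a89b45feda87d69bd67a6f0), (nat_lit 0x12af90a6a89b45feda87d69bd67a6f0), (nat_lit 0)⟩)) (BT.node (nat_lit 907) (BT.leaf ⟨(nat_lit 1), (nat_lit 0), (nat_lit 0), (nat_lit 0x152e1e9c53eadb0e8a362aa775eaeef), (nat_lit 0x152e1e9c53eadb0e8a362aa775eaeef), (nat_lit 0)⟩) (BT.leaf ⟨(nat_lit 3), (nat_lit 7), (nat_lit 7), (nat_lit 0xcbe9d0b9480813004f4b1a78deaa02), (nat_lit 0x1f3589f8cd45c35ff78fb1ba3532979), (nat_lit 0)⟩))) (BT.node (nat_lit 910) (BT.node (nat_lit 909) (BT.leaf ⟨(nat_lit 3), (nat_lit 7), (nat_lit 7), (nat_lit 0x17f2fdd2a3296d2fa5d5be87db87b7), (nat_lit 0xe287325d956b7fdbdd24b7b05b825f), (nat_lit 0)⟩) (BT.leaf ⟨(nat_lit 3), (nat_lit 7), (nat_lit 7), (nat_lit 0x1c36b41aff75078aa884140240410c0),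 (nat_lit 0x152d1b38a1f475eea9c52aaf5790e58), (nat_lit 0)⟩)) (BT.node (nat_lit 911) (BT.leaf ⟨(nat_lit 2), (nat_lit 5), (nat_lit 5), (nat_lit 0x4b5cb12eab849d666692dfa8a9782f), (nat_lit 0), (nat_lit 0)⟩) (BT.leaf ⟨(nat_lit 1), (nat_lit 0), (nat_lit 0), (nat_lit 0x6bcb792d25da887d52ffb6e596613f), (nat_lit 0x6bcb792d25da887d52ffb6e596613f), (nat_lit 0)⟩))))) (BT.node (nat_lit 920) (BT.node (nat_lit 916) (BT.node (nat_lit 914) (BT.node (nat_lit 913) (BT.leaf ⟨(nat_lit 3), (nat_lit 7), (nat_lit 7), (nat_lit 0x1b53d686014043c10822e347d510030), (nat_lit 0x14e85be3af74e939f738e35bbce772a), (nat_lit 0)⟩) (BT.leaf ⟨(nat_lit 1), (nat_lit 0), (nat_lit 0), (nat_lit 0xd2799738675ceb77f3ba75eeb8d583), (nat_lit 0xd2799738675ceb77f3ba75eeb8d583), (nat_lit 0)⟩)) (BT.node (nat_lit 915) (BT.leaf ⟨(nat_lit 1), (nat_lit 0), (nat_lit 0), (nat_lit 0xfa212d576f864e47120401bc7c02),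 (nat_lit 0xfa212d576f864e47120401bc7c02), (nat_lit 0)⟩) (BT.leaf ⟨(nat_lit 1), (nat_lit 0), (nat_lit 0), (nat_lit 0x157087fdba5ecbe6392e25e6bc93b96), (nat_lit 0x157087fdba5ecbe6392e25e6bc93b96), (nat_lit 0)⟩))) (BT.node (nat_lit 918) (BT.node (nat_lit 917) (BT.leaf ⟨(nat_lit 2), (nat_lit 1), (nat_lit 1), (nat_lit 0xf9dd1a36f20f868bfe38dc6f171bf3), (nat_lit 0), (nat_lit 0)⟩) (BT.leaf ⟨(nat_lit 2), (nat_lit 1), (nat_lit 1), (nat_lit 0x1748bcfada69a37e6f9d8dde27c7b8d), (nat_lit 0), (nat_lit 0)⟩)) (BT.node (nat_lit 919) (BT.leaf ⟨(nat_lit 2), (nat_lit 1), (nat_lit 1), (nat_lit 0xf85010069380495d9024ba08801042), (nat_lit 0), (nat_lit 0)⟩) (BT.leaf ⟨(nat_lit 2), (nat_lit 1), (nat_lit 1), (nat_lit 0x1a3417b5fc8d402b9902208354847f4), (nat_lit 0), (nat_lit 0)⟩)))) (BT.node (nat_lit 924) (BT.node (nat_lit 922) (BT.node (nat_lit 921) (BT.leaf ⟨(nat_lit 2), (nat_lit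 1), (nat_lit 1), (nat_lit 0x192d904409268067897cfd0802dec), (nat_lit 0), (nat_lit 0)⟩) (BT.leaf ⟨(nat_lit 2), (nat_lit 1), (nat_lit 1), (nat_lit 0x14127f567e7b910801802044154f2a), (nat_lit 0), (nat_lit 0)⟩)) (BT.node (nat_lit 923) (BT.leaf ⟨(nat_lit 2), (nat_lit 1), (nat_lit 1), (nat_lit 0x5556f9801006bdb1a80141f1a79d68), (nat_lit 0), (nat_lit 0)⟩) (BT.leaf ⟨(nat_lit 2), (nat_lit 1), (nat_lit 1), (nat_lit 0x12692df42048018023e7f1241002f3e), (nat_lit 0), (nat_lit 0)⟩))) (BT.node (nat_lit 926) (BT.node (nat_lit 925) (BT.leaf ⟨(nat_lit 2), (nat_lit 1), (nat_lit 1), (nat_lit 0xc4fc6f0df5ae36e946ef13a372c0b7), (nat_lit 0), (nat_lit 0)⟩) (BT.leaf ⟨(nat_lit 2), (nat_lit 1), (nat_lit 1), (nat_lit 0x1bf01400cf0b0212b808031d3a4b5e0), (nat_lit 0), (nat_lit 0)⟩)) (BT.node (nat_lit 927) (BT.leaf ⟨(nat_lit 2), (nat_lit 3), (nat_lit 3), (nat_lit 0x1c6a6cf3816f60d9d3a4aca1f31d6ef),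 (nat_lit 0), (nat_lit 0)⟩) (BT.leaf ⟨(nat_lit 2), (nat_lit 3), (nat_lit 3), (nat_lit 0x1de8300501801012014008411024041), (nat_lit 0), (nat_lit 0)⟩)))))) (BT.node (nat_lit 944) (BT.node (nat_lit 936) (BT.node (nat_lit 932) (BT.node (nat_lit 930) (BT.node (nat_lit 929) (BT.leaf ⟨(nat_lit 1), (nat_lit 0), (nat_lit 0), (nat_lit 0x174865fcd7fda345bd34d45e332c789), (nat_lit 0x174865fcd7fda345bd34d45e332c789), (nat_lit 0)⟩) (BT.leaf ⟨(nat_lit 3), (nat_lit 7), (nat_lit 3), (nat_lit 0x17e1575c85a57a6745eabd16a2b45e0), (nat_lit 0x7455e884934f9e3b8244b60180612b), (nat_lit 0)⟩)) (BT.node (nat_lit 931) (BT.leaf ⟨(nat_lit 3), (nat_lit 3), (nat_lit 7), (nat_lit 0x7455e884934f9e3b8244b60180612b), (nat_lit 0x17e1575c85a57a6745eabd16a2b45e0), (nat_lit 0)⟩) (BT.leaf ⟨(nat_lit 3), (nat_lit 7), (nat_lit 3), (nat_lit 0x1e37c48cb4ca5e7c7b8db1a2df46bfe), (nat_lit 0x114de18a0f5bd9a10024050482e4060),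 (nat_lit 0)⟩))) (BT.node (nat_lit 934) (BT.node (nat_lit 933) (BT.leaf ⟨(nat_lit 3), (nat_lit 3), (nat_lit 7), (nat_lit 0x114de18a0f5bd9a10024050482e4060), (nat_lit 0x1e37c48cb4ca5e7c7b8db1a2df46bfe), (nat_lit 0)⟩) (BT.leaf ⟨(nat_lit 3), (nat_lit 7), (nat_lit 3), (nat_lit 0x7a201073901ae680346a5f7557a7e3), (nat_lit 0xfad1b46e2b4e8df13f3efbe41b1fe3), (nat_lit 0)⟩)) (BT.node (nat_lit 935) (BT.leaf ⟨(nat_lit 3), (nat_lit 3), (nat_lit 7), (nat_lit 0xfad1b46e2b4e8df13f3efbe41b1fe3), (nat_lit 0x7a201073901ae680346a5f7557a7e3), (nat_lit 0)⟩) (BT.leaf ⟨(nat_lit 2), (nat_lit 7), (nat_lit 7), (nat_lit 0x10ce394738f71c4cdb49b4d14c39f90), (nat_lit 0), (nat_lit 0)⟩)))) (BT.node (nat_lit 940) (BT.node (nat_lit 938) (BT.node (nat_lit 937) (BT.leaf ⟨(nat_lit 1), (nat_lit 0), (nat_lit 0), (nat_lit 0x11ec14208811d3af000c3baac64b018), (nat_lit 0x11ec14208811d3af000c3baac64b018),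 (nat_lit 0)⟩) (BT.leaf ⟨(nat_lit 2), (nat_lit 3), (nat_lit 3), (nat_lit 0x1721575e998fd44f4176f6f82e1ece8), (nat_lit 0), (nat_lit 0)⟩)) (BT.node (nat_lit 939) (BT.leaf ⟨(nat_lit 2), (nat_lit 3), (nat_lit 3), (nat_lit 0xd263bda61db1cf39d738e314e3947b), (nat_lit 0), (nat_lit 0)⟩) (BT.leaf ⟨(nat_lit 3), (nat_lit 7), (nat_lit 7), (nat_lit 0x12704f49697d26b60db174923a4f69e), (nat_lit 0x1078d7d685be2011ce74120d8e400a0), (nat_lit 0)⟩))) (BT.node (nat_lit 942) (BT.node (nat_lit 941) (BT.leaf ⟨(nat_lit 3), (nat_lit 7), (nat_lit 7), (nat_lit 0x1078d7d685be2011ce74120d8e400a0), (nat_lit 0x12704f49697d26b60db174923a4f69e), (nat_lit 0)⟩) (BT.leaf ⟨(nat_lit 1), (nat_lit 0), (nat_lit 0), (nat_lit 0xd8dd1d1737878f05be77c7e43bebf3), (nat_lit 0xd8dd1d1737878f05be77c7e43bebf3), (nat_lit 0)⟩)) (BT.node (nat_lit 943) (BT.leaf ⟨(nat_lit 1), (nat_lit 0), (nat_lit 0), (nat_lit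 0x811ead3a420c01202803c6807f405f), (nat_lit 0x811ead3a420c01202803c6807f405f), (nat_lit 0)⟩) (BT.leaf ⟨(nat_lit 1), (nat_lit 0), (nat_lit 0), (nat_lit 0x107a6f49e13d52d89c9f7b189e4b48e), (nat_lit 0x107a6f49e13d52d89c9f7b189e4b48e), (nat_lit 0)⟩))))) (BT.node (nat_lit 952) (BT.node (nat_lit 948) (BT.node (nat_lit 946) (BT.node (nat_lit 945) (BT.leaf ⟨(nat_lit 3), (nat_lit 7), (nat_lit 7), (nat_lit 0x11ec04018111d3a04257f0a02893ab1), (nat_lit 0x1409f9c591d18efc79d120fcc08756), (nat_lit 0)⟩) (BT.leaf ⟨(nat_lit 1), (nat_lit 0), (nat_lit 0), (nat_lit 0x753909f52abbbc6a9c53bae2b2c5d5), (nat_lit 0x753909f52abbbc6a9c53bae2b2c5d5), (nat_lit 0)⟩)) (BT.node (nat_lit 947) (BT.leaf ⟨(nat_lit 2), (nat_lit 3), (nat_lit 3), (nat_lit 0x1c183005008411219fcd180100246b4), (nat_lit 0), (nat_lit 0)⟩) (BT.leaf ⟨(nat_lit 3), (nat_lit 7), (nat_lit 7), (nat_lit 0x9795c7477c40877ac0125c01404881),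 (nat_lit 0x189f60c9a1da5da0f4be93952e6f69e), (nat_lit 0)⟩))) (BT.node (nat_lit 950) (BT.node (nat_lit 949) (BT.leaf ⟨(nat_lit 3), (nat_lit 7), (nat_lit 7), (nat_lit 0x189f60c9a1da5da0f4be93952e6f69e), (nat_lit 0x9795c7477c40877ac0125c01404881), (nat_lit 0)⟩) (BT.leaf ⟨(nat_lit 2), (nat_lit 4), (nat_lit 4), (nat_lit 0xdc07338a4fe9752fd65957b072fa57), (nat_lit 0), (nat_lit 0)⟩)) (BT.node (nat_lit 951) (BT.leaf ⟨(nat_lit 2), (nat_lit 4), (nat_lit 4), (nat_lit 0x75d2ef38f1eaec0192d938f8401042), (nat_lit 0), (nat_lit 0)⟩) (BT.leaf ⟨(nat_lit 2), (nat_lit 4), (nat_lit 4), (nat_lit 0x160d5db9677239b5cb6c2b51355c0b9), (nat_lit 0), (nat_lit 0)⟩)))) (BT.node (nat_lit 956) (BT.node (nat_lit 954) (BT.node (nat_lit 953) (BT.leaf ⟨(nat_lit 2), (nat_lit 4), (nat_lit 4), (nat_lit 0x739a4f3aa758566cf2ae71cf9d273b), (nat_lit 0), (nat_lit 0)⟩) (BT.leaf ⟨(nat_lit 1), (nat_lit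 0), (nat_lit 0), (nat_lit 0xbd390efcdc9f6e8be74da9bc27a6f5), (nat_lit 0xbd390efcdc9f6e8be74da9bc27a6f5), (nat_lit 0)⟩)) (BT.node (nat_lit 955) (BT.leaf ⟨(nat_lit 3), (nat_lit 7), (nat_lit 7), (nat_lit 0x17e154812821e76318900284439524f), (nat_lit 0x97801ef500b006f4ab8e8e02410801), (nat_lit 0)⟩) (BT.leaf ⟨(nat_lit 3), (nat_lit 7), (nat_lit 7), (nat_lit 0x97801ef500b006f4ab8e8e02410801), (nat_lit 0x17e154812821e76318900284439524f), (nat_lit 0)⟩))) (BT.node (nat_lit 958) (BT.node (nat_lit 957) (BT.leaf ⟨(nat_lit 1), (nat_lit 0), (nat_lit 0), (nat_lit 0x140017ff43013a081104600404843b9), (nat_lit 0x140017ff43013a081104600404843b9), (nat_lit 0)⟩) (BT.leaf ⟨(nat_lit 1), (nat_lit 0), (nat_lit 0), (nat_lit 0xfcde1c6efc6f85f1be294be4166363), (nat_lit 0xfcde1c6efc6f85f1be294be4166363), (nat_lit 0)⟩)) (BT.node (nat_lit 959) (BT.leaf ⟨(nat_lit 3), (nat_lit 7), (nat_lit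 7), (nat_lit 0x1b05ec59eb6326876cde97d27e4e26a), (nat_lit 0x975b82df4bce290fa5fc5839b60d19), (nat_lit 0)⟩) (BT.leaf ⟨(nat_lit 3), (nat_lit 7), (nat_lit 7), (nat_lit 0x975b82df4bce290fa5fc5839b60d19), (nat_lit 0x1b05ec59eb6326876cde97d27e4e26a), (nat_lit 0)⟩)))))))
noncomputable def cP896 : BT Pf := (BT.node (nat_lit 928) (BT.node (nat_lit 912) (BT.node (nat_lit 904) (BT.node (nat_lit 900) (BT.node (nat_lit 898) (BT.node (nat_lit 897) (BT.leaf (.emul [(nat_lit 654), (nat_lit 893)])) (BT.leaf (.emul [(nat_lit 645), (nat_lit 896)]))) (BT.node (nat_lit 899) (BT.leaf (.nmul (nat_lit 808) [(nat_lit 1)])) (BT.leaf (.rel (nat_lit 844) (nat_lit 1) [(nat_lit 551), (nat_lit 813)] [⟨(nat_lit 885), [(nat_lit 897)], [(nat_lit 898)]⟩])))) (BT.node (nat_lit 902) (BT.node (nat_lit 901) (BT.leaf (.nmul (nat_lit 463) [(nat_lit 43)])) (BT.leaf (.nmul (nat_lit 486) [(nat_lit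 0)]))) (BT.node (nat_lit 903) (BT.leaf (.nmul (nat_lit 653) [(nat_lit 19)])) (BT.leaf (.rel (nat_lit 886) (nat_lit 1) [(nat_lit 900), (nat_lit 495)] [⟨(nat_lit 889), [(nat_lit 528)], [(nat_lit 902), (nat_lit 901)]⟩]))))) (BT.node (nat_lit 908) (BT.node (nat_lit 906) (BT.node (nat_lit 905) (BT.leaf (.inv (nat_lit 903))) (BT.leaf (.nmul (nat_lit 461) [(nat_lit 19)]))) (BT.node (nat_lit 907) (BT.leaf (.nmul (nat_lit 139) [(nat_lit 43)])) (BT.leaf (.rel (nat_lit 866) (nat_lit 0) [(nat_lit 905), (nat_lit 785)] [⟨(nat_lit 862), [], [(nat_lit 567), (nat_lit 906)]⟩])))) (BT.node (nat_lit 910) (BT.node (nat_lit 909) (BT.leaf (.rel (nat_lit 852) (nat_lit 0) [(nat_lit 434), (nat_lit 361)] [⟨(nat_lit 853), [(nat_lit 703)], [(nat_lit 258), (nat_lit 596)]⟩])) (BT.leaf (.rel (nat_lit 819) (nat_lit 0) [(nat_lit 865), (nat_lit 293)] [⟨(nat_lit 853), [(nat_lit 678)],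 [(nat_lit 746), (nat_lit 202)]⟩]))) (BT.node (nat_lit 911) (BT.leaf (.emul [(nat_lit 654), (nat_lit 594)])) (BT.leaf (.nmul (nat_lit 865) [(nat_lit 19)])))))) (BT.node (nat_lit 920) (BT.node (nat_lit 916) (BT.node (nat_lit 914) (BT.node (nat_lit 913) (BT.leaf (.rel (nat_lit 884) (nat_lit 0) [(nat_lit 192), (nat_lit 497)] [⟨(nat_lit 858), [(nat_lit 910)], [(nat_lit 911), (nat_lit 265)]⟩])) (BT.leaf (.nmul (nat_lit 441) [(nat_lit 19)]))) (BT.node (nat_lit 915) (BT.leaf (.nmul (nat_lit 913) [(nat_lit 43)])) (BT.leaf (.nmul (nat_lit 914) [(nat_lit 43)])))) (BT.node (nat_lit 918) (BT.node (nat_lit 917) (BT.leaf (.emul [(nat_lit 86), (nat_lit 132)])) (BT.leaf (.emul [(nat_lit 46), (nat_lit 916)]))) (BT.node (nat_lit 919) (BT.leaf (.emul [(nat_lit 47), (nat_lit 917)])) (BT.leaf (.emul [(nat_lit 46), (nat_lit 918)]))))) (BT.node (nat_lit 924) (BT.node (nat_lit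 922) (BT.node (nat_lit 921) (BT.leaf (.emul [(nat_lit 73), (nat_lit 219)])) (BT.leaf (.emul [(nat_lit 86), (nat_lit 920)]))) (BT.node (nat_lit 923) (BT.leaf (.emul [(nat_lit 86), (nat_lit 921)])) (BT.leaf (.emul [(nat_lit 86), (nat_lit 922)])))) (BT.node (nat_lit 926) (BT.node (nat_lit 925) (BT.leaf (.emul [(nat_lit 73), (nat_lit 923)])) (BT.leaf (.emul [(nat_lit 86), (nat_lit 924)]))) (BT.node (nat_lit 927) (BT.leaf (.emul [(nat_lit 437), (nat_lit 760)])) (BT.leaf (.emul [(nat_lit 322), (nat_lit 926)]))))))) (BT.node (nat_lit 944) (BT.node (nat_lit 936) (BT.node (nat_lit 932) (BT.node (nat_lit 930) (BT.node (nat_lit 929) (BT.leaf (.nmul (nat_lit 267) [(nat_lit 43)])) (BT.leaf (.rel (nat_lit 323) (nat_lit 5) [(nat_lit 915), (nat_lit 225)] [⟨(nat_lit 310), [(nat_lit 919), (nat_lit 925)], [(nat_lit 197), (nat_lit 585)]⟩, ⟨(nat_lit 831), [(nat_lit 927)],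 [(nat_lit 928), (nat_lit 389)]⟩]))) (BT.node (nat_lit 931) (BT.leaf (.inv (nat_lit 929))) (BT.leaf (.rel (nat_lit 724) (nat_lit 0) [(nat_lit 928), (nat_lit 798)] [⟨(nat_lit 873), [(nat_lit 834)], [(nat_lit 915), (nat_lit 162)]⟩])))) (BT.node (nat_lit 934) (BT.node (nat_lit 933) (BT.leaf (.inv (nat_lit 931))) (BT.leaf (.rel (nat_lit 365) (nat_lit 4) [(nat_lit 675), (nat_lit 490)] [⟨(nat_lit 589), [(nat_lit 590)], [(nat_lit 902), (nat_lit 235)]⟩, ⟨(nat_lit 843), [(nat_lit 709)], [(nat_lit 913), (nat_lit 369)]⟩]))) (BT.node (nat_lit 935) (BT.leaf (.inv (nat_lit 933))) (BT.leaf (.emul [(nat_lit 775), (nat_lit 775)]))))) (BT.node (nat_lit 940) (BT.node (nat_lit 938) (BT.node (nat_lit 937) (BT.leaf (.nmul (nat_lit 399) [(nat_lit 1)])) (BT.leaf (.emul [(nat_lit 322), (nat_lit 667)]))) (BT.node (nat_lit 939) (BT.leaf (.emul [(nat_lit 322), (nat_lit 937)]))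 (BT.leaf (.rel (nat_lit 909) (nat_lit 4) [(nat_lit 470), (nat_lit 247)] [⟨(nat_lit 931), [(nat_lit 935)], [(nat_lit 226), (nat_lit 936)]⟩, ⟨(nat_lit 930), [(nat_lit 938)], [(nat_lit 427), (nat_lit 328)]⟩])))) (BT.node (nat_lit 942) (BT.node (nat_lit 941) (BT.leaf (.inv (nat_lit 939))) (BT.leaf (.nmul (nat_lit 428) [(nat_lit 43)]))) (BT.node (nat_lit 943) (BT.leaf (.nmul (nat_lit 941) [(nat_lit 43)])) (BT.leaf (.nmul (nat_lit 483) [(nat_lit 43)])))))) (BT.node (nat_lit 952) (BT.node (nat_lit 948) (BT.node (nat_lit 946) (BT.node (nat_lit 945) (BT.leaf (.rel (nat_lit 866) (nat_lit 1) [(nat_lit 942), (nat_lit 566)] [⟨(nat_lit 867), [(nat_lit 444)], [(nat_lit 943), (nat_lit 369)]⟩])) (BT.leaf (.nmul (nat_lit 631) [(nat_lit 43)]))) (BT.node (nat_lit 947) (BT.leaf (.emul [(nat_lit 322), (nat_lit 760)])) (BT.leaf (.rel (nat_lit 803) (nat_lit 3) [(nat_lit 945),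 (nat_lit 814)] [⟨(nat_lit 501), [(nat_lit 329)], [(nat_lit 468), (nat_lit 170)]⟩, ⟨(nat_lit 930), [(nat_lit 946)], [(nat_lit 789), (nat_lit 140)]⟩])))) (BT.node (nat_lit 950) (BT.node (nat_lit 949) (BT.leaf (.inv (nat_lit 947))) (BT.leaf (.emul [(nat_lit 552), (nat_lit 540)]))) (BT.node (nat_lit 951) (BT.leaf (.emul [(nat_lit 564), (nat_lit 949)])) (BT.leaf (.emul [(nat_lit 564), (nat_lit 950)]))))) (BT.node (nat_lit 956) (BT.node (nat_lit 954) (BT.node (nat_lit 953) (BT.leaf (.emul [(nat_lit 552), (nat_lit 951)])) (BT.leaf (.nmul (nat_lit 493) [(nat_lit 43)]))) (BT.node (nat_lit 955) (BT.leaf (.rel (nat_lit 872) (nat_lit 0) [(nat_lit 373), (nat_lit 386)] [⟨(nat_lit 873), [(nat_lit 952)], [(nat_lit 953), (nat_lit 578)]⟩])) (BT.leaf (.inv (nat_lit 954))))) (BT.node (nat_lit 958) (BT.node (nat_lit 957) (BT.leaf (.nmul (nat_lit 475) [(nat_lit 1)])) (BT.leaf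 (.nmul (nat_lit 832) [(nat_lit 43)]))) (BT.node (nat_lit 959) (BT.leaf (.rel (nat_lit 807) (nat_lit 0) [(nat_lit 957), (nat_lit 956)] [⟨(nat_lit 940), [(nat_lit 775)], [(nat_lit 829), (nat_lit 898)]⟩])) (BT.leaf (.inv (nat_lit 958)))))))))
noncomputable def cF960 : BT Fc := (BT.node (nat_lit 992) (BT.node (nat_lit 976) (BT.node (nat_lit 968) (BT.node (nat_lit 964) (BT.node (nat_lit 962) (BT.node (nat_lit 961) (BT.leaf ⟨(nat_lit 3), (nat_lit 7), (nat_lit 7), (nat_lit 0x78d202004102e67a2807aa88300201), (nat_lit 0x1bbceef2132ae28eadd57aa3e8aa9c5), (nat_lit 0)⟩) (BT.leaf ⟨(nat_lit 2), (nat_lit 3), (nat_lit 3), (nat_lit 0x1d99577c6c8d7fda33d8a321f065e69), (nat_lit 0), (nat_lit 0)⟩)) (BT.node (nat_lit 963) (BT.leaf ⟨(nat_lit 3), (nat_lit 7), (nat_lit 7), (nat_lit 0x1202798a0f8c8e4c00905bf07b3a155), (nat_lit 0x11df1655c8e31c876cf38c6cd619c53), (nat_lit 0)⟩)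 (BT.leaf ⟨(nat_lit 3), (nat_lit 7), (nat_lit 7), (nat_lit 0x11df1655c8e31c876cf38c6cd619c53), (nat_lit 0x1202798a0f8c8e4c00905bf07b3a155), (nat_lit 0)⟩))) (BT.node (nat_lit 966) (BT.node (nat_lit 965) (BT.leaf ⟨(nat_lit 3), (nat_lit 7), (nat_lit 7), (nat_lit 0xe8d71ca56c68d9664d97c5f8df9f90), (nat_lit 0x56971f907c582db1bc3746f9df9be1), (nat_lit 0)⟩) (BT.leaf ⟨(nat_lit 3), (nat_lit 7), (nat_lit 7), (nat_lit 0x56971f907c582db1bc3746f9df9be1), (nat_lit 0xe8d71ca56c68d9664d97c5f8df9f90), (nat_lit 0)⟩)) (BT.node (nat_lit 967) (BT.leaf ⟨(nat_lit 3), (nat_lit 7), (nat_lit 3), (nat_lit 0x655ea9d4dde756ea9f5d26db07d1d1), (nat_lit 0xd1ba3d46e9d7ffa170694bd199aaae), (nat_lit 0)⟩) (BT.leaf ⟨(nat_lit 3), (nat_lit 3), (nat_lit 7), (nat_lit 0xd1ba3d46e9d7ffa170694bd199aaae), (nat_lit 0x655ea9d4dde756ea9f5d26db07d1d1), (nat_lit 0)⟩)))) (BT.node (nat_lit 972) (BT.node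 (nat_lit 970) (BT.node (nat_lit 969) (BT.leaf ⟨(nat_lit 1), (nat_lit 0), (nat_lit 0), (nat_lit 0xe596612fab83eb34d2f98e6bc1792e), (nat_lit 0xe596612fab83eb34d2f98e6bc1792e), (nat_lit 0)⟩) (BT.leaf ⟨(nat_lit 1), (nat_lit 0), (nat_lit 0), (nat_lit 0x19cec6a081728834f210a7480501280), (nat_lit 0x19cec6a081728834f210a7480501280), (nat_lit 0)⟩)) (BT.node (nat_lit 971) (BT.leaf ⟨(nat_lit 1), (nat_lit 0), (nat_lit 0), (nat_lit 0x10037a49e57202097c7320097cea801), (nat_lit 0x10037a49e57202097c7320097cea801), (nat_lit 0)⟩) (BT.leaf ⟨(nat_lit 3), (nat_lit 7), (nat_lit 7), (nat_lit 0x11c60100625bbd8813e1e892712e882), (nat_lit 0xfafc292711125a3d809562028eef32), (nat_lit 0)⟩))) (BT.node (nat_lit 974) (BT.node (nat_lit 973) (BT.leaf ⟨(nat_lit 1), (nat_lit 0), (nat_lit 0), (nat_lit 0x841002204034eb4f2804819cec6e00), (nat_lit 0x841002204034eb4f2804819cec6e00), (nat_lit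 0)⟩) (BT.leaf ⟨(nat_lit 3), (nat_lit 7), (nat_lit 7), (nat_lit 0x174a8cd65f6f8b0de25d49e95d2f85f), (nat_lit 0x408c059e601918904e81aa41080e8d), (nat_lit 0)⟩)) (BT.node (nat_lit 975) (BT.leaf ⟨(nat_lit 1), (nat_lit 0), (nat_lit 0), (nat_lit 0x9aa4b6c193d23a4fd4b935272cf3d8), (nat_lit 0x9aa4b6c193d23a4fd4b935272cf3d8), (nat_lit 0)⟩) (BT.leaf ⟨(nat_lit 3), (nat_lit 7), (nat_lit 5), (nat_lit 0x1a3488120b3cc028063a28060274100), (nat_lit 0x7747d3d53a39611b72187adb3499d4), (nat_lit 0)⟩))))) (BT.node (nat_lit 984) (BT.node (nat_lit 980) (BT.node (nat_lit 978) (BT.node (nat_lit 977) (BT.leaf ⟨(nat_lit 3), (nat_lit 5), (nat_lit 7), (nat_lit 0x7747d3d53a39611b72187adb3499d4), (nat_lit 0x1a3488120b3cc028063a28060274100), (nat_lit 0)⟩) (BT.leaf ⟨(nat_lit 1), (nat_lit 0), (nat_lit 0), (nat_lit 0x1003a30400204039d08093c01001001), (nat_lit 0x1003a30400204039d08093c01001001),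 (nat_lit 0)⟩)) (BT.node (nat_lit 979) (BT.leaf ⟨(nat_lit 3), (nat_lit 7), (nat_lit 3), (nat_lit 0x1b517a721de1ad0d944ddeca1f7e674), (nat_lit 0xbd35cc80c00cea0452f801100f4500), (nat_lit 0)⟩) (BT.leaf ⟨(nat_lit 3), (nat_lit 3), (nat_lit 7), (nat_lit 0xbd35cc80c00cea0452f801100f4500), (nat_lit 0x1b517a721de1ad0d944ddeca1f7e674), (nat_lit 0)⟩))) (BT.node (nat_lit 982) (BT.node (nat_lit 981) (BT.leaf ⟨(nat_lit 3), (nat_lit 7), (nat_lit 3), (nat_lit 0xf624777dd823b6d8c1e74952f4f49a), (nat_lit 0x15942fa5f43f4656fa5b6be9793fe2c), (nat_lit 0)⟩) (BT.leaf ⟨(nat_lit 3), (nat_lit 3), (nat_lit 7), (nat_lit 0x15942fa5f43f4656fa5b6be9793fe2c), (nat_lit 0xf624777dd823b6d8c1e74952f4f49a), (nat_lit 0)⟩)) (BT.node (nat_lit 983) (BT.leaf ⟨(nat_lit 1), (nat_lit 0), (nat_lit 0), (nat_lit 0x1b047325d43e97dc5565a3295d2f370), (nat_lit 0x1b047325d43e97dc5565a3295d2f370), (nat_lit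 0)⟩) (BT.leaf ⟨(nat_lit 3), (nat_lit 7), (nat_lit 7), (nat_lit 0x80120202408841105463c74ebf469e), (nat_lit 0x4fd0801891c04428014020441f9aa9), (nat_lit 0)⟩)))) (BT.node (nat_lit 988) (BT.node (nat_lit 986) (BT.node (nat_lit 985) (BT.leaf ⟨(nat_lit 3), (nat_lit 7), (nat_lit 7), (nat_lit 0x4fd0801891c04428014020441f9aa9), (nat_lit 0x80120202408841105463c74ebf469e), (nat_lit 0)⟩) (BT.leaf ⟨(nat_lit 1), (nat_lit 0), (nat_lit 0), (nat_lit 0x1002f4100008f8f9d001010ae77a25f), (nat_lit 0x1002f4100008f8f9d001010ae77a25f), (nat_lit 0)⟩)) (BT.node (nat_lit 987) (BT.leaf ⟨(nat_lit 3), (nat_lit 7), (nat_lit 7), (nat_lit 0x19d27a1ce639b91356f0da9bd7fa287), (nat_lit 0x2801082897dc6818453b91d9890299), (nat_lit 0)⟩) (BT.leaf ⟨(nat_lit 3), (nat_lit 7), (nat_lit 7), (nat_lit 0x2801082897dc6818453b91d9890299), (nat_lit 0x19d27a1ce639b91356f0da9bd7fa287), (nat_lit 0)⟩)))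 (BT.node (nat_lit 990) (BT.node (nat_lit 989) (BT.leaf ⟨(nat_lit 3), (nat_lit 7), (nat_lit 3), (nat_lit 0x43e10120da888014022140091e1a7f), (nat_lit 0x4bb9dc9f0127515c00304240400841), (nat_lit 0)⟩) (BT.leaf ⟨(nat_lit 3), (nat_lit 3), (nat_lit 7), (nat_lit 0x4bb9dc9f0127515c00304240400841), (nat_lit 0x43e10120da888014022140091e1a7f), (nat_lit 0)⟩)) (BT.node (nat_lit 991) (BT.leaf ⟨(nat_lit 1), (nat_lit 0), (nat_lit 0), (nat_lit 0x1d1fa33d8f8d29734f56e0d46557346), (nat_lit 0x1d1fa33d8f8d29734f56e0d46557346), (nat_lit 0)⟩) (BT.leaf ⟨(nat_lit 1), (nat_lit 0), (nat_lit 0), (nat_lit 0x114de1dc80488836a27f3ea0c030299), (nat_lit 0x114de1dc80488836a27f3ea0c030299), (nat_lit 0)⟩)))))) (BT.node (nat_lit 1008) (BT.node (nat_lit 1000) (BT.node (nat_lit 996) (BT.node (nat_lit 994) (BT.node (nat_lit 993) (BT.leaf ⟨(nat_lit 2), (nat_lit 3), (nat_lit 3), (nat_lit 0x16a1575e99d07a3a8de0bf0b4a1ecc7),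 (nat_lit 0), (nat_lit 0)⟩) (BT.leaf ⟨(nat_lit 3), (nat_lit 7), (nat_lit 3), (nat_lit 0xdb35c95ac4f7fd58aa91cd60f652f9), (nat_lit 0x4bc8793f72c0bc975b1fb65bdb80fa), (nat_lit 0)⟩)) (BT.node (nat_lit 995) (BT.leaf ⟨(nat_lit 3), (nat_lit 3), (nat_lit 7), (nat_lit 0x4bc8793f72c0bc975b1fb65bdb80fa), (nat_lit 0xdb35c95ac4f7fd58aa91cd60f652f9), (nat_lit 0)⟩) (BT.leaf ⟨(nat_lit 2), (nat_lit 3), (nat_lit 3), (nat_lit 0xaf63bf89de00902225b93481042006), (nat_lit 0), (nat_lit 0)⟩))) (BT.node (nat_lit 998) (BT.node (nat_lit 997) (BT.leaf ⟨(nat_lit 3), (nat_lit 7), (nat_lit 7), (nat_lit 0x182200cde074495f3e8097b002742), (nat_lit 0x1d3bb369394bd5be3742e8d464d9747), (nat_lit 0)⟩) (BT.leaf ⟨(nat_lit 3), (nat_lit 7), (nat_lit 7), (nat_lit 0x1d3bb369394bd5be3742e8d464d9747), (nat_lit 0x182200cde074495f3e8097b002742), (nat_lit 0)⟩)) (BT.node (nat_lit 999) (BT.leaf ⟨(nat_lit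 3), (nat_lit 7), (nat_lit 7), (nat_lit 0x399dcdff89adb15c2bd472ac713f51), (nat_lit 0x900300c257bc0221044b6af63bbe7), (nat_lit 0)⟩) (BT.leaf ⟨(nat_lit 3), (nat_lit 3), (nat_lit 7), (nat_lit 0x4a08090e54141086e4bf1e74881c5), (nat_lit 0x974054023af7a8210120444095d92d), (nat_lit 0)⟩)))) (BT.node (nat_lit 1004) (BT.node (nat_lit 1002) (BT.node (nat_lit 1001) (BT.leaf ⟨(nat_lit 3), (nat_lit 7), (nat_lit 3), (nat_lit 0x974054023af7a8210120444095d92d), (nat_lit 0x4a08090e54141086e4bf1e74881c5), (nat_lit 0)⟩) (BT.leaf ⟨(nat_lit 1), (nat_lit 0), (nat_lit 0), (nat_lit 0xaef65627a68ac5dcc4d532ae55c5ff), (nat_lit 0xaef65627a68ac5dcc4d532ae55c5ff), (nat_lit 0)⟩)) (BT.node (nat_lit 1003) (BT.leaf ⟨(nat_lit 3), (nat_lit 2), (nat_lit 7), (nat_lit 0x32d5707ceadf1b8374e3657ffa3744), (nat_lit 0x169a3899b66b1ddff4638e51ee19e2c), (nat_lit 0)⟩) (BT.leaf ⟨(nat_lit 3), (nat_lit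 7), (nat_lit 2), (nat_lit 0x169a3899b66b1ddff4638e51ee19e2c), (nat_lit 0x32d5707ceadf1b8374e3657ffa3744), (nat_lit 0)⟩))) (BT.node (nat_lit 1006) (BT.node (nat_lit 1005) (BT.leaf ⟨(nat_lit 1), (nat_lit 0), (nat_lit 0), (nat_lit 0x2201400a811e14ee809bc0ac64b018), (nat_lit 0x2201400a811e14ee809bc0ac64b018), (nat_lit 0)⟩) (BT.leaf ⟨(nat_lit 3), (nat_lit 7), (nat_lit 7), (nat_lit 0x16c4b7b7005ecbf5152f5995707d12e), (nat_lit 0x1de8b7850747f3520433281102d42f9), (nat_lit 0)⟩)) (BT.node (nat_lit 1007) (BT.leaf ⟨(nat_lit 3), (nat_lit 7), (nat_lit 7), (nat_lit 0x1e3fe6dd2e1beb465b8d8dcc4fc6265), (nat_lit 0x6bf0a93f1f45bc9692e21edc095d2f), (nat_lit 0)⟩) (BT.leaf ⟨(nat_lit 3), (nat_lit 7), (nat_lit 7), (nat_lit 0x6bf0a93f1f45bc9692e21edc095d2f), (nat_lit 0x1e3fe6dd2e1beb465b8d8dcc4fc6265), (nat_lit 0)⟩))))) (BT.node (nat_lit 1016) (BT.node (nat_lit 1012) (BT.node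 (nat_lit 1010) (BT.node (nat_lit 1009) (BT.leaf ⟨(nat_lit 2), (nat_lit 3), (nat_lit 3), (nat_lit 0x10123bf8900c11012014018010426f0), (nat_lit 0), (nat_lit 0)⟩) (BT.leaf ⟨(nat_lit 1), (nat_lit 0), (nat_lit 0), (nat_lit 0x1021f580a031d3b7e257bc022093ab1), (nat_lit 0x1021f580a031d3b7e257bc022093ab1), (nat_lit 0)⟩)) (BT.node (nat_lit 1011) (BT.leaf ⟨(nat_lit 3), (nat_lit 3), (nat_lit 7), (nat_lit 0x755c51d72aa747779dd1f4752eaa36), (nat_lit 0x1b918e44dfe9b527a179a2fc877a287), (nat_lit 0)⟩) (BT.leaf ⟨(nat_lit 3), (nat_lit 7), (nat_lit 3), (nat_lit 0x1b918e44dfe9b527a179a2fc877a287), (nat_lit 0x755c51d72aa747779dd1f4752eaa36), (nat_lit 0)⟩))) (BT.node (nat_lit 1014) (BT.node (nat_lit 1013) (BT.leaf ⟨(nat_lit 1), (nat_lit 0), (nat_lit 0), (nat_lit 0x114c142204ff723b3024f5a0c030299), (nat_lit 0x114c142204ff723b3024f5a0c030299), (nat_lit 0)⟩) (BT.leaf ⟨(nat_lit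 1), (nat_lit 0), (nat_lit 0), (nat_lit 0x1e3065e8df3bf37d6f0df0b74b2c38d), (nat_lit 0x1e3065e8df3bf37d6f0df0b74b2c38d), (nat_lit 0)⟩)) (BT.node (nat_lit 1015) (BT.leaf ⟨(nat_lit 1), (nat_lit 0), (nat_lit 0), (nat_lit 0x11ec140084ae777c280ce9c0624b2b1), (nat_lit 0x11ec140084ae777c280ce9c0624b2b1), (nat_lit 0)⟩) (BT.leaf ⟨(nat_lit 3), (nat_lit 7), (nat_lit 7), (nat_lit 0x208aac809e6202b4084f8c301b1f0d), (nat_lit 0x1df65f17683d26a4759e93f25a4f5b1), (nat_lit 0)⟩)))) (BT.node (nat_lit 1020) (BT.node (nat_lit 1018) (BT.node (nat_lit 1017) (BT.leaf ⟨(nat_lit 3), (nat_lit 7), (nat_lit 7), (nat_lit 0x1df65f17683d26a4759e93f25a4f5b1), (nat_lit 0x208aac809e6202b4084f8c301b1f0d), (nat_lit 0)⟩) (BT.leaf ⟨(nat_lit 1), (nat_lit 0), (nat_lit 0), (nat_lit 0x1f342444032abe460240083c18a06b4), (nat_lit 0x1f342444032abe460240083c18a06b4), (nat_lit 0)⟩)) (BT.node (nat_lit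 1019) (BT.leaf ⟨(nat_lit 1), (nat_lit 0), (nat_lit 0), (nat_lit 0x77749b6ca97754e88d5b4c7d4eaeef), (nat_lit 0x77749b6ca97754e88d5b4c7d4eaeef), (nat_lit 0)⟩) (BT.leaf ⟨(nat_lit 3), (nat_lit 7), (nat_lit 3), (nat_lit 0x12fad8a6ad825da4e3a47b167989f7d), (nat_lit 0x129571a369b2f8de1accefbe41f0ba3), (nat_lit 0)⟩))) (BT.node (nat_lit 1022) (BT.node (nat_lit 1021) (BT.leaf ⟨(nat_lit 3), (nat_lit 3), (nat_lit 7), (nat_lit 0x129571a369b2f8de1accefbe41f0ba3), (nat_lit 0x12fad8a6ad825da4e3a47b167989f7d), (nat_lit 0)⟩) (BT.leaf ⟨(nat_lit 1), (nat_lit 0), (nat_lit 0), (nat_lit 0x8127a32fce74e91005f480a03f40b9), (nat_lit 0x8127a32fce74e91005f480a03f40b9), (nat_lit 0)⟩)) (BT.node (nat_lit 1023) (BT.leaf ⟨(nat_lit 3), (nat_lit 7), (nat_lit 7), (nat_lit 0x13643e73be754e85bf32ddf8e99d349), (nat_lit 0x1cca9d565e741f05bcd9ddf8eb9f7ba), (nat_lit 0)⟩) (BT.leaf ⟨(nat_lit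 3), (nat_lit 7), (nat_lit 7), (nat_lit 0x12f81027f0442822992044043fb35c8), (nat_lit 0x1077a8012020855c003e8e4bb9d809), (nat_lit 0)⟩)))))))
noncomputable def cP960 : BT Pf := (BT.node (nat_lit 992) (BT.node (nat_lit 976) (BT.node (nat_lit 968) (BT.node (nat_lit 964) (BT.node (nat_lit 962) (BT.node (nat_lit 961) (BT.leaf (.rel (nat_lit 866) (nat_lit 1) [(nat_lit 511), (nat_lit 265)] [⟨(nat_lit 862), [(nat_lit 927)], [(nat_lit 759), (nat_lit 395)]⟩])) (BT.leaf (.emul [(nat_lit 322), (nat_lit 496)]))) (BT.node (nat_lit 963) (BT.leaf (.rel (nat_lit 929) (nat_lit 2) [(nat_lit 469), (nat_lit 584)] [⟨(nat_lit 788), [(nat_lit 828)], [(nat_lit 352), (nat_lit 252)]⟩, ⟨(nat_lit 930), [(nat_lit 961)], [(nat_lit 539), (nat_lit 495)]⟩])) (BT.leaf (.inv (nat_lit 962))))) (BT.node (nat_lit 966) (BT.node (nat_lit 965) (BT.leaf (.rel (nat_lit 929) (nat_lit 0) [(nat_lit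 111), (nat_lit 190)] [⟨(nat_lit 853), [(nat_lit 650)], [(nat_lit 353), (nat_lit 597)]⟩])) (BT.leaf (.inv (nat_lit 964)))) (BT.node (nat_lit 967) (BT.leaf (.rel (nat_lit 745) (nat_lit 4) [(nat_lit 174), (nat_lit 459)] [⟨(nat_lit 887), [(nat_lit 667)], [(nat_lit 427), (nat_lit 628)]⟩, ⟨(nat_lit 964), [(nat_lit 775)], [(nat_lit 695), (nat_lit 293)]⟩])) (BT.leaf (.inv (nat_lit 966)))))) (BT.node (nat_lit 972) (BT.node (nat_lit 970) (BT.node (nat_lit 969) (BT.leaf (.nmul (nat_lit 585) [(nat_lit 19)])) (BT.leaf (.nmul (nat_lit 968) [(nat_lit 0)]))) (BT.node (nat_lit 971) (BT.leaf (.nmul (nat_lit 381) [(nat_lit 43)])) (BT.leaf (.rel (nat_lit 866) (nat_lit 3) [(nat_lit 285), (nat_lit 90)] [⟨(nat_lit 374), [(nat_lit 329)], [(nat_lit 970), (nat_lit 969)]⟩, ⟨(nat_lit 867), [(nat_lit 678)], [(nat_lit 211), (nat_lit 596)]⟩])))) (BT.node (nat_lit 974) (BT.node (nat_lit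 973) (BT.leaf (.nmul (nat_lit 379) [(nat_lit 1)])) (BT.leaf (.rel (nat_lit 931) (nat_lit 2) [(nat_lit 832), (nat_lit 972)] [⟨(nat_lit 494), [(nat_lit 329)], [(nat_lit 774), (nat_lit 495)]⟩, ⟨(nat_lit 932), [(nat_lit 457)], [(nat_lit 513), (nat_lit 320)]⟩]))) (BT.node (nat_lit 975) (BT.leaf (.nmul (nat_lit 253) [(nat_lit 1)])) (BT.leaf (.rel (nat_lit 793) (nat_lit 5) [(nat_lit 942), (nat_lit 738)] [⟨(nat_lit 830), [(nat_lit 935)], [(nat_lit 827), (nat_lit 974)]⟩, ⟨(nat_lit 934), [(nat_lit 828)], [(nat_lit 43), (nat_lit 530)]⟩])))))) (BT.node (nat_lit 984) (BT.node (nat_lit 980) (BT.node (nat_lit 978) (BT.node (nat_lit 977) (BT.leaf (.inv (nat_lit 975))) (BT.leaf (.nmul (nat_lit 690) [(nat_lit 43)]))) (BT.node (nat_lit 979) (BT.leaf (.rel (nat_lit 354) (nat_lit 0) [(nat_lit 977), (nat_lit 475)] [⟨(nat_lit 930), [(nat_lit 888)], [(nat_lit 95), (nat_lit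 385)]⟩])) (BT.leaf (.inv (nat_lit 978))))) (BT.node (nat_lit 982) (BT.node (nat_lit 981) (BT.leaf (.rel (nat_lit 979) (nat_lit 1) [(nat_lit 393), (nat_lit 170)] [⟨(nat_lit 960), [], [(nat_lit 507), (nat_lit 363)]⟩])) (BT.leaf (.inv (nat_lit 980)))) (BT.node (nat_lit 983) (BT.leaf (.nmul (nat_lit 390) [(nat_lit 19)])) (BT.leaf (.rel (nat_lit 866) (nat_lit 2) [(nat_lit 522), (nat_lit 982)] [⟨(nat_lit 757), [(nat_lit 750)], [(nat_lit 292), (nat_lit 529)]⟩, ⟨(nat_lit 820), [(nat_lit 863)], [(nat_lit 865), (nat_lit 627)]⟩]))))) (BT.node (nat_lit 988) (BT.node (nat_lit 986) (BT.node (nat_lit 985) (BT.leaf (.inv (nat_lit 983))) (BT.leaf (.nmul (nat_lit 563) [(nat_lit 1)]))) (BT.node (nat_lit 987) (BT.leaf (.rel (nat_lit 980) (nat_lit 4) [(nat_lit 520), (nat_lit 108)] [⟨(nat_lit 524), [(nat_lit 863)], [(nat_lit 737)]⟩, ⟨(nat_lit 967), [(nat_lit 946)], [(nat_lit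 527), (nat_lit 985)]⟩])) (BT.leaf (.inv (nat_lit 986))))) (BT.node (nat_lit 990) (BT.node (nat_lit 989) (BT.leaf (.rel (nat_lit 862) (nat_lit 1) [(nat_lit 151), (nat_lit 367)] [⟨(nat_lit 903), [(nat_lit 775)], [(nat_lit 970), (nat_lit 751)]⟩])) (BT.leaf (.inv (nat_lit 988)))) (BT.node (nat_lit 991) (BT.leaf (.nmul (nat_lit 527) [(nat_lit 43)])) (BT.leaf (.nmul (nat_lit 990) [(nat_lit 43)]))))))) (BT.node (nat_lit 1008) (BT.node (nat_lit 1000) (BT.node (nat_lit 996) (BT.node (nat_lit 994) (BT.node (nat_lit 993) (BT.leaf (.emul [(nat_lit 437), (nat_lit 528)])) (BT.leaf (.rel (nat_lit 514) (nat_lit 0) [(nat_lit 991), (nat_lit 141)] [⟨(nat_lit 930), [(nat_lit 992)], [(nat_lit 321), (nat_lit 440)]⟩]))) (BT.node (nat_lit 995) (BT.leaf (.inv (nat_lit 993))) (BT.leaf (.emul [(nat_lit 437), (nat_lit 329)])))) (BT.node (nat_lit 998) (BT.node (nat_lit 997) (BT.leaf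 (.rel (nat_lit 819) (nat_lit 1) [(nat_lit 653), (nat_lit 578)] [⟨(nat_lit 831), [(nat_lit 995)], [(nat_lit 212), (nat_lit 627)]⟩])) (BT.leaf (.inv (nat_lit 996)))) (BT.node (nat_lit 999) (BT.leaf (.rel (nat_lit 944) (nat_lit 1) [(nat_lit 207), (nat_lit 291)] [⟨(nat_lit 971), [], [(nat_lit 570), (nat_lit 605)]⟩])) (BT.leaf (.rel (nat_lit 983) (nat_lit 1) [(nat_lit 551), (nat_lit 785)] [⟨(nat_lit 931), [(nat_lit 775)], [(nat_lit 239), (nat_lit 163)]⟩]))))) (BT.node (nat_lit 1004) (BT.node (nat_lit 1002) (BT.node (nat_lit 1001) (BT.leaf (.inv (nat_lit 999))) (BT.leaf (.nmul (nat_lit 472) [(nat_lit 1)]))) (BT.node (nat_lit 1003) (BT.leaf (.rel (nat_lit 931) (nat_lit 1) [(nat_lit 153), (nat_lit 1001)] [⟨(nat_lit 730), [(nat_lit 667)], [(nat_lit 579), (nat_lit 307)]⟩])) (BT.leaf (.inv (nat_lit 1002))))) (BT.node (nat_lit 1006) (BT.node (nat_lit 1005) (BT.leaf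 (.nmul (nat_lit 240) [(nat_lit 19)])) (BT.leaf (.rel (nat_lit 947) (nat_lit 3) [(nat_lit 463), (nat_lit 294)] [⟨(nat_lit 907), [], [(nat_lit 1004), (nat_lit 627)]⟩, ⟨(nat_lit 948), [], [(nat_lit 207), (nat_lit 294)]⟩]))) (BT.node (nat_lit 1007) (BT.leaf (.rel (nat_lit 966) (nat_lit 1) [(nat_lit 538), (nat_lit 798)] [⟨(nat_lit 889), [(nat_lit 828)], [(nat_lit 840), (nat_lit 581)]⟩])) (BT.leaf (.inv (nat_lit 1006))))))) (BT.node (nat_lit 1016) (BT.node (nat_lit 1012) (BT.node (nat_lit 1010) (BT.node (nat_lit 1009) (BT.leaf (.emul [(nat_lit 329), (nat_lit 668)])) (BT.leaf (.nmul (nat_lit 821) [(nat_lit 43)]))) (BT.node (nat_lit 1011) (BT.leaf (.rel (nat_lit 886) (nat_lit 1) [(nat_lit 840), (nat_lit 875)] [⟨(nat_lit 354), [(nat_lit 1008)], [(nat_lit 151), (nat_lit 1009)]⟩])) (BT.leaf (.inv (nat_lit 1010))))) (BT.node (nat_lit 1014) (BT.node (nat_lit 1013)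 (BT.leaf (.nmul (nat_lit 153) [(nat_lit 19)])) (BT.leaf (.nmul (nat_lit 1012) [(nat_lit 43)]))) (BT.node (nat_lit 1015) (BT.leaf (.nmul (nat_lit 1013) [(nat_lit 43)])) (BT.leaf (.rel (nat_lit 947) (nat_lit 0) [(nat_lit 261), (nat_lit 191)] [⟨(nat_lit 955), [(nat_lit 935)], [(nat_lit 1014), (nat_lit 504)]⟩]))))) (BT.node (nat_lit 1020) (BT.node (nat_lit 1018) (BT.node (nat_lit 1017) (BT.leaf (.inv (nat_lit 1015))) (BT.leaf (.nmul (nat_lit 140) [(nat_lit 0)]))) (BT.node (nat_lit 1019) (BT.leaf (.nmul (nat_lit 1017) [(nat_lit 43)])) (BT.leaf (.rel (nat_lit 853) (nat_lit 1) [(nat_lit 840), (nat_lit 287)] [⟨(nat_lit 948), [(nat_lit 775)], [(nat_lit 1012), (nat_lit 1018)]⟩])))) (BT.node (nat_lit 1022) (BT.node (nat_lit 1021) (BT.leaf (.inv (nat_lit 1019))) (BT.leaf (.nmul (nat_lit 875) [(nat_lit 1)]))) (BT.node (nat_lit 1023) (BT.leaf (.rel (nat_lit 890)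 (nat_lit 2) [(nat_lit 335), (nat_lit 449)] [⟨(nat_lit 981), [], [(nat_lit 352), (nat_lit 438)]⟩, ⟨(nat_lit 1007), [(nat_lit 935)], [(nat_lit 569), (nat_lit 1021)]⟩])) (BT.leaf (.rel (nat_lit 996) (nat_lit 1) [(nat_lit 825), (nat_lit 956)] [⟨(nat_lit 1022), [(nat_lit 775)], [(nat_lit 781), (nat_lit 662)]⟩]))))))))
noncomputable def cF1024 : BT Fc := (BT.node (nat_lit 1056) (BT.node (nat_lit 1040) (BT.node (nat_lit 1032) (BT.node (nat_lit 1028) (BT.node (nat_lit 1026) (BT.node (nat_lit 1025) (BT.leaf ⟨(nat_lit 3), (nat_lit 7), (nat_lit 7), (nat_lit 0x1077a8012020855c003e8e4bb9d809), (nat_lit 0x12f81027f0442822992044043fb35c8), (nat_lit 0)⟩) (BT.leaf ⟨(nat_lit 1), (nat_lit 0), (nat_lit 0), (nat_lit 0x442cf646ae7a34805009d0d7c90104), (nat_lit 0x442cf646ae7a34805009d0d7c90104), (nat_lit 0)⟩)) (BT.node (nat_lit 1027) (BT.leaf ⟨(nat_lit 1), (nat_lit 0), (nat_lit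 0), (nat_lit 0x1e24bcb13f3be175170df5be33c7dd2), (nat_lit 0x1e24bcb13f3be175170df5be33c7dd2), (nat_lit 0)⟩) (BT.leaf ⟨(nat_lit 1), (nat_lit 0), (nat_lit 0), (nat_lit 0x223995e04afd3b7e00cf0b1ec93818), (nat_lit 0x223995e04afd3b7e00cf0b1ec93818), (nat_lit 0)⟩))) (BT.node (nat_lit 1030) (BT.node (nat_lit 1029) (BT.leaf ⟨(nat_lit 2), (nat_lit 3), (nat_lit 3), (nat_lit 0xf9e6cd177e729705b638ddf8d661bc), (nat_lit 0), (nat_lit 0)⟩) (BT.leaf ⟨(nat_lit 2), (nat_lit 3), (nat_lit 3), (nat_lit 0xf0e6cd1746c56bf1f7d37982d6646e), (nat_lit 0), (nat_lit 0)⟩)) (BT.node (nat_lit 1031) (BT.leaf ⟨(nat_lit 3), (nat_lit 3), (nat_lit 7), (nat_lit 0x1d1ba23351961f349f66a33c18d94a5), (nat_lit 0x14d1c6bfef9b6345bc6ecb1e3465dd2), (nat_lit 0)⟩) (BT.leaf ⟨(nat_lit 3), (nat_lit 7), (nat_lit 3), (nat_lit 0x14d1c6bfef9b6345bc6ecb1e3465dd2), (nat_lit 0x1d1ba23351961f349f66a33c18d94a5),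 (nat_lit 0)⟩)))) (BT.node (nat_lit 1036) (BT.node (nat_lit 1034) (BT.node (nat_lit 1033) (BT.leaf ⟨(nat_lit 1), (nat_lit 0), (nat_lit 0), (nat_lit 0x1edd32ad2bf13a2d4568bc07a3f45ec), (nat_lit 0x1edd32ad2bf13a2d4568bc07a3f45ec), (nat_lit 0)⟩) (BT.leaf ⟨(nat_lit 3), (nat_lit 7), (nat_lit 4), (nat_lit 0x751c55d5d27c872c5a63ba714ca9d5), (nat_lit 0xc0171b5f7725031d100b3d40084573), (nat_lit 0)⟩)) (BT.node (nat_lit 1035) (BT.leaf ⟨(nat_lit 3), (nat_lit 4), (nat_lit 7), (nat_lit 0xc0171b5f7725031d100b3d40084573), (nat_lit 0x751c55d5d27c872c5a63ba714ca9d5), (nat_lit 0)⟩) (BT.leaf ⟨(nat_lit 3), (nat_lit 7), (nat_lit 7), (nat_lit 0x422cf3b93000bdaf920280402800d5), (nat_lit 0x5bc3004143e120604de281c1a206b4), (nat_lit 0)⟩))) (BT.node (nat_lit 1038) (BT.node (nat_lit 1037) (BT.leaf ⟨(nat_lit 1), (nat_lit 0), (nat_lit 0), (nat_lit 0x1d458e5a83d131f05d68bc17a5575ec),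 (nat_lit 0x1d458e5a83d131f05d68bc17a5575ec), (nat_lit 0)⟩) (BT.leaf ⟨(nat_lit 2), (nat_lit 3), (nat_lit 3), (nat_lit 0x1dea6cf38ddeceac1f32e54b4b1d0b7), (nat_lit 0), (nat_lit 0)⟩)) (BT.node (nat_lit 1039) (BT.leaf ⟨(nat_lit 2), (nat_lit 3), (nat_lit 3), (nat_lit 0xd266cf38e54b483e73bddeceb1d565), (nat_lit 0), (nat_lit 0)⟩) (BT.leaf ⟨(nat_lit 3), (nat_lit 7), (nat_lit 3), (nat_lit 0xb8c90101c8c4088002fae65018063a), (nat_lit 0x30e8f3ebd896c026f000b268033e7), (nat_lit 0)⟩))))) (BT.node (nat_lit 1048) (BT.node (nat_lit 1044) (BT.node (nat_lit 1042) (BT.node (nat_lit 1041) (BT.leaf ⟨(nat_lit 3), (nat_lit 3), (nat_lit 7), (nat_lit 0x30e8f3ebd896c026f000b268033e7), (nat_lit 0xb8c90101c8c4088002fae65018063a), (nat_lit 0)⟩) (BT.leaf ⟨(nat_lit 1), (nat_lit 0), (nat_lit 0), (nat_lit 0x1af57388e2088212bb25b0080125d), (nat_lit 0x1af57388e2088212bb25b0080125d),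 (nat_lit 0)⟩)) (BT.node (nat_lit 1043) (BT.leaf ⟨(nat_lit 3), (nat_lit 7), (nat_lit 7), (nat_lit 0x3b53569e93f52f1389eb3c5da4d313), (nat_lit 0x8d9f1f7d786fccde4d9599f8df13e7), (nat_lit 0)⟩) (BT.leaf ⟨(nat_lit 1), (nat_lit 0), (nat_lit 0), (nat_lit 0xdc01792dab83ebed92e25e4acb793f), (nat_lit 0xdc01792dab83ebed92e25e4acb793f), (nat_lit 0)⟩))) (BT.node (nat_lit 1046) (BT.node (nat_lit 1045) (BT.leaf ⟨(nat_lit 3), (nat_lit 7), (nat_lit 3), (nat_lit 0xaef7b738104f8496a020850080525d), (nat_lit 0x1f16953a675cabbd738693ccb9de3a), (nat_lit 0)⟩) (BT.leaf ⟨(nat_lit 3), (nat_lit 3), (nat_lit 7), (nat_lit 0x1f16953a675cabbd738693ccb9de3a), (nat_lit 0xaef7b738104f8496a020850080525d), (nat_lit 0)⟩)) (BT.node (nat_lit 1047) (BT.leaf ⟨(nat_lit 2), (nat_lit 3), (nat_lit 3), (nat_lit 0x1fa10032f4119cd023d54029027a69e), (nat_lit 0), (nat_lit 0)⟩) (BT.leaf ⟨(nat_lit 3),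 (nat_lit 7), (nat_lit 7), (nat_lit 0x118c0c2a97e61437213f820047ab030), (nat_lit 0xac473299d94af554f515777fe9a2f9), (nat_lit 0)⟩)))) (BT.node (nat_lit 1052) (BT.node (nat_lit 1050) (BT.node (nat_lit 1049) (BT.leaf ⟨(nat_lit 3), (nat_lit 7), (nat_lit 7), (nat_lit 0xac473299d94af554f515777fe9a2f9), (nat_lit 0x118c0c2a97e61437213f820047ab030), (nat_lit 0)⟩) (BT.leaf ⟨(nat_lit 2), (nat_lit 4), (nat_lit 4), (nat_lit 0x4bf0a93f98f570d7fdb2563e9666a2), (nat_lit 0), (nat_lit 0)⟩)) (BT.node (nat_lit 1051) (BT.leaf ⟨(nat_lit 2), (nat_lit 4), (nat_lit 4), (nat_lit 0xc03f405f4102e508220ce6cbe7a1e3), (nat_lit 0), (nat_lit 0)⟩) (BT.leaf ⟨(nat_lit 3), (nat_lit 3), (nat_lit 7), (nat_lit 0x1722747e855d7a2fc31c2ed7aba8c3d), (nat_lit 0x17544f500d72bd2044208214bc39c40), (nat_lit 0)⟩))) (BT.node (nat_lit 1054) (BT.node (nat_lit 1053) (BT.leaf ⟨(nat_lit 3), (nat_lit 7),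 (nat_lit 3), (nat_lit 0x17544f500d72bd2044208214bc39c40), (nat_lit 0x1722747e855d7a2fc31c2ed7aba8c3d), (nat_lit 0)⟩) (BT.leaf ⟨(nat_lit 1), (nat_lit 0), (nat_lit 0), (nat_lit 0x5691cd345f37fd5cd836d8ee55c2b1), (nat_lit 0x5691cd345f37fd5cd836d8ee55c2b1), (nat_lit 0)⟩)) (BT.node (nat_lit 1055) (BT.leaf ⟨(nat_lit 3), (nat_lit 3), (nat_lit 7), (nat_lit 0x75ef500625a1092ef8f7c2008056f6), (nat_lit 0x5db60c96b3c27a474be6269aa4f3d8), (nat_lit 0)⟩) (BT.leaf ⟨(nat_lit 3), (nat_lit 7), (nat_lit 3), (nat_lit 0x5db60c96b3c27a474be6269aa4f3d8), (nat_lit 0x75ef500625a1092ef8f7c2008056f6), (nat_lit 0)⟩)))))) (BT.node (nat_lit 1072) (BT.node (nat_lit 1064) (BT.node (nat_lit 1060) (BT.node (nat_lit 1058) (BT.node (nat_lit 1057) (BT.leaf ⟨(nat_lit 1), (nat_lit 0), (nat_lit 0), (nat_lit 0x107a5f176934f61356c193c3b7bec8e), (nat_lit 0x107a5f176934f61356c193c3b7bec8e), (nat_lit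 0)⟩) (BT.leaf ⟨(nat_lit 3), (nat_lit 7), (nat_lit 3), (nat_lit 0x145f90ef650ec73726f0de9fd36a1b2), (nat_lit 0xf57499d73a9698ee9553eae28e8eef), (nat_lit 0)⟩)) (BT.node (nat_lit 1059) (BT.leaf ⟨(nat_lit 3), (nat_lit 3), (nat_lit 7), (nat_lit 0xf57499d73a9698ee9553eae28e8eef), (nat_lit 0x145f90ef650ec73726f0de9fd36a1b2), (nat_lit 0)⟩) (BT.leaf ⟨(nat_lit 2), (nat_lit 5), (nat_lit 5), (nat_lit 0x876a420ecc7d53fa9997c08090022), (nat_lit 0), (nat_lit 0)⟩))) (BT.node (nat_lit 1062) (BT.node (nat_lit 1061) (BT.leaf ⟨(nat_lit 2), (nat_lit 5), (nat_lit 5), (nat_lit 0x5bd204de181de8225a843ff3420140), (nat_lit 0), (nat_lit 0)⟩) (BT.leaf ⟨(nat_lit 3), (nat_lit 7), (nat_lit 7), (nat_lit 0x4b89f82fd445be9792b5999a4969af), (nat_lit 0x1ce39f3a4a75ccb9df2ac2b59777f3a), (nat_lit 0)⟩)) (BT.node (nat_lit 1063) (BT.leaf ⟨(nat_lit 3), (nat_lit 7), (nat_lit 7), (nat_lit 0x1ce39f3a4a75ccb9df2ac2b59777f3a),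 (nat_lit 0x4b89f82fd445be9792b5999a4969af), (nat_lit 0)⟩) (BT.leaf ⟨(nat_lit 2), (nat_lit 4), (nat_lit 4), (nat_lit 0x1082082f4a5e7a1a3408bab4032fb3a), (nat_lit 0), (nat_lit 0)⟩)))) (BT.node (nat_lit 1068) (BT.node (nat_lit 1066) (BT.node (nat_lit 1065) (BT.leaf ⟨(nat_lit 2), (nat_lit 4), (nat_lit 4), (nat_lit 0x1e252d8244080324d006257d0802dec), (nat_lit 0), (nat_lit 0)⟩) (BT.leaf ⟨(nat_lit 2), (nat_lit 4), (nat_lit 4), (nat_lit 0x1e42393fe8671c639b49ce63b679c7b), (nat_lit 0), (nat_lit 0)⟩)) (BT.node (nat_lit 1067) (BT.leaf ⟨(nat_lit 3), (nat_lit 7), (nat_lit 7), (nat_lit 0x174b2fa7f4b66f2b2fb76e097927e2c), (nat_lit 0x19d37ab1c89b2ad7a6f0d68a1fedef4), (nat_lit 0)⟩) (BT.leaf ⟨(nat_lit 3), (nat_lit 7), (nat_lit 7), (nat_lit 0x19d37ab1c89b2ad7a6f0d68a1fedef4), (nat_lit 0x174b2fa7f4b66f2b2fb76e097927e2c), (nat_lit 0)⟩))) (BT.node (nat_lit 1070) (BT.node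 (nat_lit 1069) (BT.leaf ⟨(nat_lit 3), (nat_lit 7), (nat_lit 7), (nat_lit 0xf624f4be13d26acf69e92d27189e27), (nat_lit 0x1bbdb61d73a8654aae93714744e2f21), (nat_lit 0)⟩) (BT.leaf ⟨(nat_lit 3), (nat_lit 7), (nat_lit 7), (nat_lit 0x1bbdb61d73a8654aae93714744e2f21), (nat_lit 0xf624f4be13d26acf69e92d27189e27), (nat_lit 0)⟩)) (BT.node (nat_lit 1071) (BT.leaf ⟨(nat_lit 1), (nat_lit 0), (nat_lit 0), (nat_lit 0x15972fa5f6e12ae8ca1ff6e6f12f6c1), (nat_lit 0x15972fa5f6e12ae8ca1ff6e6f12f6c1), (nat_lit 0)⟩) (BT.leaf ⟨(nat_lit 3), (nat_lit 7), (nat_lit 7), (nat_lit 0x1edefc19bfd13a2f643db507a2e42ae), (nat_lit 0x441afe3a05e50080d0020435674300), (nat_lit 0)⟩))))) (BT.node (nat_lit 1080) (BT.node (nat_lit 1076) (BT.node (nat_lit 1074) (BT.node (nat_lit 1073) (BT.leaf ⟨(nat_lit 3), (nat_lit 7), (nat_lit 7), (nat_lit 0x441afe3a05e50080d0020435674300), (nat_lit 0x1edefc19bfd13a2f643db507a2e42ae),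 (nat_lit 0)⟩) (BT.leaf ⟨(nat_lit 2), (nat_lit 3), (nat_lit 3), (nat_lit 0x1d19577c6a321f252f44c8d7fc65f56), (nat_lit 0), (nat_lit 0)⟩)) (BT.node (nat_lit 1075) (BT.leaf ⟨(nat_lit 3), (nat_lit 7), (nat_lit 7), (nat_lit 0xaec5cab8c4f4d2ffeb96d83991cc4d), (nat_lit 0x1022eaeb98027a24060068d10297c10), (nat_lit 0)⟩) (BT.leaf ⟨(nat_lit 3), (nat_lit 7), (nat_lit 7), (nat_lit 0x1022eaeb98027a24060068d10297c10), (nat_lit 0xaec5cab8c4f4d2ffeb96d83991cc4d), (nat_lit 0)⟩))) (BT.node (nat_lit 1078) (BT.node (nat_lit 1077) (BT.leaf ⟨(nat_lit 3), (nat_lit 7), (nat_lit 7), (nat_lit 0x1bbe1edd51aa750e29f5cb0754cabd5), (nat_lit 0xdb29a3b956256873751c4e2e55dd83), (nat_lit 0)⟩) (BT.leaf ⟨(nat_lit 3), (nat_lit 7), (nat_lit 7), (nat_lit 0xdb29a3b956256873751c4e2e55dd83), (nat_lit 0x1bbe1edd51aa750e29f5cb0754cabd5), (nat_lit 0)⟩)) (BT.node (nat_lit 1079) (BT.leaf ⟨(nat_lit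 3), (nat_lit 7), (nat_lit 7), (nat_lit 0x160dcb751563b29548e6572a6626b6c), (nat_lit 0x108caa400c0500604400830cc287cd), (nat_lit 0)⟩) (BT.leaf ⟨(nat_lit 3), (nat_lit 7), (nat_lit 7), (nat_lit 0x108caa400c0500604400830cc287cd), (nat_lit 0x160dcb751563b29548e6572a6626b6c), (nat_lit 0)⟩)))) (BT.node (nat_lit 1084) (BT.node (nat_lit 1082) (BT.node (nat_lit 1081) (BT.leaf ⟨(nat_lit 2), (nat_lit 1), (nat_lit 1), (nat_lit 0x7172c195b4dbbd1b38a1f4557499d4), (nat_lit 0), (nat_lit 0)⟩) (BT.leaf ⟨(nat_lit 2), (nat_lit 1), (nat_lit 1), (nat_lit 0x1081e1ed4533723d68244400865f0a0), (nat_lit 0), (nat_lit 0)⟩)) (BT.node (nat_lit 1083) (BT.leaf ⟨(nat_lit 2), (nat_lit 1), (nat_lit 1), (nat_lit 0x1a8bc6f9dd1be33c4f85ba5eb72c7cd), (nat_lit 0), (nat_lit 0)⟩) (BT.leaf ⟨(nat_lit 1), (nat_lit 0), (nat_lit 0), (nat_lit 0x401100100f8e4f4000111ccea810), (nat_lit 0x401100100f8e4f4000111ccea810),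 (nat_lit 0)⟩))) (BT.node (nat_lit 1086) (BT.node (nat_lit 1085) (BT.leaf ⟨(nat_lit 2), (nat_lit 3), (nat_lit 3), (nat_lit 0x10135cc08a5ed18f448071bf8e08500), (nat_lit 0), (nat_lit 0)⟩) (BT.leaf ⟨(nat_lit 3), (nat_lit 7), (nat_lit 3), (nat_lit 0x1d38d9706e895183e2ae94acd465f47), (nat_lit 0x4ae97e69d443ebedcc76e00bc972cc), (nat_lit 0)⟩)) (BT.node (nat_lit 1087) (BT.leaf ⟨(nat_lit 3), (nat_lit 3), (nat_lit 7), (nat_lit 0x4ae97e69d443ebedcc76e00bc972cc), (nat_lit 0x1d38d9706e895183e2ae94acd465f47), (nat_lit 0)⟩) (BT.leaf ⟨(nat_lit 1), (nat_lit 0), (nat_lit 0), (nat_lit 0x976f504257640b9c47193800c01006), (nat_lit 0x976f504257640b9c47193800c01006), (nat_lit 0)⟩)))))))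
noncomputable def cP1024 : BT Pf := (BT.node (nat_lit 1056) (BT.node (nat_lit 1040) (BT.node (nat_lit 1032) (BT.node (nat_lit 1028) (BT.node (nat_lit 1026) (BT.node (nat_lit 1025) (BT.leaf (.inv (nat_lit 1023))) (BT.leaf (.nmul (nat_lit 491) [(nat_lit 19)]))) (BT.node (nat_lit 1027) (BT.leaf (.nmul (nat_lit 227) [(nat_lit 43)])) (BT.leaf (.nmul (nat_lit 1026) [(nat_lit 43)])))) (BT.node (nat_lit 1030) (BT.node (nat_lit 1029) (BT.leaf (.emul [(nat_lit 329), (nat_lit 456)])) (BT.leaf (.emul [(nat_lit 437), (nat_lit 1028)]))) (BT.node (nat_lit 1031) (BT.leaf (.rel (nat_lit 861) (nat_lit 5) [(nat_lit 175), (nat_lit 1025)] [⟨(nat_lit 501), [(nat_lit 456)], [(nat_lit 1027), (nat_lit 499)]⟩, ⟨(nat_lit 388), [(nat_lit 1029)], [(nat_lit 675)]⟩])) (BT.leaf (.inv (nat_lit 1030)))))) (BT.node (nat_lit 1036) (BT.node (nat_lit 1034) (BT.node (nat_lit 1033) (BT.leaf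 (.nmul (nat_lit 575) [(nat_lit 19)])) (BT.leaf (.rel (nat_lit 720) (nat_lit 3) [(nat_lit 209), (nat_lit 868)] [⟨(nat_lit 383), [(nat_lit 661)], [(nat_lit 211), (nat_lit 287)]⟩, ⟨(nat_lit 999), [(nat_lit 322)], [(nat_lit 1032), (nat_lit 566)]⟩]))) (BT.node (nat_lit 1035) (BT.leaf (.inv (nat_lit 1033))) (BT.leaf (.rel (nat_lit 962) (nat_lit 1) [(nat_lit 764), (nat_lit 892)] [⟨(nat_lit 962), [], [(nat_lit 240), (nat_lit 868)]⟩])))) (BT.node (nat_lit 1038) (BT.node (nat_lit 1037) (BT.leaf (.nmul (nat_lit 572) [(nat_lit 0)])) (BT.leaf (.emul [(nat_lit 329), (nat_lit 828)]))) (BT.node (nat_lit 1039) (BT.leaf (.emul [(nat_lit 437), (nat_lit 1037)])) (BT.leaf (.rel (nat_lit 501) (nat_lit 1) [(nat_lit 1013), (nat_lit 1036)] [⟨(nat_lit 1020), [(nat_lit 1038)], [(nat_lit 227), (nat_lit 124)]⟩])))))) (BT.node (nat_lit 1048) (BT.node (nat_lit 1044) (BT.node (nat_lit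 1042) (BT.node (nat_lit 1041) (BT.leaf (.inv (nat_lit 1039))) (BT.leaf (.nmul (nat_lit 511) [(nat_lit 43)]))) (BT.node (nat_lit 1043) (BT.leaf (.rel (nat_lit 958) (nat_lit 0) [(nat_lit 1041), (nat_lit 880)] [⟨(nat_lit 997), [(nat_lit 935)], [(nat_lit 404), (nat_lit 372)]⟩])) (BT.leaf (.nmul (nat_lit 711) [(nat_lit 1)])))) (BT.node (nat_lit 1046) (BT.node (nat_lit 1045) (BT.leaf (.rel (nat_lit 810) (nat_lit 0) [(nat_lit 284), (nat_lit 740)] [⟨(nat_lit 1020), [(nat_lit 937)], [(nat_lit 441), (nat_lit 1043)]⟩])) (BT.leaf (.inv (nat_lit 1044)))) (BT.node (nat_lit 1047) (BT.leaf (.emul [(nat_lit 329), (nat_lit 995)])) (BT.leaf (.rel (nat_lit 1011) (nat_lit 0) [(nat_lit 781), (nat_lit 892)] [⟨(nat_lit 981), [(nat_lit 1046)], [(nat_lit 508), (nat_lit 625)]⟩]))))) (BT.node (nat_lit 1052) (BT.node (nat_lit 1050) (BT.node (nat_lit 1049) (BT.leaf (.inv (nat_lit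 1047))) (BT.leaf (.emul [(nat_lit 552), (nat_lit 949)]))) (BT.node (nat_lit 1051) (BT.leaf (.emul [(nat_lit 558), (nat_lit 1049)])) (BT.leaf (.rel (nat_lit 1033) (nat_lit 2) [(nat_lit 784), (nat_lit 681)] [⟨(nat_lit 780), [(nat_lit 1050)], [(nat_lit 92), (nat_lit 891)]⟩, ⟨(nat_lit 988), [], [(nat_lit 941), (nat_lit 555)]⟩])))) (BT.node (nat_lit 1054) (BT.node (nat_lit 1053) (BT.leaf (.inv (nat_lit 1051))) (BT.leaf (.nmul (nat_lit 390) [(nat_lit 0)]))) (BT.node (nat_lit 1055) (BT.leaf (.rel (nat_lit 1015) (nat_lit 0) [(nat_lit 241), (nat_lit 525)] [⟨(nat_lit 1044), [(nat_lit 935)], [(nat_lit 707), (nat_lit 1053)]⟩])) (BT.leaf (.inv (nat_lit 1054)))))))) (BT.node (nat_lit 1072) (BT.node (nat_lit 1064) (BT.node (nat_lit 1060) (BT.node (nat_lit 1058) (BT.node (nat_lit 1057) (BT.leaf (.nmul (nat_lit 424) [(nat_lit 43)])) (BT.leaf (.rel (nat_lit 823) (nat_lit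 0) [(nat_lit 1056), (nat_lit 333)] [⟨(nat_lit 981), [(nat_lit 992)], [(nat_lit 865), (nat_lit 367)]⟩]))) (BT.node (nat_lit 1059) (BT.leaf (.inv (nat_lit 1057))) (BT.leaf (.emul [(nat_lit 626), (nat_lit 842)])))) (BT.node (nat_lit 1062) (BT.node (nat_lit 1061) (BT.leaf (.emul [(nat_lit 654), (nat_lit 1059)])) (BT.leaf (.rel (nat_lit 844) (nat_lit 0) [(nat_lit 428), (nat_lit 440)] [⟨(nat_lit 793), [(nat_lit 1060)], [(nat_lit 1004), (nat_lit 892)]⟩]))) (BT.node (nat_lit 1063) (BT.leaf (.inv (nat_lit 1061))) (BT.leaf (.emul [(nat_lit 545), (nat_lit 552)]))))) (BT.node (nat_lit 1068) (BT.node (nat_lit 1066) (BT.node (nat_lit 1065) (BT.leaf (.emul [(nat_lit 558), (nat_lit 1063)])) (BT.leaf (.emul [(nat_lit 558), (nat_lit 1064)]))) (BT.node (nat_lit 1067) (BT.leaf (.rel (nat_lit 1033) (nat_lit 1) [(nat_lit 357), (nat_lit 676)] [⟨(nat_lit 780), [(nat_lit 1065)],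 [(nat_lit 726), (nat_lit 486)]⟩])) (BT.leaf (.inv (nat_lit 1066))))) (BT.node (nat_lit 1070) (BT.node (nat_lit 1069) (BT.leaf (.rel (nat_lit 993) (nat_lit 0) [(nat_lit 575), (nat_lit 880)] [⟨(nat_lit 979), [(nat_lit 703)], [(nat_lit 423), (nat_lit 384)]⟩])) (BT.leaf (.inv (nat_lit 1068)))) (BT.node (nat_lit 1071) (BT.leaf (.nmul (nat_lit 676) [(nat_lit 1)])) (BT.leaf (.rel (nat_lit 933) (nat_lit 0) [(nat_lit 451), (nat_lit 1070)] [⟨(nat_lit 862), [(nat_lit 927)], [(nat_lit 212), (nat_lit 578)]⟩])))))) (BT.node (nat_lit 1080) (BT.node (nat_lit 1076) (BT.node (nat_lit 1074) (BT.node (nat_lit 1073) (BT.leaf (.inv (nat_lit 1071))) (BT.leaf (.emul [(nat_lit 322), (nat_lit 995)]))) (BT.node (nat_lit 1075) (BT.leaf (.rel (nat_lit 1057) (nat_lit 0) [(nat_lit 463), (nat_lit 386)] [⟨(nat_lit 1020), [(nat_lit 1073)], [(nat_lit 928), (nat_lit 625)]⟩])) (BT.leaf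 (.inv (nat_lit 1074))))) (BT.node (nat_lit 1078) (BT.node (nat_lit 1077) (BT.leaf (.rel (nat_lit 852) (nat_lit 0) [(nat_lit 942), (nat_lit 173)] [⟨(nat_lit 967), [(nat_lit 496)], [(nat_lit 482), (nat_lit 126)]⟩])) (BT.leaf (.inv (nat_lit 1076)))) (BT.node (nat_lit 1079) (BT.leaf (.rel (nat_lit 1000) (nat_lit 1) [(nat_lit 461), (nat_lit 264)] [⟨(nat_lit 862), [(nat_lit 329)], [(nat_lit 511), (nat_lit 875)]⟩])) (BT.leaf (.inv (nat_lit 1078)))))) (BT.node (nat_lit 1084) (BT.node (nat_lit 1082) (BT.node (nat_lit 1081) (BT.leaf (.emul [(nat_lit 73), (nat_lit 608)])) (BT.leaf (.emul [(nat_lit 46), (nat_lit 1080)]))) (BT.node (nat_lit 1083) (BT.leaf (.emul [(nat_lit 86), (nat_lit 159)])) (BT.leaf (.nmul (nat_lit 330) [(nat_lit 1)])))) (BT.node (nat_lit 1086) (BT.node (nat_lit 1085) (BT.leaf (.emul [(nat_lit 437), (nat_lit 937)])) (BT.leaf (.rel (nat_lit 323)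 (nat_lit 3) [(nat_lit 260), (nat_lit 328)] [⟨(nat_lit 310), [(nat_lit 1081), (nat_lit 1082)], [(nat_lit 941), (nat_lit 1083)]⟩, ⟨(nat_lit 967), [(nat_lit 1084)], [(nat_lit 94), (nat_lit 294)]⟩]))) (BT.node (nat_lit 1087) (BT.leaf (.inv (nat_lit 1085))) (BT.leaf (.nmul (nat_lit 673) [(nat_lit 19)]))))))))
noncomputable def cF1088 : BT Fc := (BT.node (nat_lit 1120) (BT.node (nat_lit 1104) (BT.node (nat_lit 1096) (BT.node (nat_lit 1092) (BT.node (nat_lit 1090) (BT.node (nat_lit 1089) (BT.leaf ⟨(nat_lit 1), (nat_lit 0), (nat_lit 0), (nat_lit 0x114e39473ab969a38f9050ed2765433), (nat_lit 0x114e39473ab969a38f9050ed2765433), (nat_lit 0)⟩) (BT.leaf ⟨(nat_lit 3), (nat_lit 7), (nat_lit 7), (nat_lit 0x1f19ec07c68c6caa3744e9d91b34d19), (nat_lit 0x40896c024057a8410039380080900a), (nat_lit 0)⟩)) (BT.node (nat_lit 1091) (BT.leaf ⟨(nat_lit 3), (nat_lit 7), (nat_lit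 7), (nat_lit 0x40896c024057a8410039380080900a), (nat_lit 0x1f19ec07c68c6caa3744e9d91b34d19), (nat_lit 0)⟩) (BT.leaf ⟨(nat_lit 1), (nat_lit 0), (nat_lit 0), (nat_lit 0x1cfbbd1cee55ce03e349a75eeb9933a), (nat_lit 0x1cfbbd1cee55ce03e349a75eeb9933a), (nat_lit 0)⟩))) (BT.node (nat_lit 1094) (BT.node (nat_lit 1093) (BT.leaf ⟨(nat_lit 1), (nat_lit 0), (nat_lit 0), (nat_lit 0x15730a8fa6e04bc9692bfb64fd66396), (nat_lit 0x15730a8fa6e04bc9692bfb64fd66396), (nat_lit 0)⟩) (BT.leaf ⟨(nat_lit 2), (nat_lit 2), (nat_lit 2), (nat_lit 0x243ce91049efcc18012031d5954df8), (nat_lit 0), (nat_lit 0)⟩)) (BT.node (nat_lit 1095) (BT.leaf ⟨(nat_lit 2), (nat_lit 2), (nat_lit 2), (nat_lit 0x60281c527f18f72012f3a04554814), (nat_lit 0), (nat_lit 0)⟩) (BT.leaf ⟨(nat_lit 3), (nat_lit 5), (nat_lit 7), (nat_lit 0x14d15ee271ccdb14caa9173b2958d83), (nat_lit 0x6bc7d12727e4bbed90f25757097e15),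 (nat_lit 0)⟩)))) (BT.node (nat_lit 1100) (BT.node (nat_lit 1098) (BT.node (nat_lit 1097) (BT.leaf ⟨(nat_lit 3), (nat_lit 7), (nat_lit 5), (nat_lit 0x6bc7d12727e4bbed90f25757097e15), (nat_lit 0x14d15ee271ccdb14caa9173b2958d83), (nat_lit 0)⟩) (BT.leaf ⟨(nat_lit 3), (nat_lit 3), (nat_lit 7), (nat_lit 0xaf554bb9572e5ba8a995f28e55db6c), (nat_lit 0x182dd1c6e7e745df3be2787365f1acc), (nat_lit 0)⟩)) (BT.node (nat_lit 1099) (BT.leaf ⟨(nat_lit 3), (nat_lit 7), (nat_lit 3), (nat_lit 0x182dd1c6e7e745df3be2787365f1acc), (nat_lit 0xaf554bb9572e5ba8a995f28e55db6c), (nat_lit 0)⟩) (BT.leaf ⟨(nat_lit 1), (nat_lit 0), (nat_lit 0), (nat_lit 0xbd37a6d489bad3fa287fb72acd96f5), (nat_lit 0xbd37a6d489bad3fa287fb72acd96f5), (nat_lit 0)⟩))) (BT.node (nat_lit 1102) (BT.node (nat_lit 1101) (BT.leaf ⟨(nat_lit 1), (nat_lit 0), (nat_lit 0), (nat_lit 0x77790dd532a745c51f52aa3e8ebd4b),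 (nat_lit 0x77790dd532a745c51f52aa3e8ebd4b), (nat_lit 0)⟩) (BT.leaf ⟨(nat_lit 1), (nat_lit 0), (nat_lit 0), (nat_lit 0x1f1aa3706bffd9a52f42e9ccd7a3346), (nat_lit 0x1f1aa3706bffd9a52f42e9ccd7a3346), (nat_lit 0)⟩)) (BT.node (nat_lit 1103) (BT.leaf ⟨(nat_lit 1), (nat_lit 0), (nat_lit 0), (nat_lit 0x160dd207caca73a9d73e16feeb1d349), (nat_lit 0x160dd207caca73a9d73e16feeb1d349), (nat_lit 0)⟩) (BT.leaf ⟨(nat_lit 1), (nat_lit 0), (nat_lit 0), (nat_lit 0x100af5022025ce08108201401801003), (nat_lit 0x100af5022025ce08108201401801003), (nat_lit 0)⟩))))) (BT.node (nat_lit 1112) (BT.node (nat_lit 1108) (BT.node (nat_lit 1106) (BT.node (nat_lit 1105) (BT.leaf ⟨(nat_lit 3), (nat_lit 7), (nat_lit 7), (nat_lit 0xdc093b9625e4b75113f05e43d97e15), (nat_lit 0x6546add53a8f56d31dd3a3bbc7d38a), (nat_lit 0)⟩) (BT.leaf ⟨(nat_lit 3), (nat_lit 7), (nat_lit 7), (nat_lit 0x6546add53a8f56d31dd3a3bbc7d38a),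 (nat_lit 0xdc093b9625e4b75113f05e43d97e15), (nat_lit 0)⟩)) (BT.node (nat_lit 1107) (BT.leaf ⟨(nat_lit 1), (nat_lit 0), (nat_lit 0), (nat_lit 0x17b21ee0bea25daf019bb907a1577b7), (nat_lit 0x17b21ee0bea25daf019bb907a1577b7), (nat_lit 0)⟩) (BT.leaf ⟨(nat_lit 3), (nat_lit 7), (nat_lit 7), (nat_lit 0x185487d5c35e4bdcb6a26e19a697fdb), (nat_lit 0x1bbf0a87cb073659d77a692b485bba4), (nat_lit 0)⟩))) (BT.node (nat_lit 1110) (BT.node (nat_lit 1109) (BT.leaf ⟨(nat_lit 3), (nat_lit 7), (nat_lit 7), (nat_lit 0x1bbf0a87cb073659d77a692b485bba4), (nat_lit 0x185487d5c35e4bdcb6a26e19a697fdb), (nat_lit 0)⟩) (BT.leaf ⟨(nat_lit 1), (nat_lit 0), (nat_lit 0), (nat_lit 0x12737b0067c2aec090224ba40801738), (nat_lit 0x12737b0067c2aec090224ba40801738), (nat_lit 0)⟩)) (BT.node (nat_lit 1111) (BT.leaf ⟨(nat_lit 3), (nat_lit 7), (nat_lit 2), (nat_lit 0xa3990095622200c048410420ee927),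 (nat_lit 0x1a4cfac3da977551b6583a23eb909d4), (nat_lit 0)⟩) (BT.leaf ⟨(nat_lit 3), (nat_lit 2), (nat_lit 7), (nat_lit 0x1a4cfac3da977551b6583a23eb909d4), (nat_lit 0xa3990095622200c048410420ee927), (nat_lit 0)⟩)))) (BT.node (nat_lit 1116) (BT.node (nat_lit 1114) (BT.node (nat_lit 1113) (BT.leaf ⟨(nat_lit 3), (nat_lit 7), (nat_lit 7), (nat_lit 0x1a34843b96018e88091005f91a800d5), (nat_lit 0x497f46f1bce8021d52000215cc73), (nat_lit 0)⟩) (BT.leaf ⟨(nat_lit 3), (nat_lit 7), (nat_lit 7), (nat_lit 0x497f46f1bce8021d52000215cc73), (nat_lit 0x1a34843b96018e88091005f91a800d5), (nat_lit 0)⟩)) (BT.node (nat_lit 1115) (BT.leaf ⟨(nat_lit 2), (nat_lit 2), (nat_lit 2), (nat_lit 0x1bc202104f12f9c95dec01801802804), (nat_lit 0), (nat_lit 0)⟩) (BT.leaf ⟨(nat_lit 2), (nat_lit 2), (nat_lit 2), (nat_lit 0xb4ae443db5066ff45ec4cb7a9575e8), (nat_lit 0), (nat_lit 0)⟩))) (BT.node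 (nat_lit 1118) (BT.node (nat_lit 1117) (BT.leaf ⟨(nat_lit 2), (nat_lit 2), (nat_lit 2), (nat_lit 0x1013783e71084124d5ec08801802804), (nat_lit 0), (nat_lit 0)⟩) (BT.leaf ⟨(nat_lit 2), (nat_lit 2), (nat_lit 2), (nat_lit 0x182e7431c5a47a21edecfd17a1575ea), (nat_lit 0), (nat_lit 0)⟩)) (BT.node (nat_lit 1119) (BT.leaf ⟨(nat_lit 2), (nat_lit 2), (nat_lit 2), (nat_lit 0x11dce8f3e808091f3dec93401002806), (nat_lit 0), (nat_lit 0)⟩) (BT.leaf ⟨(nat_lit 3), (nat_lit 7), (nat_lit 7), (nat_lit 0x19a48793f1f58549392eb626bd66396), (nat_lit 0x900a00c0d69379d1af9ef414024041), (nat_lit 0)⟩)))))) (BT.node (nat_lit 1136) (BT.node (nat_lit 1128) (BT.node (nat_lit 1124) (BT.node (nat_lit 1122) (BT.node (nat_lit 1121) (BT.leaf ⟨(nat_lit 3), (nat_lit 7), (nat_lit 3), (nat_lit 0x1b52e41200400c3b310f0449fe29860), (nat_lit 0x80404f477c4ae010a5e3a800f7a841), (nat_lit 0)⟩) (BT.leaf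 ⟨(nat_lit 3), (nat_lit 3), (nat_lit 7), (nat_lit 0x80404f477c4ae010a5e3a800f7a841), (nat_lit 0x1b52e41200400c3b310f0449fe29860), (nat_lit 0)⟩)) (BT.node (nat_lit 1123) (BT.leaf ⟨(nat_lit 3), (nat_lit 7), (nat_lit 7), (nat_lit 0x15952f0e637893db86c1cbf7490fa5b), (nat_lit 0xcea00eb9a5f043f189ecbebd210404), (nat_lit 0)⟩) (BT.leaf ⟨(nat_lit 1), (nat_lit 0), (nat_lit 0), (nat_lit 0x1bf0bca87da9b937826a89bf6f90eb4), (nat_lit 0x1bf0bca87da9b937826a89bf6f90eb4), (nat_lit 0)⟩))) (BT.node (nat_lit 1126) (BT.node (nat_lit 1125) (BT.leaf ⟨(nat_lit 3), (nat_lit 7), (nat_lit 7), (nat_lit 0x7d6e476624088087a7f044a64108a0), (nat_lit 0x11caae7908c714d4399bb4d9ce39c7b), (nat_lit 0)⟩) (BT.leaf ⟨(nat_lit 3), (nat_lit 7), (nat_lit 7), (nat_lit 0x11caae7908c714d4399bb4d9ce39c7b), (nat_lit 0x7d6e476624088087a7f044a64108a0), (nat_lit 0)⟩)) (BT.node (nat_lit 1127) (BT.leaf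 ⟨(nat_lit 1), (nat_lit 0), (nat_lit 0), (nat_lit 0x1bd790d17ce89ab7e6e4fe92ae7a2f4), (nat_lit 0x1bd790d17ce89ab7e6e4fe92ae7a2f4), (nat_lit 0)⟩) (BT.leaf ⟨(nat_lit 3), (nat_lit 7), (nat_lit 7), (nat_lit 0x8014299140f0cfa83021f72012022), (nat_lit 0x440a21049e042fc0188c7ca89fc8e), (nat_lit 0)⟩)))) (BT.node (nat_lit 1132) (BT.node (nat_lit 1130) (BT.node (nat_lit 1129) (BT.leaf ⟨(nat_lit 2), (nat_lit 3), (nat_lit 3), (nat_lit 0x17203027f04514c121f50420825f6d4), (nat_lit 0), (nat_lit 0)⟩) (BT.leaf ⟨(nat_lit 3), (nat_lit 7), (nat_lit 7), (nat_lit 0x1eeb8d72a692ceb9c63a39dbbf9d73b), (nat_lit 0x1cab8d07ce71597dd349e64e905bcd9), (nat_lit 0)⟩)) (BT.node (nat_lit 1131) (BT.leaf ⟨(nat_lit 3), (nat_lit 7), (nat_lit 7), (nat_lit 0x1cab8d07ce71597dd349e64e905bcd9), (nat_lit 0x1eeb8d72a692ceb9c63a39dbbf9d73b), (nat_lit 0)⟩) (BT.leaf ⟨(nat_lit 3), (nat_lit 3), (nat_lit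 7), (nat_lit 0x776d30fa46d0f6ea9d132bc84e29d4), (nat_lit 0x145e7a721d686ca55ed450fbc3fa6f5), (nat_lit 0)⟩))) (BT.node (nat_lit 1134) (BT.node (nat_lit 1133) (BT.leaf ⟨(nat_lit 3), (nat_lit 7), (nat_lit 3), (nat_lit 0x145e7a721d686ca55ed450fbc3fa6f5), (nat_lit 0x776d30fa46d0f6ea9d132bc84e29d4), (nat_lit 0)⟩) (BT.leaf ⟨(nat_lit 1), (nat_lit 0), (nat_lit 0), (nat_lit 0x1f1957669e8591bb35ffe0dd1ea3346), (nat_lit 0x1f1957669e8591bb35ffe0dd1ea3346), (nat_lit 0)⟩)) (BT.node (nat_lit 1135) (BT.leaf ⟨(nat_lit 3), (nat_lit 7), (nat_lit 7), (nat_lit 0x97f1605f3789fe55a1ff6e96f2fd19), (nat_lit 0x75c11082004f8421003804977c7812), (nat_lit 0)⟩) (BT.leaf ⟨(nat_lit 3), (nat_lit 7), (nat_lit 7), (nat_lit 0x75c11082004f8421003804977c7812), (nat_lit 0x97f1605f3789fe55a1ff6e96f2fd19), (nat_lit 0)⟩))))) (BT.node (nat_lit 1144) (BT.node (nat_lit 1140) (BT.node (nat_lit 1138)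 (BT.node (nat_lit 1137) (BT.leaf ⟨(nat_lit 1), (nat_lit 0), (nat_lit 0), (nat_lit 0x1cebbd56539cd259d53ae76b49d2738), (nat_lit 0x1cebbd56539cd259d53ae76b49d2738), (nat_lit 0)⟩) (BT.leaf ⟨(nat_lit 3), (nat_lit 7), (nat_lit 7), (nat_lit 0x1bf1f580ce9c823c2a57091cc804927), (nat_lit 0x9abbec8e2eda79898ed9bd67b13db1), (nat_lit 0)⟩)) (BT.node (nat_lit 1139) (BT.leaf ⟨(nat_lit 3), (nat_lit 7), (nat_lit 7), (nat_lit 0x1ae7a8bb9552db11caf956389d4cd34), (nat_lit 0x604848e38bcaa0879d27f7e372014), (nat_lit 0)⟩) (BT.leaf ⟨(nat_lit 3), (nat_lit 7), (nat_lit 7), (nat_lit 0x604848e38bcaa0879d27f7e372014), (nat_lit 0x1ae7a8bb9552db11caf956389d4cd34), (nat_lit 0)⟩))) (BT.node (nat_lit 1142) (BT.node (nat_lit 1141) (BT.leaf ⟨(nat_lit 1), (nat_lit 0), (nat_lit 0), (nat_lit 0x8120249a008410126f0e7c7452d806), (nat_lit 0x8120249a008410126f0e7c7452d806), (nat_lit 0)⟩) (BT.leaf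 ⟨(nat_lit 1), (nat_lit 0), (nat_lit 0), (nat_lit 0x7d430420b900c012220043d99e1820), (nat_lit 0x7d430420b900c012220043d99e1820), (nat_lit 0)⟩)) (BT.node (nat_lit 1143) (BT.leaf ⟨(nat_lit 3), (nat_lit 7), (nat_lit 7), (nat_lit 0x8d9d1c6e787df5f3acc7c5f8e6c95a), (nat_lit 0x16393e2e8e044ea6f5e76007c6201), (nat_lit 0)⟩) (BT.leaf ⟨(nat_lit 3), (nat_lit 7), (nat_lit 7), (nat_lit 0x16393e2e8e044ea6f5e76007c6201), (nat_lit 0x8d9d1c6e787df5f3acc7c5f8e6c95a), (nat_lit 0)⟩)))) (BT.node (nat_lit 1148) (BT.node (nat_lit 1146) (BT.node (nat_lit 1145) (BT.leaf ⟨(nat_lit 3), (nat_lit 7), (nat_lit 7), (nat_lit 0xee7a8ecabfeac55cd8347389e26a99), (nat_lit 0x5e7d6e58f1fe3346b13e1a2dee9534), (nat_lit 0)⟩) (BT.leaf ⟨(nat_lit 3), (nat_lit 7), (nat_lit 7), (nat_lit 0x5e7d6e58f1fe3346b13e1a2dee9534), (nat_lit 0xee7a8ecabfeac55cd8347389e26a99), (nat_lit 0)⟩)) (BT.node (nat_lit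 1147) (BT.leaf ⟨(nat_lit 3), (nat_lit 7), (nat_lit 7), (nat_lit 0x1720fa860e340a0110a0533eb7b3220), (nat_lit 0x131c8792e35f9a59792705e4aed8fdb), (nat_lit 0)⟩) (BT.leaf ⟨(nat_lit 2), (nat_lit 2), (nat_lit 2), (nat_lit 0x1297a70cb7b0cd6a3742d27d1157746), (nat_lit 0), (nat_lit 0)⟩))) (BT.node (nat_lit 1150) (BT.node (nat_lit 1149) (BT.leaf ⟨(nat_lit 2), (nat_lit 2), (nat_lit 2), (nat_lit 0x11cbc60414bc4064fde97c400c02801), (nat_lit 0), (nat_lit 0)⟩) (BT.leaf ⟨(nat_lit 3), (nat_lit 7), (nat_lit 5), (nat_lit 0x17a532fe8bd07a2f55ecc170f663d68), (nat_lit 0x17824b0084ae030049dd110ac414018), (nat_lit 0)⟩)) (BT.node (nat_lit 1151) (BT.leaf ⟨(nat_lit 3), (nat_lit 5), (nat_lit 7), (nat_lit 0x17824b0084ae030049dd110ac414018), (nat_lit 0x17a532fe8bd07a2f55ecc170f663d68), (nat_lit 0)⟩) (BT.leaf ⟨(nat_lit 2), (nat_lit 5), (nat_lit 5), (nat_lit 0x1e3132f8df3ba37c7f0d627e172c6a2),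 (nat_lit 0), (nat_lit 0)⟩)))))))
noncomputable def cP1088 : BT Pf := (BT.node (nat_lit 1120) (BT.node (nat_lit 1104) (BT.node (nat_lit 1096) (BT.node (nat_lit 1092) (BT.node (nat_lit 1090) (BT.node (nat_lit 1089) (BT.leaf (.nmul (nat_lit 460) [(nat_lit 19)])) (BT.leaf (.rel (nat_lit 1005) (nat_lit 2) [(nat_lit 1087), (nat_lit 401)] [⟨(nat_lit 886), [(nat_lit 775)], [(nat_lit 422), (nat_lit 460)]⟩, ⟨(nat_lit 1010), [(nat_lit 322)], [(nat_lit 241), (nat_lit 1088)]⟩]))) (BT.node (nat_lit 1091) (BT.leaf (.inv (nat_lit 1089))) (BT.leaf (.nmul (nat_lit 573) [(nat_lit 0)])))) (BT.node (nat_lit 1094) (BT.node (nat_lit 1093) (BT.leaf (.nmul (nat_lit 829) [(nat_lit 43)])) (BT.leaf (.emul [(nat_lit 210), (nat_lit 417)]))) (BT.node (nat_lit 1095) (BT.leaf (.emul [(nat_lit 210), (nat_lit 1093)])) (BT.leaf (.rel (nat_lit 1044) (nat_lit 2) [(nat_lit 1092), (nat_lit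 1091)] [⟨(nat_lit 382), [(nat_lit 322)], [(nat_lit 825), (nat_lit 751)]⟩, ⟨(nat_lit 589), [(nat_lit 238), (nat_lit 1094)], [(nat_lit 942), (nat_lit 1070)]⟩]))))) (BT.node (nat_lit 1100) (BT.node (nat_lit 1098) (BT.node (nat_lit 1097) (BT.leaf (.inv (nat_lit 1095))) (BT.leaf (.rel (nat_lit 886) (nat_lit 3) [(nat_lit 827), (nat_lit 490)] [⟨(nat_lit 1058), [(nat_lit 1029)], [(nat_lit 574), (nat_lit 822)]⟩, ⟨(nat_lit 1039), [(nat_lit 775)], [(nat_lit 1092), (nat_lit 969)]⟩]))) (BT.node (nat_lit 1099) (BT.leaf (.inv (nat_lit 1097))) (BT.leaf (.nmul (nat_lit 364) [(nat_lit 43)])))) (BT.node (nat_lit 1102) (BT.node (nat_lit 1101) (BT.leaf (.nmul (nat_lit 472) [(nat_lit 43)])) (BT.leaf (.nmul (nat_lit 1100) [(nat_lit 1)]))) (BT.node (nat_lit 1103) (BT.leaf (.nmul (nat_lit 953) [(nat_lit 43)])) (BT.leaf (.nmul (nat_lit 1102) [(nat_lit 43)])))))) (BT.node (nat_lit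 1112) (BT.node (nat_lit 1108) (BT.node (nat_lit 1106) (BT.node (nat_lit 1105) (BT.leaf (.rel (nat_lit 984) (nat_lit 3) [(nat_lit 1099), (nat_lit 205)] [⟨(nat_lit 940), [], [(nat_lit 1103), (nat_lit 1101)]⟩, ⟨(nat_lit 1066), [(nat_lit 935)], [(nat_lit 282), (nat_lit 1088)]⟩])) (BT.leaf (.inv (nat_lit 1104)))) (BT.node (nat_lit 1107) (BT.leaf (.nmul (nat_lit 943) [(nat_lit 43)])) (BT.leaf (.rel (nat_lit 954) (nat_lit 4) [(nat_lit 513), (nat_lit 1091)] [⟨(nat_lit 1000), [], [(nat_lit 1106), (nat_lit 557)]⟩, ⟨(nat_lit 989), [(nat_lit 458)], [(nat_lit 784), (nat_lit 584)]⟩])))) (BT.node (nat_lit 1110) (BT.node (nat_lit 1109) (BT.leaf (.inv (nat_lit 1107))) (BT.leaf (.nmul (nat_lit 566) [(nat_lit 1)]))) (BT.node (nat_lit 1111) (BT.leaf (.rel (nat_lit 731) (nat_lit 5) [(nat_lit 351), (nat_lit 1109)] [⟨(nat_lit 464), [(nat_lit 995)], [(nat_lit 618), (nat_lit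 142)]⟩, ⟨(nat_lit 1054), [(nat_lit 322)], [(nat_lit 1056), (nat_lit 386)]⟩])) (BT.leaf (.inv (nat_lit 1110)))))) (BT.node (nat_lit 1116) (BT.node (nat_lit 1114) (BT.node (nat_lit 1113) (BT.leaf (.rel (nat_lit 944) (nat_lit 1) [(nat_lit 266), (nat_lit 504)] [⟨(nat_lit 1006), [(nat_lit 935)], [(nat_lit 747), (nat_lit 651)]⟩])) (BT.leaf (.inv (nat_lit 1112)))) (BT.node (nat_lit 1115) (BT.leaf (.emul [(nat_lit 168), (nat_lit 143)])) (BT.leaf (.emul [(nat_lit 210), (nat_lit 1114)])))) (BT.node (nat_lit 1118) (BT.node (nat_lit 1117) (BT.leaf (.emul [(nat_lit 210), (nat_lit 1115)])) (BT.leaf (.emul [(nat_lit 112), (nat_lit 210)]))) (BT.node (nat_lit 1119) (BT.leaf (.emul [(nat_lit 210), (nat_lit 1117)])) (BT.leaf (.rel (nat_lit 1003) (nat_lit 4) [(nat_lit 174), (nat_lit 556)] [⟨(nat_lit 286), [(nat_lit 1116)], [(nat_lit 351), (nat_lit 385)]⟩, ⟨(nat_lit 1002),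 [(nat_lit 1118)], [(nat_lit 321), (nat_lit 557)]⟩]))))))) (BT.node (nat_lit 1136) (BT.node (nat_lit 1128) (BT.node (nat_lit 1124) (BT.node (nat_lit 1122) (BT.node (nat_lit 1121) (BT.leaf (.rel (nat_lit 765) (nat_lit 0) [(nat_lit 429), (nat_lit 440)] [⟨(nat_lit 1095), [(nat_lit 709)], [(nat_lit 214), (nat_lit 361)]⟩])) (BT.leaf (.inv (nat_lit 1120)))) (BT.node (nat_lit 1123) (BT.leaf (.rel (nat_lit 884) (nat_lit 0) [(nat_lit 197), (nat_lit 1009)] [⟨(nat_lit 885), [(nat_lit 671)], [(nat_lit 538), (nat_lit 646)]⟩])) (BT.leaf (.nmul (nat_lit 681) [(nat_lit 19)])))) (BT.node (nat_lit 1126) (BT.node (nat_lit 1125) (BT.leaf (.rel (nat_lit 1113) (nat_lit 2) [(nat_lit 469), (nat_lit 224)] [⟨(nat_lit 819), [(nat_lit 935)], [(nat_lit 587), (nat_lit 585)]⟩, ⟨(nat_lit 932), [(nat_lit 760)], [(nat_lit 1013), (nat_lit 1123)]⟩])) (BT.leaf (.inv (nat_lit 1124)))) (BT.node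 (nat_lit 1127) (BT.leaf (.nmul (nat_lit 761) [(nat_lit 43)])) (BT.leaf (.rel (nat_lit 1055) (nat_lit 3) [(nat_lit 484), (nat_lit 486)] [⟨(nat_lit 337), [(nat_lit 926)], [(nat_lit 92), (nat_lit 874)]⟩, ⟨(nat_lit 1040), [(nat_lit 667)], [(nat_lit 1126), (nat_lit 972)]⟩]))))) (BT.node (nat_lit 1132) (BT.node (nat_lit 1130) (BT.node (nat_lit 1129) (BT.leaf (.emul [(nat_lit 322), (nat_lit 679)])) (BT.leaf (.rel (nat_lit 1098) (nat_lit 0) [(nat_lit 406), (nat_lit 478)] [⟨(nat_lit 1045), [(nat_lit 1128)], [(nat_lit 781), (nat_lit 566)]⟩]))) (BT.node (nat_lit 1131) (BT.leaf (.inv (nat_lit 1129))) (BT.leaf (.rel (nat_lit 1076) (nat_lit 0) [(nat_lit 165), (nat_lit 384)] [⟨(nat_lit 819), [(nat_lit 935)], [(nat_lit 653), (nat_lit 512)]⟩])))) (BT.node (nat_lit 1134) (BT.node (nat_lit 1133) (BT.leaf (.inv (nat_lit 1131))) (BT.leaf (.nmul (nat_lit 499) [(nat_lit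 19)]))) (BT.node (nat_lit 1135) (BT.leaf (.rel (nat_lit 1055) (nat_lit 0) [(nat_lit 376), (nat_lit 319)] [⟨(nat_lit 989), [(nat_lit 1046)], [(nat_lit 690), (nat_lit 1133)]⟩])) (BT.leaf (.inv (nat_lit 1134))))))) (BT.node (nat_lit 1144) (BT.node (nat_lit 1140) (BT.node (nat_lit 1138) (BT.node (nat_lit 1137) (BT.leaf (.nmul (nat_lit 593) [(nat_lit 1)])) (BT.leaf (.rel (nat_lit 1098) (nat_lit 1) [(nat_lit 226), (nat_lit 700)] [⟨(nat_lit 1097), [(nat_lit 859)], [(nat_lit 620), (nat_lit 1136)]⟩]))) (BT.node (nat_lit 1139) (BT.leaf (.rel (nat_lit 803) (nat_lit 3) [(nat_lit 254), (nat_lit 662)] [⟨(nat_lit 1121), [(nat_lit 1028)], [(nat_lit 255), (nat_lit 736)]⟩, ⟨(nat_lit 1024), [(nat_lit 935)], [(nat_lit 393), (nat_lit 142)]⟩])) (BT.leaf (.inv (nat_lit 1138))))) (BT.node (nat_lit 1142) (BT.node (nat_lit 1141) (BT.leaf (.nmul (nat_lit 465) [(nat_lit 19)]))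 (BT.leaf (.nmul (nat_lit 1140) [(nat_lit 1)]))) (BT.node (nat_lit 1143) (BT.leaf (.rel (nat_lit 1039) (nat_lit 0) [(nat_lit 883), (nat_lit 465)] [⟨(nat_lit 1086), [(nat_lit 322)], [(nat_lit 356), (nat_lit 1141)]⟩])) (BT.leaf (.inv (nat_lit 1142)))))) (BT.node (nat_lit 1148) (BT.node (nat_lit 1146) (BT.node (nat_lit 1145) (BT.leaf (.rel (nat_lit 1062) (nat_lit 1) [(nat_lit 569), (nat_lit 1070)] [⟨(nat_lit 987), [], [(nat_lit 450), (nat_lit 1)]⟩])) (BT.leaf (.inv (nat_lit 1144)))) (BT.node (nat_lit 1147) (BT.leaf (.rel (nat_lit 993) (nat_lit 0) [(nat_lit 150), (nat_lit 291)] [⟨(nat_lit 934), [(nat_lit 767)], [(nat_lit 990), (nat_lit 1088)]⟩])) (BT.leaf (.emul [(nat_lit 131), (nat_lit 658)])))) (BT.node (nat_lit 1150) (BT.node (nat_lit 1149) (BT.leaf (.emul [(nat_lit 210), (nat_lit 1147)])) (BT.leaf (.rel (nat_lit 595) (nat_lit 0) [(nat_lit 284), (nat_lit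 426)] [⟨(nat_lit 1111), [(nat_lit 1148)], [(nat_lit 503), (nat_lit 127)]⟩]))) (BT.node (nat_lit 1151) (BT.leaf (.inv (nat_lit 1149))) (BT.leaf (.emul [(nat_lit 654), (nat_lit 692)]))))))))
noncomputable def cF1152 : BT Fc := (BT.node (nat_lit 1184) (BT.node (nat_lit 1168) (BT.node (nat_lit 1160) (BT.node (nat_lit 1156) (BT.node (nat_lit 1154) (BT.node (nat_lit 1153) (BT.leaf ⟨(nat_lit 2), (nat_lit 5), (nat_lit 5), (nat_lit 0x87b371ada84801129997c0a0faa7f), (nat_lit 0), (nat_lit 0)⟩) (BT.leaf ⟨(nat_lit 2), (nat_lit 5), (nat_lit 5), (nat_lit 0x87e198605f3de8caeb42df37820044), (nat_lit 0), (nat_lit 0)⟩)) (BT.node (nat_lit 1155) (BT.leaf ⟨(nat_lit 3), (nat_lit 7), (nat_lit 5), (nat_lit 0x500284338806542016f5f210b5a706), (nat_lit 0xbe42070608890020ba3ef487c244de), (nat_lit 0)⟩) (BT.leaf ⟨(nat_lit 3), (nat_lit 5), (nat_lit 7), (nat_lit 0xbe42070608890020ba3ef487c244de),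 (nat_lit 0x500284338806542016f5f210b5a706), (nat_lit 0)⟩))) (BT.node (nat_lit 1158) (BT.node (nat_lit 1157) (BT.leaf ⟨(nat_lit 3), (nat_lit 7), (nat_lit 7), (nat_lit 0xc0091108c6060e2f9d020843952a9), (nat_lit 0x5f1a00de8200020408e7e34ea900), (nat_lit 0)⟩) (BT.leaf ⟨(nat_lit 3), (nat_lit 7), (nat_lit 7), (nat_lit 0x5f1a00de8200020408e7e34ea900), (nat_lit 0xc0091108c6060e2f9d020843952a9), (nat_lit 0)⟩)) (BT.node (nat_lit 1159) (BT.leaf ⟨(nat_lit 3), (nat_lit 7), (nat_lit 7), (nat_lit 0x1eb43002297dd9a29a7f040a65105c8), (nat_lit 0x1d9b34ca5e8df19a3744e8f5183e3d8), (nat_lit 0)⟩) (BT.leaf ⟨(nat_lit 3), (nat_lit 7), (nat_lit 7), (nat_lit 0x1d9b34ca5e8df19a3744e8f5183e3d8), (nat_lit 0x1eb43002297dd9a29a7f040a65105c8), (nat_lit 0)⟩)))) (BT.node (nat_lit 1164) (BT.node (nat_lit 1162) (BT.node (nat_lit 1161) (BT.leaf ⟨(nat_lit 3), (nat_lit 7), (nat_lit 7), (nat_lit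 0xcbea32400bec01002024402e4f1d3a), (nat_lit 0x17db825b4ba9790fa5f4aee296fe5f), (nat_lit 0)⟩) (BT.leaf ⟨(nat_lit 3), (nat_lit 7), (nat_lit 7), (nat_lit 0x17db825b4ba9790fa5f4aee296fe5f), (nat_lit 0xcbea32400bec01002024402e4f1d3a), (nat_lit 0)⟩)) (BT.node (nat_lit 1163) (BT.leaf ⟨(nat_lit 1), (nat_lit 0), (nat_lit 0), (nat_lit 0x280146d4841d9ae40213eaa6430030), (nat_lit 0x280146d4841d9ae40213eaa6430030), (nat_lit 0)⟩) (BT.leaf ⟨(nat_lit 3), (nat_lit 7), (nat_lit 7), (nat_lit 0x32fc6a65f13c37c638dcb1eb45bdd2), (nat_lit 0x123bd706084100603a3f9a1802216f), (nat_lit 0)⟩))) (BT.node (nat_lit 1166) (BT.node (nat_lit 1165) (BT.leaf ⟨(nat_lit 3), (nat_lit 7), (nat_lit 7), (nat_lit 0x123bd706084100603a3f9a1802216f), (nat_lit 0x32fc6a65f13c37c638dcb1eb45bdd2), (nat_lit 0)⟩) (BT.leaf ⟨(nat_lit 1), (nat_lit 0), (nat_lit 0), (nat_lit 0x1f196f888ce8301b1d6814055640280),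 (nat_lit 0x1f196f888ce8301b1d6814055640280), (nat_lit 0)⟩)) (BT.node (nat_lit 1167) (BT.leaf ⟨(nat_lit 3), (nat_lit 7), (nat_lit 7), (nat_lit 0x9a84f6c19bd52e0f49c97d27a4b3d8), (nat_lit 0x12035c89e5e94be0440088100aeac01), (nat_lit 0)⟩) (BT.leaf ⟨(nat_lit 3), (nat_lit 7), (nat_lit 7), (nat_lit 0x12035c89e5e94be0440088100aeac01), (nat_lit 0x9a84f6c19bd52e0f49c97d27a4b3d8), (nat_lit 0)⟩))))) (BT.node (nat_lit 1176) (BT.node (nat_lit 1172) (BT.node (nat_lit 1170) (BT.node (nat_lit 1169) (BT.leaf ⟨(nat_lit 3), (nat_lit 7), (nat_lit 5), (nat_lit 0x1d44f44e8bc16a0bb7b76397e2f4c3d), (nat_lit 0x1ca927c6327e053ab018f3a44008050), (nat_lit 0)⟩) (BT.leaf ⟨(nat_lit 3), (nat_lit 5), (nat_lit 7), (nat_lit 0x1ca927c6327e053ab018f3a44008050), (nat_lit 0x1d44f44e8bc16a0bb7b76397e2f4c3d), (nat_lit 0)⟩)) (BT.node (nat_lit 1171) (BT.leaf ⟨(nat_lit 3), (nat_lit 7), (nat_lit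 7), (nat_lit 0xaa4ad396570aee9a2f9562db2ff8b9), (nat_lit 0xf84f1b6374745ff1be246d1b9f9be7), (nat_lit 0)⟩) (BT.leaf ⟨(nat_lit 3), (nat_lit 4), (nat_lit 7), (nat_lit 0xc72f043dbd5edeb45c8bd87a2f47e8), (nat_lit 0x12f9d254b4d45da4d49e1da27b13c96), (nat_lit 0)⟩))) (BT.node (nat_lit 1174) (BT.node (nat_lit 1173) (BT.leaf ⟨(nat_lit 3), (nat_lit 7), (nat_lit 4), (nat_lit 0x12f9d254b4d45da4d49e1da27b13c96), (nat_lit 0xc72f043dbd5edeb45c8bd87a2f47e8), (nat_lit 0)⟩) (BT.leaf ⟨(nat_lit 1), (nat_lit 0), (nat_lit 0), (nat_lit 0x1402404243e100ca844e0cbe4a00c0), (nat_lit 0x1402404243e100ca844e0cbe4a00c0), (nat_lit 0)⟩)) (BT.node (nat_lit 1175) (BT.leaf ⟨(nat_lit 1), (nat_lit 0), (nat_lit 0), (nat_lit 0xe2b498fa38a8daa59553eb754ea9d1), (nat_lit 0xe2b498fa38a8daa59553eb754ea9d1), (nat_lit 0)⟩) (BT.leaf ⟨(nat_lit 1), (nat_lit 0), (nat_lit 0), (nat_lit 0x123a5f26ad83a78bb49a62789fbec1e),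 (nat_lit 0x123a5f26ad83a78bb49a62789fbec1e), (nat_lit 0)⟩)))) (BT.node (nat_lit 1180) (BT.node (nat_lit 1178) (BT.node (nat_lit 1177) (BT.leaf ⟨(nat_lit 3), (nat_lit 3), (nat_lit 7), (nat_lit 0xaeddca99bffd4713d8389aae765239), (nat_lit 0x43d3f9f597c0876a5c853228110022), (nat_lit 0)⟩) (BT.leaf ⟨(nat_lit 3), (nat_lit 7), (nat_lit 3), (nat_lit 0x43d3f9f597c0876a5c853228110022), (nat_lit 0xaeddca99bffd4713d8389aae765239), (nat_lit 0)⟩)) (BT.node (nat_lit 1179) (BT.leaf ⟨(nat_lit 3), (nat_lit 7), (nat_lit 7), (nat_lit 0x104ea009e76086f4805006f8800a01), (nat_lit 0x1cef8d583e7d8e9d26efe642df0ad65), (nat_lit 0)⟩) (BT.leaf ⟨(nat_lit 3), (nat_lit 7), (nat_lit 4), (nat_lit 0xb7d0fb5f49f465b865f71497eb2a5e), (nat_lit 0xdb35cab9d948e554af9a69d445c95a), (nat_lit 0)⟩))) (BT.node (nat_lit 1182) (BT.node (nat_lit 1181) (BT.leaf ⟨(nat_lit 3), (nat_lit 4), (nat_lit 7),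 (nat_lit 0xdb35cab9d948e554af9a69d445c95a), (nat_lit 0xb7d0fb5f49f465b865f71497eb2a5e), (nat_lit 0)⟩) (BT.leaf ⟨(nat_lit 3), (nat_lit 7), (nat_lit 7), (nat_lit 0x423a7127bc002604028e65e163dbeb), (nat_lit 0xf0fd6cbeda9080108280c1d994c920), (nat_lit 0)⟩)) (BT.node (nat_lit 1183) (BT.leaf ⟨(nat_lit 3), (nat_lit 7), (nat_lit 3), (nat_lit 0x1f26cd3aacb8579f583e65eeb95349), (nat_lit 0x14e90405f500cbc5ca2040081180201), (nat_lit 0)⟩) (BT.leaf ⟨(nat_lit 3), (nat_lit 3), (nat_lit 7), (nat_lit 0x14e90405f500cbc5ca2040081180201), (nat_lit 0x1f26cd3aacb8579f583e65eeb95349), (nat_lit 0)⟩)))))) (BT.node (nat_lit 1200) (BT.node (nat_lit 1192) (BT.node (nat_lit 1188) (BT.node (nat_lit 1186) (BT.node (nat_lit 1185) (BT.leaf ⟨(nat_lit 2), (nat_lit 5), (nat_lit 5), (nat_lit 0x5bc60041481de9d185043e18020195), (nat_lit 0), (nat_lit 0)⟩) (BT.leaf ⟨(nat_lit 3), (nat_lit 7),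 (nat_lit 7), (nat_lit 0x1e17c63132f31bae9265f5b4d2c6e58), (nat_lit 0x123a4d3d893fa7b13b13b629a9d241e), (nat_lit 0)⟩)) (BT.node (nat_lit 1187) (BT.leaf ⟨(nat_lit 3), (nat_lit 7), (nat_lit 7), (nat_lit 0x123a4d3d893fa7b13b13b629a9d241e), (nat_lit 0x1e17c63132f31bae9265f5b4d2c6e58), (nat_lit 0)⟩) (BT.leaf ⟨(nat_lit 2), (nat_lit 2), (nat_lit 2), (nat_lit 0x203c6808800100102b920000401004), (nat_lit 0), (nat_lit 0)⟩))) (BT.node (nat_lit 1190) (BT.node (nat_lit 1189) (BT.leaf ⟨(nat_lit 2), (nat_lit 2), (nat_lit 2), (nat_lit 0xd18d970666bd39ec74794bd59575ff), (nat_lit 0), (nat_lit 0)⟩) (BT.leaf ⟨(nat_lit 1), (nat_lit 0), (nat_lit 0), (nat_lit 0xe2a1e9f5b4dbbc6ab6c46c7532c1d1), (nat_lit 0xe2a1e9f5b4dbbc6ab6c46c7532c1d1), (nat_lit 0)⟩)) (BT.node (nat_lit 1191) (BT.leaf ⟨(nat_lit 3), (nat_lit 7), (nat_lit 7), (nat_lit 0x4bc9fe15b63f6c93b96ab99a6639af), (nat_lit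 0x976e90e643fb06b2a570be93d2da7f), (nat_lit 0)⟩) (BT.leaf ⟨(nat_lit 3), (nat_lit 7), (nat_lit 7), (nat_lit 0x976e90e643fb06b2a570be93d2da7f), (nat_lit 0x4bc9fe15b63f6c93b96ab99a6639af), (nat_lit 0)⟩)))) (BT.node (nat_lit 1196) (BT.node (nat_lit 1194) (BT.node (nat_lit 1193) (BT.leaf ⟨(nat_lit 1), (nat_lit 0), (nat_lit 0), (nat_lit 0xd8c40882300203868c0ad06bc4841e), (nat_lit 0xd8c40882300203868c0ad06bc4841e), (nat_lit 0)⟩) (BT.leaf ⟨(nat_lit 3), (nat_lit 5), (nat_lit 7), (nat_lit 0xdc09761521ee587d13fcd24b49592f), (nat_lit 0x127b4f49fb3ce9360b13b625d93541e), (nat_lit 0)⟩)) (BT.node (nat_lit 1195) (BT.leaf ⟨(nat_lit 3), (nat_lit 7), (nat_lit 5), (nat_lit 0x127b4f49fb3ce9360b13b625d93541e), (nat_lit 0xdc09761521ee587d13fcd24b49592f), (nat_lit 0)⟩) (BT.leaf ⟨(nat_lit 1), (nat_lit 0), (nat_lit 0), (nat_lit 0x1d0ba2706eadd983e7c6e9dd1cd9519), (nat_lit 0x1d0ba2706eadd983e7c6e9dd1cd9519),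 (nat_lit 0)⟩))) (BT.node (nat_lit 1198) (BT.node (nat_lit 1197) (BT.leaf ⟨(nat_lit 3), (nat_lit 7), (nat_lit 7), (nat_lit 0x1cd9d2f4cbf04210401a014be01440), (nat_lit 0x7a28060013d0220248088175439fe3), (nat_lit 0)⟩) (BT.leaf ⟨(nat_lit 3), (nat_lit 7), (nat_lit 7), (nat_lit 0x7a28060013d0220248088175439fe3), (nat_lit 0x1cd9d2f4cbf04210401a014be01440), (nat_lit 0)⟩)) (BT.node (nat_lit 1199) (BT.leaf ⟨(nat_lit 3), (nat_lit 7), (nat_lit 7), (nat_lit 0x1f34bcf8ce1be76c6f89d45eb7468b7), (nat_lit 0x4fed8ea259849db8615cd2cbc87d5c), (nat_lit 0)⟩) (BT.leaf ⟨(nat_lit 3), (nat_lit 7), (nat_lit 4), (nat_lit 0x1a4c6a99546d69a1e9f5e4352f779d7), (nat_lit 0x1c6b1d0b7e74d269d73839cb4b9f615), (nat_lit 0)⟩))))) (BT.node (nat_lit 1208) (BT.node (nat_lit 1204) (BT.node (nat_lit 1202) (BT.node (nat_lit 1201) (BT.leaf ⟨(nat_lit 3), (nat_lit 4), (nat_lit 7), (nat_lit 0x1c6b1d0b7e74d269d73839cb4b9f615),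 (nat_lit 0x1a4c6a99546d69a1e9f5e4352f779d7), (nat_lit 0)⟩) (BT.leaf ⟨(nat_lit 1), (nat_lit 0), (nat_lit 0), (nat_lit 0x1d1fa2766bffc1b233357b1d08d9346), (nat_lit 0x1d1fa2766bffc1b233357b1d08d9346), (nat_lit 0)⟩)) (BT.node (nat_lit 1203) (BT.leaf ⟨(nat_lit 3), (nat_lit 7), (nat_lit 7), (nat_lit 0x1f6f7a9b2dc87398e674de9c867a179), (nat_lit 0x7d4e29d73a952ceab8a87bc872c3d5), (nat_lit 0)⟩) (BT.leaf ⟨(nat_lit 1), (nat_lit 0), (nat_lit 0), (nat_lit 0xb4b0ad650f960f9d9ce6922ddd253a), (nat_lit 0xb4b0ad650f960f9d9ce6922ddd253a), (nat_lit 0)⟩))) (BT.node (nat_lit 1206) (BT.node (nat_lit 1205) (BT.leaf ⟨(nat_lit 1), (nat_lit 0), (nat_lit 0), (nat_lit 0x1d1f49bd868d9183e33594bd59575ff), (nat_lit 0x1d1f49bd868d9183e33594bd59575ff), (nat_lit 0)⟩) (BT.leaf ⟨(nat_lit 3), (nat_lit 7), (nat_lit 7), (nat_lit 0x9abeda87365bc37aed4a2e73b7a4ab), (nat_lit 0xa1e29eca9e71eda48ed7fd18e3bd5c),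 (nat_lit 0)⟩)) (BT.node (nat_lit 1207) (BT.leaf ⟨(nat_lit 3), (nat_lit 7), (nat_lit 7), (nat_lit 0x1a37ceb8dd449969a0cb7fde1589f89), (nat_lit 0x1cab77d8316ed243e4d9c2ae90e763a), (nat_lit 0)⟩) (BT.leaf ⟨(nat_lit 3), (nat_lit 7), (nat_lit 7), (nat_lit 0x1cab77d8316ed243e4d9c2ae90e763a), (nat_lit 0x1a37ceb8dd449969a0cb7fde1589f89), (nat_lit 0)⟩)))) (BT.node (nat_lit 1212) (BT.node (nat_lit 1210) (BT.node (nat_lit 1209) (BT.leaf ⟨(nat_lit 3), (nat_lit 7), (nat_lit 7), (nat_lit 0xb7c4170d2ab9d2407c6501eea0f090), (nat_lit 0x125814018111e14eef3201249d04108), (nat_lit 0)⟩) (BT.leaf ⟨(nat_lit 3), (nat_lit 7), (nat_lit 7), (nat_lit 0x125814018111e14eef3201249d04108), (nat_lit 0xb7c4170d2ab9d2407c6501eea0f090), (nat_lit 0)⟩)) (BT.node (nat_lit 1211) (BT.leaf ⟨(nat_lit 3), (nat_lit 7), (nat_lit 7), (nat_lit 0x24279d68141201b1884473078aaf0d), (nat_lit 0x1101200c05f3ad2d404843e18028706),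 (nat_lit 0)⟩) (BT.leaf ⟨(nat_lit 1), (nat_lit 0), (nat_lit 0), (nat_lit 0x557908fa3a352c6ada63ba715ea9d4), (nat_lit 0x557908fa3a352c6ada63ba715ea9d4), (nat_lit 0)⟩))) (BT.node (nat_lit 1214) (BT.node (nat_lit 1213) (BT.leaf ⟨(nat_lit 3), (nat_lit 7), (nat_lit 7), (nat_lit 0x1f3786e8d71beb6c6f9d627e2465d34), (nat_lit 0x1edd2bd65a32979af9bc1cc96d6fb8a), (nat_lit 0)⟩) (BT.leaf ⟨(nat_lit 3), (nat_lit 7), (nat_lit 7), (nat_lit 0x1edd2bd65a32979af9bc1cc96d6fb8a), (nat_lit 0x1f3786e8d71beb6c6f9d627e2465d34), (nat_lit 0)⟩)) (BT.node (nat_lit 1215) (BT.leaf ⟨(nat_lit 3), (nat_lit 7), (nat_lit 7), (nat_lit 0x750aae933aa656eab8addf52c7d1c5), (nat_lit 0x18b32fa5b6be976b29bc49e87f60b70), (nat_lit 0)⟩) (BT.leaf ⟨(nat_lit 3), (nat_lit 7), (nat_lit 7), (nat_lit 0x18b32fa5b6be976b29bc49e87f60b70), (nat_lit 0x750aae933aa656eab8addf52c7d1c5), (nat_lit 0)⟩)))))))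
noncomputable def cP1152 : BT Pf := (BT.node (nat_lit 1184) (BT.node (nat_lit 1168) (BT.node (nat_lit 1160) (BT.node (nat_lit 1156) (BT.node (nat_lit 1154) (BT.node (nat_lit 1153) (BT.leaf (.emul [(nat_lit 654), (nat_lit 794)])) (BT.leaf (.emul [(nat_lit 626), (nat_lit 1152)]))) (BT.node (nat_lit 1155) (BT.leaf (.rel (nat_lit 699) (nat_lit 3) [(nat_lit 507), (nat_lit 555)] [⟨(nat_lit 768), [(nat_lit 1151)], [(nat_lit 364), (nat_lit 874)]⟩, ⟨(nat_lit 976), [(nat_lit 1153)], [(nat_lit 696), (nat_lit 439)]⟩])) (BT.leaf (.inv (nat_lit 1154))))) (BT.node (nat_lit 1158) (BT.node (nat_lit 1157) (BT.leaf (.rel (nat_lit 931) (nat_lit 0) [(nat_lit 295), (nat_lit 1109)] [⟨(nat_lit 1097), [(nat_lit 760)], [(nat_lit 93), (nat_lit 585)]⟩])) (BT.leaf (.inv (nat_lit 1156)))) (BT.node (nat_lit 1159) (BT.leaf (.rel (nat_lit 971) (nat_lit 1) [(nat_lit 391), (nat_lit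 125)] [⟨(nat_lit 987), [(nat_lit 775)], [(nat_lit 292), (nat_lit 264)]⟩])) (BT.leaf (.inv (nat_lit 1158)))))) (BT.node (nat_lit 1164) (BT.node (nat_lit 1162) (BT.node (nat_lit 1161) (BT.leaf (.rel (nat_lit 866) (nat_lit 5) [(nat_lit 521), (nat_lit 821)] [⟨(nat_lit 853), [(nat_lit 926)], [(nat_lit 336), (nat_lit 202)]⟩, ⟨(nat_lit 963), [(nat_lit 935)], [(nat_lit 208), (nat_lit 651)]⟩])) (BT.leaf (.inv (nat_lit 1160)))) (BT.node (nat_lit 1163) (BT.leaf (.nmul (nat_lit 759) [(nat_lit 43)])) (BT.leaf (.rel (nat_lit 1039) (nat_lit 0) [(nat_lit 1162), (nat_lit 389)] [⟨(nat_lit 932), [(nat_lit 888)], [(nat_lit 280), (nat_lit 710)]⟩])))) (BT.node (nat_lit 1166) (BT.node (nat_lit 1165) (BT.leaf (.inv (nat_lit 1163))) (BT.leaf (.nmul (nat_lit 431) [(nat_lit 19)]))) (BT.node (nat_lit 1167) (BT.leaf (.rel (nat_lit 903) (nat_lit 4) [(nat_lit 763), (nat_lit 676)]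 [⟨(nat_lit 1023), [], [(nat_lit 461), (nat_lit 1165)]⟩, ⟨(nat_lit 1159), [], [(nat_lit 175), (nat_lit 593)]⟩])) (BT.leaf (.inv (nat_lit 1166))))))) (BT.node (nat_lit 1176) (BT.node (nat_lit 1172) (BT.node (nat_lit 1170) (BT.node (nat_lit 1169) (BT.leaf (.rel (nat_lit 595) (nat_lit 1) [(nat_lit 429), (nat_lit 291)] [⟨(nat_lit 1111), [(nat_lit 452), (nat_lit 677)], [(nat_lit 473), (nat_lit 439)]⟩])) (BT.leaf (.inv (nat_lit 1168)))) (BT.node (nat_lit 1171) (BT.leaf (.rel (nat_lit 1057) (nat_lit 4) [(nat_lit 825), (nat_lit 740)] [⟨(nat_lit 501), [(nat_lit 457)], [(nat_lit 254), (nat_lit 400)]⟩, ⟨(nat_lit 1054), [(nat_lit 1037)], [(nat_lit 128), (nat_lit 88)]⟩])) (BT.leaf (.rel (nat_lit 1167) (nat_lit 1) [(nat_lit 469), (nat_lit 475)] [⟨(nat_lit 872), [(nat_lit 775)], [(nat_lit 883), (nat_lit 1123)]⟩])))) (BT.node (nat_lit 1174) (BT.node (nat_lit 1173)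 (BT.leaf (.inv (nat_lit 1171))) (BT.leaf (.nmul (nat_lit 582) [(nat_lit 19)]))) (BT.node (nat_lit 1175) (BT.leaf (.nmul (nat_lit 1173) [(nat_lit 43)])) (BT.leaf (.nmul (nat_lit 1174) [(nat_lit 43)]))))) (BT.node (nat_lit 1180) (BT.node (nat_lit 1178) (BT.node (nat_lit 1177) (BT.leaf (.rel (nat_lit 1170) (nat_lit 0) [(nat_lit 258), (nat_lit 362)] [⟨(nat_lit 890), [(nat_lit 935)], [(nat_lit 1175), (nat_lit 110)]⟩])) (BT.leaf (.inv (nat_lit 1176)))) (BT.node (nat_lit 1179) (BT.leaf (.rel (nat_lit 988) (nat_lit 4) [(nat_lit 111), (nat_lit 288)] [⟨(nat_lit 967), [(nat_lit 767)], [(nat_lit 653), (nat_lit 652)]⟩, ⟨(nat_lit 1124), [(nat_lit 935)], [(nat_lit 284), (nat_lit 573)]⟩])) (BT.leaf (.rel (nat_lit 780) (nat_lit 2) [(nat_lit 273), (nat_lit 802)] [⟨(nat_lit 1011), [], [(nat_lit 216), (nat_lit 431)]⟩, ⟨(nat_lit 804), [(nat_lit 859)], [(nat_lit 539), (nat_lit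 1009)]⟩])))) (BT.node (nat_lit 1182) (BT.node (nat_lit 1181) (BT.leaf (.inv (nat_lit 1179))) (BT.leaf (.rel (nat_lit 1044) (nat_lit 4) [(nat_lit 733), (nat_lit 390)] [⟨(nat_lit 757), [(nat_lit 678)], [(nat_lit 1087), (nat_lit 89)]⟩, ⟨(nat_lit 1045), [(nat_lit 828)], [(nat_lit 260), (nat_lit 290)]⟩]))) (BT.node (nat_lit 1183) (BT.leaf (.rel (nat_lit 745) (nat_lit 1) [(nat_lit 784), (nat_lit 455)] [⟨(nat_lit 967), [(nat_lit 860)], [(nat_lit 483), (nat_lit 778)]⟩])) (BT.leaf (.inv (nat_lit 1182)))))))) (BT.node (nat_lit 1200) (BT.node (nat_lit 1192) (BT.node (nat_lit 1188) (BT.node (nat_lit 1186) (BT.node (nat_lit 1185) (BT.leaf (.emul [(nat_lit 645), (nat_lit 692)])) (BT.leaf (.rel (nat_lit 857) (nat_lit 2) [(nat_lit 211), (nat_lit 778)] [⟨(nat_lit 1095), [(nat_lit 1184)], [(nat_lit 871), (nat_lit 684)]⟩, ⟨(nat_lit 1079), [(nat_lit 775)], [(nat_lit 209),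 (nat_lit 652)]⟩]))) (BT.node (nat_lit 1187) (BT.leaf (.inv (nat_lit 1185))) (BT.leaf (.emul [(nat_lit 143), (nat_lit 154)])))) (BT.node (nat_lit 1190) (BT.node (nat_lit 1189) (BT.leaf (.emul [(nat_lit 168), (nat_lit 1187)])) (BT.leaf (.nmul (nat_lit 675) [(nat_lit 43)]))) (BT.node (nat_lit 1191) (BT.leaf (.rel (nat_lit 1110) (nat_lit 4) [(nat_lit 215), (nat_lit 712)] [⟨(nat_lit 769), [(nat_lit 1188)], [(nat_lit 1099), (nat_lit 398)]⟩, ⟨(nat_lit 940), [(nat_lit 775)], [(nat_lit 1189), (nat_lit 288)]⟩])) (BT.leaf (.inv (nat_lit 1190)))))) (BT.node (nat_lit 1196) (BT.node (nat_lit 1194) (BT.node (nat_lit 1193) (BT.leaf (.nmul (nat_lit 813) [(nat_lit 19)])) (BT.leaf (.rel (nat_lit 792) (nat_lit 3) [(nat_lit 470), (nat_lit 778)] [⟨(nat_lit 793), [(nat_lit 881)], [(nat_lit 416), (nat_lit 1192)]⟩, ⟨(nat_lit 1168), [(nat_lit 775)], [(nat_lit 784), (nat_lit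 740)]⟩]))) (BT.node (nat_lit 1195) (BT.leaf (.inv (nat_lit 1193))) (BT.leaf (.nmul (nat_lit 574) [(nat_lit 19)])))) (BT.node (nat_lit 1198) (BT.node (nat_lit 1197) (BT.leaf (.rel (nat_lit 1052) (nat_lit 4) [(nat_lit 1174), (nat_lit 936)] [⟨(nat_lit 730), [(nat_lit 678)], [(nat_lit 1195), (nat_lit 91)]⟩, ⟨(nat_lit 1111), [(nat_lit 516)], [(nat_lit 357), (nat_lit 878)]⟩])) (BT.leaf (.inv (nat_lit 1196)))) (BT.node (nat_lit 1199) (BT.leaf (.rel (nat_lit 1085) (nat_lit 0) [(nat_lit 746), (nat_lit 108)] [⟨(nat_lit 1054), [(nat_lit 650)], [(nat_lit 521), (nat_lit 751)]⟩])) (BT.leaf (.rel (nat_lit 721) (nat_lit 5) [(nat_lit 19), (nat_lit 191)] [⟨(nat_lit 753), [(nat_lit 703)], [(nat_lit 734), (nat_lit 472)]⟩, ⟨(nat_lit 1040), [(nat_lit 456)], [(nat_lit 429), (nat_lit 498)]⟩])))))) (BT.node (nat_lit 1208) (BT.node (nat_lit 1204) (BT.node (nat_lit 1202) (BT.node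 (nat_lit 1201) (BT.leaf (.inv (nat_lit 1199))) (BT.leaf (.nmul (nat_lit 746) [(nat_lit 19)]))) (BT.node (nat_lit 1203) (BT.leaf (.rel (nat_lit 1052) (nat_lit 1) [(nat_lit 690), (nat_lit 202)] [⟨(nat_lit 994), [(nat_lit 680)], [(nat_lit 1201), (nat_lit 835)]⟩])) (BT.leaf (.nmul (nat_lit 205) [(nat_lit 19)])))) (BT.node (nat_lit 1206) (BT.node (nat_lit 1205) (BT.leaf (.nmul (nat_lit 495) [(nat_lit 0)])) (BT.leaf (.rel (nat_lit 890) (nat_lit 4) [(nat_lit 1014), (nat_lit 170)] [⟨(nat_lit 981), [(nat_lit 859)], [(nat_lit 911), (nat_lit 1203)]⟩, ⟨(nat_lit 1072), [(nat_lit 775)], [(nat_lit 1102), (nat_lit 1204)]⟩]))) (BT.node (nat_lit 1207) (BT.leaf (.rel (nat_lit 1196) (nat_lit 2) [(nat_lit 356), (nat_lit 504)] [⟨(nat_lit 1000), [], [(nat_lit 469), (nat_lit 1204)]⟩, ⟨(nat_lit 967), [(nat_lit 860)], [(nat_lit 240), (nat_lit 367)]⟩])) (BT.leaf (.inv (nat_lit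 1206)))))) (BT.node (nat_lit 1212) (BT.node (nat_lit 1210) (BT.node (nat_lit 1209) (BT.leaf (.rel (nat_lit 1016) (nat_lit 1) [(nat_lit 733), (nat_lit 1025)] [⟨(nat_lit 908), [], [(nat_lit 829), (nat_lit 1021)]⟩])) (BT.leaf (.inv (nat_lit 1208)))) (BT.node (nat_lit 1211) (BT.leaf (.rel (nat_lit 1125) (nat_lit 4) [(nat_lit 538), (nat_lit 795)] [⟨(nat_lit 980), [], [(nat_lit 527), (nat_lit 206)]⟩, ⟨(nat_lit 889), [], [(nat_lit 416), (nat_lit 459)]⟩])) (BT.leaf (.nmul (nat_lit 738) [(nat_lit 1)])))) (BT.node (nat_lit 1214) (BT.node (nat_lit 1213) (BT.leaf (.rel (nat_lit 996) (nat_lit 1) [(nat_lit 176), (nat_lit 512)] [⟨(nat_lit 1186), [(nat_lit 935)], [(nat_lit 462), (nat_lit 1211)]⟩])) (BT.leaf (.inv (nat_lit 1212)))) (BT.node (nat_lit 1215) (BT.leaf (.rel (nat_lit 1182) (nat_lit 1) [(nat_lit 468), (nat_lit 362)] [⟨(nat_lit 820), [(nat_lit 1037)], [(nat_lit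 282), (nat_lit 625)]⟩])) (BT.leaf (.inv (nat_lit 1214)))))))))
noncomputable def cF1216 : BT Fc := (BT.node (nat_lit 1248) (BT.node (nat_lit 1232) (BT.node (nat_lit 1224) (BT.node (nat_lit 1220) (BT.node (nat_lit 1218) (BT.node (nat_lit 1217) (BT.leaf ⟨(nat_lit 1), (nat_lit 0), (nat_lit 0), (nat_lit 0x174b1627f0be87eb2fb74aee292da5d), (nat_lit 0x174b1627f0be87eb2fb74aee292da5d), (nat_lit 0)⟩) (BT.leaf ⟨(nat_lit 3), (nat_lit 7), (nat_lit 7), (nat_lit 0x15952de2cd8295d6fdd2cbe6f10fa7f), (nat_lit 0x1cf92dabd20803002f89028f9c2212b), (nat_lit 0)⟩)) (BT.node (nat_lit 1219) (BT.leaf ⟨(nat_lit 1), (nat_lit 0), (nat_lit 0), (nat_lit 0x3b65f3d893e5db4f09e93907bbee27), (nat_lit 0x3b65f3d893e5db4f09e93907bbee27), (nat_lit 0)⟩) (BT.leaf ⟨(nat_lit 3), (nat_lit 4), (nat_lit 7), (nat_lit 0x1841003938f879c7440840295d822), (nat_lit 0x17a80192d01410881744404018412bb),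 (nat_lit 0)⟩))) (BT.node (nat_lit 1222) (BT.node (nat_lit 1221) (BT.leaf ⟨(nat_lit 3), (nat_lit 7), (nat_lit 4), (nat_lit 0x17a80192d01410881744404018412bb), (nat_lit 0x1841003938f879c7440840295d822), (nat_lit 0)⟩) (BT.leaf ⟨(nat_lit 3), (nat_lit 7), (nat_lit 7), (nat_lit 0x177800c4b60180a477409e264d12b), (nat_lit 0x11dc0312b029bc12d805409d088200c), (nat_lit 0)⟩)) (BT.node (nat_lit 1223) (BT.leaf ⟨(nat_lit 3), (nat_lit 7), (nat_lit 7), (nat_lit 0x32d57519c8cf603e7c6eadd1e52f42), (nat_lit 0x1134ad751532be554d836d8aec5cab1), (nat_lit 0)⟩) (BT.leaf ⟨(nat_lit 1), (nat_lit 0), (nat_lit 0), (nat_lit 0xaed1caf9bff89d58b6c72d135548b9), (nat_lit 0xaed1caf9bff89d58b6c72d135548b9), (nat_lit 0)⟩)))) (BT.node (nat_lit 1228) (BT.node (nat_lit 1226) (BT.node (nat_lit 1225) (BT.leaf ⟨(nat_lit 3), (nat_lit 7), (nat_lit 7), (nat_lit 0xe392b8022007a3a0100a0252f021),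 (nat_lit 0x14e910200411635027e84059ce7a280), (nat_lit 0)⟩) (BT.leaf ⟨(nat_lit 3), (nat_lit 7), (nat_lit 7), (nat_lit 0x14e910200411635027e84059ce7a280), (nat_lit 0xe392b8022007a3a0100a0252f021), (nat_lit 0)⟩)) (BT.node (nat_lit 1227) (BT.leaf ⟨(nat_lit 1), (nat_lit 0), (nat_lit 0), (nat_lit 0x900240c0b5087c22195867f37bd040), (nat_lit 0x900240c0b5087c22195867f37bd040), (nat_lit 0)⟩) (BT.leaf ⟨(nat_lit 3), (nat_lit 7), (nat_lit 7), (nat_lit 0xfcdf1f7dc16b30de517787295f39e3), (nat_lit 0xd8e8bacc8dddf4de3e35c6f85f3a36), (nat_lit 0)⟩))) (BT.node (nat_lit 1230) (BT.node (nat_lit 1229) (BT.leaf ⟨(nat_lit 3), (nat_lit 7), (nat_lit 3), (nat_lit 0x1cec029014bde3004c017c5bd400c9f), (nat_lit 0x11c7654538c7698cdc7b6923b619c73), (nat_lit 0)⟩) (BT.leaf ⟨(nat_lit 3), (nat_lit 3), (nat_lit 7), (nat_lit 0x11c7654538c7698cdc7b6923b619c73), (nat_lit 0x1cec029014bde3004c017c5bd400c9f),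 (nat_lit 0)⟩)) (BT.node (nat_lit 1231) (BT.leaf ⟨(nat_lit 3), (nat_lit 7), (nat_lit 7), (nat_lit 0xe3465bfef134d3c2c6e627637c6f0d), (nat_lit 0x2055c0037c5bd7a3809e761040892e), (nat_lit 0)⟩) (BT.leaf ⟨(nat_lit 3), (nat_lit 7), (nat_lit 7), (nat_lit 0x18e9af8d530040274104ae640417940), (nat_lit 0x1010427420284ad2ddec00c8123b9d1), (nat_lit 0)⟩))))) (BT.node (nat_lit 1240) (BT.node (nat_lit 1236) (BT.node (nat_lit 1234) (BT.node (nat_lit 1233) (BT.leaf ⟨(nat_lit 3), (nat_lit 7), (nat_lit 7), (nat_lit 0x1010427420284ad2ddec00c8123b9d1), (nat_lit 0x18e9af8d530040274104ae640417940), (nat_lit 0)⟩) (BT.leaf ⟨(nat_lit 3), (nat_lit 7), (nat_lit 7), (nat_lit 0x1d38d9646d27d0ba2669eacd19ec5ff), (nat_lit 0x1c360f2399e79d0442dff74d8eb4180), (nat_lit 0)⟩)) (BT.node (nat_lit 1235) (BT.leaf ⟨(nat_lit 3), (nat_lit 7), (nat_lit 7), (nat_lit 0x1c360f2399e79d0442dff74d8eb4180),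 (nat_lit 0x1d38d9646d27d0ba2669eacd19ec5ff), (nat_lit 0)⟩) (BT.leaf ⟨(nat_lit 1), (nat_lit 0), (nat_lit 0), (nat_lit 0x1ca9d22d26754e8e773bdded271d7ba), (nat_lit 0x1ca9d22d26754e8e773bdded271d7ba), (nat_lit 0)⟩))) (BT.node (nat_lit 1238) (BT.node (nat_lit 1237) (BT.leaf ⟨(nat_lit 3), (nat_lit 7), (nat_lit 3), (nat_lit 0x189e5f6c193e3b64b77d93967ad8c8e), (nat_lit 0x17e1080900a00600a72af3b0409fbf3), (nat_lit 0)⟩) (BT.leaf ⟨(nat_lit 3), (nat_lit 3), (nat_lit 7), (nat_lit 0x17e1080900a00600a72af3b0409fbf3), (nat_lit 0x189e5f6c193e3b64b77d93967ad8c8e), (nat_lit 0)⟩)) (BT.node (nat_lit 1239) (BT.leaf ⟨(nat_lit 3), (nat_lit 7), (nat_lit 7), (nat_lit 0xe5b655831cd1355dab9570a67a8ab1), (nat_lit 0x1cabbd07c16eb4b997baa7560dd271a), (nat_lit 0)⟩) (BT.leaf ⟨(nat_lit 3), (nat_lit 7), (nat_lit 7), (nat_lit 0x1cabbd07c16eb4b997baa7560dd271a), (nat_lit 0xe5b655831cd1355dab9570a67a8ab1),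 (nat_lit 0)⟩)))) (BT.node (nat_lit 1244) (BT.node (nat_lit 1242) (BT.node (nat_lit 1241) (BT.leaf ⟨(nat_lit 3), (nat_lit 7), (nat_lit 7), (nat_lit 0x97eb2a1f6be9fd279bc6e1edf160e6), (nat_lit 0x125bc280cdf8fac0c009091ccba7028), (nat_lit 0)⟩) (BT.leaf ⟨(nat_lit 3), (nat_lit 7), (nat_lit 7), (nat_lit 0x125bc280cdf8fac0c009091ccba7028), (nat_lit 0x97eb2a1f6be9fd279bc6e1edf160e6), (nat_lit 0)⟩)) (BT.node (nat_lit 1243) (BT.leaf ⟨(nat_lit 1), (nat_lit 0), (nat_lit 0), (nat_lit 0x2202474e019781042570151ec93818), (nat_lit 0x2202474e019781042570151ec93818), (nat_lit 0)⟩) (BT.leaf ⟨(nat_lit 3), (nat_lit 7), (nat_lit 7), (nat_lit 0x185734d2f24e4bdb80fa25b5701792e), (nat_lit 0x1bd77a179fb6c70d94f489b9d17a6f0), (nat_lit 0)⟩))) (BT.node (nat_lit 1246) (BT.node (nat_lit 1245) (BT.leaf ⟨(nat_lit 3), (nat_lit 7), (nat_lit 7), (nat_lit 0x1bd77a179fb6c70d94f489b9d17a6f0),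 (nat_lit 0x185734d2f24e4bdb80fa25b5701792e), (nat_lit 0)⟩) (BT.leaf ⟨(nat_lit 3), (nat_lit 7), (nat_lit 7), (nat_lit 0x97f2fa1f4bc95cde05f4fe976b2a4f), (nat_lit 0x1e30028414bc4ba4fef50427539d811), (nat_lit 0)⟩)) (BT.node (nat_lit 1247) (BT.leaf ⟨(nat_lit 2), (nat_lit 2), (nat_lit 2), (nat_lit 0x11c8ea49f8024b820f47e7600c02801), (nat_lit 0), (nat_lit 0)⟩) (BT.leaf ⟨(nat_lit 1), (nat_lit 0), (nat_lit 0), (nat_lit 0x8827a67365f8010820817278d0153a), (nat_lit 0x8827a67365f8010820817278d0153a), (nat_lit 0)⟩)))))) (BT.node (nat_lit 1264) (BT.node (nat_lit 1256) (BT.node (nat_lit 1252) (BT.node (nat_lit 1250) (BT.node (nat_lit 1249) (BT.leaf ⟨(nat_lit 3), (nat_lit 7), (nat_lit 4), (nat_lit 0x1e41f1a362b4b8df9d177cef8a52cd9), (nat_lit 0x5546ab6c3a2714fab8ad26776ea9d5), (nat_lit 0)⟩) (BT.leaf ⟨(nat_lit 3), (nat_lit 4), (nat_lit 7), (nat_lit 0x5546ab6c3a2714fab8ad26776ea9d5),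 (nat_lit 0x1e41f1a362b4b8df9d177cef8a52cd9), (nat_lit 0)⟩)) (BT.node (nat_lit 1251) (BT.leaf ⟨(nat_lit 3), (nat_lit 7), (nat_lit 7), (nat_lit 0x881016739e8805205460bef550432f), (nat_lit 0x12380979d7e67150824feadb9208110), (nat_lit 0)⟩) (BT.leaf ⟨(nat_lit 3), (nat_lit 7), (nat_lit 7), (nat_lit 0x12380979d7e67150824feadb9208110), (nat_lit 0x881016739e8805205460bef550432f), (nat_lit 0)⟩))) (BT.node (nat_lit 1254) (BT.node (nat_lit 1253) (BT.leaf ⟨(nat_lit 3), (nat_lit 7), (nat_lit 7), (nat_lit 0x1803f1c208090084f500d721cd7a480), (nat_lit 0x1cf80280493496d5ebe7e8421006477), (nat_lit 0)⟩) (BT.leaf ⟨(nat_lit 3), (nat_lit 7), (nat_lit 7), (nat_lit 0x1cf80280493496d5ebe7e8421006477), (nat_lit 0x1803f1c208090084f500d721cd7a480), (nat_lit 0)⟩)) (BT.node (nat_lit 1255) (BT.leaf ⟨(nat_lit 2), (nat_lit 5), (nat_lit 5), (nat_lit 0x744e299587a7d777bd546ce2b2c5d5),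 (nat_lit 0), (nat_lit 0)⟩) (BT.leaf ⟨(nat_lit 2), (nat_lit 5), (nat_lit 5), (nat_lit 0xc4d3549e7b126a4e62797c27bbeec1), (nat_lit 0), (nat_lit 0)⟩)))) (BT.node (nat_lit 1260) (BT.node (nat_lit 1258) (BT.node (nat_lit 1257) (BT.leaf ⟨(nat_lit 1), (nat_lit 0), (nat_lit 0), (nat_lit 0x14d32c7ad71ac4f5170d8dd74bc6f89), (nat_lit 0x14d32c7ad71ac4f5170d8dd74bc6f89), (nat_lit 0)⟩) (BT.leaf ⟨(nat_lit 1), (nat_lit 0), (nat_lit 0), (nat_lit 0x56a6ce0bfc72968bbe27c6fcfbef90), (nat_lit 0x56a6ce0bfc72968bbe27c6fcfbef90), (nat_lit 0)⟩)) (BT.node (nat_lit 1259) (BT.leaf ⟨(nat_lit 3), (nat_lit 7), (nat_lit 7), (nat_lit 0x1239d24beb625dbbec9cd83259350ed), (nat_lit 0x1466a3744cd232f237c6e8cf63a72ae), (nat_lit 0)⟩) (BT.leaf ⟨(nat_lit 3), (nat_lit 7), (nat_lit 7), (nat_lit 0x1466a3744cd232f237c6e8cf63a72ae), (nat_lit 0x1239d24beb625dbbec9cd83259350ed), (nat_lit 0)⟩))) (BT.node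 (nat_lit 1262) (BT.node (nat_lit 1261) (BT.leaf ⟨(nat_lit 3), (nat_lit 7), (nat_lit 4), (nat_lit 0xb31f1be794a569b1bf3c17f8fc83eb), (nat_lit 0x10a4e12ddec8092edeae8804a01022), (nat_lit 0)⟩) (BT.leaf ⟨(nat_lit 3), (nat_lit 4), (nat_lit 7), (nat_lit 0x10a4e12ddec8092edeae8804a01022), (nat_lit 0xb31f1be794a569b1bf3c17f8fc83eb), (nat_lit 0)⟩)) (BT.node (nat_lit 1263) (BT.leaf ⟨(nat_lit 3), (nat_lit 7), (nat_lit 7), (nat_lit 0x8802f9e37aa81108673400902a3201), (nat_lit 0x1ae55ef516d94d0732b9552ae0ad2b1), (nat_lit 0)⟩) (BT.leaf ⟨(nat_lit 3), (nat_lit 7), (nat_lit 7), (nat_lit 0x1ae55ef516d94d0732b9552ae0ad2b1), (nat_lit 0x8802f9e37aa81108673400902a3201), (nat_lit 0)⟩))))) (BT.node (nat_lit 1272) (BT.node (nat_lit 1268) (BT.node (nat_lit 1266) (BT.node (nat_lit 1265) (BT.leaf ⟨(nat_lit 3), (nat_lit 7), (nat_lit 7), (nat_lit 0x7172c1f53a235790da6dde555ea9d7),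 (nat_lit 0x1e7554ee47e7ca808c1091d7e0881c5), (nat_lit 0)⟩) (BT.leaf ⟨(nat_lit 3), (nat_lit 7), (nat_lit 7), (nat_lit 0x1e7554ee47e7ca808c1091d7e0881c5), (nat_lit 0x7172c1f53a235790da6dde555ea9d7), (nat_lit 0)⟩)) (BT.node (nat_lit 1267) (BT.leaf ⟨(nat_lit 3), (nat_lit 7), (nat_lit 7), (nat_lit 0x501dcae3fe84109063a20167a8035f), (nat_lit 0xae2390038028064fde900af8b9d801), (nat_lit 0)⟩) (BT.leaf ⟨(nat_lit 3), (nat_lit 7), (nat_lit 7), (nat_lit 0xae2390038028064fde900af8b9d801), (nat_lit 0x501dcae3fe84109063a20167a8035f), (nat_lit 0)⟩))) (BT.node (nat_lit 1270) (BT.node (nat_lit 1269) (BT.leaf ⟨(nat_lit 3), (nat_lit 7), (nat_lit 7), (nat_lit 0x1df6474dea9727076c9697c27b4f59e), (nat_lit 0x1d1bb3756cd37ff830cbf8ccd652f42), (nat_lit 0)⟩) (BT.leaf ⟨(nat_lit 3), (nat_lit 7), (nat_lit 7), (nat_lit 0x1d1bb3756cd37ff830cbf8ccd652f42), (nat_lit 0x1df6474dea9727076c9697c27b4f59e),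 (nat_lit 0)⟩)) (BT.node (nat_lit 1271) (BT.leaf ⟨(nat_lit 3), (nat_lit 7), (nat_lit 7), (nat_lit 0x11003742409cf84200400b7b3c4c77), (nat_lit 0xac52b927df8031f5c082107740c208), (nat_lit 0)⟩) (BT.leaf ⟨(nat_lit 3), (nat_lit 7), (nat_lit 7), (nat_lit 0xac52b927df8031f5c082107740c208), (nat_lit 0x11003742409cf84200400b7b3c4c77), (nat_lit 0)⟩)))) (BT.node (nat_lit 1276) (BT.node (nat_lit 1274) (BT.node (nat_lit 1273) (BT.leaf ⟨(nat_lit 3), (nat_lit 7), (nat_lit 7), (nat_lit 0xa1f5de08f642006048e65bf0eeab1), (nat_lit 0x18ebbd2d2693c6b9f4d9e647383e583), (nat_lit 0)⟩) (BT.leaf ⟨(nat_lit 3), (nat_lit 7), (nat_lit 7), (nat_lit 0x17ff5ca992b4aeec1d3457aae5b62b8), (nat_lit 0x1fd28bc4d639b533a1b2dea9ab726f6), (nat_lit 0)⟩)) (BT.node (nat_lit 1275) (BT.leaf ⟨(nat_lit 3), (nat_lit 7), (nat_lit 7), (nat_lit 0x1fd28bc4d639b533a1b2dea9ab726f6), (nat_lit 0x17ff5ca992b4aeec1d3457aae5b62b8),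 (nat_lit 0)⟩) (BT.leaf ⟨(nat_lit 3), (nat_lit 7), (nat_lit 7), (nat_lit 0x169b16471867571ff4f366b1ce298ed), (nat_lit 0x1378b7841f9ae8d7c860091c18cac33), (nat_lit 0)⟩))) (BT.node (nat_lit 1278) (BT.node (nat_lit 1277) (BT.leaf ⟨(nat_lit 2), (nat_lit 2), (nat_lit 2), (nat_lit 0x7463b824de1cf8825ec25601002806), (nat_lit 0), (nat_lit 0)⟩) (BT.leaf ⟨(nat_lit 2), (nat_lit 4), (nat_lit 4), (nat_lit 0x48883f3eadb90e2a4f27f0400a090), (nat_lit 0), (nat_lit 0)⟩)) (BT.node (nat_lit 1279) (BT.leaf ⟨(nat_lit 2), (nat_lit 4), (nat_lit 4), (nat_lit 0x1b2a29a878c63b5a4c71b4d1ce7999b), (nat_lit 0), (nat_lit 0)⟩) (BT.leaf ⟨(nat_lit 1), (nat_lit 0), (nat_lit 0), (nat_lit 0x1c1b49dffcd3f19a307cead91ba23d8), (nat_lit 0x1c1b49dffcd3f19a307cead91ba23d8), (nat_lit 0)⟩)))))))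
noncomputable def cP1216 : BT Pf := (BT.node (nat_lit 1248) (BT.node (nat_lit 1232) (BT.node (nat_lit 1224) (BT.node (nat_lit 1220) (BT.node (nat_lit 1218) (BT.node (nat_lit 1217) (BT.leaf (.nmul (nat_lit 449) [(nat_lit 19)])) (BT.leaf (.rel (nat_lit 1024) (nat_lit 0) [(nat_lit 292), (nat_lit 647)] [⟨(nat_lit 997), [(nat_lit 935)], [(nat_lit 429), (nat_lit 1216)]⟩]))) (BT.node (nat_lit 1219) (BT.leaf (.nmul (nat_lit 462) [(nat_lit 43)])) (BT.leaf (.rel (nat_lit 1168) (nat_lit 1) [(nat_lit 1218), (nat_lit 605)] [⟨(nat_lit 732), [(nat_lit 594)], [(nat_lit 296), (nat_lit 347)]⟩])))) (BT.node (nat_lit 1222) (BT.node (nat_lit 1221) (BT.leaf (.inv (nat_lit 1219))) (BT.leaf (.rel (nat_lit 1210) (nat_lit 0) [(nat_lit 281), (nat_lit 972)] [⟨(nat_lit 1022), [(nat_lit 775)], [(nat_lit 1013), (nat_lit 477)]⟩]))) (BT.node (nat_lit 1223) (BT.leaf (.rel (nat_lit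 980) (nat_lit 0) [(nat_lit 991), (nat_lit 279)] [⟨(nat_lit 1040), [(nat_lit 703)], [(nat_lit 990), (nat_lit 596)]⟩])) (BT.leaf (.nmul (nat_lit 1017) [(nat_lit 1)]))))) (BT.node (nat_lit 1228) (BT.node (nat_lit 1226) (BT.node (nat_lit 1225) (BT.leaf (.rel (nat_lit 997) (nat_lit 1) [(nat_lit 1026), (nat_lit 163)] [⟨(nat_lit 1035), [(nat_lit 935)], [(nat_lit 351), (nat_lit 1223)]⟩])) (BT.leaf (.inv (nat_lit 1224)))) (BT.node (nat_lit 1227) (BT.leaf (.nmul (nat_lit 379) [(nat_lit 19)])) (BT.leaf (.rel (nat_lit 912) (nat_lit 0) [(nat_lit 789), (nat_lit 204)] [⟨(nat_lit 1062), [], [(nat_lit 631), (nat_lit 1226)]⟩])))) (BT.node (nat_lit 1230) (BT.node (nat_lit 1229) (BT.leaf (.rel (nat_lit 804) (nat_lit 1) [(nat_lit 1175), (nat_lit 700)] [⟨(nat_lit 1135), [], [(nat_lit 92), (nat_lit 386)]⟩])) (BT.leaf (.inv (nat_lit 1228)))) (BT.node (nat_lit 1231) (BT.leaf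 (.rel (nat_lit 1137) (nat_lit 4) [(nat_lit 285), (nat_lit 1192)] [⟨(nat_lit 1022), [(nat_lit 935)], [(nat_lit 260), (nat_lit 1123)]⟩, ⟨(nat_lit 1186), [(nat_lit 775)], [(nat_lit 582), (nat_lit 490)]⟩])) (BT.leaf (.rel (nat_lit 929) (nat_lit 3) [(nat_lit 587), (nat_lit 795)] [⟨(nat_lit 407), [(nat_lit 329)], [(nat_lit 178), (nat_lit 319)]⟩, ⟨(nat_lit 1054), [(nat_lit 1029)], [(nat_lit 487), (nat_lit 1123)]⟩])))))) (BT.node (nat_lit 1240) (BT.node (nat_lit 1236) (BT.node (nat_lit 1234) (BT.node (nat_lit 1233) (BT.leaf (.inv (nat_lit 1231))) (BT.leaf (.rel (nat_lit 1000) (nat_lit 0) [(nat_lit 152), (nat_lit 472)] [⟨(nat_lit 999), [(nat_lit 1038)], [(nat_lit 284), (nat_lit 399)]⟩]))) (BT.node (nat_lit 1235) (BT.leaf (.inv (nat_lit 1233))) (BT.leaf (.nmul (nat_lit 905) [(nat_lit 43)])))) (BT.node (nat_lit 1238) (BT.node (nat_lit 1237) (BT.leaf (.rel (nat_lit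 515) (nat_lit 1) [(nat_lit 1235), (nat_lit 432)] [⟨(nat_lit 1010), [(nat_lit 650)], [(nat_lit 272), (nat_lit 497)]⟩])) (BT.leaf (.inv (nat_lit 1236)))) (BT.node (nat_lit 1239) (BT.leaf (.rel (nat_lit 1134) (nat_lit 3) [(nat_lit 128), (nat_lit 557)] [⟨(nat_lit 971), [(nat_lit 775)], [(nat_lit 568), (nat_lit 171)]⟩, ⟨(nat_lit 1214), [(nat_lit 775)], [(nat_lit 511), (nat_lit 647)]⟩])) (BT.leaf (.inv (nat_lit 1238)))))) (BT.node (nat_lit 1244) (BT.node (nat_lit 1242) (BT.node (nat_lit 1241) (BT.leaf (.rel (nat_lit 939) (nat_lit 2) [(nat_lit 427), (nat_lit 605)] [⟨(nat_lit 966), [(nat_lit 935)], [(nat_lit 502), (nat_lit 90)]⟩, ⟨(nat_lit 1010), [(nat_lit 1037)], [(nat_lit 470), (nat_lit 835)]⟩])) (BT.leaf (.inv (nat_lit 1240)))) (BT.node (nat_lit 1243) (BT.leaf (.nmul (nat_lit 815) [(nat_lit 43)])) (BT.leaf (.rel (nat_lit 1019) (nat_lit 0) [(nat_lit 1242),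 (nat_lit 752)] [⟨(nat_lit 804), [(nat_lit 750)], [(nat_lit 176), (nat_lit 778)]⟩])))) (BT.node (nat_lit 1246) (BT.node (nat_lit 1245) (BT.leaf (.inv (nat_lit 1243))) (BT.leaf (.rel (nat_lit 1044) (nat_lit 0) [(nat_lit 240), (nat_lit 870)] [⟨(nat_lit 1020), [(nat_lit 937)], [(nat_lit 129), (nat_lit 985)]⟩]))) (BT.node (nat_lit 1247) (BT.leaf (.emul [(nat_lit 112), (nat_lit 547)])) (BT.leaf (.nmul (nat_lit 308) [(nat_lit 19)]))))))) (BT.node (nat_lit 1264) (BT.node (nat_lit 1256) (BT.node (nat_lit 1252) (BT.node (nat_lit 1250) (BT.node (nat_lit 1249) (BT.leaf (.rel (nat_lit 576) (nat_lit 4) [(nat_lit 214), (nat_lit 1)] [⟨(nat_lit 1002), [(nat_lit 1246)], [(nat_lit 447), (nat_lit 222)]⟩, ⟨(nat_lit 1113), [], [(nat_lit 513), (nat_lit 1247)]⟩])) (BT.leaf (.inv (nat_lit 1248)))) (BT.node (nat_lit 1251) (BT.leaf (.rel (nat_lit 1015) (nat_lit 2) [(nat_lit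 747), (nat_lit 556)] [⟨(nat_lit 1057), [(nat_lit 935)], [(nat_lit 781), (nat_lit 1223)]⟩, ⟨(nat_lit 1040), [(nat_lit 668)], [(nat_lit 349), (nat_lit 1)]⟩])) (BT.leaf (.inv (nat_lit 1250))))) (BT.node (nat_lit 1254) (BT.node (nat_lit 1253) (BT.leaf (.rel (nat_lit 1076) (nat_lit 1) [(nat_lit 690), (nat_lit 717)] [⟨(nat_lit 997), [(nat_lit 935)], [(nat_lit 523), (nat_lit 253)]⟩])) (BT.leaf (.inv (nat_lit 1252)))) (BT.node (nat_lit 1255) (BT.leaf (.emul [(nat_lit 626), (nat_lit 841)])) (BT.leaf (.emul [(nat_lit 645), (nat_lit 1254)]))))) (BT.node (nat_lit 1260) (BT.node (nat_lit 1258) (BT.node (nat_lit 1257) (BT.leaf (.nmul (nat_lit 279) [(nat_lit 1)])) (BT.leaf (.nmul (nat_lit 970) [(nat_lit 43)]))) (BT.node (nat_lit 1259) (BT.leaf (.rel (nat_lit 1149) (nat_lit 5) [(nat_lit 237), (nat_lit 372)] [⟨(nat_lit 885), [(nat_lit 1255)], [(nat_lit 165), (nat_lit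 1256)]⟩, ⟨(nat_lit 1016), [], [(nat_lit 1257), (nat_lit 1136)]⟩])) (BT.leaf (.inv (nat_lit 1258))))) (BT.node (nat_lit 1262) (BT.node (nat_lit 1261) (BT.leaf (.rel (nat_lit 1219) (nat_lit 3) [(nat_lit 240), (nat_lit 500)] [⟨(nat_lit 1089), [], [(nat_lit 840), (nat_lit 224)]⟩, ⟨(nat_lit 1191), [], [(nat_lit 428), (nat_lit 465)]⟩])) (BT.leaf (.inv (nat_lit 1260)))) (BT.node (nat_lit 1263) (BT.leaf (.rel (nat_lit 1019) (nat_lit 5) [(nat_lit 299), (nat_lit 681)] [⟨(nat_lit 748), [], [(nat_lit 94), (nat_lit 439)]⟩, ⟨(nat_lit 831), [(nat_lit 496)], [(nat_lit 470), (nat_lit 386)]⟩])) (BT.leaf (.inv (nat_lit 1262))))))) (BT.node (nat_lit 1272) (BT.node (nat_lit 1268) (BT.node (nat_lit 1266) (BT.node (nat_lit 1265) (BT.leaf (.rel (nat_lit 947) (nat_lit 0) [(nat_lit 1102), (nat_lit 361)] [⟨(nat_lit 1251), [], [(nat_lit 208), (nat_lit 270)]⟩])) (BT.leaf (.inv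 (nat_lit 1264)))) (BT.node (nat_lit 1267) (BT.leaf (.rel (nat_lit 1232) (nat_lit 3) [(nat_lit 827), (nat_lit 795)] [⟨(nat_lit 988), [], [(nat_lit 734), (nat_lit 586)]⟩, ⟨(nat_lit 934), [(nat_lit 946)], [(nat_lit 152), (nat_lit 252)]⟩])) (BT.leaf (.inv (nat_lit 1266))))) (BT.node (nat_lit 1270) (BT.node (nat_lit 1269) (BT.leaf (.rel (nat_lit 1207) (nat_lit 1) [(nat_lit 582), (nat_lit 88)] [⟨(nat_lit 1181), [(nat_lit 935)], [(nat_lit 1242), (nat_lit 1091)]⟩])) (BT.leaf (.inv (nat_lit 1268)))) (BT.node (nat_lit 1271) (BT.leaf (.rel (nat_lit 1068) (nat_lit 0) [(nat_lit 618), (nat_lit 956)] [⟨(nat_lit 1202), [], [(nat_lit 1175), (nat_lit 141)]⟩])) (BT.leaf (.inv (nat_lit 1270)))))) (BT.node (nat_lit 1276) (BT.node (nat_lit 1274) (BT.node (nat_lit 1273) (BT.leaf (.rel (nat_lit 1210) (nat_lit 0) [(nat_lit 826), (nat_lit 711)] [⟨(nat_lit 1035), [(nat_lit 775)],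 [(nat_lit 1173), (nat_lit 1009)]⟩])) (BT.leaf (.rel (nat_lit 1144) (nat_lit 2) [(nat_lit 829), (nat_lit 868)] [⟨(nat_lit 890), [(nat_lit 935)], [(nat_lit 631), (nat_lit 162)]⟩, ⟨(nat_lit 1097), [(nat_lit 1046)], [(nat_lit 928), (nat_lit 362)]⟩]))) (BT.node (nat_lit 1275) (BT.leaf (.inv (nat_lit 1273))) (BT.leaf (.rel (nat_lit 1068) (nat_lit 2) [(nat_lit 488), (nat_lit 287)] [⟨(nat_lit 1217), [(nat_lit 775)], [(nat_lit 376), (nat_lit 421)]⟩, ⟨(nat_lit 1161), [], [(nat_lit 1218), (nat_lit 478)]⟩])))) (BT.node (nat_lit 1278) (BT.node (nat_lit 1277) (BT.leaf (.emul [(nat_lit 131), (nat_lit 112)])) (BT.leaf (.emul [(nat_lit 564), (nat_lit 540)]))) (BT.node (nat_lit 1279) (BT.leaf (.emul [(nat_lit 564), (nat_lit 1277)])) (BT.leaf (.nmul (nat_lit 532) [(nat_lit 19)]))))))))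
noncomputable def cF1280 : BT Fc := (BT.node (nat_lit 1312) (BT.node (nat_lit 1296) (BT.node (nat_lit 1288) (BT.node (nat_lit 1284) (BT.node (nat_lit 1282) (BT.node (nat_lit 1281) (BT.leaf ⟨(nat_lit 3), (nat_lit 7), (nat_lit 7), (nat_lit 0x75f77995715c84eeda6cb10f6a5e93), (nat_lit 0xfafc2de0015bf08474e3ba12399018), (nat_lit 0)⟩) (BT.leaf ⟨(nat_lit 3), (nat_lit 7), (nat_lit 7), (nat_lit 0xfafc2de0015bf08474e3ba12399018), (nat_lit 0x75f77995715c84eeda6cb10f6a5e93), (nat_lit 0)⟩)) (BT.node (nat_lit 1283) (BT.leaf ⟨(nat_lit 3), (nat_lit 7), (nat_lit 7), (nat_lit 0xc736a6f5d69c867a2f4ce92ace76e4), (nat_lit 0xe2b49d4bdde354ea43d3aadb11b5d5), (nat_lit 0)⟩) (BT.leaf ⟨(nat_lit 3), (nat_lit 7), (nat_lit 7), (nat_lit 0xe2b49d4bdde354ea43d3aadb11b5d5), (nat_lit 0xc736a6f5d69c867a2f4ce92ace76e4), (nat_lit 0)⟩))) (BT.node (nat_lit 1286) (BT.node (nat_lit 1285) (BT.leaf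 ⟨(nat_lit 2), (nat_lit 2), (nat_lit 2), (nat_lit 0x409f0f8f25a20b7b0123af7a801744), (nat_lit 0), (nat_lit 0)⟩) (BT.leaf ⟨(nat_lit 3), (nat_lit 7), (nat_lit 7), (nat_lit 0x824f100de9d184078d0040055cf3a), (nat_lit 0x18e96973a16ee926cb3ab07cc83e73b), (nat_lit 0)⟩)) (BT.node (nat_lit 1287) (BT.leaf ⟨(nat_lit 3), (nat_lit 7), (nat_lit 7), (nat_lit 0x18e96973a16ee926cb3ab07cc83e73b), (nat_lit 0x824f100de9d184078d0040055cf3a), (nat_lit 0)⟩) (BT.leaf ⟨(nat_lit 3), (nat_lit 7), (nat_lit 7), (nat_lit 0x1d3824018050422f07325628224b00a), (nat_lit 0x280422804726024070df8c203dd674), (nat_lit 0)⟩)))) (BT.node (nat_lit 1292) (BT.node (nat_lit 1290) (BT.node (nat_lit 1289) (BT.leaf ⟨(nat_lit 3), (nat_lit 7), (nat_lit 7), (nat_lit 0x280422804726024070df8c203dd674), (nat_lit 0x1d3824018050422f07325628224b00a), (nat_lit 0)⟩) (BT.leaf ⟨(nat_lit 3), (nat_lit 7), (nat_lit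 7), (nat_lit 0x1f3e33d8d26cd7232aee0dd1ba3dff), (nat_lit 0x15733492bb625bf511af98edc09713f), (nat_lit 0)⟩)) (BT.node (nat_lit 1291) (BT.leaf ⟨(nat_lit 3), (nat_lit 7), (nat_lit 7), (nat_lit 0xaeec1f51570569cb299772db0730b9), (nat_lit 0x40580100b3dfd17190221035680104), (nat_lit 0)⟩) (BT.leaf ⟨(nat_lit 3), (nat_lit 7), (nat_lit 7), (nat_lit 0x40580100b3dfd17190221035680104), (nat_lit 0xaeec1f51570569cb299772db0730b9), (nat_lit 0)⟩))) (BT.node (nat_lit 1294) (BT.node (nat_lit 1293) (BT.leaf ⟨(nat_lit 1), (nat_lit 0), (nat_lit 0), (nat_lit 0x2825f7ad0487d41027fda914f8d030), (nat_lit 0x2825f7ad0487d41027fda914f8d030), (nat_lit 0)⟩) (BT.leaf ⟨(nat_lit 3), (nat_lit 7), (nat_lit 7), (nat_lit 0xe8d663e737982ff1ae37e7df7c84d9), (nat_lit 0xb31d19e37e745fc877d378f0d1b2e3), (nat_lit 0)⟩)) (BT.node (nat_lit 1295) (BT.leaf ⟨(nat_lit 3), (nat_lit 7), (nat_lit 7),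 (nat_lit 0xb31d19e37e745fc877d378f0d1b2e3), (nat_lit 0xe8d663e737982ff1ae37e7df7c84d9), (nat_lit 0)⟩) (BT.leaf ⟨(nat_lit 3), (nat_lit 7), (nat_lit 7), (nat_lit 0x137a3e34bfce897802040ae4401d5), (nat_lit 0x2060092e012f88109d4bd28077a811), (nat_lit 0)⟩))))) (BT.node (nat_lit 1304) (BT.node (nat_lit 1300) (BT.node (nat_lit 1298) (BT.node (nat_lit 1297) (BT.leaf ⟨(nat_lit 3), (nat_lit 7), (nat_lit 7), (nat_lit 0x2060092e012f88109d4bd28077a811), (nat_lit 0x137a3e34bfce897802040ae4401d5), (nat_lit 0)⟩) (BT.leaf ⟨(nat_lit 3), (nat_lit 7), (nat_lit 7), (nat_lit 0xc4f513fed1b74bc7f854cbe75c6d8d), (nat_lit 0x1d0aa3746364d1b49e6966bd1323747), (nat_lit 0)⟩)) (BT.node (nat_lit 1299) (BT.leaf ⟨(nat_lit 3), (nat_lit 7), (nat_lit 7), (nat_lit 0x1e37ce97916fe3346fad19699786dd2), (nat_lit 0xf5739d46d3c2e5201e39e88082fa80), (nat_lit 0)⟩) (BT.leaf ⟨(nat_lit 3), (nat_lit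 7), (nat_lit 7), (nat_lit 0x75f90b8a3ea5551b0facb07461ebd5), (nat_lit 0x9a876ba483cf62d8f7dc4ec4cbb496), (nat_lit 0)⟩))) (BT.node (nat_lit 1302) (BT.node (nat_lit 1301) (BT.leaf ⟨(nat_lit 3), (nat_lit 7), (nat_lit 7), (nat_lit 0x9a876ba483cf62d8f7dc4ec4cbb496), (nat_lit 0x75f90b8a3ea5551b0facb07461ebd5), (nat_lit 0)⟩) (BT.leaf ⟨(nat_lit 3), (nat_lit 4), (nat_lit 7), (nat_lit 0x2012fbe301010097ab9008403a3010), (nat_lit 0x107844480121f1b3a0805be8e6b40c0), (nat_lit 0)⟩)) (BT.node (nat_lit 1303) (BT.leaf ⟨(nat_lit 3), (nat_lit 7), (nat_lit 4), (nat_lit 0x107844480121f1b3a0805be8e6b40c0), (nat_lit 0x2012fbe301010097ab9008403a3010), (nat_lit 0)⟩) (BT.leaf ⟨(nat_lit 3), (nat_lit 7), (nat_lit 7), (nat_lit 0x43c90220eccf0c184bee34092e427f), (nat_lit 0x1259f5a5701842004127091d3958a08), (nat_lit 0)⟩)))) (BT.node (nat_lit 1308) (BT.node (nat_lit 1306) (BT.node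 (nat_lit 1305) (BT.leaf ⟨(nat_lit 2), (nat_lit 4), (nat_lit 4), (nat_lit 0x152ceb955dde744ea236baa6572c1f5), (nat_lit 0), (nat_lit 0)⟩) (BT.leaf ⟨(nat_lit 2), (nat_lit 5), (nat_lit 5), (nat_lit 0x41323140fe8480803b95c60bf46d00), (nat_lit 0), (nat_lit 0)⟩)) (BT.node (nat_lit 1307) (BT.leaf ⟨(nat_lit 2), (nat_lit 5), (nat_lit 5), (nat_lit 0x1e3008801bd201420881042025f125e), (nat_lit 0), (nat_lit 0)⟩) (BT.leaf ⟨(nat_lit 3), (nat_lit 7), (nat_lit 7), (nat_lit 0x11c501002939e3c1140200c1092eabb), (nat_lit 0x1f1b49f0655ccd43e646cd3d1aa30cb), (nat_lit 0)⟩))) (BT.node (nat_lit 1310) (BT.node (nat_lit 1309) (BT.leaf ⟨(nat_lit 1), (nat_lit 0), (nat_lit 0), (nat_lit 0x569d1ca57c582cf1fe346cfcfbef90), (nat_lit 0x569d1ca57c582cf1fe346cfcfbef90), (nat_lit 0)⟩) (BT.leaf ⟨(nat_lit 3), (nat_lit 7), (nat_lit 7), (nat_lit 0xc1125d024009f090225bce3a2471), (nat_lit 0x17b2e47b7ea2abb05ad298f3a2f419b),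 (nat_lit 0)⟩)) (BT.node (nat_lit 1311) (BT.leaf ⟨(nat_lit 3), (nat_lit 7), (nat_lit 7), (nat_lit 0x1f1ba7766d266cb3487c68d296ffbd8), (nat_lit 0xf88ad3a346c6f1e1ae37c6f8652acc), (nat_lit 0)⟩) (BT.leaf ⟨(nat_lit 3), (nat_lit 7), (nat_lit 7), (nat_lit 0x975b87b7715b05afd19c5817d2dadf), (nat_lit 0x1c37c2f894cbe332c7cd197635c6fad), (nat_lit 0)⟩)))))) (BT.node (nat_lit 1328) (BT.node (nat_lit 1320) (BT.node (nat_lit 1316) (BT.node (nat_lit 1314) (BT.node (nat_lit 1313) (BT.leaf ⟨(nat_lit 3), (nat_lit 7), (nat_lit 7), (nat_lit 0x1c37c2f894cbe332c7cd197635c6fad), (nat_lit 0x975b87b7715b05afd19c5817d2dadf), (nat_lit 0)⟩) (BT.leaf ⟨(nat_lit 3), (nat_lit 7), (nat_lit 7), (nat_lit 0x15952efb74ffb052fb70c5893d2f38a), (nat_lit 0x80339a04c00cbd0805fa7563580240), (nat_lit 0)⟩)) (BT.node (nat_lit 1315) (BT.leaf ⟨(nat_lit 3), (nat_lit 7), (nat_lit 7), (nat_lit 0x80339a04c00cbd0805fa7563580240),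 (nat_lit 0x15952efb74ffb052fb70c5893d2f38a), (nat_lit 0)⟩) (BT.leaf ⟨(nat_lit 3), (nat_lit 7), (nat_lit 7), (nat_lit 0x97d27a7fa33b052b8e65bf2ad2f25d), (nat_lit 0x78e373e7a2ed8d71be346c56bc83f3), (nat_lit 0)⟩))) (BT.node (nat_lit 1318) (BT.node (nat_lit 1317) (BT.leaf ⟨(nat_lit 3), (nat_lit 7), (nat_lit 7), (nat_lit 0x78e373e7a2ed8d71be346c56bc83f3), (nat_lit 0x97d27a7fa33b052b8e65bf2ad2f25d), (nat_lit 0)⟩) (BT.leaf ⟨(nat_lit 3), (nat_lit 7), (nat_lit 7), (nat_lit 0xb8e74646d1a411af8d5ae6420a0102), (nat_lit 0x18b23bcf31dacd5ff5a6d94a1da4c7b), (nat_lit 0)⟩)) (BT.node (nat_lit 1319) (BT.leaf ⟨(nat_lit 3), (nat_lit 7), (nat_lit 7), (nat_lit 0x18b23bcf31dacd5ff5a6d94a1da4c7b), (nat_lit 0xb8e74646d1a411af8d5ae6420a0102), (nat_lit 0)⟩) (BT.leaf ⟨(nat_lit 3), (nat_lit 7), (nat_lit 7), (nat_lit 0x42274180ae7a34a01011aad7ffa120), (nat_lit 0x1ccb77b49f741f3bd73e5a55979d71a),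 (nat_lit 0)⟩)))) (BT.node (nat_lit 1324) (BT.node (nat_lit 1322) (BT.node (nat_lit 1321) (BT.leaf ⟨(nat_lit 3), (nat_lit 7), (nat_lit 7), (nat_lit 0x2063912e571ceef48033a8015f16f5), (nat_lit 0xf0e52be36c678e8bbe2c171b9f5cd9), (nat_lit 0)⟩) (BT.leaf ⟨(nat_lit 3), (nat_lit 7), (nat_lit 7), (nat_lit 0xf0e52be36c678e8bbe2c171b9f5cd9), (nat_lit 0x2063912e571ceef48033a8015f16f5), (nat_lit 0)⟩)) (BT.node (nat_lit 1323) (BT.leaf ⟨(nat_lit 3), (nat_lit 7), (nat_lit 7), (nat_lit 0x78c5ce9e401fa1eaa0248017f39b2f), (nat_lit 0x654e89f5e43961eae9346d699c50d5), (nat_lit 0)⟩) (BT.leaf ⟨(nat_lit 2), (nat_lit 3), (nat_lit 3), (nat_lit 0x1b2a3bda68e314e19e2c1db1ce39287), (nat_lit 0), (nat_lit 0)⟩))) (BT.node (nat_lit 1326) (BT.node (nat_lit 1325) (BT.leaf ⟨(nat_lit 3), (nat_lit 7), (nat_lit 7), (nat_lit 0x114e39cf3ab9b2a3919b8e21cc76bfe), (nat_lit 0x1008030034ba208051d704410af5738),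 (nat_lit 0)⟩) (BT.leaf ⟨(nat_lit 3), (nat_lit 7), (nat_lit 7), (nat_lit 0x1008030034ba208051d704410af5738), (nat_lit 0x114e39cf3ab9b2a3919b8e21cc76bfe), (nat_lit 0)⟩)) (BT.node (nat_lit 1327) (BT.leaf ⟨(nat_lit 3), (nat_lit 7), (nat_lit 7), (nat_lit 0x20a0f090501203e32df2aa22040568), (nat_lit 0x914c8a03ea181e1f66b900813fa20), (nat_lit 0)⟩) (BT.leaf ⟨(nat_lit 3), (nat_lit 7), (nat_lit 7), (nat_lit 0x914c8a03ea181e1f66b900813fa20), (nat_lit 0x20a0f090501203e32df2aa22040568), (nat_lit 0)⟩))))) (BT.node (nat_lit 1336) (BT.node (nat_lit 1332) (BT.node (nat_lit 1330) (BT.node (nat_lit 1329) (BT.leaf ⟨(nat_lit 3), (nat_lit 7), (nat_lit 7), (nat_lit 0x10220138d68d08240600821013f1dd5), (nat_lit 0x14be0138d80027b2fe008210119d2f4), (nat_lit 0)⟩) (BT.leaf ⟨(nat_lit 1), (nat_lit 0), (nat_lit 0), (nat_lit 0x4b493d2f65f571b87db25d31c8792f), (nat_lit 0x4b493d2f65f571b87db25d31c8792f),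 (nat_lit 0)⟩)) (BT.node (nat_lit 1331) (BT.leaf ⟨(nat_lit 3), (nat_lit 7), (nat_lit 3), (nat_lit 0x1e35c6e58f3a5e6e958d8dd4d35178c), (nat_lit 0xbe6c1abb5337fe9a2b8173b2a26b96), (nat_lit 0)⟩) (BT.leaf ⟨(nat_lit 3), (nat_lit 3), (nat_lit 7), (nat_lit 0xbe6c1abb5337fe9a2b8173b2a26b96), (nat_lit 0x1e35c6e58f3a5e6e958d8dd4d35178c), (nat_lit 0)⟩))) (BT.node (nat_lit 1334) (BT.node (nat_lit 1333) (BT.leaf ⟨(nat_lit 3), (nat_lit 7), (nat_lit 7), (nat_lit 0xdc017e69fb63eb512cc2564feae396), (nat_lit 0x8829d204400809eab0042090197d46), (nat_lit 0)⟩) (BT.leaf ⟨(nat_lit 3), (nat_lit 7), (nat_lit 7), (nat_lit 0x8829d204400809eab0042090197d46), (nat_lit 0xdc017e69fb63eb512cc2564feae396), (nat_lit 0)⟩)) (BT.node (nat_lit 1335) (BT.leaf ⟨(nat_lit 3), (nat_lit 7), (nat_lit 7), (nat_lit 0x1b2b13ab1a69d46ffeb92b51357ca99), (nat_lit 0x19cd082209e9a7bf420040880940208), (nat_lit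 0)⟩) (BT.leaf ⟨(nat_lit 3), (nat_lit 7), (nat_lit 7), (nat_lit 0x19cd082209e9a7bf420040880940208), (nat_lit 0x1b2b13ab1a69d46ffeb92b51357ca99), (nat_lit 0)⟩)))) (BT.node (nat_lit 1340) (BT.node (nat_lit 1338) (BT.node (nat_lit 1337) (BT.leaf ⟨(nat_lit 3), (nat_lit 7), (nat_lit 7), (nat_lit 0x12795c810041bd00273a003e3404473), (nat_lit 0x1fd3786e4fb7bd2269cedeac737e4ab), (nat_lit 0)⟩) (BT.leaf ⟨(nat_lit 1), (nat_lit 0), (nat_lit 0), (nat_lit 0x3b5d23139352724f6c17b123a4b627), (nat_lit 0x3b5d23139352724f6c17b123a4b627), (nat_lit 0)⟩)) (BT.node (nat_lit 1339) (BT.leaf ⟨(nat_lit 3), (nat_lit 7), (nat_lit 7), (nat_lit 0x210d7cf3ce8208400c0103c356f8a0), (nat_lit 0x151ac6a00408cbe7a05f441a7920202), (nat_lit 0)⟩) (BT.leaf ⟨(nat_lit 3), (nat_lit 7), (nat_lit 7), (nat_lit 0x151ac6a00408cbe7a05f441a7920202), (nat_lit 0x210d7cf3ce8208400c0103c356f8a0), (nat_lit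 0)⟩))) (BT.node (nat_lit 1342) (BT.node (nat_lit 1341) (BT.leaf ⟨(nat_lit 3), (nat_lit 7), (nat_lit 7), (nat_lit 0xf85b1e0b3c7df6372369b2e8df5be3), (nat_lit 0x1ad3786fcce9c877aff4639b928bc4d), (nat_lit 0)⟩) (BT.leaf ⟨(nat_lit 3), (nat_lit 7), (nat_lit 7), (nat_lit 0x1ad3786fcce9c877aff4639b928bc4d), (nat_lit 0xf85b1e0b3c7df6372369b2e8df5be3), (nat_lit 0)⟩)) (BT.node (nat_lit 1343) (BT.leaf ⟨(nat_lit 2), (nat_lit 4), (nat_lit 4), (nat_lit 0x1d4713af9572db226eb95323995c6ca), (nat_lit 0), (nat_lit 0)⟩) (BT.leaf ⟨(nat_lit 2), (nat_lit 4), (nat_lit 4), (nat_lit 0xceb7787cf75cab9f4d95a5855d271a), (nat_lit 0), (nat_lit 0)⟩)))))))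
noncomputable def cP1280 : BT Pf := (BT.node (nat_lit 1312) (BT.node (nat_lit 1296) (BT.node (nat_lit 1288) (BT.node (nat_lit 1284) (BT.node (nat_lit 1282) (BT.node (nat_lit 1281) (BT.leaf (.rel (nat_lit 1003) (nat_lit 3) [(nat_lit 1201), (nat_lit 822)] [⟨(nat_lit 577), [(nat_lit 238), (nat_lit 1276)], [(nat_lit 825), (nat_lit 249)]⟩, ⟨(nat_lit 1249), [(nat_lit 1278)], [(nat_lit 295), (nat_lit 1279)]⟩])) (BT.leaf (.inv (nat_lit 1280)))) (BT.node (nat_lit 1283) (BT.leaf (.rel (nat_lit 1132) (nat_lit 2) [(nat_lit 957), (nat_lit 431)] [⟨(nat_lit 388), [], [(nat_lit 825), (nat_lit 586)]⟩, ⟨(nat_lit 1054), [(nat_lit 927)], [(nat_lit 827), (nat_lit 1141)]⟩])) (BT.leaf (.inv (nat_lit 1282))))) (BT.node (nat_lit 1286) (BT.node (nat_lit 1285) (BT.leaf (.emul [(nat_lit 210), (nat_lit 656)])) (BT.leaf (.rel (nat_lit 1003) (nat_lit 3) [(nat_lit 1099), (nat_lit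 795)] [⟨(nat_lit 577), [(nat_lit 238), (nat_lit 1284)], [(nat_lit 631), (nat_lit 877)]⟩, ⟨(nat_lit 1219), [(nat_lit 558)], [(nat_lit 358), (nat_lit 367)]⟩]))) (BT.node (nat_lit 1287) (BT.leaf (.inv (nat_lit 1285))) (BT.leaf (.rel (nat_lit 929) (nat_lit 1) [(nat_lit 1201), (nat_lit 319)] [⟨(nat_lit 1086), [(nat_lit 863)], [(nat_lit 441), (nat_lit 499)]⟩]))))) (BT.node (nat_lit 1292) (BT.node (nat_lit 1290) (BT.node (nat_lit 1289) (BT.leaf (.inv (nat_lit 1287))) (BT.leaf (.rel (nat_lit 1000) (nat_lit 0) [(nat_lit 832), (nat_lit 676)] [⟨(nat_lit 1086), [(nat_lit 496)], [(nat_lit 282), (nat_lit 390)]⟩]))) (BT.node (nat_lit 1291) (BT.leaf (.rel (nat_lit 890) (nat_lit 3) [(nat_lit 482), (nat_lit 969)] [⟨(nat_lit 994), [(nat_lit 322)], [(nat_lit 298), (nat_lit 563)]⟩, ⟨(nat_lit 1234), [], [(nat_lit 696), (nat_lit 249)]⟩])) (BT.leaf (.inv (nat_lit 1290)))))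 (BT.node (nat_lit 1294) (BT.node (nat_lit 1293) (BT.leaf (.nmul (nat_lit 705) [(nat_lit 43)])) (BT.leaf (.rel (nat_lit 1164) (nat_lit 1) [(nat_lit 826), (nat_lit 647)] [⟨(nat_lit 1015), [], [(nat_lit 1292), (nat_lit 596)]⟩]))) (BT.node (nat_lit 1295) (BT.leaf (.inv (nat_lit 1293))) (BT.leaf (.rel (nat_lit 1220) (nat_lit 1) [(nat_lit 784), (nat_lit 710)] [⟨(nat_lit 780), [(nat_lit 838)], [(nat_lit 630), (nat_lit 396)]⟩])))))) (BT.node (nat_lit 1304) (BT.node (nat_lit 1300) (BT.node (nat_lit 1298) (BT.node (nat_lit 1297) (BT.leaf (.inv (nat_lit 1295))) (BT.leaf (.rel (nat_lit 1236) (nat_lit 2) [(nat_lit 178), (nat_lit 1053)] [⟨(nat_lit 820), [(nat_lit 946)], [(nat_lit 1242), (nat_lit 499)]⟩, ⟨(nat_lit 869), [], [(nat_lit 1041), (nat_lit 1070)]⟩]))) (BT.node (nat_lit 1299) (BT.leaf (.rel (nat_lit 1031) (nat_lit 1) [(nat_lit 352), (nat_lit 585)] [⟨(nat_lit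 1097), [(nat_lit 863)], [(nat_lit 527), (nat_lit 1)]⟩])) (BT.leaf (.rel (nat_lit 819) (nat_lit 0) [(nat_lit 582), (nat_lit 398)] [⟨(nat_lit 1030), [(nat_lit 1008)], [(nat_lit 582), (nat_lit 390)]⟩])))) (BT.node (nat_lit 1302) (BT.node (nat_lit 1301) (BT.leaf (.inv (nat_lit 1299))) (BT.leaf (.rel (nat_lit 1052) (nat_lit 2) [(nat_lit 174), (nat_lit 108)] [⟨(nat_lit 1040), [(nat_lit 443)], [(nat_lit 258), (nat_lit 110)]⟩, ⟨(nat_lit 1260), [(nat_lit 935)], [(nat_lit 422), (nat_lit 253)]⟩]))) (BT.node (nat_lit 1303) (BT.leaf (.inv (nat_lit 1301))) (BT.leaf (.rel (nat_lit 1272) (nat_lit 0) [(nat_lit 256), (nat_lit 163)] [⟨(nat_lit 1275), [(nat_lit 775)], [(nat_lit 764), (nat_lit 681)]⟩]))))) (BT.node (nat_lit 1308) (BT.node (nat_lit 1306) (BT.node (nat_lit 1305) (BT.leaf (.emul [(nat_lit 552), (nat_lit 754)])) (BT.leaf (.emul [(nat_lit 654), (nat_lit 841)])))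 (BT.node (nat_lit 1307) (BT.leaf (.emul [(nat_lit 645), (nat_lit 1305)])) (BT.leaf (.rel (nat_lit 779) (nat_lit 4) [(nat_lit 282), (nat_lit 289)] [⟨(nat_lit 713), [(nat_lit 1304)], [(nat_lit 539), (nat_lit 802)]⟩, ⟨(nat_lit 793), [(nat_lit 1306)], [(nat_lit 284), (nat_lit 596)]⟩])))) (BT.node (nat_lit 1310) (BT.node (nat_lit 1309) (BT.leaf (.nmul (nat_lit 707) [(nat_lit 43)])) (BT.leaf (.rel (nat_lit 890) (nat_lit 2) [(nat_lit 1162), (nat_lit 270)] [⟨(nat_lit 745), [(nat_lit 456)], [(nat_lit 1308), (nat_lit 190)]⟩, ⟨(nat_lit 994), [(nat_lit 1008)], [(nat_lit 1201), (nat_lit 891)]⟩]))) (BT.node (nat_lit 1311) (BT.leaf (.rel (nat_lit 890) (nat_lit 1) [(nat_lit 451), (nat_lit 1043)] [⟨(nat_lit 1051), [(nat_lit 859)], [(nat_lit 629), (nat_lit 874)]⟩])) (BT.leaf (.rel (nat_lit 931) (nat_lit 1) [(nat_lit 569), (nat_lit 808)] [⟨(nat_lit 1054), [(nat_lit 860)],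 [(nat_lit 1189), (nat_lit 385)]⟩]))))))) (BT.node (nat_lit 1328) (BT.node (nat_lit 1320) (BT.node (nat_lit 1316) (BT.node (nat_lit 1314) (BT.node (nat_lit 1313) (BT.leaf (.inv (nat_lit 1311))) (BT.leaf (.rel (nat_lit 1309) (nat_lit 2) [(nat_lit 213), (nat_lit 498)] [⟨(nat_lit 1253), [(nat_lit 775)], [(nat_lit 208), (nat_lit 0)]⟩, ⟨(nat_lit 1048), [(nat_lit 775)], [(nat_lit 406), (nat_lit 982)]⟩]))) (BT.node (nat_lit 1315) (BT.leaf (.inv (nat_lit 1313))) (BT.leaf (.rel (nat_lit 931) (nat_lit 4) [(nat_lit 96), (nat_lit 875)] [⟨(nat_lit 831), [(nat_lit 1046)], [(nat_lit 1099), (nat_lit 821)]⟩, ⟨(nat_lit 1259), [(nat_lit 775)], [(nat_lit 19), (nat_lit 139)]⟩])))) (BT.node (nat_lit 1318) (BT.node (nat_lit 1317) (BT.leaf (.inv (nat_lit 1315))) (BT.leaf (.rel (nat_lit 988) (nat_lit 2) [(nat_lit 538), (nat_lit 982)] [⟨(nat_lit 407), [(nat_lit 678)], [(nat_lit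 513), (nat_lit 504)]⟩, ⟨(nat_lit 1121), [(nat_lit 1028)], [(nat_lit 977), (nat_lit 559)]⟩]))) (BT.node (nat_lit 1319) (BT.leaf (.inv (nat_lit 1317))) (BT.leaf (.rel (nat_lit 1208) (nat_lit 1) [(nat_lit 355), (nat_lit 1)] [⟨(nat_lit 1007), [(nat_lit 935)], [(nat_lit 153), (nat_lit 386)]⟩]))))) (BT.node (nat_lit 1324) (BT.node (nat_lit 1322) (BT.node (nat_lit 1321) (BT.leaf (.rel (nat_lit 1231) (nat_lit 1) [(nat_lit 618), (nat_lit 499)] [⟨(nat_lit 1293), [], [(nat_lit 620), (nat_lit 1165)]⟩])) (BT.leaf (.inv (nat_lit 1320)))) (BT.node (nat_lit 1323) (BT.leaf (.rel (nat_lit 819) (nat_lit 5) [(nat_lit 538), (nat_lit 477)] [⟨(nat_lit 1086), [(nat_lit 456)], [(nat_lit 953), (nat_lit 401)]⟩, ⟨(nat_lit 1299), [(nat_lit 775)], [(nat_lit 1218), (nat_lit 529)]⟩])) (BT.leaf (.emul [(nat_lit 322), (nat_lit 828)])))) (BT.node (nat_lit 1326) (BT.node (nat_lit 1325)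 (BT.leaf (.rel (nat_lit 1132) (nat_lit 0) [(nat_lit 447), (nat_lit 465)] [⟨(nat_lit 889), [(nat_lit 1323)], [(nat_lit 299), (nat_lit 818)]⟩])) (BT.leaf (.inv (nat_lit 1324)))) (BT.node (nat_lit 1327) (BT.leaf (.rel (nat_lit 1274) (nat_lit 2) [(nat_lit 786), (nat_lit 1036)] [⟨(nat_lit 966), [(nat_lit 935)], [(nat_lit 403), (nat_lit 778)]⟩, ⟨(nat_lit 1121), [(nat_lit 1084)], [(nat_lit 373), (nat_lit 557)]⟩])) (BT.leaf (.inv (nat_lit 1326))))))) (BT.node (nat_lit 1336) (BT.node (nat_lit 1332) (BT.node (nat_lit 1330) (BT.node (nat_lit 1329) (BT.leaf (.rel (nat_lit 978) (nat_lit 0) [(nat_lit 280), (nat_lit 163)] [⟨(nat_lit 930), [(nat_lit 678)], [(nat_lit 321), (nat_lit 140)]⟩])) (BT.leaf (.nmul (nat_lit 107) [(nat_lit 43)]))) (BT.node (nat_lit 1331) (BT.leaf (.rel (nat_lit 804) (nat_lit 0) [(nat_lit 761), (nat_lit 1141)] [⟨(nat_lit 1066), [], [(nat_lit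 487), (nat_lit 1329)]⟩])) (BT.leaf (.inv (nat_lit 1330))))) (BT.node (nat_lit 1334) (BT.node (nat_lit 1333) (BT.leaf (.rel (nat_lit 933) (nat_lit 0) [(nat_lit 675), (nat_lit 347)] [⟨(nat_lit 1045), [(nat_lit 437)], [(nat_lit 865), (nat_lit 334)]⟩])) (BT.leaf (.inv (nat_lit 1332)))) (BT.node (nat_lit 1335) (BT.leaf (.rel (nat_lit 1052) (nat_lit 4) [(nat_lit 1235), (nat_lit 308)] [⟨(nat_lit 1010), [(nat_lit 457)], [(nat_lit 129), (nat_lit 1226)]⟩, ⟨(nat_lit 836), [(nat_lit 775)], [(nat_lit 128), (nat_lit 140)]⟩])) (BT.leaf (.inv (nat_lit 1334)))))) (BT.node (nat_lit 1340) (BT.node (nat_lit 1338) (BT.node (nat_lit 1337) (BT.leaf (.rel (nat_lit 1119) (nat_lit 2) [(nat_lit 299), (nat_lit 108)] [⟨(nat_lit 879), [], [(nat_lit 380), (nat_lit 1165)]⟩, ⟨(nat_lit 1119), [], [(nat_lit 1174), (nat_lit 107)]⟩])) (BT.leaf (.nmul (nat_lit 447) [(nat_lit 19)]))) (BT.node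 (nat_lit 1339) (BT.leaf (.rel (nat_lit 819) (nat_lit 1) [(nat_lit 1337), (nat_lit 1123)] [⟨(nat_lit 932), [(nat_lit 1046)], [(nat_lit 618), (nat_lit 1279)]⟩])) (BT.leaf (.inv (nat_lit 1338))))) (BT.node (nat_lit 1342) (BT.node (nat_lit 1341) (BT.leaf (.rel (nat_lit 1233) (nat_lit 0) [(nat_lit 153), (nat_lit 384)] [⟨(nat_lit 1212), [(nat_lit 935)], [(nat_lit 387), (nat_lit 307)]⟩])) (BT.leaf (.inv (nat_lit 1340)))) (BT.node (nat_lit 1343) (BT.leaf (.emul [(nat_lit 564), (nat_lit 545)])) (BT.leaf (.emul [(nat_lit 552), (nat_lit 1342)]))))))))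
noncomputable def cF1344 : BT Fc := (BT.node (nat_lit 1376) (BT.node (nat_lit 1360) (BT.node (nat_lit 1352) (BT.node (nat_lit 1348) (BT.node (nat_lit 1346) (BT.node (nat_lit 1345) (BT.leaf ⟨(nat_lit 2), (nat_lit 4), (nat_lit 4), (nat_lit 0x145f724abd69fd37e6f65e9bd390b1c), (nat_lit 0), (nat_lit 0)⟩) (BT.leaf ⟨(nat_lit 2), (nat_lit 4), (nat_lit 4), (nat_lit 0x9a876c9cd3d2fa6f62793d27dd249a), (nat_lit 0), (nat_lit 0)⟩)) (BT.node (nat_lit 1347) (BT.leaf ⟨(nat_lit 3), (nat_lit 7), (nat_lit 7), (nat_lit 0x1bd500a5e043cefc64723a804440809), (nat_lit 0x182e52acc7e6f85f5fe37cee8df19e3), (nat_lit 0)⟩) (BT.leaf ⟨(nat_lit 3), (nat_lit 7), (nat_lit 7), (nat_lit 0x182e52acc7e6f85f5fe37cee8df19e3), (nat_lit 0x1bd500a5e043cefc64723a804440809), (nat_lit 0)⟩))) (BT.node (nat_lit 1350) (BT.node (nat_lit 1349) (BT.leaf ⟨(nat_lit 1), (nat_lit 0), (nat_lit 0), (nat_lit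 0x1003c692f4be0239d010080012f42b9), (nat_lit 0x1003c692f4be0239d010080012f42b9), (nat_lit 0)⟩) (BT.leaf ⟨(nat_lit 3), (nat_lit 7), (nat_lit 7), (nat_lit 0x1103bd3a3f9a180221950909002016f), (nat_lit 0x12f9d249cd3d27a6f77d4d589e4741e), (nat_lit 0)⟩)) (BT.node (nat_lit 1351) (BT.leaf ⟨(nat_lit 3), (nat_lit 7), (nat_lit 7), (nat_lit 0x12f9d249cd3d27a6f77d4d589e4741e), (nat_lit 0x1103bd3a3f9a180221950909002016f), (nat_lit 0)⟩) (BT.leaf ⟨(nat_lit 3), (nat_lit 7), (nat_lit 7), (nat_lit 0x1a3589f8ff0b1b85bfadf19f34bcb8d), (nat_lit 0x189d5ca99552ac4735835f256ba8d34), (nat_lit 0)⟩)))) (BT.node (nat_lit 1356) (BT.node (nat_lit 1354) (BT.node (nat_lit 1353) (BT.leaf ⟨(nat_lit 3), (nat_lit 7), (nat_lit 7), (nat_lit 0x189d5ca99552ac4735835f256ba8d34), (nat_lit 0x1a3589f8ff0b1b85bfadf19f34bcb8d), (nat_lit 0)⟩) (BT.leaf ⟨(nat_lit 3), (nat_lit 7), (nat_lit 7), (nat_lit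 0x18eb9dd65693cc99d5837493645bf7a), (nat_lit 0x4b8d7b9665f9a5b82ccb635708782f), (nat_lit 0)⟩)) (BT.node (nat_lit 1355) (BT.leaf ⟨(nat_lit 3), (nat_lit 7), (nat_lit 7), (nat_lit 0x4b8d7b9665f9a5b82ccb635708782f), (nat_lit 0x18eb9dd65693cc99d5837493645bf7a), (nat_lit 0)⟩) (BT.leaf ⟨(nat_lit 3), (nat_lit 7), (nat_lit 7), (nat_lit 0x19cea3210d3c2e52058d400a03f453a), (nat_lit 0x1df5b1ae3fc66f1f1ba37c278d66517), (nat_lit 0)⟩))) (BT.node (nat_lit 1358) (BT.node (nat_lit 1357) (BT.leaf ⟨(nat_lit 3), (nat_lit 7), (nat_lit 7), (nat_lit 0x1df5b1ae3fc66f1f1ba37c278d66517), (nat_lit 0x19cea3210d3c2e52058d400a03f453a), (nat_lit 0)⟩) (BT.leaf ⟨(nat_lit 3), (nat_lit 7), (nat_lit 7), (nat_lit 0x5e655d17debf6f726f04d4c737b6f4), (nat_lit 0x754200042000239d0108017a0016f4), (nat_lit 0)⟩)) (BT.node (nat_lit 1359) (BT.leaf ⟨(nat_lit 3), (nat_lit 7), (nat_lit 7), (nat_lit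 0x754200042000239d0108017a0016f4), (nat_lit 0x5e655d17debf6f726f04d4c737b6f4), (nat_lit 0)⟩) (BT.leaf ⟨(nat_lit 3), (nat_lit 5), (nat_lit 7), (nat_lit 0xe930afba16f4e99d6efb07cef9c73a), (nat_lit 0x82180280c00f574f2013c680900546), (nat_lit 0)⟩))))) (BT.node (nat_lit 1368) (BT.node (nat_lit 1364) (BT.node (nat_lit 1362) (BT.node (nat_lit 1361) (BT.leaf ⟨(nat_lit 3), (nat_lit 7), (nat_lit 5), (nat_lit 0x82180280c00f574f2013c680900546), (nat_lit 0xe930afba16f4e99d6efb07cef9c73a), (nat_lit 0)⟩) (BT.leaf ⟨(nat_lit 3), (nat_lit 7), (nat_lit 7), (nat_lit 0x1d58181c5022fcc0a01049f0408848e), (nat_lit 0x15a11c8c083d9d0421af101203dd70d), (nat_lit 0)⟩)) (BT.node (nat_lit 1363) (BT.leaf ⟨(nat_lit 3), (nat_lit 7), (nat_lit 7), (nat_lit 0x15a11c8c083d9d0421af101203dd70d), (nat_lit 0x1d58181c5022fcc0a01049f0408848e), (nat_lit 0)⟩) (BT.leaf ⟨(nat_lit 2), (nat_lit 4),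 (nat_lit 4), (nat_lit 0x1d0b9f12b00de25020847cf1dc0a25b), (nat_lit 0), (nat_lit 0)⟩))) (BT.node (nat_lit 1366) (BT.node (nat_lit 1365) (BT.leaf ⟨(nat_lit 2), (nat_lit 4), (nat_lit 4), (nat_lit 0x240d795547260044568ce9f1a79882), (nat_lit 0), (nat_lit 0)⟩) (BT.leaf ⟨(nat_lit 3), (nat_lit 7), (nat_lit 7), (nat_lit 0xfac04c080191eef02571100a084008), (nat_lit 0x1e35c6f8ca6974be6bfef3b963c7c6e), (nat_lit 0)⟩)) (BT.node (nat_lit 1367) (BT.leaf ⟨(nat_lit 3), (nat_lit 7), (nat_lit 7), (nat_lit 0xdc2e96c14bc96cde25d4af465c535f), (nat_lit 0x1268225ece7cf9c8200cde04ae3b806), (nat_lit 0)⟩) (BT.leaf ⟨(nat_lit 3), (nat_lit 7), (nat_lit 7), (nat_lit 0x1268225ece7cf9c8200cde04ae3b806), (nat_lit 0xdc2e96c14bc96cde25d4af465c535f), (nat_lit 0)⟩)))) (BT.node (nat_lit 1372) (BT.node (nat_lit 1370) (BT.node (nat_lit 1369) (BT.leaf ⟨(nat_lit 3), (nat_lit 7), (nat_lit 7),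 (nat_lit 0x1678905732085006a82fc7540346910), (nat_lit 0xa24b6fc01049e040487d677404f4e), (nat_lit 0)⟩) (BT.leaf ⟨(nat_lit 1), (nat_lit 0), (nat_lit 0), (nat_lit 0x1e172c3fed1b74bcefcda682dc65ea2), (nat_lit 0x1e172c3fed1b74bcefcda682dc65ea2), (nat_lit 0)⟩)) (BT.node (nat_lit 1371) (BT.leaf ⟨(nat_lit 3), (nat_lit 7), (nat_lit 7), (nat_lit 0xb330a8fab626bc973962dedc3edd2f), (nat_lit 0xd2ebe101400af573840420896c71), (nat_lit 0)⟩) (BT.leaf ⟨(nat_lit 3), (nat_lit 7), (nat_lit 7), (nat_lit 0x16c74f1769bcc4fbecbe93552c4f3d8), (nat_lit 0x2dfd6bfe8dde77868cbba5634bce58), (nat_lit 0)⟩))) (BT.node (nat_lit 1374) (BT.node (nat_lit 1373) (BT.leaf ⟨(nat_lit 3), (nat_lit 7), (nat_lit 7), (nat_lit 0x2dfd6bfe8dde77868cbba5634bce58), (nat_lit 0x16c74f1769bcc4fbecbe93552c4f3d8), (nat_lit 0)⟩) (BT.leaf ⟨(nat_lit 3), (nat_lit 7), (nat_lit 7), (nat_lit 0x399afe5fc58dc255a5fa3293cde6c1),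 (nat_lit 0x5031d102b3c442743b924191880d00), (nat_lit 0)⟩)) (BT.node (nat_lit 1375) (BT.leaf ⟨(nat_lit 3), (nat_lit 7), (nat_lit 7), (nat_lit 0x5031d102b3c442743b924191880d00), (nat_lit 0x399afe5fc58dc255a5fa3293cde6c1), (nat_lit 0)⟩) (BT.leaf ⟨(nat_lit 1), (nat_lit 0), (nat_lit 0), (nat_lit 0x4954bf3dc9ca8181c50a084231df8), (nat_lit 0x4954bf3dc9ca8181c50a084231df8), (nat_lit 0)⟩)))))) (BT.node (nat_lit 1392) (BT.node (nat_lit 1384) (BT.node (nat_lit 1380) (BT.node (nat_lit 1378) (BT.node (nat_lit 1377) (BT.leaf ⟨(nat_lit 1), (nat_lit 0), (nat_lit 0), (nat_lit 0x745eaeefb4c6546a955a96e28ea9d4), (nat_lit 0x745eaeefb4c6546a955a96e28ea9d4), (nat_lit 0)⟩) (BT.leaf ⟨(nat_lit 3), (nat_lit 7), (nat_lit 7), (nat_lit 0x11c77b1024057a8010420444b40300a), (nat_lit 0x18010424057ab7b1027c202a3892d), (nat_lit 0)⟩)) (BT.node (nat_lit 1379) (BT.leaf ⟨(nat_lit 3), (nat_lit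 7), (nat_lit 7), (nat_lit 0x182fdb976bd17e18e2653370f6e45ec), (nat_lit 0x1d12a3746a33d5b4987c7b19a59aaae), (nat_lit 0)⟩) (BT.leaf ⟨(nat_lit 3), (nat_lit 7), (nat_lit 7), (nat_lit 0x1d12a3746a33d5b4987c7b19a59aaae), (nat_lit 0x182fdb976bd17e18e2653370f6e45ec), (nat_lit 0)⟩))) (BT.node (nat_lit 1382) (BT.node (nat_lit 1381) (BT.leaf ⟨(nat_lit 3), (nat_lit 7), (nat_lit 7), (nat_lit 0xf63e3706e8fd09a3693eac6c957744), (nat_lit 0x1c351c882101ee96f89083c301b1d68), (nat_lit 0)⟩) (BT.leaf ⟨(nat_lit 3), (nat_lit 7), (nat_lit 7), (nat_lit 0x1c351c882101ee96f89083c301b1d68), (nat_lit 0xf63e3706e8fd09a3693eac6c957744), (nat_lit 0)⟩)) (BT.node (nat_lit 1383) (BT.leaf ⟨(nat_lit 3), (nat_lit 7), (nat_lit 7), (nat_lit 0x87f60d19f6e95d2fb700be97ab2a5d), (nat_lit 0xae50012f80000a3980800810000a5f), (nat_lit 0)⟩) (BT.leaf ⟨(nat_lit 3), (nat_lit 7), (nat_lit 7), (nat_lit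 0xae50012f80000a3980800810000a5f), (nat_lit 0x87f60d19f6e95d2fb700be97ab2a5d), (nat_lit 0)⟩)))) (BT.node (nat_lit 1388) (BT.node (nat_lit 1386) (BT.node (nat_lit 1385) (BT.leaf ⟨(nat_lit 3), (nat_lit 7), (nat_lit 7), (nat_lit 0xfad663c39b25691b2e38dcf84de4a5), (nat_lit 0x756ea9d738a777908fa3a87d749995), (nat_lit 0)⟩) (BT.leaf ⟨(nat_lit 3), (nat_lit 7), (nat_lit 7), (nat_lit 0x756ea9d738a777908fa3a87d749995), (nat_lit 0xfad663c39b25691b2e38dcf84de4a5), (nat_lit 0)⟩)) (BT.node (nat_lit 1387) (BT.leaf ⟨(nat_lit 2), (nat_lit 2), (nat_lit 2), (nat_lit 0x864fa5e013bd440de980204402ab8), (nat_lit 0), (nat_lit 0)⟩) (BT.leaf ⟨(nat_lit 2), (nat_lit 5), (nat_lit 5), (nat_lit 0x87b3028da87d487c5397dc6890060), (nat_lit 0), (nat_lit 0)⟩))) (BT.node (nat_lit 1390) (BT.node (nat_lit 1389) (BT.leaf ⟨(nat_lit 3), (nat_lit 7), (nat_lit 2), (nat_lit 0x9fd27dd2f6ee2ab2a5d4bd8b12dec1),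 (nat_lit 0x996e47519d17a2f4fb7bc15a157176), (nat_lit 0)⟩) (BT.leaf ⟨(nat_lit 3), (nat_lit 2), (nat_lit 7), (nat_lit 0x996e47519d17a2f4fb7bc15a157176), (nat_lit 0x9fd27dd2f6ee2ab2a5d4bd8b12dec1), (nat_lit 0)⟩)) (BT.node (nat_lit 1391) (BT.leaf ⟨(nat_lit 2), (nat_lit 3), (nat_lit 3), (nat_lit 0xae5001000020802025f93d1cc01080), (nat_lit 0), (nat_lit 0)⟩) (BT.leaf ⟨(nat_lit 3), (nat_lit 7), (nat_lit 7), (nat_lit 0x11cf9d6f4e8d7a000ab9010400403e3), (nat_lit 0x207e3180ce82416fcf3f75c351c884), (nat_lit 0)⟩))))) (BT.node (nat_lit 1400) (BT.node (nat_lit 1396) (BT.node (nat_lit 1394) (BT.node (nat_lit 1393) (BT.leaf ⟨(nat_lit 3), (nat_lit 7), (nat_lit 7), (nat_lit 0x207e3180ce82416fcf3f75c351c884), (nat_lit 0x11cf9d6f4e8d7a000ab9010400403e3), (nat_lit 0)⟩) (BT.leaf ⟨(nat_lit 2), (nat_lit 4), (nat_lit 4), (nat_lit 0x7507d5a63a3a4e1ed4b2abbbf908d5), (nat_lit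 0), (nat_lit 0)⟩)) (BT.node (nat_lit 1395) (BT.leaf ⟨(nat_lit 2), (nat_lit 4), (nat_lit 4), (nat_lit 0x12380803003093e081c50a1b900a210), (nat_lit 0), (nat_lit 0)⟩) (BT.leaf ⟨(nat_lit 3), (nat_lit 7), (nat_lit 7), (nat_lit 0x3e91b155cb075f90dd53a90f5ea9dd), (nat_lit 0x1296ffd1955c1f3b3669e9c6caa3756), (nat_lit 0)⟩))) (BT.node (nat_lit 1398) (BT.node (nat_lit 1397) (BT.leaf ⟨(nat_lit 3), (nat_lit 7), (nat_lit 7), (nat_lit 0x1296ffd1955c1f3b3669e9c6caa3756), (nat_lit 0x3e91b155cb075f90dd53a90f5ea9dd), (nat_lit 0)⟩) (BT.leaf ⟨(nat_lit 3), (nat_lit 7), (nat_lit 7), (nat_lit 0x93d2f2dfba496c2fb8aa3239b2fb5f), (nat_lit 0x43c9596f6e03e9cb7dbc2b4bed892e), (nat_lit 0)⟩)) (BT.node (nat_lit 1399) (BT.leaf ⟨(nat_lit 3), (nat_lit 7), (nat_lit 7), (nat_lit 0x43c9596f6e03e9cb7dbc2b4bed892e), (nat_lit 0x93d2f2dfba496c2fb8aa3239b2fb5f), (nat_lit 0)⟩) (BT.leaf ⟨(nat_lit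 3), (nat_lit 7), (nat_lit 7), (nat_lit 0xb8fbebe77c2f8a8bf907e6f0e3760b), (nat_lit 0x180b78444803035a433880503e6da8), (nat_lit 0)⟩)))) (BT.node (nat_lit 1404) (BT.node (nat_lit 1402) (BT.node (nat_lit 1401) (BT.leaf ⟨(nat_lit 3), (nat_lit 7), (nat_lit 7), (nat_lit 0x11def673e7ce4ac8200410896ce8f89), (nat_lit 0xc70f4751bd8aba1edf8bc17a2745e9), (nat_lit 0)⟩) (BT.leaf ⟨(nat_lit 3), (nat_lit 7), (nat_lit 7), (nat_lit 0xc70f4751bd8aba1edf8bc17a2745e9), (nat_lit 0x11def673e7ce4ac8200410896ce8f89), (nat_lit 0)⟩)) (BT.node (nat_lit 1403) (BT.leaf ⟨(nat_lit 2), (nat_lit 4), (nat_lit 4), (nat_lit 0x1022005d5a014be1040471b006406b9), (nat_lit 0), (nat_lit 0)⟩) (BT.leaf ⟨(nat_lit 2), (nat_lit 5), (nat_lit 5), (nat_lit 0x12f818028b904813f8a0042080fa860), (nat_lit 0), (nat_lit 0)⟩))) (BT.node (nat_lit 1406) (BT.node (nat_lit 1405) (BT.leaf ⟨(nat_lit 3), (nat_lit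 7), (nat_lit 7), (nat_lit 0x1f3e374ee0d467a3b35365d12ffe46), (nat_lit 0xae64f0204bef8fa31d502002002040), (nat_lit 0)⟩) (BT.leaf ⟨(nat_lit 3), (nat_lit 7), (nat_lit 7), (nat_lit 0xae64f0204bef8fa31d502002002040), (nat_lit 0x1f3e374ee0d467a3b35365d12ffe46), (nat_lit 0)⟩)) (BT.node (nat_lit 1407) (BT.leaf ⟨(nat_lit 3), (nat_lit 7), (nat_lit 7), (nat_lit 0x223a72088f7cc806257031bf0045e0), (nat_lit 0xd1ba75ff19746557706d26cd734bd8), (nat_lit 0)⟩) (BT.leaf ⟨(nat_lit 3), (nat_lit 7), (nat_lit 7), (nat_lit 0xd1ba75ff19746557706d26cd734bd8), (nat_lit 0x223a72088f7cc806257031bf0045e0), (nat_lit 0)⟩)))))))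
noncomputable def cP1344 : BT Pf := (BT.node (nat_lit 1376) (BT.node (nat_lit 1360) (BT.node (nat_lit 1352) (BT.node (nat_lit 1348) (BT.node (nat_lit 1346) (BT.node (nat_lit 1345) (BT.leaf (.emul [(nat_lit 552), (nat_lit 1343)])) (BT.leaf (.emul [(nat_lit 564), (nat_lit 1344)]))) (BT.node (nat_lit 1347) (BT.leaf (.rel (nat_lit 1125) (nat_lit 5) [(nat_lit 629), (nat_lit 1018)] [⟨(nat_lit 1033), [], [(nat_lit 653), (nat_lit 821)]⟩, ⟨(nat_lit 1261), [(nat_lit 1345)], [(nat_lit 914), (nat_lit 491)]⟩])) (BT.leaf (.inv (nat_lit 1346))))) (BT.node (nat_lit 1350) (BT.node (nat_lit 1349) (BT.leaf (.nmul (nat_lit 822) [(nat_lit 1)])) (BT.leaf (.rel (nat_lit 852) (nat_lit 0) [(nat_lit 690), (nat_lit 140)] [⟨(nat_lit 1058), [(nat_lit 496)], [(nat_lit 129), (nat_lit 1348)]⟩]))) (BT.node (nat_lit 1351) (BT.leaf (.inv (nat_lit 1349))) (BT.leaf (.rel (nat_lit 1220)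 (nat_lit 3) [(nat_lit 673), (nat_lit 426)] [⟨(nat_lit 1301), [(nat_lit 1345)], [(nat_lit 544), (nat_lit 379)]⟩, ⟨(nat_lit 1233), [(nat_lit 775)], [(nat_lit 446), (nat_lit 421)]⟩]))))) (BT.node (nat_lit 1356) (BT.node (nat_lit 1354) (BT.node (nat_lit 1353) (BT.leaf (.inv (nat_lit 1351))) (BT.leaf (.rel (nat_lit 907) (nat_lit 0) [(nat_lit 380), (nat_lit 141)] [⟨(nat_lit 1240), [(nat_lit 935)], [(nat_lit 381), (nat_lit 1203)]⟩]))) (BT.node (nat_lit 1355) (BT.leaf (.inv (nat_lit 1353))) (BT.leaf (.rel (nat_lit 983) (nat_lit 0) [(nat_lit 1195), (nat_lit 124)] [⟨(nat_lit 912), [(nat_lit 935)], [(nat_lit 376), (nat_lit 1018)]⟩])))) (BT.node (nat_lit 1358) (BT.node (nat_lit 1357) (BT.leaf (.inv (nat_lit 1355))) (BT.leaf (.rel (nat_lit 903) (nat_lit 2) [(nat_lit 111), (nat_lit 627)] [⟨(nat_lit 1288), [(nat_lit 775)], [(nat_lit 381), (nat_lit 362)]⟩, ⟨(nat_lit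 1072), [], [(nat_lit 292), (nat_lit 875)]⟩]))) (BT.node (nat_lit 1359) (BT.leaf (.inv (nat_lit 1357))) (BT.leaf (.rel (nat_lit 1253) (nat_lit 2) [(nat_lit 359), (nat_lit 717)] [⟨(nat_lit 998), [(nat_lit 775)], [(nat_lit 522), (nat_lit 401)]⟩, ⟨(nat_lit 1194), [], [(nat_lit 1175), (nat_lit 681)]⟩])))))) (BT.node (nat_lit 1368) (BT.node (nat_lit 1364) (BT.node (nat_lit 1362) (BT.node (nat_lit 1361) (BT.leaf (.inv (nat_lit 1359))) (BT.leaf (.rel (nat_lit 1006) (nat_lit 1) [(nat_lit 492), (nat_lit 449)] [⟨(nat_lit 1298), [(nat_lit 935)], [(nat_lit 1056), (nat_lit 762)]⟩]))) (BT.node (nat_lit 1363) (BT.leaf (.inv (nat_lit 1361))) (BT.leaf (.emul [(nat_lit 540), (nat_lit 564)])))) (BT.node (nat_lit 1366) (BT.node (nat_lit 1365) (BT.leaf (.emul [(nat_lit 564), (nat_lit 1363)])) (BT.leaf (.rel (nat_lit 1003) (nat_lit 2) [(nat_lit 620), (nat_lit 108)] [⟨(nat_lit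 577), [(nat_lit 143)], [(nat_lit 905), (nat_lit 110)]⟩, ⟨(nat_lit 873), [(nat_lit 1364)], [(nat_lit 207), (nat_lit 108)]⟩]))) (BT.node (nat_lit 1367) (BT.leaf (.rel (nat_lit 1351) (nat_lit 1) [(nat_lit 393), (nat_lit 530)] [⟨(nat_lit 1135), [(nat_lit 935)], [(nat_lit 92), (nat_lit 1141)]⟩])) (BT.leaf (.inv (nat_lit 1366)))))) (BT.node (nat_lit 1372) (BT.node (nat_lit 1370) (BT.node (nat_lit 1369) (BT.leaf (.rel (nat_lit 1303) (nat_lit 0) [(nat_lit 871), (nat_lit 400)] [⟨(nat_lit 1035), [], [(nat_lit 550), (nat_lit 968)]⟩])) (BT.leaf (.nmul (nat_lit 1329) [(nat_lit 19)]))) (BT.node (nat_lit 1371) (BT.leaf (.rel (nat_lit 1127) (nat_lit 1) [(nat_lit 1235), (nat_lit 1369)] [⟨(nat_lit 1005), [], [(nat_lit 357), (nat_lit 263)]⟩])) (BT.leaf (.rel (nat_lit 1182) (nat_lit 4) [(nat_lit 96), (nat_lit 651)] [⟨(nat_lit 388), [(nat_lit 528)], [(nat_lit 1087), (nat_lit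 936)]⟩, ⟨(nat_lit 804), [(nat_lit 926)], [(nat_lit 364), (nat_lit 682)]⟩])))) (BT.node (nat_lit 1374) (BT.node (nat_lit 1373) (BT.leaf (.inv (nat_lit 1371))) (BT.leaf (.rel (nat_lit 1370) (nat_lit 0) [(nat_lit 953), (nat_lit 1216)] [⟨(nat_lit 1267), [(nat_lit 775)], [(nat_lit 167), (nat_lit 1070)]⟩]))) (BT.node (nat_lit 1375) (BT.leaf (.inv (nat_lit 1373))) (BT.leaf (.nmul (nat_lit 1070) [(nat_lit 43)]))))))) (BT.node (nat_lit 1392) (BT.node (nat_lit 1384) (BT.node (nat_lit 1380) (BT.node (nat_lit 1378) (BT.node (nat_lit 1377) (BT.leaf (.nmul (nat_lit 1247) [(nat_lit 1)])) (BT.leaf (.rel (nat_lit 1288) (nat_lit 1) [(nat_lit 446), (nat_lit 1375)] [⟨(nat_lit 1231), [(nat_lit 775)], [(nat_lit 391), (nat_lit 1376)]⟩]))) (BT.node (nat_lit 1379) (BT.leaf (.rel (nat_lit 1048) (nat_lit 3) [(nat_lit 905), (nat_lit 169)] [⟨(nat_lit 1259), [], [(nat_lit 196),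 (nat_lit 1070)]⟩, ⟨(nat_lit 1288), [(nat_lit 775)], [(nat_lit 915), (nat_lit 968)]⟩])) (BT.leaf (.inv (nat_lit 1378))))) (BT.node (nat_lit 1382) (BT.node (nat_lit 1381) (BT.leaf (.rel (nat_lit 1214) (nat_lit 0) [(nat_lit 423), (nat_lit 1017)] [⟨(nat_lit 1143), [], [(nat_lit 97), (nat_lit 651)]⟩])) (BT.leaf (.inv (nat_lit 1380)))) (BT.node (nat_lit 1383) (BT.leaf (.rel (nat_lit 984) (nat_lit 4) [(nat_lit 422), (nat_lit 172)] [⟨(nat_lit 1346), [(nat_lit 775)], [(nat_lit 423), (nat_lit 308)]⟩, ⟨(nat_lit 912), [(nat_lit 935)], [(nat_lit 827), (nat_lit 400)]⟩])) (BT.leaf (.inv (nat_lit 1382)))))) (BT.node (nat_lit 1388) (BT.node (nat_lit 1386) (BT.node (nat_lit 1385) (BT.leaf (.rel (nat_lit 1074) (nat_lit 2) [(nat_lit 970), (nat_lit 1203)] [⟨(nat_lit 1182), [(nat_lit 775)], [(nat_lit 292), (nat_lit 628)]⟩, ⟨(nat_lit 1051), [(nat_lit 679)], [(nat_lit 550),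 (nat_lit 395)]⟩])) (BT.leaf (.inv (nat_lit 1384)))) (BT.node (nat_lit 1387) (BT.leaf (.emul [(nat_lit 168), (nat_lit 546)])) (BT.leaf (.emul [(nat_lit 654), (nat_lit 806)])))) (BT.node (nat_lit 1390) (BT.node (nat_lit 1389) (BT.leaf (.rel (nat_lit 251) (nat_lit 2) [(nat_lit 462), (nat_lit 400)] [⟨(nat_lit 589), [(nat_lit 1386)], [(nat_lit 815), (nat_lit 506)]⟩, ⟨(nat_lit 1150), [(nat_lit 1387)], [(nat_lit 376), (nat_lit 533)]⟩])) (BT.leaf (.inv (nat_lit 1388)))) (BT.node (nat_lit 1391) (BT.leaf (.emul [(nat_lit 322), (nat_lit 816)])) (BT.leaf (.rel (nat_lit 1039) (nat_lit 1) [(nat_lit 402), (nat_lit 563)] [⟨(nat_lit 989), [(nat_lit 1390)], [(nat_lit 1162), (nat_lit 892)]⟩])))))) (BT.node (nat_lit 1400) (BT.node (nat_lit 1396) (BT.node (nat_lit 1394) (BT.node (nat_lit 1393) (BT.leaf (.inv (nat_lit 1391))) (BT.leaf (.emul [(nat_lit 564), (nat_lit 1049)])))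 (BT.node (nat_lit 1395) (BT.leaf (.emul [(nat_lit 552), (nat_lit 1393)])) (BT.leaf (.rel (nat_lit 872) (nat_lit 0) [(nat_lit 977), (nat_lit 874)] [⟨(nat_lit 1301), [(nat_lit 1394)], [(nat_lit 357), (nat_lit 293)]⟩])))) (BT.node (nat_lit 1398) (BT.node (nat_lit 1397) (BT.leaf (.inv (nat_lit 1395))) (BT.leaf (.rel (nat_lit 1338) (nat_lit 0) [(nat_lit 428), (nat_lit 1279)] [⟨(nat_lit 1280), [], [(nat_lit 351), (nat_lit 375)]⟩]))) (BT.node (nat_lit 1399) (BT.leaf (.inv (nat_lit 1397))) (BT.leaf (.rel (nat_lit 960) (nat_lit 2) [(nat_lit 360), (nat_lit 504)] [⟨(nat_lit 1042), [(nat_lit 935)], [(nat_lit 675), (nat_lit 109)]⟩, ⟨(nat_lit 907), [(nat_lit 935)], [(nat_lit 783), (nat_lit 478)]⟩]))))) (BT.node (nat_lit 1404) (BT.node (nat_lit 1402) (BT.node (nat_lit 1401) (BT.leaf (.rel (nat_lit 1033) (nat_lit 1) [(nat_lit 911), (nat_lit 874)] [⟨(nat_lit 1219),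 [(nat_lit 949)], [(nat_lit 502), (nat_lit 593)]⟩])) (BT.leaf (.inv (nat_lit 1400)))) (BT.node (nat_lit 1403) (BT.leaf (.emul [(nat_lit 558), (nat_lit 1342)])) (BT.leaf (.emul [(nat_lit 626), (nat_lit 806)])))) (BT.node (nat_lit 1406) (BT.node (nat_lit 1405) (BT.leaf (.rel (nat_lit 1302) (nat_lit 4) [(nat_lit 321), (nat_lit 1369)] [⟨(nat_lit 713), [(nat_lit 1402)], [(nat_lit 300), (nat_lit 778)]⟩, ⟨(nat_lit 885), [(nat_lit 1403)], [(nat_lit 152), (nat_lit 204)]⟩])) (BT.leaf (.inv (nat_lit 1404)))) (BT.node (nat_lit 1407) (BT.leaf (.rel (nat_lit 1007) (nat_lit 3) [(nat_lit 1026), (nat_lit 206)] [⟨(nat_lit 1281), [(nat_lit 935)], [(nat_lit 675), (nat_lit 107)]⟩, ⟨(nat_lit 1353), [(nat_lit 775)], [(nat_lit 280), (nat_lit 651)]⟩])) (BT.leaf (.inv (nat_lit 1406)))))))))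
noncomputable def cF1408 : BT Fc := (BT.node (nat_lit 1440) (BT.node (nat_lit 1424) (BT.node (nat_lit 1416) (BT.node (nat_lit 1412) (BT.node (nat_lit 1410) (BT.node (nat_lit 1409) (BT.leaf ⟨(nat_lit 3), (nat_lit 7), (nat_lit 7), (nat_lit 0xcbd806004219cdead4617217d00d3a), (nat_lit 0x16c53509e83d89f60b13939238bb3a4), (nat_lit 0)⟩) (BT.leaf ⟨(nat_lit 3), (nat_lit 7), (nat_lit 7), (nat_lit 0x16c53509e83d89f60b13939238bb3a4), (nat_lit 0xcbd806004219cdead4617217d00d3a), (nat_lit 0)⟩)) (BT.node (nat_lit 1411) (BT.leaf ⟨(nat_lit 1), (nat_lit 0), (nat_lit 0), (nat_lit 0x100a02f9f9a14020a4043e109d1f06), (nat_lit 0x100a02f9f9a14020a4043e109d1f06), (nat_lit 0)⟩) (BT.leaf ⟨(nat_lit 3), (nat_lit 7), (nat_lit 7), (nat_lit 0x11dd9af9050f1c6d34726930ce31d5c), (nat_lit 0x145fbeb637c31b8f1acc7e65691b3a3), (nat_lit 0)⟩))) (BT.node (nat_lit 1414) (BT.node (nat_lit 1413)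 (BT.leaf ⟨(nat_lit 3), (nat_lit 7), (nat_lit 7), (nat_lit 0x145fbeb637c31b8f1acc7e65691b3a3), (nat_lit 0x11dd9af9050f1c6d34726930ce31d5c), (nat_lit 0)⟩) (BT.leaf ⟨(nat_lit 3), (nat_lit 7), (nat_lit 7), (nat_lit 0x19a7a707c3655199af66e8f91a8caae), (nat_lit 0xffa39c33ab8d271645350f1dc39c71), (nat_lit 0)⟩)) (BT.node (nat_lit 1415) (BT.leaf ⟨(nat_lit 3), (nat_lit 7), (nat_lit 7), (nat_lit 0xffa39c33ab8d271645350f1dc39c71), (nat_lit 0x19a7a707c3655199af66e8f91a8caae), (nat_lit 0)⟩) (BT.leaf ⟨(nat_lit 2), (nat_lit 3), (nat_lit 3), (nat_lit 0x10035cc08baacebf1c02a007a20838d), (nat_lit 0), (nat_lit 0)⟩)))) (BT.node (nat_lit 1420) (BT.node (nat_lit 1418) (BT.node (nat_lit 1417) (BT.leaf ⟨(nat_lit 3), (nat_lit 7), (nat_lit 7), (nat_lit 0x78e8bbc37e6f851b2e37c7e43f1c6e), (nat_lit 0x17a52f74725c01410809e77bd600811), (nat_lit 0)⟩) (BT.leaf ⟨(nat_lit 3), (nat_lit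 7), (nat_lit 7), (nat_lit 0x17a52f74725c01410809e77bd600811), (nat_lit 0x78e8bbc37e6f851b2e37c7e43f1c6e), (nat_lit 0)⟩)) (BT.node (nat_lit 1419) (BT.leaf ⟨(nat_lit 3), (nat_lit 7), (nat_lit 7), (nat_lit 0x223dd084e1a208d7fc65bf9d0c0480), (nat_lit 0x9ff609bc1cc95c2fd654bb8b2e921f), (nat_lit 0)⟩) (BT.leaf ⟨(nat_lit 3), (nat_lit 7), (nat_lit 7), (nat_lit 0x189e4d48ed82e913549c1db27e4b09e), (nat_lit 0x19d044084f8cb7fdd08114107940180), (nat_lit 0)⟩))) (BT.node (nat_lit 1422) (BT.node (nat_lit 1421) (BT.leaf ⟨(nat_lit 3), (nat_lit 7), (nat_lit 7), (nat_lit 0x19d044084f8cb7fdd08114107940180), (nat_lit 0x189e4d48ed82e913549c1db27e4b09e), (nat_lit 0)⟩) (BT.leaf ⟨(nat_lit 3), (nat_lit 7), (nat_lit 7), (nat_lit 0x10060038d8214be041e8d731028033a), (nat_lit 0x7d4aa9d146c7506a995cb0f547d5a6), (nat_lit 0)⟩)) (BT.node (nat_lit 1423) (BT.leaf ⟨(nat_lit 3), (nat_lit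 7), (nat_lit 7), (nat_lit 0x7d4aa9d146c7506a995cb0f547d5a6), (nat_lit 0x10060038d8214be041e8d731028033a), (nat_lit 0)⟩) (BT.leaf ⟨(nat_lit 2), (nat_lit 4), (nat_lit 4), (nat_lit 0x66e1ead2f6f722d45ec2ed7e157751), (nat_lit 0), (nat_lit 0)⟩))))) (BT.node (nat_lit 1432) (BT.node (nat_lit 1428) (BT.node (nat_lit 1426) (BT.node (nat_lit 1425) (BT.leaf ⟨(nat_lit 3), (nat_lit 7), (nat_lit 7), (nat_lit 0x20048239f746bd400849e720060088), (nat_lit 0xa6626b965f3d451cabbc4fb28ad2a9), (nat_lit 0)⟩) (BT.leaf ⟨(nat_lit 3), (nat_lit 7), (nat_lit 7), (nat_lit 0xcbd66396d45573edcc725a0bcb7d2f), (nat_lit 0x1a8b2c70df1be3189dd2a69a37c7fad), (nat_lit 0)⟩)) (BT.node (nat_lit 1427) (BT.leaf ⟨(nat_lit 3), (nat_lit 7), (nat_lit 7), (nat_lit 0x127d2f78c0822079d92ebd204404a01), (nat_lit 0x20ba2402bd4089f0c715772739c00a), (nat_lit 0)⟩) (BT.leaf ⟨(nat_lit 3), (nat_lit 7), (nat_lit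 7), (nat_lit 0x11cc1073a3aaf8c9780408002001400), (nat_lit 0x5db13c9f92db06cf09ed3d26a6f5b1), (nat_lit 0)⟩))) (BT.node (nat_lit 1430) (BT.node (nat_lit 1429) (BT.leaf ⟨(nat_lit 3), (nat_lit 7), (nat_lit 7), (nat_lit 0x1c68180244fe43c105c8f5bb50fa828), (nat_lit 0x9a876ec17b0e924b59e93f23aa5b13), (nat_lit 0)⟩) (BT.leaf ⟨(nat_lit 3), (nat_lit 7), (nat_lit 7), (nat_lit 0x9a876ec17b0e924b59e93f23aa5b13), (nat_lit 0x1c68180244fe43c105c8f5bb50fa828), (nat_lit 0)⟩)) (BT.node (nat_lit 1431) (BT.leaf ⟨(nat_lit 3), (nat_lit 7), (nat_lit 7), (nat_lit 0x1cf95e9d1809bc002814109d0af6477), (nat_lit 0x11c99ab4950f8b3c855c8e75cf653fe), (nat_lit 0)⟩) (BT.leaf ⟨(nat_lit 3), (nat_lit 7), (nat_lit 7), (nat_lit 0x11c99ab4950f8b3c855c8e75cf653fe), (nat_lit 0x1cf95e9d1809bc002814109d0af6477), (nat_lit 0)⟩)))) (BT.node (nat_lit 1436) (BT.node (nat_lit 1434) (BT.node (nat_lit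 1433) (BT.leaf ⟨(nat_lit 3), (nat_lit 5), (nat_lit 5), (nat_lit 0x80197a013c74eac6a207aa811084f4), (nat_lit 0x125a4709ec4ec4ea5cbe935df4bb3d8), (nat_lit 0)⟩) (BT.leaf ⟨(nat_lit 2), (nat_lit 2), (nat_lit 2), (nat_lit 0x879d881203e312f7478e404402ab8), (nat_lit 0), (nat_lit 0)⟩)) (BT.node (nat_lit 1435) (BT.leaf ⟨(nat_lit 2), (nat_lit 2), (nat_lit 2), (nat_lit 0x6c9a374ed27c1b34f47c8dd59575ff), (nat_lit 0), (nat_lit 0)⟩) (BT.leaf ⟨(nat_lit 3), (nat_lit 7), (nat_lit 7), (nat_lit 0x17e127aa9220046080900a0fcf7279d), (nat_lit 0x1bd77826a9e9b9143ff45e9b537a44d), (nat_lit 0)⟩))) (BT.node (nat_lit 1438) (BT.node (nat_lit 1437) (BT.leaf ⟨(nat_lit 3), (nat_lit 7), (nat_lit 7), (nat_lit 0x1bd77826a9e9b9143ff45e9b537a44d), (nat_lit 0x17e127aa9220046080900a0fcf7279d), (nat_lit 0)⟩) (BT.leaf ⟨(nat_lit 1), (nat_lit 0), (nat_lit 0), (nat_lit 0x4fcb78faa5e4bc9692e98f571661af),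 (nat_lit 0x4fcb78faa5e4bc9692e98f571661af), (nat_lit 0)⟩)) (BT.node (nat_lit 1439) (BT.leaf ⟨(nat_lit 3), (nat_lit 7), (nat_lit 7), (nat_lit 0x49fc28090900224b7320308237e47b), (nat_lit 0x8092ec9c014088014020851c44112d), (nat_lit 0)⟩) (BT.leaf ⟨(nat_lit 3), (nat_lit 7), (nat_lit 7), (nat_lit 0x8092ec9c014088014020851c44112d), (nat_lit 0x49fc28090900224b7320308237e47b), (nat_lit 0)⟩)))))) (BT.node (nat_lit 1456) (BT.node (nat_lit 1448) (BT.node (nat_lit 1444) (BT.node (nat_lit 1442) (BT.node (nat_lit 1441) (BT.leaf ⟨(nat_lit 3), (nat_lit 7), (nat_lit 7), (nat_lit 0x17e0e2f56dc80482848e031ca818014), (nat_lit 0x1fd2b9bb9240421afe8d20167a74180), (nat_lit 0)⟩) (BT.leaf ⟨(nat_lit 3), (nat_lit 7), (nat_lit 7), (nat_lit 0x11ee0474e0192580c7324aefac24785), (nat_lit 0xae558b9689a39b13f515f2db154bb9), (nat_lit 0)⟩)) (BT.node (nat_lit 1443) (BT.leaf ⟨(nat_lit 3),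 (nat_lit 7), (nat_lit 7), (nat_lit 0xae558b9689a39b13f515f2db154bb9), (nat_lit 0x11ee0474e0192580c7324aefac24785), (nat_lit 0)⟩) (BT.leaf ⟨(nat_lit 3), (nat_lit 7), (nat_lit 7), (nat_lit 0x1e17468cbe1b4d3515d2b1bf345bb13), (nat_lit 0x43eae4c71f4cbc9392e25fa8b34d2f), (nat_lit 0)⟩))) (BT.node (nat_lit 1446) (BT.node (nat_lit 1445) (BT.leaf ⟨(nat_lit 3), (nat_lit 7), (nat_lit 7), (nat_lit 0x43eae4c71f4cbc9392e25fa8b34d2f), (nat_lit 0x1e17468cbe1b4d3515d2b1bf345bb13), (nat_lit 0)⟩) (BT.leaf ⟨(nat_lit 3), (nat_lit 7), (nat_lit 5), (nat_lit 0x123a0f4be93db064ff7d4d527076d9e), (nat_lit 0x8087920061c6810a20b91083b3022), (nat_lit 0)⟩)) (BT.node (nat_lit 1447) (BT.leaf ⟨(nat_lit 3), (nat_lit 5), (nat_lit 7), (nat_lit 0x8087920061c6810a20b91083b3022), (nat_lit 0x123a0f4be93db064ff7d4d527076d9e), (nat_lit 0)⟩) (BT.leaf ⟨(nat_lit 3), (nat_lit 7), (nat_lit 7), (nat_lit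 0xdb0fa9c53ae746ea9d4ddf52f498fa), (nat_lit 0x1ced5c78c00a8052f5e993e08497041), (nat_lit 0)⟩)))) (BT.node (nat_lit 1452) (BT.node (nat_lit 1450) (BT.node (nat_lit 1449) (BT.leaf ⟨(nat_lit 3), (nat_lit 7), (nat_lit 7), (nat_lit 0xf0d100a0042093b3022041eb54cf1a), (nat_lit 0x95f1625ea3287f609bcacb97fdba5d), (nat_lit 0)⟩) (BT.leaf ⟨(nat_lit 3), (nat_lit 7), (nat_lit 7), (nat_lit 0x95f1625ea3287f609bcacb97fdba5d), (nat_lit 0xf0d100a0042093b3022041eb54cf1a), (nat_lit 0)⟩)) (BT.node (nat_lit 1451) (BT.leaf ⟨(nat_lit 3), (nat_lit 7), (nat_lit 7), (nat_lit 0x12f9105c8da8280181f505043d4cf66), (nat_lit 0xae639804800400103e3f1a020401d5), (nat_lit 0)⟩) (BT.leaf ⟨(nat_lit 3), (nat_lit 7), (nat_lit 7), (nat_lit 0x1755a333a8201cdc689e803f8f5cc04), (nat_lit 0x243dd2dfce820060180111200aa884), (nat_lit 0)⟩))) (BT.node (nat_lit 1454) (BT.node (nat_lit 1453) (BT.leaf ⟨(nat_lit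 3), (nat_lit 7), (nat_lit 7), (nat_lit 0x243dd2dfce820060180111200aa884), (nat_lit 0x1755a333a8201cdc689e803f8f5cc04), (nat_lit 0)⟩) (BT.leaf ⟨(nat_lit 3), (nat_lit 7), (nat_lit 7), (nat_lit 0x12fb60b1391ddf66f3a483c9aa4b5b1), (nat_lit 0x1bd3786f5d692affa6fcdec9ab6a1ce), (nat_lit 0)⟩)) (BT.node (nat_lit 1455) (BT.leaf ⟨(nat_lit 3), (nat_lit 7), (nat_lit 7), (nat_lit 0x1bd3786f5d692affa6fcdec9ab6a1ce), (nat_lit 0x12fb60b1391ddf66f3a483c9aa4b5b1), (nat_lit 0)⟩) (BT.leaf ⟨(nat_lit 2), (nat_lit 2), (nat_lit 2), (nat_lit 0x1464d907c66b9a652f427b1d59575ff), (nat_lit 0), (nat_lit 0)⟩))))) (BT.node (nat_lit 1464) (BT.node (nat_lit 1460) (BT.node (nat_lit 1458) (BT.node (nat_lit 1457) (BT.leaf ⟨(nat_lit 2), (nat_lit 2), (nat_lit 2), (nat_lit 0x1bc12d92b3a3cf88274204801802804), (nat_lit 0), (nat_lit 0)⟩) (BT.leaf ⟨(nat_lit 3), (nat_lit 7), (nat_lit 5), (nat_lit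 0x1d455495a5f2ac5b6583d7239a26abd), (nat_lit 0x1b05d20ed91d2720f627d3cf62d889e), (nat_lit 0)⟩)) (BT.node (nat_lit 1459) (BT.leaf ⟨(nat_lit 3), (nat_lit 5), (nat_lit 7), (nat_lit 0x1b05d20ed91d2720f627d3cf62d889e), (nat_lit 0x1d455495a5f2ac5b6583d7239a26abd), (nat_lit 0)⟩) (BT.leaf ⟨(nat_lit 3), (nat_lit 7), (nat_lit 7), (nat_lit 0x145e7a674dc9f6ffa6fc639bd626ef0), (nat_lit 0x1bf0bce74dc873b6a5176391377aef0), (nat_lit 0)⟩))) (BT.node (nat_lit 1462) (BT.node (nat_lit 1461) (BT.leaf ⟨(nat_lit 3), (nat_lit 7), (nat_lit 7), (nat_lit 0x1b052da5d6e0d7d2bfb7956b7d2f27f), (nat_lit 0x1b064b4de7b1272473a4a97078bb09e), (nat_lit 0)⟩) (BT.leaf ⟨(nat_lit 3), (nat_lit 7), (nat_lit 7), (nat_lit 0x11ed5882824fcc80c785013d3a4b00a), (nat_lit 0x48482a949e04208756dc918fcebf3), (nat_lit 0)⟩)) (BT.node (nat_lit 1463) (BT.leaf ⟨(nat_lit 3), (nat_lit 7), (nat_lit 7), (nat_lit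 0x48482a949e04208756dc918fcebf3), (nat_lit 0x11ed5882824fcc80c785013d3a4b00a), (nat_lit 0)⟩) (BT.leaf ⟨(nat_lit 3), (nat_lit 7), (nat_lit 7), (nat_lit 0x17fec18b9552e595c3b9c4eaef5cabd), (nat_lit 0xae50078d8e77a37a7464be041f1900), (nat_lit 0)⟩)))) (BT.node (nat_lit 1468) (BT.node (nat_lit 1466) (BT.node (nat_lit 1465) (BT.leaf ⟨(nat_lit 3), (nat_lit 7), (nat_lit 7), (nat_lit 0x11c82090125dd1e4f821f19bd600a5e), (nat_lit 0x1379ec26a91d279d24beb3d268bb6c1), (nat_lit 0)⟩) (BT.leaf ⟨(nat_lit 3), (nat_lit 7), (nat_lit 7), (nat_lit 0x1379ec26a91d279d24beb3d268bb6c1), (nat_lit 0x11c82090125dd1e4f821f19bd600a5e), (nat_lit 0)⟩)) (BT.node (nat_lit 1467) (BT.leaf ⟨(nat_lit 3), (nat_lit 7), (nat_lit 7), (nat_lit 0x4bc00f463aa801f1810800402f42b9), (nat_lit 0x7d46aeef3a3698eaf216d88d9c51d7), (nat_lit 0)⟩) (BT.leaf ⟨(nat_lit 3), (nat_lit 7), (nat_lit 7), (nat_lit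 0x7d46aeef3a3698eaf216d88d9c51d7), (nat_lit 0x4bc00f463aa801f1810800402f42b9), (nat_lit 0)⟩))) (BT.node (nat_lit 1470) (BT.node (nat_lit 1469) (BT.leaf ⟨(nat_lit 3), (nat_lit 7), (nat_lit 7), (nat_lit 0x114f6555c8678b279c73f211deb9c72), (nat_lit 0xfac242b1811ccb7e12792c0312b888), (nat_lit 0)⟩) (BT.leaf ⟨(nat_lit 3), (nat_lit 7), (nat_lit 7), (nat_lit 0xfac242b1811ccb7e12792c0312b888), (nat_lit 0x114f6555c8678b279c73f211deb9c72), (nat_lit 0)⟩)) (BT.node (nat_lit 1471) (BT.leaf ⟨(nat_lit 3), (nat_lit 7), (nat_lit 7), (nat_lit 0xe59b62f9577d44732b8552ac75ca99), (nat_lit 0x1bf399785110029f5809031d3893848), (nat_lit 0)⟩) (BT.leaf ⟨(nat_lit 3), (nat_lit 7), (nat_lit 7), (nat_lit 0x1bf399785110029f5809031d3893848), (nat_lit 0xe59b62f9577d44732b8552ac75ca99), (nat_lit 0)⟩)))))))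
noncomputable def cP1408 : BT Pf := (BT.node (nat_lit 1440) (BT.node (nat_lit 1424) (BT.node (nat_lit 1416) (BT.node (nat_lit 1412) (BT.node (nat_lit 1410) (BT.node (nat_lit 1409) (BT.leaf (.rel (nat_lit 1260) (nat_lit 0) [(nat_lit 153), (nat_lit 512)] [⟨(nat_lit 1301), [(nat_lit 800)], [(nat_lit 1012), (nat_lit 874)]⟩])) (BT.leaf (.inv (nat_lit 1408)))) (BT.node (nat_lit 1411) (BT.leaf (.nmul (nat_lit 362) [(nat_lit 19)])) (BT.leaf (.rel (nat_lit 886) (nat_lit 4) [(nat_lit 360), (nat_lit 279)] [⟨(nat_lit 932), [(nat_lit 456)], [(nat_lit 953), (nat_lit 401)]⟩, ⟨(nat_lit 1206), [(nat_lit 935)], [(nat_lit 1087), (nat_lit 1410)]⟩])))) (BT.node (nat_lit 1414) (BT.node (nat_lit 1413) (BT.leaf (.inv (nat_lit 1411))) (BT.leaf (.rel (nat_lit 987) (nat_lit 4) [(nat_lit 239), (nat_lit 319)] [⟨(nat_lit 861), [], [(nat_lit 393), (nat_lit 593)]⟩, ⟨(nat_lit 1086),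 [(nat_lit 703)], [(nat_lit 466), (nat_lit 142)]⟩]))) (BT.node (nat_lit 1415) (BT.leaf (.inv (nat_lit 1413))) (BT.leaf (.emul [(nat_lit 329), (nat_lit 679)]))))) (BT.node (nat_lit 1420) (BT.node (nat_lit 1418) (BT.node (nat_lit 1417) (BT.leaf (.rel (nat_lit 1052) (nat_lit 3) [(nat_lit 165), (nat_lit 1376)] [⟨(nat_lit 534), [], [(nat_lit 267), (nat_lit 205)]⟩, ⟨(nat_lit 853), [(nat_lit 1415)], [(nat_lit 192), (nat_lit 593)]⟩])) (BT.leaf (.inv (nat_lit 1416)))) (BT.node (nat_lit 1419) (BT.leaf (.rel (nat_lit 1346) (nat_lit 5) [(nat_lit 734), (nat_lit 191)] [⟨(nat_lit 959), [], [(nat_lit 746), (nat_lit 236)]⟩, ⟨(nat_lit 1239), [(nat_lit 935)], [(nat_lit 474), (nat_lit 585)]⟩])) (BT.leaf (.rel (nat_lit 1234) (nat_lit 1) [(nat_lit 905), (nat_lit 206)] [⟨(nat_lit 1309), [(nat_lit 935)], [(nat_lit 380), (nat_lit 1329)]⟩])))) (BT.node (nat_lit 1422) (BT.node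 (nat_lit 1421) (BT.leaf (.inv (nat_lit 1419))) (BT.leaf (.rel (nat_lit 1122) (nat_lit 1) [(nat_lit 467), (nat_lit 1101)] [⟨(nat_lit 1042), [], [(nat_lit 871), (nat_lit 1053)]⟩]))) (BT.node (nat_lit 1423) (BT.leaf (.inv (nat_lit 1421))) (BT.leaf (.emul [(nat_lit 545), (nat_lit 540)])))))) (BT.node (nat_lit 1432) (BT.node (nat_lit 1428) (BT.node (nat_lit 1426) (BT.node (nat_lit 1425) (BT.leaf (.rel (nat_lit 1302) (nat_lit 3) [(nat_lit 826), (nat_lit 455)] [⟨(nat_lit 1219), [(nat_lit 1423)], [(nat_lit 165), (nat_lit 737)]⟩, ⟨(nat_lit 1409), [], [(nat_lit 1026), (nat_lit 1211)]⟩])) (BT.leaf (.rel (nat_lit 1283) (nat_lit 0) [(nat_lit 227), (nat_lit 465)] [⟨(nat_lit 1135), [], [(nat_lit 256), (nat_lit 1279)]⟩]))) (BT.node (nat_lit 1427) (BT.leaf (.rel (nat_lit 1154) (nat_lit 0) [(nat_lit 484), (nat_lit 751)] [⟨(nat_lit 885), [(nat_lit 842)], [(nat_lit 466),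 (nat_lit 290)]⟩])) (BT.leaf (.rel (nat_lit 1270) (nat_lit 2) [(nat_lit 259), (nat_lit 361)] [⟨(nat_lit 939), [(nat_lit 935)], [(nat_lit 1099), (nat_lit 498)]⟩, ⟨(nat_lit 1206), [], [(nat_lit 1106), (nat_lit 682)]⟩])))) (BT.node (nat_lit 1430) (BT.node (nat_lit 1429) (BT.leaf (.rel (nat_lit 966) (nat_lit 4) [(nat_lit 1102), (nat_lit 901)] [⟨(nat_lit 1121), [(nat_lit 1073)], [(nat_lit 335), (nat_lit 1256)]⟩, ⟨(nat_lit 1307), [(nat_lit 935)], [(nat_lit 152), (nat_lit 500)]⟩])) (BT.leaf (.inv (nat_lit 1428)))) (BT.node (nat_lit 1431) (BT.leaf (.rel (nat_lit 1356) (nat_lit 3) [(nat_lit 461), (nat_lit 459)] [⟨(nat_lit 1215), [(nat_lit 775)], [(nat_lit 393), (nat_lit 203)]⟩, ⟨(nat_lit 869), [], [(nat_lit 492), (nat_lit 334)]⟩])) (BT.leaf (.inv (nat_lit 1430)))))) (BT.node (nat_lit 1436) (BT.node (nat_lit 1434) (BT.node (nat_lit 1433) (BT.leaf (.rel (nat_lit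 1193) (nat_lit 4) [(nat_lit 468), (nat_lit 169)] [⟨(nat_lit 940), [], [(nat_lit 95), (nat_lit 606)]⟩, ⟨(nat_lit 1154), [], [(nat_lit 1102), (nat_lit 141)]⟩])) (BT.leaf (.emul [(nat_lit 143), (nat_lit 598)]))) (BT.node (nat_lit 1435) (BT.leaf (.emul [(nat_lit 210), (nat_lit 1433)])) (BT.leaf (.rel (nat_lit 1228) (nat_lit 4) [(nat_lit 241), (nat_lit 170)] [⟨(nat_lit 730), [(nat_lit 443)], [(nat_lit 871), (nat_lit 891)]⟩, ⟨(nat_lit 769), [(nat_lit 1434)], [(nat_lit 928), (nat_lit 124)]⟩])))) (BT.node (nat_lit 1438) (BT.node (nat_lit 1437) (BT.leaf (.inv (nat_lit 1435))) (BT.leaf (.nmul (nat_lit 1087) [(nat_lit 43)]))) (BT.node (nat_lit 1439) (BT.leaf (.rel (nat_lit 1377) (nat_lit 4) [(nat_lit 1437), (nat_lit 1165)] [⟨(nat_lit 1066), [(nat_lit 935)], [(nat_lit 380), (nat_lit 892)]⟩, ⟨(nat_lit 998), [(nat_lit 935)], [(nat_lit 95), (nat_lit 625)]⟩])) (BT.leaf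 (.inv (nat_lit 1438)))))))) (BT.node (nat_lit 1456) (BT.node (nat_lit 1448) (BT.node (nat_lit 1444) (BT.node (nat_lit 1442) (BT.node (nat_lit 1441) (BT.leaf (.rel (nat_lit 1090) (nat_lit 0) [(nat_lit 298), (nat_lit 432)] [⟨(nat_lit 1078), [], [(nat_lit 510), (nat_lit 711)]⟩])) (BT.leaf (.rel (nat_lit 1271) (nat_lit 4) [(nat_lit 474), (nat_lit 490)] [⟨(nat_lit 1233), [(nat_lit 935)], [(nat_lit 266), (nat_lit 500)]⟩, ⟨(nat_lit 1270), [(nat_lit 775)], [(nat_lit 300), (nat_lit 455)]⟩]))) (BT.node (nat_lit 1443) (BT.leaf (.inv (nat_lit 1441))) (BT.leaf (.rel (nat_lit 1412) (nat_lit 3) [(nat_lit 527), (nat_lit 247)] [⟨(nat_lit 1194), [(nat_lit 775)], [(nat_lit 507), (nat_lit 1088)]⟩, ⟨(nat_lit 1155), [(nat_lit 708)], [(nat_lit 759), (nat_lit 142)]⟩])))) (BT.node (nat_lit 1446) (BT.node (nat_lit 1445) (BT.leaf (.inv (nat_lit 1443))) (BT.leaf (.rel (nat_lit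 1169) (nat_lit 1) [(nat_lit 1041), (nat_lit 449)] [⟨(nat_lit 1068), [], [(nat_lit 789), (nat_lit 556)]⟩]))) (BT.node (nat_lit 1447) (BT.leaf (.inv (nat_lit 1445))) (BT.leaf (.rel (nat_lit 1055) (nat_lit 1) [(nat_lit 1292), (nat_lit 369)] [⟨(nat_lit 989), [(nat_lit 926)], [(nat_lit 523), (nat_lit 762)]⟩]))))) (BT.node (nat_lit 1452) (BT.node (nat_lit 1450) (BT.node (nat_lit 1449) (BT.leaf (.rel (nat_lit 1396) (nat_lit 0) [(nat_lit 266)] [⟨(nat_lit 1408), [], [(nat_lit 582), (nat_lit 566)]⟩])) (BT.leaf (.inv (nat_lit 1448)))) (BT.node (nat_lit 1451) (BT.leaf (.rel (nat_lit 1225) (nat_lit 3) [(nat_lit 352), (nat_lit 172)] [⟨(nat_lit 886), [(nat_lit 775)], [(nat_lit 441), (nat_lit 328)]⟩, ⟨(nat_lit 981), [(nat_lit 961)], [(nat_lit 991), (nat_lit 124)]⟩])) (BT.leaf (.rel (nat_lit 1185) (nat_lit 4) [(nat_lit 782), (nat_lit 795)] [⟨(nat_lit 1381), [], [(nat_lit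 348), (nat_lit 625)]⟩, ⟨(nat_lit 1224), [(nat_lit 935)], [(nat_lit 215), (nat_lit 533)]⟩])))) (BT.node (nat_lit 1454) (BT.node (nat_lit 1453) (BT.leaf (.inv (nat_lit 1451))) (BT.leaf (.rel (nat_lit 1215) (nat_lit 0) [(nat_lit 1126), (nat_lit 363)] [⟨(nat_lit 1391), [(nat_lit 775)], [(nat_lit 176), (nat_lit 89)]⟩]))) (BT.node (nat_lit 1455) (BT.leaf (.inv (nat_lit 1453))) (BT.leaf (.emul [(nat_lit 143), (nat_lit 1276)])))))) (BT.node (nat_lit 1464) (BT.node (nat_lit 1460) (BT.node (nat_lit 1458) (BT.node (nat_lit 1457) (BT.leaf (.emul [(nat_lit 154), (nat_lit 1455)])) (BT.leaf (.rel (nat_lit 595) (nat_lit 0) [(nat_lit 570), (nat_lit 472)] [⟨(nat_lit 1389), [(nat_lit 1456)], [(nat_lit 630), (nat_lit 717)]⟩]))) (BT.node (nat_lit 1459) (BT.leaf (.inv (nat_lit 1457))) (BT.leaf (.rel (nat_lit 1120) (nat_lit 4) [(nat_lit 568), (nat_lit 293)] [⟨(nat_lit 748),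 [(nat_lit 528)], [(nat_lit 574), (nat_lit 328)]⟩, ⟨(nat_lit 1229), [(nat_lit 859)], [(nat_lit 483), (nat_lit 169)]⟩])))) (BT.node (nat_lit 1462) (BT.node (nat_lit 1461) (BT.leaf (.rel (nat_lit 1120) (nat_lit 3) [(nat_lit 521), (nat_lit 269)] [⟨(nat_lit 464), [(nat_lit 703)], [(nat_lit 300), (nat_lit 270)]⟩, ⟨(nat_lit 889), [(nat_lit 927)], [(nat_lit 759), (nat_lit 740)]⟩])) (BT.leaf (.rel (nat_lit 1066) (nat_lit 2) [(nat_lit 915), (nat_lit 222)] [⟨(nat_lit 1290), [], [(nat_lit 1027), (nat_lit 1140)]⟩, ⟨(nat_lit 1459), [(nat_lit 775)], [(nat_lit 511), (nat_lit 874)]⟩]))) (BT.node (nat_lit 1463) (BT.leaf (.inv (nat_lit 1461))) (BT.leaf (.rel (nat_lit 1263) (nat_lit 1) [(nat_lit 422), (nat_lit 813)] [⟨(nat_lit 1244), [(nat_lit 775)], [(nat_lit 1027), (nat_lit 163)]⟩]))))) (BT.node (nat_lit 1468) (BT.node (nat_lit 1466) (BT.node (nat_lit 1465) (BT.leaf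 (.rel (nat_lit 998) (nat_lit 1) [(nat_lit 298), (nat_lit 465)] [⟨(nat_lit 1313), [], [(nat_lit 482), (nat_lit 808)]⟩])) (BT.leaf (.inv (nat_lit 1464)))) (BT.node (nat_lit 1467) (BT.leaf (.rel (nat_lit 1250) (nat_lit 4) [(nat_lit 827), (nat_lit 604)] [⟨(nat_lit 1289), [], [(nat_lit 95), (nat_lit 500)]⟩, ⟨(nat_lit 1413), [(nat_lit 935)], [(nat_lit 629), (nat_lit 361)]⟩])) (BT.leaf (.inv (nat_lit 1466))))) (BT.node (nat_lit 1470) (BT.node (nat_lit 1469) (BT.leaf (.rel (nat_lit 1303) (nat_lit 0) [(nat_lit 570), (nat_lit 478)] [⟨(nat_lit 1424), [(nat_lit 775)], [(nat_lit 226), (nat_lit 604)]⟩])) (BT.leaf (.inv (nat_lit 1468)))) (BT.node (nat_lit 1471) (BT.leaf (.rel (nat_lit 899) (nat_lit 4) [(nat_lit 226), (nat_lit 400)] [⟨(nat_lit 1267), [(nat_lit 775)], [(nat_lit 394), (nat_lit 711)]⟩, ⟨(nat_lit 984), [], [(nat_lit 1173), (nat_lit 974)]⟩])) (BT.leaf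 (.inv (nat_lit 1470)))))))))
noncomputable def cF1472 : BT Fc := (BT.node (nat_lit 1504) (BT.node (nat_lit 1488) (BT.node (nat_lit 1480) (BT.node (nat_lit 1476) (BT.node (nat_lit 1474) (BT.node (nat_lit 1473) (BT.leaf ⟨(nat_lit 1), (nat_lit 0), (nat_lit 0), (nat_lit 0x95c93808031780052b1f0b1ec84408), (nat_lit 0x95c93808031780052b1f0b1ec84408), (nat_lit 0)⟩) (BT.leaf ⟨(nat_lit 3), (nat_lit 7), (nat_lit 7), (nat_lit 0x13669d73ee541f2b2e3ae76b4b9d7ba), (nat_lit 0xbc801047723568063a203a3580180), (nat_lit 0)⟩)) (BT.node (nat_lit 1475) (BT.leaf ⟨(nat_lit 3), (nat_lit 7), (nat_lit 7), (nat_lit 0x1e33c4e8df1e2de377cdf0be3465fad), (nat_lit 0x107a4e3d8b3d6c713c9a4d523989c9e), (nat_lit 0)⟩) (BT.leaf ⟨(nat_lit 3), (nat_lit 7), (nat_lit 7), (nat_lit 0x107a4e3d8b3d6c713c9a4d523989c9e), (nat_lit 0x1e33c4e8df1e2de377cdf0be3465fad), (nat_lit 0)⟩))) (BT.node (nat_lit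 1478) (BT.node (nat_lit 1477) (BT.leaf ⟨(nat_lit 3), (nat_lit 7), (nat_lit 7), (nat_lit 0x1136ffa39a6960f656b957189ddc8b9), (nat_lit 0x9042044e7c410029d1809d0bc4c9a), (nat_lit 0)⟩) (BT.leaf ⟨(nat_lit 3), (nat_lit 7), (nat_lit 7), (nat_lit 0x9042044e7c410029d1809d0bc4c9a), (nat_lit 0x1136ffa39a6960f656b957189ddc8b9), (nat_lit 0)⟩)) (BT.node (nat_lit 1479) (BT.leaf ⟨(nat_lit 1), (nat_lit 0), (nat_lit 0), (nat_lit 0x9752dd65f6edc1afd194ff2ac7325f), (nat_lit 0x9752dd65f6edc1afd194ff2ac7325f), (nat_lit 0)⟩) (BT.leaf ⟨(nat_lit 3), (nat_lit 7), (nat_lit 7), (nat_lit 0x1e74088905528439511091c4fc28014), (nat_lit 0x1856c1ad20f9c6b9f53ae76739a4f7a), (nat_lit 0)⟩)))) (BT.node (nat_lit 1484) (BT.node (nat_lit 1482) (BT.node (nat_lit 1481) (BT.leaf ⟨(nat_lit 3), (nat_lit 7), (nat_lit 7), (nat_lit 0x1856c1ad20f9c6b9f53ae76739a4f7a), (nat_lit 0x1e74088905528439511091c4fc28014),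 (nat_lit 0)⟩) (BT.leaf ⟨(nat_lit 3), (nat_lit 7), (nat_lit 7), (nat_lit 0x40bfa1802003548411060040746904), (nat_lit 0x145df0be794b82de19bc8dc568f1b63), (nat_lit 0)⟩)) (BT.node (nat_lit 1483) (BT.leaf ⟨(nat_lit 2), (nat_lit 4), (nat_lit 4), (nat_lit 0x2037a10080008020004010040012b9), (nat_lit 0), (nat_lit 0)⟩) (BT.leaf ⟨(nat_lit 2), (nat_lit 4), (nat_lit 4), (nat_lit 0x44090646209a346ad73204d7f1d500), (nat_lit 0), (nat_lit 0)⟩))) (BT.node (nat_lit 1486) (BT.node (nat_lit 1485) (BT.leaf ⟨(nat_lit 2), (nat_lit 4), (nat_lit 4), (nat_lit 0x114fd68301404838d76653208887820), (nat_lit 0), (nat_lit 0)⟩) (BT.leaf ⟨(nat_lit 3), (nat_lit 7), (nat_lit 7), (nat_lit 0x1e240a006de1cf9f392b8ee0141225b), (nat_lit 0x753c625e007bd64fc017c40879d881), (nat_lit 0)⟩)) (BT.node (nat_lit 1487) (BT.leaf ⟨(nat_lit 3), (nat_lit 7), (nat_lit 7), (nat_lit 0x753c625e007bd64fc017c40879d881),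 (nat_lit 0x1e240a006de1cf9f392b8ee0141225b), (nat_lit 0)⟩) (BT.leaf ⟨(nat_lit 3), (nat_lit 7), (nat_lit 7), (nat_lit 0x87fe6a40747ad2200420916a26f044), (nat_lit 0x14bcf4346901002205d5820e360209e), (nat_lit 0)⟩))))) (BT.node (nat_lit 1496) (BT.node (nat_lit 1492) (BT.node (nat_lit 1490) (BT.node (nat_lit 1489) (BT.leaf ⟨(nat_lit 3), (nat_lit 7), (nat_lit 7), (nat_lit 0x60e293f0230400911055323b95030), (nat_lit 0x8434f6000be78ec6a044028092053a), (nat_lit 0)⟩) (BT.leaf ⟨(nat_lit 3), (nat_lit 7), (nat_lit 7), (nat_lit 0x49ef040801202bc2f320311ec1474e), (nat_lit 0xc09ff568c64400a48e022aa6fc012), (nat_lit 0)⟩)) (BT.node (nat_lit 1491) (BT.leaf ⟨(nat_lit 3), (nat_lit 7), (nat_lit 7), (nat_lit 0x1134e7179d69fd37a6f09e8c737b721), (nat_lit 0x1fd082101240c00803b9a000bca068d), (nat_lit 0)⟩) (BT.leaf ⟨(nat_lit 3), (nat_lit 7), (nat_lit 7), (nat_lit 0x1fd082101240c00803b9a000bca068d),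 (nat_lit 0x1134e7179d69fd37a6f09e8c737b721), (nat_lit 0)⟩))) (BT.node (nat_lit 1494) (BT.node (nat_lit 1493) (BT.leaf ⟨(nat_lit 3), (nat_lit 7), (nat_lit 7), (nat_lit 0x2e71395abfeaf558ab9552db2c1d34), (nat_lit 0x12fa4d49e7b09abbeb1374923b60c96), (nat_lit 0)⟩) (BT.leaf ⟨(nat_lit 3), (nat_lit 7), (nat_lit 7), (nat_lit 0x12fa4d49e7b09abbeb1374923b60c96), (nat_lit 0x2e71395abfeaf558ab9552db2c1d34), (nat_lit 0)⟩)) (BT.node (nat_lit 1495) (BT.leaf ⟨(nat_lit 3), (nat_lit 7), (nat_lit 7), (nat_lit 0x1082eac80cbf4bff1c100e67a17a408), (nat_lit 0x1cf80247700af9c95abd109d090249a), (nat_lit 0)⟩) (BT.leaf ⟨(nat_lit 3), (nat_lit 7), (nat_lit 7), (nat_lit 0x303bd5a80c0be66f3a32de87e20140), (nat_lit 0x1fd28baf4e43bc18e287d69b937b1b2), (nat_lit 0)⟩)))) (BT.node (nat_lit 1500) (BT.node (nat_lit 1498) (BT.node (nat_lit 1497) (BT.leaf ⟨(nat_lit 3), (nat_lit 7), (nat_lit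 7), (nat_lit 0x1fd28baf4e43bc18e287d69b937b1b2), (nat_lit 0x303bd5a80c0be66f3a32de87e20140), (nat_lit 0)⟩) (BT.leaf ⟨(nat_lit 3), (nat_lit 7), (nat_lit 7), (nat_lit 0x10b5a140b50180220409bd1017c8c0), (nat_lit 0x1d3b7e028bc04215880824f02006088), (nat_lit 0)⟩)) (BT.node (nat_lit 1499) (BT.leaf ⟨(nat_lit 3), (nat_lit 7), (nat_lit 7), (nat_lit 0x16374f200a8c78d0453a44081300673), (nat_lit 0x17fdec07cd2751bab744e8dd3bb3706), (nat_lit 0)⟩) (BT.leaf ⟨(nat_lit 3), (nat_lit 7), (nat_lit 7), (nat_lit 0x17492ea5e4ff4652bb701cd2ad279bc), (nat_lit 0x123a4e3a4c4e27b4f49e83db04bb3d8), (nat_lit 0)⟩))) (BT.node (nat_lit 1502) (BT.node (nat_lit 1501) (BT.leaf ⟨(nat_lit 3), (nat_lit 7), (nat_lit 7), (nat_lit 0x123a4e3a4c4e27b4f49e83db04bb3d8), (nat_lit 0x17492ea5e4ff4652bb701cd2ad279bc), (nat_lit 0)⟩) (BT.leaf ⟨(nat_lit 3), (nat_lit 7), (nat_lit 7), (nat_lit 0x4106a9806beb8c8468d240c03fa02f),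 (nat_lit 0x1f8d9d44068d200f42f471b00604073), (nat_lit 0)⟩)) (BT.node (nat_lit 1503) (BT.leaf ⟨(nat_lit 3), (nat_lit 7), (nat_lit 7), (nat_lit 0x1f8d9d44068d200f42f471b00604073), (nat_lit 0x4106a9806beb8c8468d240c03fa02f), (nat_lit 0)⟩) (BT.leaf ⟨(nat_lit 1), (nat_lit 0), (nat_lit 0), (nat_lit 0x19d37a51789bb535a6f0df92ae7a2f4), (nat_lit 0x19d37a51789bb535a6f0df92ae7a2f4), (nat_lit 0)⟩)))))) (BT.node (nat_lit 1520) (BT.node (nat_lit 1512) (BT.node (nat_lit 1508) (BT.node (nat_lit 1506) (BT.node (nat_lit 1505) (BT.leaf ⟨(nat_lit 3), (nat_lit 7), (nat_lit 7), (nat_lit 0x129734fc6a32f63ab2ae365a4f8307c), (nat_lit 0x9fd0fa5b49eb7dafe2c3783992fa5e), (nat_lit 0)⟩) (BT.leaf ⟨(nat_lit 3), (nat_lit 7), (nat_lit 7), (nat_lit 0x9fd0fa5b49eb7dafe2c3783992fa5e), (nat_lit 0x129734fc6a32f63ab2ae365a4f8307c), (nat_lit 0)⟩)) (BT.node (nat_lit 1507) (BT.leaf ⟨(nat_lit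 3), (nat_lit 7), (nat_lit 7), (nat_lit 0x1cecea7470022064f8418e402480f8c), (nat_lit 0x189e268b9a68aa6c1b96d725694cab9), (nat_lit 0)⟩) (BT.leaf ⟨(nat_lit 3), (nat_lit 7), (nat_lit 7), (nat_lit 0x502200600801135a0c074687fbd042), (nat_lit 0x5e5ff0b74cbe37e6b8df0b637d6dd2), (nat_lit 0)⟩))) (BT.node (nat_lit 1510) (BT.node (nat_lit 1509) (BT.leaf ⟨(nat_lit 3), (nat_lit 7), (nat_lit 7), (nat_lit 0x5e5ff0b74cbe37e6b8df0b637d6dd2), (nat_lit 0x502200600801135a0c074687fbd042), (nat_lit 0)⟩) (BT.leaf ⟨(nat_lit 3), (nat_lit 7), (nat_lit 7), (nat_lit 0x774143eb8f725af000ce6482044108), (nat_lit 0xaa57ceb957313473239577b2a9a299), (nat_lit 0)⟩)) (BT.node (nat_lit 1511) (BT.leaf ⟨(nat_lit 3), (nat_lit 7), (nat_lit 7), (nat_lit 0xaa57ceb957313473239577b2a9a299), (nat_lit 0x774143eb8f725af000ce6482044108), (nat_lit 0)⟩) (BT.leaf ⟨(nat_lit 3), (nat_lit 7), (nat_lit 7),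 (nat_lit 0x6bcb7b9698e4b7ed90f24fa896612b), (nat_lit 0x4ae3b8047ce016f6404de1d0822084), (nat_lit 0)⟩)))) (BT.node (nat_lit 1516) (BT.node (nat_lit 1514) (BT.node (nat_lit 1513) (BT.leaf ⟨(nat_lit 3), (nat_lit 7), (nat_lit 7), (nat_lit 0x4ae3b8047ce016f6404de1d0822084), (nat_lit 0x6bcb7b9698e4b7ed90f24fa896612b), (nat_lit 0)⟩) (BT.leaf ⟨(nat_lit 3), (nat_lit 7), (nat_lit 7), (nat_lit 0xaec09738804029f0806dedd1041003), (nat_lit 0x17f0030042088197a0440151940201), (nat_lit 0)⟩)) (BT.node (nat_lit 1515) (BT.leaf ⟨(nat_lit 3), (nat_lit 7), (nat_lit 7), (nat_lit 0x17a3dbf51bc182cbb7e8b90b4a1ece8), (nat_lit 0x180a05a8747ad2207cd083deb83040), (nat_lit 0)⟩) (BT.leaf ⟨(nat_lit 2), (nat_lit 5), (nat_lit 5), (nat_lit 0x413fa35fc8da36803b95c640890100), (nat_lit 0), (nat_lit 0)⟩))) (BT.node (nat_lit 1518) (BT.node (nat_lit 1517) (BT.leaf ⟨(nat_lit 2), (nat_lit 5),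 (nat_lit 5), (nat_lit 0x1e32f4c01022f892f081043cec02841), (nat_lit 0), (nat_lit 0)⟩) (BT.leaf ⟨(nat_lit 2), (nat_lit 5), (nat_lit 5), (nat_lit 0x8db49b8ae427d6eada63a275f2c1d5), (nat_lit 0), (nat_lit 0)⟩)) (BT.node (nat_lit 1519) (BT.leaf ⟨(nat_lit 3), (nat_lit 7), (nat_lit 7), (nat_lit 0x18e9dc910c8c408808d505fa3674104), (nat_lit 0x7d4ea8d51f5961c5236babbbcebe93), (nat_lit 0)⟩) (BT.leaf ⟨(nat_lit 3), (nat_lit 7), (nat_lit 7), (nat_lit 0x7d4ea8d51f5961c5236babbbcebe93), (nat_lit 0x18e9dc910c8c408808d505fa3674104), (nat_lit 0)⟩))))) (BT.node (nat_lit 1528) (BT.node (nat_lit 1524) (BT.node (nat_lit 1522) (BT.node (nat_lit 1521) (BT.leaf ⟨(nat_lit 3), (nat_lit 7), (nat_lit 7), (nat_lit 0xf552032ffd080104204a7480900e9e), (nat_lit 0x1635201e3a8c8010428060080b39e9e), (nat_lit 0)⟩) (BT.leaf ⟨(nat_lit 3), (nat_lit 7), (nat_lit 7), (nat_lit 0xcbdeaa403c68210058d501a782fa01),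 (nat_lit 0x1fd255b1c89bbd7784f4ce9bd35a26a), (nat_lit 0)⟩)) (BT.node (nat_lit 1523) (BT.leaf ⟨(nat_lit 3), (nat_lit 7), (nat_lit 7), (nat_lit 0xf892f12e00a2079dc0120200c08841), (nat_lit 0x8e7e30806c6b7f86a809019d040d68), (nat_lit 0)⟩) (BT.leaf ⟨(nat_lit 3), (nat_lit 7), (nat_lit 7), (nat_lit 0x8e7e30806c6b7f86a809019d040d68), (nat_lit 0xf892f12e00a2079dc0120200c08841), (nat_lit 0)⟩))) (BT.node (nat_lit 1526) (BT.node (nat_lit 1525) (BT.leaf ⟨(nat_lit 3), (nat_lit 7), (nat_lit 7), (nat_lit 0x160e26dff5623995df514722e4ad2b9), (nat_lit 0x9fe8ccab43e3982fdd24bc97760b8a), (nat_lit 0)⟩) (BT.leaf ⟨(nat_lit 3), (nat_lit 7), (nat_lit 7), (nat_lit 0x17e3ab2a938b2390824f031ca8286e4), (nat_lit 0x17ffe351994a1f065e69365d13ab335), (nat_lit 0)⟩)) (BT.node (nat_lit 1527) (BT.leaf ⟨(nat_lit 3), (nat_lit 7), (nat_lit 7), (nat_lit 0x17ffe351994a1f065e69365d13ab335),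 (nat_lit 0x17e3ab2a938b2390824f031ca8286e4), (nat_lit 0)⟩) (BT.leaf ⟨(nat_lit 3), (nat_lit 7), (nat_lit 7), (nat_lit 0x1d1065d19e8cab99ae69f8c1f3a11b2), (nat_lit 0xf620f6c11db27b4f4de4d52fad8ba4), (nat_lit 0)⟩)))) (BT.node (nat_lit 1532) (BT.node (nat_lit 1530) (BT.node (nat_lit 1529) (BT.leaf ⟨(nat_lit 3), (nat_lit 7), (nat_lit 7), (nat_lit 0xf620f6c11db27b4f4de4d52fad8ba4), (nat_lit 0x1d1065d19e8cab99ae69f8c1f3a11b2), (nat_lit 0)⟩) (BT.leaf ⟨(nat_lit 3), (nat_lit 7), (nat_lit 7), (nat_lit 0x1d45695e998f7aa7443dc17782d42ae), (nat_lit 0x1d1897be30200077a0040800239d78d), (nat_lit 0)⟩)) (BT.node (nat_lit 1531) (BT.leaf ⟨(nat_lit 3), (nat_lit 7), (nat_lit 7), (nat_lit 0x1d1897be30200077a0040800239d78d), (nat_lit 0x1d45695e998f7aa7443dc17782d42ae), (nat_lit 0)⟩) (BT.leaf ⟨(nat_lit 3), (nat_lit 7), (nat_lit 7), (nat_lit 0x1780442b14ae0308447b810123c2f32),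 (nat_lit 0xc02879d420440e2aa912006008a4f), (nat_lit 0)⟩))) (BT.node (nat_lit 1534) (BT.node (nat_lit 1533) (BT.leaf ⟨(nat_lit 3), (nat_lit 7), (nat_lit 7), (nat_lit 0xe2b2fa5bf6e97d3fe2c6bf7492ecab), (nat_lit 0x1d089582400dbc02225b3a28115e904), (nat_lit 0)⟩) (BT.leaf ⟨(nat_lit 3), (nat_lit 7), (nat_lit 7), (nat_lit 0x1d089582400dbc02225b3a28115e904), (nat_lit 0xe2b2fa5bf6e97d3fe2c6bf7492ecab), (nat_lit 0)⟩)) (BT.node (nat_lit 1535) (BT.leaf ⟨(nat_lit 3), (nat_lit 7), (nat_lit 7), (nat_lit 0x14e9a4d65dde2df954d9c2ae939f77a), (nat_lit 0x104039d2f3d140201401bab022022f4), (nat_lit 0)⟩) (BT.leaf ⟨(nat_lit 3), (nat_lit 7), (nat_lit 7), (nat_lit 0x104039d2f3d140201401bab022022f4), (nat_lit 0x14e9a4d65dde2df954d9c2ae939f77a), (nat_lit 0)⟩)))))))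
noncomputable def cP1472 : BT Pf := (BT.node (nat_lit 1504) (BT.node (nat_lit 1488) (BT.node (nat_lit 1480) (BT.node (nat_lit 1476) (BT.node (nat_lit 1474) (BT.node (nat_lit 1473) (BT.leaf (.nmul (nat_lit 1192) [(nat_lit 1)])) (BT.leaf (.rel (nat_lit 1334) (nat_lit 0) [(nat_lit 428), (nat_lit 279)] [⟨(nat_lit 1268), [(nat_lit 935)], [(nat_lit 299), (nat_lit 1472)]⟩]))) (BT.node (nat_lit 1475) (BT.leaf (.rel (nat_lit 1000) (nat_lit 1) [(nat_lit 764), (nat_lit 223)] [⟨(nat_lit 867), [(nat_lit 437)], [(nat_lit 582), (nat_lit 529)]⟩])) (BT.leaf (.inv (nat_lit 1474))))) (BT.node (nat_lit 1478) (BT.node (nat_lit 1477) (BT.leaf (.rel (nat_lit 1236) (nat_lit 1) [(nat_lit 865), (nat_lit 529)] [⟨(nat_lit 1229), [(nat_lit 1028)], [(nat_lit 261), (nat_lit 530)]⟩])) (BT.leaf (.inv (nat_lit 1476)))) (BT.node (nat_lit 1479) (BT.leaf (.nmul (nat_lit 797) [(nat_lit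 0)])) (BT.leaf (.rel (nat_lit 1428) (nat_lit 0) [(nat_lit 387), (nat_lit 1478)] [⟨(nat_lit 1078), [], [(nat_lit 380), (nat_lit 625)]⟩]))))) (BT.node (nat_lit 1484) (BT.node (nat_lit 1482) (BT.node (nat_lit 1481) (BT.leaf (.inv (nat_lit 1479))) (BT.leaf (.rel (nat_lit 1122) (nat_lit 3) [(nat_lit 579), (nat_lit 171)] [⟨(nat_lit 1289), [(nat_lit 775)], [(nat_lit 631), (nat_lit 694)]⟩, ⟨(nat_lit 1122), [(nat_lit 775)], [(nat_lit 832), (nat_lit 369)]⟩]))) (BT.node (nat_lit 1483) (BT.leaf (.emul [(nat_lit 558), (nat_lit 754)])) (BT.leaf (.emul [(nat_lit 558), (nat_lit 1482)])))) (BT.node (nat_lit 1486) (BT.node (nat_lit 1485) (BT.leaf (.emul [(nat_lit 564), (nat_lit 1483)])) (BT.leaf (.rel (nat_lit 1172) (nat_lit 1) [(nat_lit 257), (nat_lit 125)] [⟨(nat_lit 1301), [(nat_lit 1484)], [(nat_lit 194)]⟩]))) (BT.node (nat_lit 1487) (BT.leaf (.inv (nat_lit 1485)))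 (BT.leaf (.rel (nat_lit 1006) (nat_lit 4) [(nat_lit 1235), (nat_lit 472)] [⟨(nat_lit 869), [(nat_lit 935)], [(nat_lit 462), (nat_lit 936)]⟩, ⟨(nat_lit 1213), [(nat_lit 935)], [(nat_lit 92), (nat_lit 432)]⟩])))))) (BT.node (nat_lit 1496) (BT.node (nat_lit 1492) (BT.node (nat_lit 1490) (BT.node (nat_lit 1489) (BT.leaf (.rel (nat_lit 1373) (nat_lit 1) [(nat_lit 128), (nat_lit 710)] [⟨(nat_lit 1006), [(nat_lit 935)], [(nat_lit 781), (nat_lit 584)]⟩])) (BT.leaf (.rel (nat_lit 1231) (nat_lit 4) [(nat_lit 226), (nat_lit 347)] [⟨(nat_lit 1346), [(nat_lit 935)], [(nat_lit 977), (nat_lit 573)]⟩, ⟨(nat_lit 1312), [(nat_lit 775)], [(nat_lit 579), (nat_lit 1123)]⟩]))) (BT.node (nat_lit 1491) (BT.leaf (.rel (nat_lit 1396) (nat_lit 1) [(nat_lit 1337), (nat_lit 440)] [⟨(nat_lit 1471), [(nat_lit 935)], [(nat_lit 239), (nat_lit 785)]⟩])) (BT.leaf (.inv (nat_lit 1490)))))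 (BT.node (nat_lit 1494) (BT.node (nat_lit 1493) (BT.leaf (.rel (nat_lit 1125) (nat_lit 2) [(nat_lit 174), (nat_lit 1375)] [⟨(nat_lit 1315), [], [(nat_lit 164), (nat_lit 1223)]⟩, ⟨(nat_lit 1079), [(nat_lit 935)], [(nat_lit 977), (nat_lit 557)]⟩])) (BT.leaf (.inv (nat_lit 1492)))) (BT.node (nat_lit 1495) (BT.leaf (.rel (nat_lit 908) (nat_lit 3) [(nat_lit 473), (nat_lit 334)] [⟨(nat_lit 1341), [(nat_lit 935)], [(nat_lit 130), (nat_lit 898)]⟩, ⟨(nat_lit 1493), [(nat_lit 775)], [(nat_lit 422), (nat_lit 367)]⟩])) (BT.leaf (.rel (nat_lit 1191) (nat_lit 1) [(nat_lit 213), (nat_lit 693)] [⟨(nat_lit 1431), [(nat_lit 935)], [(nat_lit 128), (nat_lit 125)]⟩]))))) (BT.node (nat_lit 1500) (BT.node (nat_lit 1498) (BT.node (nat_lit 1497) (BT.leaf (.inv (nat_lit 1495))) (BT.leaf (.rel (nat_lit 899) (nat_lit 0) [(nat_lit 254), (nat_lit 891)] [⟨(nat_lit 912), [], [(nat_lit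 429), (nat_lit 684)]⟩]))) (BT.node (nat_lit 1499) (BT.leaf (.rel (nat_lit 1079) (nat_lit 4) [(nat_lit 416), (nat_lit 270)] [⟨(nat_lit 1164), [(nat_lit 935)], [(nat_lit 403), (nat_lit 420)]⟩, ⟨(nat_lit 1406), [(nat_lit 935)], [(nat_lit 195), (nat_lit 289)]⟩])) (BT.leaf (.rel (nat_lit 933) (nat_lit 4) [(nat_lit 360), (nat_lit 956)] [⟨(nat_lit 1010), [(nat_lit 496)], [(nat_lit 1173), (nat_lit 224)]⟩, ⟨(nat_lit 1396), [(nat_lit 935)], [(nat_lit 900), (nat_lit 1025)]⟩])))) (BT.node (nat_lit 1502) (BT.node (nat_lit 1501) (BT.leaf (.inv (nat_lit 1499))) (BT.leaf (.rel (nat_lit 1074) (nat_lit 2) [(nat_lit 1337), (nat_lit 224)] [⟨(nat_lit 1154), [(nat_lit 935)], [(nat_lit 1189), (nat_lit 1141)]⟩, ⟨(nat_lit 1458), [(nat_lit 855)], [(nat_lit 164), (nat_lit 252)]⟩]))) (BT.node (nat_lit 1503) (BT.leaf (.inv (nat_lit 1501))) (BT.leaf (.nmul (nat_lit 628) [(nat_lit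 19)]))))))) (BT.node (nat_lit 1520) (BT.node (nat_lit 1512) (BT.node (nat_lit 1508) (BT.node (nat_lit 1506) (BT.node (nat_lit 1505) (BT.leaf (.rel (nat_lit 803) (nat_lit 4) [(nat_lit 1102), (nat_lit 1503)] [⟨(nat_lit 1176), [(nat_lit 437)], [(nat_lit 283), (nat_lit 439)]⟩, ⟨(nat_lit 1362), [(nat_lit 775)], [(nat_lit 970), (nat_lit 822)]⟩])) (BT.leaf (.inv (nat_lit 1504)))) (BT.node (nat_lit 1507) (BT.leaf (.rel (nat_lit 1465) (nat_lit 3) [(nat_lit 94), (nat_lit 472)] [⟨(nat_lit 1450), [(nat_lit 775)], [(nat_lit 991), (nat_lit 1017)]⟩, ⟨(nat_lit 1464), [(nat_lit 775)], [(nat_lit 196), (nat_lit 449)]⟩])) (BT.leaf (.rel (nat_lit 1274) (nat_lit 0) [(nat_lit 474), (nat_lit 109)] [⟨(nat_lit 1397), [(nat_lit 775)], [(nat_lit 1242), (nat_lit 173)]⟩])))) (BT.node (nat_lit 1510) (BT.node (nat_lit 1509) (BT.leaf (.inv (nat_lit 1507))) (BT.leaf (.rel (nat_lit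 904) (nat_lit 0) [(nat_lit 990), (nat_lit 421)] [⟨(nat_lit 1122), [], [(nat_lit 336), (nat_lit 109)]⟩]))) (BT.node (nat_lit 1511) (BT.leaf (.inv (nat_lit 1509))) (BT.leaf (.rel (nat_lit 903) (nat_lit 0) [(nat_lit 734), (nat_lit 646)] [⟨(nat_lit 1316), [(nat_lit 935)], [(nat_lit 166), (nat_lit 439)]⟩]))))) (BT.node (nat_lit 1516) (BT.node (nat_lit 1514) (BT.node (nat_lit 1513) (BT.leaf (.inv (nat_lit 1511))) (BT.leaf (.rel (nat_lit 907) (nat_lit 0) [(nat_lit 1257), (nat_lit 1123)] [⟨(nat_lit 1127), [(nat_lit 935)], [(nat_lit 544), (nat_lit 253)]⟩]))) (BT.node (nat_lit 1515) (BT.leaf (.rel (nat_lit 1328) (nat_lit 3) [(nat_lit 212), (nat_lit 956)] [⟨(nat_lit 1315), [(nat_lit 935)], [(nat_lit 422), (nat_lit 472)]⟩, ⟨(nat_lit 1373), [(nat_lit 935)], [(nat_lit 1195), (nat_lit 127)]⟩])) (BT.leaf (.emul [(nat_lit 626), (nat_lit 645)])))) (BT.node (nat_lit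 1518) (BT.node (nat_lit 1517) (BT.leaf (.emul [(nat_lit 645), (nat_lit 1515)])) (BT.leaf (.emul [(nat_lit 645), (nat_lit 1516)]))) (BT.node (nat_lit 1519) (BT.leaf (.rel (nat_lit 1445) (nat_lit 4) [(nat_lit 618), (nat_lit 597)] [⟨(nat_lit 768), [(nat_lit 1306)], [(nat_lit 299), (nat_lit 936)]⟩, ⟨(nat_lit 1359), [(nat_lit 1517)], [(nat_lit 911), (nat_lit 291)]⟩])) (BT.leaf (.inv (nat_lit 1518))))))) (BT.node (nat_lit 1528) (BT.node (nat_lit 1524) (BT.node (nat_lit 1522) (BT.node (nat_lit 1521) (BT.leaf (.rel (nat_lit 1352) (nat_lit 3) [(nat_lit 239), (nat_lit 379)] [⟨(nat_lit 1475), [(nat_lit 775)], [(nat_lit 707), (nat_lit 1211)]⟩, ⟨(nat_lit 1335), [(nat_lit 775)], [(nat_lit 422), (nat_lit 252)]⟩])) (BT.leaf (.rel (nat_lit 1275) (nat_lit 3) [(nat_lit 943), (nat_lit 319)] [⟨(nat_lit 1381), [(nat_lit 935)], [(nat_lit 164), (nat_lit 249)]⟩, ⟨(nat_lit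 1239), [(nat_lit 935)], [(nat_lit 461), (nat_lit 320)]⟩]))) (BT.node (nat_lit 1523) (BT.leaf (.rel (nat_lit 1074) (nat_lit 0) [(nat_lit 285), (nat_lit 557)] [⟨(nat_lit 1367), [(nat_lit 775)], [(nat_lit 212), (nat_lit 236)]⟩])) (BT.leaf (.inv (nat_lit 1522))))) (BT.node (nat_lit 1526) (BT.node (nat_lit 1525) (BT.leaf (.rel (nat_lit 1324) (nat_lit 1) [(nat_lit 1012), (nat_lit 126)] [⟨(nat_lit 1419), [(nat_lit 775)], [(nat_lit 285), (nat_lit 460)]⟩])) (BT.leaf (.rel (nat_lit 988) (nat_lit 0) [(nat_lit 336), (nat_lit 936)] [⟨(nat_lit 820), [(nat_lit 860)], [(nat_lit 1032), (nat_lit 248)]⟩]))) (BT.node (nat_lit 1527) (BT.leaf (.inv (nat_lit 1525))) (BT.leaf (.rel (nat_lit 1380) (nat_lit 0) [(nat_lit 359), (nat_lit 500)] [⟨(nat_lit 1178), [(nat_lit 935)], [(nat_lit 673), (nat_lit 398)]⟩]))))) (BT.node (nat_lit 1532) (BT.node (nat_lit 1530) (BT.node (nat_lit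 1529) (BT.leaf (.inv (nat_lit 1527))) (BT.leaf (.rel (nat_lit 1089) (nat_lit 0) [(nat_lit 19), (nat_lit 126)] [⟨(nat_lit 1068), [(nat_lit 775)], [(nat_lit 428), (nat_lit 878)]⟩]))) (BT.node (nat_lit 1531) (BT.leaf (.inv (nat_lit 1529))) (BT.leaf (.rel (nat_lit 1274) (nat_lit 1) [(nat_lit 520), (nat_lit 110)] [⟨(nat_lit 1424), [(nat_lit 775)], [(nat_lit 43), (nat_lit 375)]⟩])))) (BT.node (nat_lit 1534) (BT.node (nat_lit 1533) (BT.leaf (.rel (nat_lit 1518) (nat_lit 1) [(nat_lit 128), (nat_lit 1109)] [⟨(nat_lit 1514), [(nat_lit 775)], [(nat_lit 618), (nat_lit 808)]⟩])) (BT.leaf (.inv (nat_lit 1532)))) (BT.node (nat_lit 1535) (BT.leaf (.rel (nat_lit 1372) (nat_lit 2) [(nat_lit 942), (nat_lit 126)] [⟨(nat_lit 1335), [(nat_lit 935)], [(nat_lit 705), (nat_lit 202)]⟩, ⟨(nat_lit 1463), [(nat_lit 775)], [(nat_lit 911), (nat_lit 813)]⟩])) (BT.leaf (.inv (nat_lit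 1534)))))))))
noncomputable def cF1536 : BT Fc := (BT.node (nat_lit 1568) (BT.node (nat_lit 1552) (BT.node (nat_lit 1544) (BT.node (nat_lit 1540) (BT.node (nat_lit 1538) (BT.node (nat_lit 1537) (BT.leaf ⟨(nat_lit 2), (nat_lit 4), (nat_lit 4), (nat_lit 0x17a64f821003e31008810831c95c25e), (nat_lit 0), (nat_lit 0)⟩) (BT.leaf ⟨(nat_lit 1), (nat_lit 0), (nat_lit 0), (nat_lit 0x65430041d681410ff068809026f040), (nat_lit 0x65430041d681410ff068809026f040), (nat_lit 0)⟩)) (BT.node (nat_lit 1539) (BT.leaf ⟨(nat_lit 3), (nat_lit 7), (nat_lit 7), (nat_lit 0x152f13ba49bda7a4741e93fdf6d8a6a), (nat_lit 0xbd37ab1cded2ae8bc4d2f26cb786d4), (nat_lit 0)⟩) (BT.leaf ⟨(nat_lit 3), (nat_lit 7), (nat_lit 7), (nat_lit 0xbd37ab1cded2ae8bc4d2f26cb786d4), (nat_lit 0x152f13ba49bda7a4741e93fdf6d8a6a), (nat_lit 0)⟩))) (BT.node (nat_lit 1542) (BT.node (nat_lit 1541) (BT.leaf ⟨(nat_lit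 3), (nat_lit 7), (nat_lit 7), (nat_lit 0x211b1a80e1beeab4239ce92004141e), (nat_lit 0x14655774e94b9a465b46e0dd13a3fc6), (nat_lit 0)⟩) (BT.leaf ⟨(nat_lit 3), (nat_lit 7), (nat_lit 7), (nat_lit 0x14655774e94b9a465b46e0dd13a3fc6), (nat_lit 0x211b1a80e1beeab4239ce92004141e), (nat_lit 0)⟩)) (BT.node (nat_lit 1543) (BT.leaf ⟨(nat_lit 3), (nat_lit 7), (nat_lit 7), (nat_lit 0x118fcec8e0302409f81255205372410), (nat_lit 0x174bc2a6571be3f517cd2f3e37d6b13), (nat_lit 0)⟩) (BT.leaf ⟨(nat_lit 3), (nat_lit 7), (nat_lit 7), (nat_lit 0x174bc2a6571be3f517cd2f3e37d6b13), (nat_lit 0x118fcec8e0302409f81255205372410), (nat_lit 0)⟩)))) (BT.node (nat_lit 1548) (BT.node (nat_lit 1546) (BT.node (nat_lit 1545) (BT.leaf ⟨(nat_lit 3), (nat_lit 7), (nat_lit 7), (nat_lit 0x12020f06084e8cca8c0ef4110a0433), (nat_lit 0x1ae6ead000e70420140013d2017a600), (nat_lit 0)⟩) (BT.leaf ⟨(nat_lit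 3), (nat_lit 7), (nat_lit 7), (nat_lit 0x1ae6ead000e70420140013d2017a600), (nat_lit 0x12020f06084e8cca8c0ef4110a0433), (nat_lit 0)⟩)) (BT.node (nat_lit 1547) (BT.leaf ⟨(nat_lit 2), (nat_lit 4), (nat_lit 4), (nat_lit 0xac493de0013e14eec7b01095e4b408), (nat_lit 0), (nat_lit 0)⟩) (BT.leaf ⟨(nat_lit 2), (nat_lit 4), (nat_lit 4), (nat_lit 0x87cca844880503bd706082109d1840), (nat_lit 0), (nat_lit 0)⟩))) (BT.node (nat_lit 1550) (BT.node (nat_lit 1549) (BT.leaf ⟨(nat_lit 2), (nat_lit 4), (nat_lit 4), (nat_lit 0x80a9d28040088197a10c002e67a201), (nat_lit 0), (nat_lit 0)⟩) (BT.leaf ⟨(nat_lit 3), (nat_lit 7), (nat_lit 7), (nat_lit 0x189d4cab81ccee69a583d737fd5ceca), (nat_lit 0x75c0300225a9777b7448e3e3e01102), (nat_lit 0)⟩)) (BT.node (nat_lit 1551) (BT.leaf ⟨(nat_lit 3), (nat_lit 7), (nat_lit 7), (nat_lit 0x75c0300225a9777b7448e3e3e01102), (nat_lit 0x189d4cab81ccee69a583d737fd5ceca),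 (nat_lit 0)⟩) (BT.leaf ⟨(nat_lit 3), (nat_lit 7), (nat_lit 7), (nat_lit 0x40a800d5208c0080920c74ee571940), (nat_lit 0x1d5828110e54fcf7213f031040e2aa9), (nat_lit 0)⟩))))) (BT.node (nat_lit 1560) (BT.node (nat_lit 1556) (BT.node (nat_lit 1554) (BT.node (nat_lit 1553) (BT.leaf ⟨(nat_lit 3), (nat_lit 7), (nat_lit 7), (nat_lit 0x1b90d96d4ce9bd543ef4a2e73a26fdb), (nat_lit 0xa1f7a179dc8bd2269cea2fbf3fa6f0), (nat_lit 0)⟩) (BT.leaf ⟨(nat_lit 3), (nat_lit 7), (nat_lit 7), (nat_lit 0xa1f7a179dc8bd2269cea2fbf3fa6f0), (nat_lit 0x1b90d96d4ce9bd543ef4a2e73a26fdb), (nat_lit 0)⟩)) (BT.node (nat_lit 1555) (BT.leaf ⟨(nat_lit 3), (nat_lit 7), (nat_lit 7), (nat_lit 0x13a0bb43d3377a663a65b50abafc5ec), (nat_lit 0x191ba70cbe85f1b34e93eccaba8cb35), (nat_lit 0)⟩) (BT.leaf ⟨(nat_lit 3), (nat_lit 7), (nat_lit 7), (nat_lit 0x127f60ba4b63a7a4e59e92c3b589c8e), (nat_lit 0x11355cb6c172be713ab1d72a67a8bb9),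 (nat_lit 0)⟩))) (BT.node (nat_lit 1558) (BT.node (nat_lit 1557) (BT.leaf ⟨(nat_lit 3), (nat_lit 7), (nat_lit 7), (nat_lit 0x1ae626f512b4e5958ab96d8aa7138b9), (nat_lit 0x9a943ff4365b937aef46399d3786d4), (nat_lit 0)⟩) (BT.leaf ⟨(nat_lit 3), (nat_lit 7), (nat_lit 7), (nat_lit 0x9a943ff4365b937aef46399d3786d4), (nat_lit 0x1ae626f512b4e5958ab96d8aa7138b9), (nat_lit 0)⟩)) (BT.node (nat_lit 1559) (BT.leaf ⟨(nat_lit 3), (nat_lit 7), (nat_lit 7), (nat_lit 0x208c048035e20140363e1bee91cc1e), (nat_lit 0x19a7b374694b7fc3e2aee9c6caa3346), (nat_lit 0)⟩) (BT.leaf ⟨(nat_lit 3), (nat_lit 7), (nat_lit 7), (nat_lit 0x19a7b374694b7fc3e2aee9c6caa3346), (nat_lit 0x208c048035e20140363e1bee91cc1e), (nat_lit 0)⟩)))) (BT.node (nat_lit 1564) (BT.node (nat_lit 1562) (BT.node (nat_lit 1561) (BT.leaf ⟨(nat_lit 3), (nat_lit 7), (nat_lit 7), (nat_lit 0xf0d71bf3fc7365f3ba3efaf8b05b63),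 (nat_lit 0xe939972a6753679f615e355969d583), (nat_lit 0)⟩) (BT.leaf ⟨(nat_lit 3), (nat_lit 7), (nat_lit 7), (nat_lit 0x1cc9045e001412158a57051258063eb), (nat_lit 0xf0cf1e0b7c6b8df99bc9b2b31f3beb), (nat_lit 0)⟩)) (BT.node (nat_lit 1563) (BT.leaf ⟨(nat_lit 3), (nat_lit 7), (nat_lit 7), (nat_lit 0x420a0104fe967b2363a240d7c804e8), (nat_lit 0x4209380cdf80a3a73eb92c02404208), (nat_lit 0)⟩) (BT.leaf ⟨(nat_lit 3), (nat_lit 7), (nat_lit 7), (nat_lit 0xfaf7e0480140a3c2809018ac4445e0), (nat_lit 0x1cc96971ab06cebdd73bc2a1f26cf2a), (nat_lit 0)⟩))) (BT.node (nat_lit 1566) (BT.node (nat_lit 1565) (BT.leaf ⟨(nat_lit 3), (nat_lit 7), (nat_lit 7), (nat_lit 0xe2ae92574bfede55d19cbe17cde21f), (nat_lit 0xdb3a8b965734d226dffd72aed4cbb9), (nat_lit 0)⟩) (BT.leaf ⟨(nat_lit 3), (nat_lit 7), (nat_lit 7), (nat_lit 0x6ca26e74fb7c857a7f4da9bd655ef6), (nat_lit 0x1d581821027f04372090f3b7e24724f),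 (nat_lit 0)⟩)) (BT.node (nat_lit 1567) (BT.leaf ⟨(nat_lit 3), (nat_lit 7), (nat_lit 7), (nat_lit 0x1d581821027f04372090f3b7e24724f), (nat_lit 0x6ca26e74fb7c857a7f4da9bd655ef6), (nat_lit 0)⟩) (BT.leaf ⟨(nat_lit 3), (nat_lit 7), (nat_lit 7), (nat_lit 0x123b7272a8c6243ab1c502006018014), (nat_lit 0x1004088050060855c3e24037a404c72), (nat_lit 0)⟩)))))) (BT.node (nat_lit 1584) (BT.node (nat_lit 1576) (BT.node (nat_lit 1572) (BT.node (nat_lit 1570) (BT.node (nat_lit 1569) (BT.leaf ⟨(nat_lit 3), (nat_lit 7), (nat_lit 7), (nat_lit 0x15a1577519d099663da83d1722f47b7), (nat_lit 0x14bd6613f65e49e6392d35e4bc87d5c), (nat_lit 0)⟩) (BT.leaf ⟨(nat_lit 3), (nat_lit 7), (nat_lit 7), (nat_lit 0xe292dfb76bf74b1625f4ba17d2bd65), (nat_lit 0x6bc95e15b635707d370d44b3017e69), (nat_lit 0)⟩)) (BT.node (nat_lit 1571) (BT.leaf ⟨(nat_lit 3), (nat_lit 7), (nat_lit 7), (nat_lit 0x6bc95e15b635707d370d44b3017e69),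 (nat_lit 0xe292dfb76bf74b1625f4ba17d2bd65), (nat_lit 0)⟩) (BT.leaf ⟨(nat_lit 3), (nat_lit 7), (nat_lit 7), (nat_lit 0x19d35a44d2f273b7aff4df8c7255ee4), (nat_lit 0x14e9042006008405ca01a8da78f1a02), (nat_lit 0)⟩))) (BT.node (nat_lit 1574) (BT.node (nat_lit 1573) (BT.leaf ⟨(nat_lit 3), (nat_lit 7), (nat_lit 7), (nat_lit 0x14e9042006008405ca01a8da78f1a02), (nat_lit 0x19d35a44d2f273b7aff4df8c7255ee4), (nat_lit 0)⟩) (BT.leaf ⟨(nat_lit 3), (nat_lit 7), (nat_lit 7), (nat_lit 0x118c0a13fbf0063ce830dc844208756), (nat_lit 0x1fd2cf68d5c66031d1402415cc82108), (nat_lit 0)⟩)) (BT.node (nat_lit 1575) (BT.leaf ⟨(nat_lit 3), (nat_lit 7), (nat_lit 7), (nat_lit 0x1fd2cf68d5c66031d1402415cc82108), (nat_lit 0x118c0a13fbf0063ce830dc844208756), (nat_lit 0)⟩) (BT.leaf ⟨(nat_lit 3), (nat_lit 7), (nat_lit 7), (nat_lit 0x126acf4de93e27989e9e91d07bbec9e), (nat_lit 0x4fc87db125a6bf51615cd24b817927),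 (nat_lit 0)⟩)))) (BT.node (nat_lit 1580) (BT.node (nat_lit 1578) (BT.node (nat_lit 1577) (BT.leaf ⟨(nat_lit 3), (nat_lit 7), (nat_lit 7), (nat_lit 0x4fc87db125a6bf51615cd24b817927), (nat_lit 0x126acf4de93e27989e9e91d07bbec9e), (nat_lit 0)⟩) (BT.leaf ⟨(nat_lit 3), (nat_lit 7), (nat_lit 7), (nat_lit 0x502d404132bf350fc33e0d37bbd6b4), (nat_lit 0x131c9690f1f585497b9665edc01796f), (nat_lit 0)⟩)) (BT.node (nat_lit 1579) (BT.leaf ⟨(nat_lit 3), (nat_lit 7), (nat_lit 7), (nat_lit 0x1f8e204013d1002042f4804e3697c10), (nat_lit 0x12f6005257011026f0e7d1de4d789), (nat_lit 0)⟩) (BT.leaf ⟨(nat_lit 3), (nat_lit 7), (nat_lit 7), (nat_lit 0x12f6005257011026f0e7d1de4d789), (nat_lit 0x1f8e204013d1002042f4804e3697c10), (nat_lit 0)⟩))) (BT.node (nat_lit 1582) (BT.node (nat_lit 1581) (BT.leaf ⟨(nat_lit 3), (nat_lit 7), (nat_lit 7), (nat_lit 0xe28eae9346dbbcea5d538b698eeb6c),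 (nat_lit 0x14eb0058d0bfa7b39b00402a010832f), (nat_lit 0)⟩) (BT.leaf ⟨(nat_lit 2), (nat_lit 5), (nat_lit 5), (nat_lit 0x413a125bde0014062bd3a201a4d73e), (nat_lit 0), (nat_lit 0)⟩)) (BT.node (nat_lit 1583) (BT.leaf ⟨(nat_lit 2), (nat_lit 5), (nat_lit 5), (nat_lit 0x1e33ceb8d4cb9635170d6262df46f8f), (nat_lit 0), (nat_lit 0)⟩) (BT.leaf ⟨(nat_lit 1), (nat_lit 0), (nat_lit 0), (nat_lit 0x402cf104204441af8d5ae791971e8d), (nat_lit 0x402cf104204441af8d5ae791971e8d), (nat_lit 0)⟩))))) (BT.node (nat_lit 1592) (BT.node (nat_lit 1588) (BT.node (nat_lit 1586) (BT.node (nat_lit 1585) (BT.leaf ⟨(nat_lit 3), (nat_lit 7), (nat_lit 7), (nat_lit 0x87d27d650be6f1b865ff6e9753fadf), (nat_lit 0x1008f44018210003989e881f8f005d5), (nat_lit 0)⟩) (BT.leaf ⟨(nat_lit 3), (nat_lit 7), (nat_lit 7), (nat_lit 0x1008f44018210003989e881f8f005d5), (nat_lit 0x87d27d650be6f1b865ff6e9753fadf),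 (nat_lit 0)⟩)) (BT.node (nat_lit 1587) (BT.leaf ⟨(nat_lit 3), (nat_lit 7), (nat_lit 7), (nat_lit 0x4400872abf006127bf30a04fc48014), (nat_lit 0x1a896613fc2a4b5b812e65e0bc8796f), (nat_lit 0)⟩) (BT.leaf ⟨(nat_lit 3), (nat_lit 7), (nat_lit 7), (nat_lit 0x1a896613fc2a4b5b812e65e0bc8796f), (nat_lit 0x4400872abf006127bf30a04fc48014), (nat_lit 0)⟩))) (BT.node (nat_lit 1590) (BT.node (nat_lit 1589) (BT.leaf ⟨(nat_lit 3), (nat_lit 7), (nat_lit 7), (nat_lit 0x1ad3724f489bbc18e6fca2f9d36a4ab), (nat_lit 0x1e779513feac24009463bf0440081c5), (nat_lit 0)⟩) (BT.leaf ⟨(nat_lit 3), (nat_lit 7), (nat_lit 7), (nat_lit 0x1e779513feac24009463bf0440081c5), (nat_lit 0x1ad3724f489bbc18e6fca2f9d36a4ab), (nat_lit 0)⟩)) (BT.node (nat_lit 1591) (BT.leaf ⟨(nat_lit 2), (nat_lit 5), (nat_lit 5), (nat_lit 0x8da8b9bc94bdf5f5f905c6f85f14d9), (nat_lit 0), (nat_lit 0)⟩) (BT.leaf ⟨(nat_lit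 3), (nat_lit 5), (nat_lit 7), (nat_lit 0x14bda333abab2028041088197e00c20), (nat_lit 0x995c6fcd627e263778f7fd96346f0d), (nat_lit 0)⟩)))) (BT.node (nat_lit 1596) (BT.node (nat_lit 1594) (BT.node (nat_lit 1593) (BT.leaf ⟨(nat_lit 3), (nat_lit 7), (nat_lit 5), (nat_lit 0x995c6fcd627e263778f7fd96346f0d), (nat_lit 0x14bda333abab2028041088197e00c20), (nat_lit 0)⟩) (BT.leaf ⟨(nat_lit 2), (nat_lit 4), (nat_lit 4), (nat_lit 0x10a6f041e0c87e202405f3f3430195), (nat_lit 0), (nat_lit 0)⟩)) (BT.node (nat_lit 1595) (BT.leaf ⟨(nat_lit 2), (nat_lit 4), (nat_lit 4), (nat_lit 0x1bbcea955a96750e8995baa8db2c0fa), (nat_lit 0), (nat_lit 0)⟩) (BT.leaf ⟨(nat_lit 3), (nat_lit 7), (nat_lit 7), (nat_lit 0xd2476c7bae6a1e3187366b1ceae471), (nat_lit 0xe28e29d5baa6546a9556d875ea5f21), (nat_lit 0)⟩))) (BT.node (nat_lit 1598) (BT.node (nat_lit 1597) (BT.leaf ⟨(nat_lit 3), (nat_lit 7),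 (nat_lit 7), (nat_lit 0x5e626e744d5b537ab1c9e9b92559ce), (nat_lit 0x8227a2005008112053a3c6c03f469e), (nat_lit 0)⟩) (BT.leaf ⟨(nat_lit 3), (nat_lit 7), (nat_lit 7), (nat_lit 0x8227a2005008112053a3c6c03f469e), (nat_lit 0x5e626e744d5b537ab1c9e9b92559ce), (nat_lit 0)⟩)) (BT.node (nat_lit 1599) (BT.leaf ⟨(nat_lit 3), (nat_lit 7), (nat_lit 7), (nat_lit 0x131f05dc8b5066ef4dea87ac7169265), (nat_lit 0x10cfe6a405f210a2077a09087dd1940), (nat_lit 0)⟩) (BT.leaf ⟨(nat_lit 3), (nat_lit 7), (nat_lit 7), (nat_lit 0x10cfe6a405f210a2077a09087dd1940), (nat_lit 0x131f05dc8b5066ef4dea87ac7169265), (nat_lit 0)⟩)))))))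
noncomputable def cP1536 : BT Pf := (BT.node (nat_lit 1568) (BT.node (nat_lit 1552) (BT.node (nat_lit 1544) (BT.node (nat_lit 1540) (BT.node (nat_lit 1538) (BT.node (nat_lit 1537) (BT.leaf (.emul [(nat_lit 564), (nat_lit 1482)])) (BT.leaf (.nmul (nat_lit 89) [(nat_lit 43)]))) (BT.node (nat_lit 1539) (BT.leaf (.rel (nat_lit 779) (nat_lit 2) [(nat_lit 825), (nat_lit 89)] [⟨(nat_lit 873), [(nat_lit 1536)], [(nat_lit 416), (nat_lit 1537)]⟩, ⟨(nat_lit 1430), [], [(nat_lit 360), (nat_lit 398)]⟩])) (BT.leaf (.inv (nat_lit 1538))))) (BT.node (nat_lit 1542) (BT.node (nat_lit 1541) (BT.leaf (.rel (nat_lit 1350) (nat_lit 0) [(nat_lit 575), (nat_lit 646)] [⟨(nat_lit 1139), [], [(nat_lit 538), (nat_lit 646)]⟩])) (BT.leaf (.inv (nat_lit 1540)))) (BT.node (nat_lit 1543) (BT.leaf (.rel (nat_lit 1500) (nat_lit 1) [(nat_lit 321), (nat_lit 426)] [⟨(nat_lit 1274), [],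 [(nat_lit 865), (nat_lit 170)]⟩])) (BT.leaf (.inv (nat_lit 1542)))))) (BT.node (nat_lit 1548) (BT.node (nat_lit 1546) (BT.node (nat_lit 1545) (BT.leaf (.rel (nat_lit 1143) (nat_lit 0) [(nat_lit 424), (nat_lit 578)] [⟨(nat_lit 1522), [], [(nat_lit 502), (nat_lit 580)]⟩])) (BT.leaf (.inv (nat_lit 1544)))) (BT.node (nat_lit 1547) (BT.leaf (.emul [(nat_lit 545), (nat_lit 558)])) (BT.leaf (.emul [(nat_lit 564), (nat_lit 1546)])))) (BT.node (nat_lit 1550) (BT.node (nat_lit 1549) (BT.leaf (.emul [(nat_lit 564), (nat_lit 1547)])) (BT.leaf (.rel (nat_lit 1179) (nat_lit 2) [(nat_lit 94), (nat_lit 247)] [⟨(nat_lit 1301), [(nat_lit 1548)], [(nat_lit 360), (nat_lit 236)]⟩, ⟨(nat_lit 1500), [], [(nat_lit 526), (nat_lit 294)]⟩]))) (BT.node (nat_lit 1551) (BT.leaf (.inv (nat_lit 1549))) (BT.leaf (.rel (nat_lit 1000) (nat_lit 2) [(nat_lit 539), (nat_lit 813)] [⟨(nat_lit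 388), [(nat_lit 528)], [(nat_lit 569), (nat_lit 1053)]⟩, ⟨(nat_lit 1331), [(nat_lit 1038)], [(nat_lit 784), (nat_lit 740)]⟩])))))) (BT.node (nat_lit 1560) (BT.node (nat_lit 1556) (BT.node (nat_lit 1554) (BT.node (nat_lit 1553) (BT.leaf (.rel (nat_lit 1296) (nat_lit 0) [(nat_lit 991), (nat_lit 972)] [⟨(nat_lit 1412), [], [(nat_lit 587), (nat_lit 694)]⟩])) (BT.leaf (.inv (nat_lit 1552)))) (BT.node (nat_lit 1555) (BT.leaf (.rel (nat_lit 1505) (nat_lit 1) [(nat_lit 376), (nat_lit 504)] [⟨(nat_lit 1347), [], [(nat_lit 474), (nat_lit 1017)]⟩])) (BT.leaf (.rel (nat_lit 1370) (nat_lit 1) [(nat_lit 689), (nat_lit 525)] [⟨(nat_lit 959), [(nat_lit 935)], [(nat_lit 349), (nat_lit 0)]⟩])))) (BT.node (nat_lit 1558) (BT.node (nat_lit 1557) (BT.leaf (.rel (nat_lit 1011) (nat_lit 0) [(nat_lit 300), (nat_lit 140)] [⟨(nat_lit 1040), [(nat_lit 437)], [(nat_lit 746), (nat_lit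 363)]⟩])) (BT.leaf (.inv (nat_lit 1556)))) (BT.node (nat_lit 1559) (BT.leaf (.rel (nat_lit 1491) (nat_lit 4) [(nat_lit 1092), (nat_lit 498)] [⟨(nat_lit 1525), [(nat_lit 775)], [(nat_lit 350), (nat_lit 401)]⟩, ⟨(nat_lit 1468), [(nat_lit 935)], [(nat_lit 945), (nat_lit 1043)]⟩])) (BT.leaf (.inv (nat_lit 1558)))))) (BT.node (nat_lit 1564) (BT.node (nat_lit 1562) (BT.node (nat_lit 1561) (BT.leaf (.rel (nat_lit 1469) (nat_lit 1) [(nat_lit 152), (nat_lit 334)] [⟨(nat_lit 1303), [(nat_lit 775)], [(nat_lit 392), (nat_lit 870)]⟩])) (BT.leaf (.rel (nat_lit 987) (nat_lit 3) [(nat_lit 905), (nat_lit 270)] [⟨(nat_lit 1062), [(nat_lit 775)], [(nat_lit 166), (nat_lit 651)]⟩, ⟨(nat_lit 959), [(nat_lit 775)], [(nat_lit 483), (nat_lit 363)]⟩]))) (BT.node (nat_lit 1563) (BT.leaf (.rel (nat_lit 1469) (nat_lit 0) [(nat_lit 216), (nat_lit 559)] [⟨(nat_lit 1275), [(nat_lit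 935)], [(nat_lit 474), (nat_lit 969)]⟩])) (BT.leaf (.rel (nat_lit 1285) (nat_lit 4) [(nat_lit 492), (nat_lit 1140)] [⟨(nat_lit 940), [(nat_lit 935)], [(nat_lit 493), (nat_lit 1256)]⟩, ⟨(nat_lit 1382), [(nat_lit 775)], [(nat_lit 336), (nat_lit 681)]⟩])))) (BT.node (nat_lit 1566) (BT.node (nat_lit 1565) (BT.leaf (.rel (nat_lit 1210) (nat_lit 0) [(nat_lit 428), (nat_lit 1537)] [⟨(nat_lit 1489), [], [(nat_lit 840), (nat_lit 265)]⟩])) (BT.leaf (.rel (nat_lit 1241) (nat_lit 0) [(nat_lit 212), (nat_lit 491)] [⟨(nat_lit 1470), [(nat_lit 935)], [(nat_lit 283), (nat_lit 808)]⟩]))) (BT.node (nat_lit 1567) (BT.leaf (.inv (nat_lit 1565))) (BT.leaf (.rel (nat_lit 886) (nat_lit 5) [(nat_lit 943), (nat_lit 389)] [⟨(nat_lit 932), [(nat_lit 1028)], [(nat_lit 111), (nat_lit 936)]⟩, ⟨(nat_lit 1392), [(nat_lit 935)], [(nat_lit 1189), (nat_lit 1140)]⟩]))))))) (BT.node (nat_lit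 1584) (BT.node (nat_lit 1576) (BT.node (nat_lit 1572) (BT.node (nat_lit 1570) (BT.node (nat_lit 1569) (BT.leaf (.rel (nat_lit 1448) (nat_lit 3) [(nat_lit 250), (nat_lit 89)] [⟨(nat_lit 1479), [], [(nat_lit 579), (nat_lit 190)]⟩, ⟨(nat_lit 909), [], [(nat_lit 1162), (nat_lit 1503)]⟩])) (BT.leaf (.rel (nat_lit 1146) (nat_lit 4) [(nat_lit 416), (nat_lit 597)] [⟨(nat_lit 1448), [(nat_lit 935)], [(nat_lit 913), (nat_lit 878)]⟩, ⟨(nat_lit 1365), [(nat_lit 935)], [(nat_lit 900), (nat_lit 263)]⟩]))) (BT.node (nat_lit 1571) (BT.leaf (.inv (nat_lit 1569))) (BT.leaf (.rel (nat_lit 1252) (nat_lit 5) [(nat_lit 1195), (nat_lit 204)] [⟨(nat_lit 1303), [(nat_lit 775)], [(nat_lit 990), (nat_lit 234)]⟩, ⟨(nat_lit 1217), [(nat_lit 935)], [(nat_lit 380), (nat_lit 906)]⟩])))) (BT.node (nat_lit 1574) (BT.node (nat_lit 1573) (BT.leaf (.inv (nat_lit 1571))) (BT.leaf (.rel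 (nat_lit 1430) (nat_lit 1) [(nat_lit 355), (nat_lit 822)] [⟨(nat_lit 1495), [(nat_lit 775)], [(nat_lit 292), (nat_lit 877)]⟩]))) (BT.node (nat_lit 1575) (BT.leaf (.inv (nat_lit 1573))) (BT.leaf (.rel (nat_lit 1224) (nat_lit 5) [(nat_lit 865), (nat_lit 289)] [⟨(nat_lit 1239), [], [(nat_lit 1257), (nat_lit 532)]⟩, ⟨(nat_lit 1130), [], [(nat_lit 19), (nat_lit 738)]⟩]))))) (BT.node (nat_lit 1580) (BT.node (nat_lit 1578) (BT.node (nat_lit 1577) (BT.leaf (.inv (nat_lit 1575))) (BT.leaf (.rel (nat_lit 1161) (nat_lit 0) [(nat_lit 300), (nat_lit 797)] [⟨(nat_lit 1365), [(nat_lit 935)], [(nat_lit 783), (nat_lit 1256)]⟩]))) (BT.node (nat_lit 1579) (BT.leaf (.rel (nat_lit 1408) (nat_lit 4) [(nat_lit 913), (nat_lit 1009)] [⟨(nat_lit 1404), [(nat_lit 935)], [(nat_lit 786), (nat_lit 334)]⟩, ⟨(nat_lit 1576), [(nat_lit 775)], [(nat_lit 914), (nat_lit 173)]⟩])) (BT.leaf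 (.inv (nat_lit 1578))))) (BT.node (nat_lit 1582) (BT.node (nat_lit 1581) (BT.leaf (.rel (nat_lit 984) (nat_lit 5) [(nat_lit 298), (nat_lit 1136)] [⟨(nat_lit 1299), [], [(nat_lit 214), (nat_lit 379)]⟩, ⟨(nat_lit 1499), [(nat_lit 935)], [(nat_lit 953), (nat_lit 684)]⟩])) (BT.leaf (.emul [(nat_lit 654), (nat_lit 701)]))) (BT.node (nat_lit 1583) (BT.leaf (.emul [(nat_lit 645), (nat_lit 1581)])) (BT.leaf (.nmul (nat_lit 369) [(nat_lit 1)])))))) (BT.node (nat_lit 1592) (BT.node (nat_lit 1588) (BT.node (nat_lit 1586) (BT.node (nat_lit 1585) (BT.leaf (.rel (nat_lit 857) (nat_lit 5) [(nat_lit 1099), (nat_lit 497)] [⟨(nat_lit 976), [(nat_lit 1582)], [(nat_lit 95), (nat_lit 1583)]⟩, ⟨(nat_lit 1258), [], [(nat_lit 570), (nat_lit 431)]⟩])) (BT.leaf (.inv (nat_lit 1584)))) (BT.node (nat_lit 1587) (BT.leaf (.rel (nat_lit 1066) (nat_lit 1) [(nat_lit 726), (nat_lit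 439)] [⟨(nat_lit 1351), [], [(nat_lit 787), (nat_lit 334)]⟩])) (BT.leaf (.inv (nat_lit 1586))))) (BT.node (nat_lit 1590) (BT.node (nat_lit 1589) (BT.leaf (.rel (nat_lit 1560) (nat_lit 2) [(nat_lit 513), (nat_lit 880)] [⟨(nat_lit 1568), [], [(nat_lit 249)]⟩, ⟨(nat_lit 1197), [(nat_lit 775)], [(nat_lit 255), (nat_lit 968)]⟩])) (BT.leaf (.inv (nat_lit 1588)))) (BT.node (nat_lit 1591) (BT.leaf (.emul [(nat_lit 626), (nat_lit 910)])) (BT.leaf (.rel (nat_lit 1154) (nat_lit 4) [(nat_lit 237), (nat_lit 1472)] [⟨(nat_lit 766), [(nat_lit 1590)], [(nat_lit 1103), (nat_lit 1583)]⟩, ⟨(nat_lit 765), [(nat_lit 828)], [(nat_lit 943), (nat_lit 125)]⟩]))))) (BT.node (nat_lit 1596) (BT.node (nat_lit 1594) (BT.node (nat_lit 1593) (BT.leaf (.inv (nat_lit 1591))) (BT.leaf (.emul [(nat_lit 552), (nat_lit 552)]))) (BT.node (nat_lit 1595) (BT.leaf (.emul [(nat_lit 558), (nat_lit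 1593)])) (BT.leaf (.rel (nat_lit 1467) (nat_lit 4) [(nat_lit 1235), (nat_lit 506)] [⟨(nat_lit 1220), [], [(nat_lit 463), (nat_lit 498)]⟩, ⟨(nat_lit 780), [(nat_lit 1594)], [(nat_lit 523), (nat_lit 585)]⟩])))) (BT.node (nat_lit 1598) (BT.node (nat_lit 1597) (BT.leaf (.rel (nat_lit 1580) (nat_lit 1) [(nat_lit 1175), (nat_lit 625)] [⟨(nat_lit 1069), [], [(nat_lit 451), (nat_lit 580)]⟩])) (BT.leaf (.inv (nat_lit 1596)))) (BT.node (nat_lit 1599) (BT.leaf (.rel (nat_lit 1221) (nat_lit 4) [(nat_lit 285), (nat_lit 585)] [⟨(nat_lit 1298), [], [(nat_lit 255), (nat_lit 289)]⟩, ⟨(nat_lit 1411), [(nat_lit 775)], [(nat_lit 1126), (nat_lit 797)]⟩])) (BT.leaf (.inv (nat_lit 1598)))))))))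
noncomputable def cF1600 : BT Fc := (BT.node (nat_lit 1632) (BT.node (nat_lit 1616) (BT.node (nat_lit 1608) (BT.node (nat_lit 1604) (BT.node (nat_lit 1602) (BT.node (nat_lit 1601) (BT.leaf ⟨(nat_lit 1), (nat_lit 0), (nat_lit 0), (nat_lit 0x17a532dc83376a27475198f7b3f41e8), (nat_lit 0x17a532dc83376a27475198f7b3f41e8), (nat_lit 0)⟩) (BT.leaf ⟨(nat_lit 3), (nat_lit 7), (nat_lit 7), (nat_lit 0x84120208d3c88197d46b1b9ccf1d3a), (nat_lit 0x637e74e7d70200610856202824127), (nat_lit 0)⟩)) (BT.node (nat_lit 1603) (BT.leaf ⟨(nat_lit 3), (nat_lit 7), (nat_lit 7), (nat_lit 0x637e74e7d70200610856202824127), (nat_lit 0x84120208d3c88197d46b1b9ccf1d3a), (nat_lit 0)⟩) (BT.leaf ⟨(nat_lit 3), (nat_lit 7), (nat_lit 7), (nat_lit 0xf60d974ec8da4efff42a33d13e3756), (nat_lit 0x1365f5bc394a569f09bc7cefcd1b3e3), (nat_lit 0)⟩))) (BT.node (nat_lit 1606) (BT.node (nat_lit 1605)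 (BT.leaf ⟨(nat_lit 3), (nat_lit 7), (nat_lit 7), (nat_lit 0x1365f5bc394a569f09bc7cefcd1b3e3), (nat_lit 0xf60d974ec8da4efff42a33d13e3756), (nat_lit 0)⟩) (BT.leaf ⟨(nat_lit 1), (nat_lit 0), (nat_lit 0), (nat_lit 0x60485f8e55e7508030eac1400a13f), (nat_lit 0x60485f8e55e7508030eac1400a13f), (nat_lit 0)⟩)) (BT.node (nat_lit 1607) (BT.leaf ⟨(nat_lit 3), (nat_lit 7), (nat_lit 7), (nat_lit 0x1083f1dd53d14be4038d68d00601600), (nat_lit 0x6ca55b1cfe945e26efcde9c875a6d4), (nat_lit 0)⟩) (BT.leaf ⟨(nat_lit 3), (nat_lit 3), (nat_lit 7), (nat_lit 0x3b5a4c778e2ff99aeca8e71cb16433), (nat_lit 0x1bc042004e848101249a57a0163b9d1), (nat_lit 0)⟩)))) (BT.node (nat_lit 1612) (BT.node (nat_lit 1610) (BT.node (nat_lit 1609) (BT.leaf ⟨(nat_lit 3), (nat_lit 7), (nat_lit 3), (nat_lit 0x1bc042004e848101249a57a0163b9d1), (nat_lit 0x3b5a4c778e2ff99aeca8e71cb16433), (nat_lit 0)⟩) (BT.leaf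 ⟨(nat_lit 3), (nat_lit 7), (nat_lit 7), (nat_lit 0x180100208d3d4e9020b948151a7a673), (nat_lit 0x18b238c77ce718eae5a6f20d26b9cf3), (nat_lit 0)⟩)) (BT.node (nat_lit 1611) (BT.leaf ⟨(nat_lit 3), (nat_lit 7), (nat_lit 7), (nat_lit 0x18b238c77ce718eae5a6f20d26b9cf3), (nat_lit 0x180100208d3d4e9020b948151a7a673), (nat_lit 0)⟩) (BT.leaf ⟨(nat_lit 3), (nat_lit 7), (nat_lit 7), (nat_lit 0xf8840c0193e10410f8cdea0479df47), (nat_lit 0x4af9f3e73a301042204028113a1477), (nat_lit 0)⟩))) (BT.node (nat_lit 1614) (BT.node (nat_lit 1613) (BT.leaf ⟨(nat_lit 3), (nat_lit 7), (nat_lit 7), (nat_lit 0x4af9f3e73a301042204028113a1477), (nat_lit 0xf8840c0193e10410f8cdea0479df47), (nat_lit 0)⟩) (BT.leaf ⟨(nat_lit 3), (nat_lit 7), (nat_lit 7), (nat_lit 0x1bc23bbe74080195e92bbd9e279f005), (nat_lit 0x754caa362aa746a5f21715a4db60d5), (nat_lit 0)⟩)) (BT.node (nat_lit 1615) (BT.leaf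 ⟨(nat_lit 3), (nat_lit 7), (nat_lit 7), (nat_lit 0x754caa362aa746a5f21715a4db60d5), (nat_lit 0x1bc23bbe74080195e92bbd9e279f005), (nat_lit 0)⟩) (BT.leaf ⟨(nat_lit 3), (nat_lit 7), (nat_lit 7), (nat_lit 0x17d2edd24ff467164ab6e197f60a5f), (nat_lit 0x191ba77c6a8dd103e756196d1b34f47), (nat_lit 0)⟩))))) (BT.node (nat_lit 1624) (BT.node (nat_lit 1620) (BT.node (nat_lit 1618) (BT.node (nat_lit 1617) (BT.leaf ⟨(nat_lit 3), (nat_lit 7), (nat_lit 7), (nat_lit 0x1cc958a571117800600a01325893beb), (nat_lit 0x1d44ad2b11cce5a9a44db07ae57cdff), (nat_lit 0)⟩) (BT.leaf ⟨(nat_lit 3), (nat_lit 7), (nat_lit 7), (nat_lit 0x47ce8141204ff72012030442fc210), (nat_lit 0xf6313db183d27fbed9e9bd23b4f09e), (nat_lit 0)⟩)) (BT.node (nat_lit 1619) (BT.leaf ⟨(nat_lit 3), (nat_lit 7), (nat_lit 7), (nat_lit 0xf6313db183d27fbed9e9bd23b4f09e), (nat_lit 0x47ce8141204ff72012030442fc210), (nat_lit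 0)⟩) (BT.leaf ⟨(nat_lit 3), (nat_lit 7), (nat_lit 7), (nat_lit 0x1df64fdb113cc4f13c9a97ce924749c), (nat_lit 0x9ff8d030240f0c147ad04808b6a453), (nat_lit 0)⟩))) (BT.node (nat_lit 1622) (BT.node (nat_lit 1621) (BT.leaf ⟨(nat_lit 3), (nat_lit 4), (nat_lit 7), (nat_lit 0x9ab5a51750fbd4d94f4de0c736a179), (nat_lit 0xaf558d345737fd7cd836d8a655c239), (nat_lit 0)⟩) (BT.leaf ⟨(nat_lit 3), (nat_lit 7), (nat_lit 4), (nat_lit 0xaf558d345737fd7cd836d8a655c239), (nat_lit 0x9ab5a51750fbd4d94f4de0c736a179), (nat_lit 0)⟩)) (BT.node (nat_lit 1623) (BT.leaf ⟨(nat_lit 3), (nat_lit 7), (nat_lit 7), (nat_lit 0xa38d021b91080120603eb2fbd6bc3), (nat_lit 0xa38d453b902814c9203eaf0c114be), (nat_lit 0)⟩) (BT.leaf ⟨(nat_lit 2), (nat_lit 5), (nat_lit 5), (nat_lit 0x22399d5572008106f48000102049e), (nat_lit 0), (nat_lit 0)⟩)))) (BT.node (nat_lit 1628) (BT.node (nat_lit 1626) (BT.node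 (nat_lit 1625) (BT.leaf ⟨(nat_lit 3), (nat_lit 7), (nat_lit 7), (nat_lit 0x13d29d7e840278f39a00601801eaa08), (nat_lit 0x1bdb9c78f4baf860100225b1c4eb842), (nat_lit 0)⟩) (BT.leaf ⟨(nat_lit 3), (nat_lit 7), (nat_lit 7), (nat_lit 0xbe620040ef4110a02402dfad024195), (nat_lit 0x1bbd1b0fab4cdb0eb9c53baf54e8dd5), (nat_lit 0)⟩)) (BT.node (nat_lit 1627) (BT.leaf ⟨(nat_lit 3), (nat_lit 7), (nat_lit 7), (nat_lit 0xbd28033a82100a404000e6d1aeafe3), (nat_lit 0xee626b6cd945695ea99552be6c1abb), (nat_lit 0)⟩) (BT.leaf ⟨(nat_lit 3), (nat_lit 7), (nat_lit 7), (nat_lit 0x400c068dc753a28002f600b8c810d5), (nat_lit 0x1001a309e80580039d2fbab040f4440), (nat_lit 0)⟩))) (BT.node (nat_lit 1630) (BT.node (nat_lit 1629) (BT.leaf ⟨(nat_lit 3), (nat_lit 7), (nat_lit 7), (nat_lit 0x1caa9d73eacbce31d2d2e741f0e70b7), (nat_lit 0x15a0bb2ae9d17aba8dc887a996fc1e8), (nat_lit 0)⟩) (BT.leaf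 ⟨(nat_lit 3), (nat_lit 7), (nat_lit 7), (nat_lit 0x75010de90071cb7a8015704b820f8c), (nat_lit 0x107834330a13790faf9280902d4044), (nat_lit 0)⟩)) (BT.node (nat_lit 1631) (BT.leaf ⟨(nat_lit 3), (nat_lit 7), (nat_lit 7), (nat_lit 0x11c800811f19d1f7abe20062064fab8), (nat_lit 0xd2619873ab918e798ed8e38b19ac73), (nat_lit 0)⟩) (BT.leaf ⟨(nat_lit 3), (nat_lit 7), (nat_lit 3), (nat_lit 0x17b0827892561123b8057ce7477873e), (nat_lit 0x1295664d96c6f868b9e37c46f3c87e3), (nat_lit 0)⟩)))))) (BT.node (nat_lit 1648) (BT.node (nat_lit 1640) (BT.node (nat_lit 1636) (BT.node (nat_lit 1634) (BT.node (nat_lit 1633) (BT.leaf ⟨(nat_lit 3), (nat_lit 3), (nat_lit 7), (nat_lit 0x1295664d96c6f868b9e37c46f3c87e3), (nat_lit 0x17b0827892561123b8057ce7477873e), (nat_lit 0)⟩) (BT.leaf ⟨(nat_lit 3), (nat_lit 7), (nat_lit 7), (nat_lit 0x75c0949c08420bc7f44405ce1f0822), (nat_lit 0x1d46b44c75a5783dbdf84cb7a98e60b),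 (nat_lit 0)⟩)) (BT.node (nat_lit 1635) (BT.leaf ⟨(nat_lit 3), (nat_lit 7), (nat_lit 7), (nat_lit 0x1d46b44c75a5783dbdf84cb7a98e60b), (nat_lit 0x75c0949c08420bc7f44405ce1f0822), (nat_lit 0)⟩) (BT.leaf ⟨(nat_lit 3), (nat_lit 7), (nat_lit 7), (nat_lit 0x95c7362c37893f2fa5b71417ee94ab), (nat_lit 0x1f8e1040813d97e02600802d199d402), (nat_lit 0)⟩))) (BT.node (nat_lit 1638) (BT.node (nat_lit 1637) (BT.leaf ⟨(nat_lit 3), (nat_lit 7), (nat_lit 7), (nat_lit 0x1f8e1040813d97e02600802d199d402), (nat_lit 0x95c7362c37893f2fa5b71417ee94ab), (nat_lit 0)⟩) (BT.leaf ⟨(nat_lit 2), (nat_lit 5), (nat_lit 5), (nat_lit 0x4b55dc9c8e3ce1f0ef64ba08801102), (nat_lit 0), (nat_lit 0)⟩)) (BT.node (nat_lit 1639) (BT.leaf ⟨(nat_lit 3), (nat_lit 7), (nat_lit 7), (nat_lit 0x3b63d8738c71de29e73f20ffad319b), (nat_lit 0x120039b8d81100700346a01f8e015d5), (nat_lit 0)⟩) (BT.leaf ⟨(nat_lit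 3), (nat_lit 7), (nat_lit 7), (nat_lit 0x120039b8d81100700346a01f8e015d5), (nat_lit 0x3b63d8738c71de29e73f20ffad319b), (nat_lit 0)⟩)))) (BT.node (nat_lit 1644) (BT.node (nat_lit 1642) (BT.node (nat_lit 1641) (BT.leaf ⟨(nat_lit 3), (nat_lit 7), (nat_lit 7), (nat_lit 0x97d2f25d6e197d0f9bcacb7492dfb7), (nat_lit 0xcd63919bab93ce19f908f769a3bc71), (nat_lit 0)⟩) (BT.leaf ⟨(nat_lit 3), (nat_lit 7), (nat_lit 7), (nat_lit 0x7540240004000ba30400100052f810), (nat_lit 0x1de9d207c9b3854e7583675cea9d732), (nat_lit 0)⟩)) (BT.node (nat_lit 1643) (BT.leaf ⟨(nat_lit 3), (nat_lit 7), (nat_lit 7), (nat_lit 0x1de9d207c9b3854e7583675cea9d732), (nat_lit 0x7540240004000ba30400100052f810), (nat_lit 0)⟩) (BT.leaf ⟨(nat_lit 3), (nat_lit 7), (nat_lit 7), (nat_lit 0xd014027c24b79c5ea04497638f8f), (nat_lit 0xbd35cc80881042101e880975680073), (nat_lit 0)⟩))) (BT.node (nat_lit 1646)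 (BT.node (nat_lit 1645) (BT.leaf ⟨(nat_lit 3), (nat_lit 7), (nat_lit 7), (nat_lit 0xbd35cc80881042101e880975680073), (nat_lit 0xd014027c24b79c5ea04497638f8f), (nat_lit 0)⟩) (BT.leaf ⟨(nat_lit 3), (nat_lit 7), (nat_lit 7), (nat_lit 0x1fa1402209e8805011e34214eb00208), (nat_lit 0x1082821f5f2654245a8f9b37820044), (nat_lit 0)⟩)) (BT.node (nat_lit 1647) (BT.leaf ⟨(nat_lit 3), (nat_lit 7), (nat_lit 7), (nat_lit 0x1082821f5f2654245a8f9b37820044), (nat_lit 0x1fa1402209e8805011e34214eb00208), (nat_lit 0)⟩) (BT.leaf ⟨(nat_lit 3), (nat_lit 7), (nat_lit 7), (nat_lit 0x1ad17ca4043fde82204132a5bc285a8), (nat_lit 0x1ad17ca4043fde82204132a5bc285a8), (nat_lit 0)⟩))))) (BT.node (nat_lit 1656) (BT.node (nat_lit 1652) (BT.node (nat_lit 1650) (BT.node (nat_lit 1649) (BT.leaf ⟨(nat_lit 2), (nat_lit 5), (nat_lit 5), (nat_lit 0xb8df9ba3c17df5f1b6346c6f1f13eb), (nat_lit 0),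 (nat_lit 0)⟩) (BT.leaf ⟨(nat_lit 2), (nat_lit 4), (nat_lit 4), (nat_lit 0x2e4f1e00420809002080bec02c6d3a), (nat_lit 0), (nat_lit 0)⟩)) (BT.node (nat_lit 1651) (BT.leaf ⟨(nat_lit 2), (nat_lit 4), (nat_lit 4), (nat_lit 0x11035a04443fde8a0042083c19d1da8), (nat_lit 0), (nat_lit 0)⟩) (BT.leaf ⟨(nat_lit 3), (nat_lit 7), (nat_lit 7), (nat_lit 0x12fb6a71a787eb6e41f5044a6430028), (nat_lit 0x503e68482dfad3832400801403077a), (nat_lit 0)⟩))) (BT.node (nat_lit 1654) (BT.node (nat_lit 1653) (BT.leaf ⟨(nat_lit 3), (nat_lit 7), (nat_lit 7), (nat_lit 0x1757f1c01c014bcf407313d0099d65f), (nat_lit 0x15730ad2fd444ac9732f21edc263b96), (nat_lit 0)⟩) (BT.leaf ⟨(nat_lit 3), (nat_lit 7), (nat_lit 7), (nat_lit 0x15730ad2fd444ac9732f21edc263b96), (nat_lit 0x1757f1c01c014bcf407313d0099d65f), (nat_lit 0)⟩)) (BT.node (nat_lit 1655) (BT.leaf ⟨(nat_lit 3), (nat_lit 7), (nat_lit 7),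 (nat_lit 0x2dfd6b13b1ae37cef8fa69e17c68cb), (nat_lit 0x754eed4bcb1c86d31d73a9755c51f5), (nat_lit 0)⟩) (BT.leaf ⟨(nat_lit 3), (nat_lit 7), (nat_lit 7), (nat_lit 0x754eed4bcb1c86d31d73a9755c51f5), (nat_lit 0x2dfd6b13b1ae37cef8fa69e17c68cb), (nat_lit 0)⟩)))) (BT.node (nat_lit 1660) (BT.node (nat_lit 1658) (BT.node (nat_lit 1657) (BT.leaf ⟨(nat_lit 2), (nat_lit 2), (nat_lit 2), (nat_lit 0x1f186587c68dd9b837477b17fd57756), (nat_lit 0), (nat_lit 0)⟩) (BT.leaf ⟨(nat_lit 2), (nat_lit 2), (nat_lit 2), (nat_lit 0x100b7b12d8e32700501204400c01006), (nat_lit 0), (nat_lit 0)⟩)) (BT.node (nat_lit 1659) (BT.leaf ⟨(nat_lit 3), (nat_lit 7), (nat_lit 7), (nat_lit 0x80402f47f18046f48030131c810ef5), (nat_lit 0x1c3442674500240415681113ce0f7c6), (nat_lit 0)⟩) (BT.leaf ⟨(nat_lit 3), (nat_lit 7), (nat_lit 7), (nat_lit 0x1367993a4acab48e772ae7dcef77b3a), (nat_lit 0x90036f0bd87464d0044080142212b),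 (nat_lit 0)⟩))) (BT.node (nat_lit 1662) (BT.node (nat_lit 1661) (BT.leaf ⟨(nat_lit 3), (nat_lit 7), (nat_lit 7), (nat_lit 0x90036f0bd87464d0044080142212b), (nat_lit 0x1367993a4acab48e772ae7dcef77b3a), (nat_lit 0)⟩) (BT.leaf ⟨(nat_lit 3), (nat_lit 7), (nat_lit 7), (nat_lit 0x1b052bdd26e0b7daffb7378e2927a5f), (nat_lit 0x10212befc5624204474e030821f580a), (nat_lit 0)⟩)) (BT.node (nat_lit 1663) (BT.leaf ⟨(nat_lit 3), (nat_lit 7), (nat_lit 7), (nat_lit 0xdc1cb66965e43eae12e98e5bf0a927), (nat_lit 0x10092e8127c37a8411d704400f9c78f), (nat_lit 0)⟩) (BT.leaf ⟨(nat_lit 3), (nat_lit 7), (nat_lit 7), (nat_lit 0x10092e8127c37a8411d704400f9c78f), (nat_lit 0xdc1cb66965e43eae12e98e5bf0a927), (nat_lit 0)⟩)))))))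
noncomputable def cP1600 : BT Pf := (BT.node (nat_lit 1632) (BT.node (nat_lit 1616) (BT.node (nat_lit 1608) (BT.node (nat_lit 1604) (BT.node (nat_lit 1602) (BT.node (nat_lit 1601) (BT.leaf (.nmul (nat_lit 1218) [(nat_lit 43)])) (BT.leaf (.rel (nat_lit 1314) (nat_lit 4) [(nat_lit 832), (nat_lit 190)] [⟨(nat_lit 980), [(nat_lit 935)], [(nat_lit 1600), (nat_lit 173)]⟩, ⟨(nat_lit 1331), [(nat_lit 678)], [(nat_lit 1026), (nat_lit 1025)]⟩]))) (BT.node (nat_lit 1603) (BT.leaf (.inv (nat_lit 1601))) (BT.leaf (.rel (nat_lit 1052) (nat_lit 4) [(nat_lit 424), (nat_lit 432)] [⟨(nat_lit 1121), [(nat_lit 650)], [(nat_lit 673), (nat_lit 291)]⟩, ⟨(nat_lit 1350), [], [(nat_lit 352), (nat_lit 396)]⟩])))) (BT.node (nat_lit 1606) (BT.node (nat_lit 1605) (BT.leaf (.inv (nat_lit 1603))) (BT.leaf (.nmul (nat_lit 1478) [(nat_lit 19)]))) (BT.node (nat_lit 1607) (BT.leaf (.rel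 (nat_lit 1164) (nat_lit 3) [(nat_lit 827), (nat_lit 90)] [⟨(nat_lit 1377), [(nat_lit 775)], [(nat_lit 427), (nat_lit 1605)]⟩, ⟨(nat_lit 1336), [(nat_lit 775)], [(nat_lit 174), (nat_lit 1478)]⟩])) (BT.leaf (.rel (nat_lit 1553) (nat_lit 3) [(nat_lit 734), (nat_lit 89)] [⟨(nat_lit 1498), [(nat_lit 935)], [(nat_lit 1173), (nat_lit 798)]⟩, ⟨(nat_lit 1055), [(nat_lit 775)], [(nat_lit 295), (nat_lit 974)]⟩]))))) (BT.node (nat_lit 1612) (BT.node (nat_lit 1610) (BT.node (nat_lit 1609) (BT.leaf (.inv (nat_lit 1607))) (BT.leaf (.rel (nat_lit 1486) (nat_lit 1) [(nat_lit 130), (nat_lit 396)] [⟨(nat_lit 1238), [], [(nat_lit 446), (nat_lit 751)]⟩]))) (BT.node (nat_lit 1611) (BT.leaf (.inv (nat_lit 1609))) (BT.leaf (.rel (nat_lit 1336) (nat_lit 2) [(nat_lit 567), (nat_lit 206)] [⟨(nat_lit 1112), [], [(nat_lit 424), (nat_lit 107)]⟩, ⟨(nat_lit 912), [], [(nat_lit 551),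 (nat_lit 190)]⟩])))) (BT.node (nat_lit 1614) (BT.node (nat_lit 1613) (BT.leaf (.inv (nat_lit 1611))) (BT.leaf (.rel (nat_lit 1313) (nat_lit 0) [(nat_lit 733), (nat_lit 432)] [⟨(nat_lit 1137), [(nat_lit 935)], [(nat_lit 462), (nat_lit 875)]⟩]))) (BT.node (nat_lit 1615) (BT.leaf (.inv (nat_lit 1613))) (BT.leaf (.rel (nat_lit 1418) (nat_lit 1) [(nat_lit 784), (nat_lit 108)] [⟨(nat_lit 1578), [(nat_lit 935)], [(nat_lit 568), (nat_lit 802)]⟩])))))) (BT.node (nat_lit 1624) (BT.node (nat_lit 1620) (BT.node (nat_lit 1618) (BT.node (nat_lit 1617) (BT.leaf (.rel (nat_lit 1559) (nat_lit 5) [(nat_lit 705), (nat_lit 333)] [⟨(nat_lit 1425), [(nat_lit 775)], [(nat_lit 1257), (nat_lit 1025)]⟩, ⟨(nat_lit 1476), [], [(nat_lit 550), (nat_lit 797)]⟩])) (BT.leaf (.rel (nat_lit 1122) (nat_lit 4) [(nat_lit 575), (nat_lit 898)] [⟨(nat_lit 1564), [(nat_lit 775)], [(nat_lit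 352), (nat_lit 821)]⟩, ⟨(nat_lit 1271), [(nat_lit 935)], [(nat_lit 258), (nat_lit 777)]⟩]))) (BT.node (nat_lit 1619) (BT.leaf (.inv (nat_lit 1617))) (BT.leaf (.rel (nat_lit 1510) (nat_lit 4) [(nat_lit 427), (nat_lit 169)] [⟨(nat_lit 1154), [(nat_lit 935)], [(nat_lit 404), (nat_lit 808)]⟩, ⟨(nat_lit 1150), [(nat_lit 881)], [(nat_lit 970), (nat_lit 694)]⟩])))) (BT.node (nat_lit 1622) (BT.node (nat_lit 1621) (BT.leaf (.rel (nat_lit 1062) (nat_lit 0) [(nat_lit 164), (nat_lit 205)] [⟨(nat_lit 1220), [(nat_lit 935)], [(nat_lit 259), (nat_lit 1018)]⟩])) (BT.leaf (.inv (nat_lit 1620)))) (BT.node (nat_lit 1623) (BT.leaf (.rel (nat_lit 1294) (nat_lit 0) [(nat_lit 550), (nat_lit 1410)] [⟨(nat_lit 1294), [], [(nat_lit 176), (nat_lit 1036)]⟩])) (BT.leaf (.emul [(nat_lit 594), (nat_lit 1581)]))))) (BT.node (nat_lit 1628) (BT.node (nat_lit 1626) (BT.node (nat_lit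 1625) (BT.leaf (.rel (nat_lit 1592) (nat_lit 0) [(nat_lit 905), (nat_lit 982)] [⟨(nat_lit 1591), [(nat_lit 1623)], [(nat_lit 1337), (nat_lit 431)]⟩])) (BT.leaf (.rel (nat_lit 1230) (nat_lit 4) [(nat_lit 953), (nat_lit 1376)] [⟨(nat_lit 1481), [], [(nat_lit 96), (nat_lit 126)]⟩, ⟨(nat_lit 1127), [(nat_lit 935)], [(nat_lit 164), (nat_lit 581)]⟩]))) (BT.node (nat_lit 1627) (BT.leaf (.rel (nat_lit 1273) (nat_lit 1) [(nat_lit 915), (nat_lit 751)] [⟨(nat_lit 1395), [(nat_lit 775)], [(nat_lit 216), (nat_lit 270)]⟩])) (BT.leaf (.rel (nat_lit 890) (nat_lit 3) [(nat_lit 567), (nat_lit 751)] [⟨(nat_lit 354), [(nat_lit 1073)], [(nat_lit 350), (nat_lit 438)]⟩, ⟨(nat_lit 1097), [(nat_lit 961)], [(nat_lit 353), (nat_lit 223)]⟩])))) (BT.node (nat_lit 1630) (BT.node (nat_lit 1629) (BT.leaf (.rel (nat_lit 1202) (nat_lit 0) [(nat_lit 490)] [⟨(nat_lit 1481), [(nat_lit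 935)], [(nat_lit 259), (nat_lit 500)]⟩])) (BT.leaf (.rel (nat_lit 971) (nat_lit 1) [(nat_lit 255), (nat_lit 363)] [⟨(nat_lit 1322), [], [(nat_lit 786), (nat_lit 892)]⟩]))) (BT.node (nat_lit 1631) (BT.leaf (.rel (nat_lit 1297) (nat_lit 0) [(nat_lit 675), (nat_lit 139)] [⟨(nat_lit 1520), [], [(nat_lit 1257), (nat_lit 172)]⟩])) (BT.leaf (.rel (nat_lit 979) (nat_lit 1) [(nat_lit 404), (nat_lit 625)] [⟨(nat_lit 1196), [(nat_lit 775)], [(nat_lit 212), (nat_lit 968)]⟩]))))))) (BT.node (nat_lit 1648) (BT.node (nat_lit 1640) (BT.node (nat_lit 1636) (BT.node (nat_lit 1634) (BT.node (nat_lit 1633) (BT.leaf (.inv (nat_lit 1631))) (BT.leaf (.rel (nat_lit 998) (nat_lit 0) [(nat_lit 111), (nat_lit 308)] [⟨(nat_lit 1459), [(nat_lit 775)], [(nat_lit 618), (nat_lit 777)]⟩]))) (BT.node (nat_lit 1635) (BT.leaf (.inv (nat_lit 1633))) (BT.leaf (.rel (nat_lit 978) (nat_lit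 5) [(nat_lit 391), (nat_lit 662)] [⟨(nat_lit 1010), [(nat_lit 863)], [(nat_lit 192), (nat_lit 486)]⟩, ⟨(nat_lit 986), [(nat_lit 935)], [(nat_lit 272), (nat_lit 1100)]⟩])))) (BT.node (nat_lit 1638) (BT.node (nat_lit 1637) (BT.leaf (.inv (nat_lit 1635))) (BT.leaf (.emul [(nat_lit 645), (nat_lit 794)]))) (BT.node (nat_lit 1639) (BT.leaf (.rel (nat_lit 1445) (nat_lit 0) [(nat_lit 487), (nat_lit 712)] [⟨(nat_lit 1359), [(nat_lit 1637)], [(nat_lit 356), (nat_lit 593)]⟩])) (BT.leaf (.inv (nat_lit 1638)))))) (BT.node (nat_lit 1644) (BT.node (nat_lit 1642) (BT.node (nat_lit 1641) (BT.leaf (.rel (nat_lit 1397) (nat_lit 1) [(nat_lit 783), (nat_lit 90)] [⟨(nat_lit 1501), [(nat_lit 775)], [(nat_lit 252)]⟩])) (BT.leaf (.rel (nat_lit 1035) (nat_lit 4) [(nat_lit 943), (nat_lit 578)] [⟨(nat_lit 1449), [], [(nat_lit 488), (nat_lit 1109)]⟩, ⟨(nat_lit 1382), [(nat_lit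 775)], [(nat_lit 487), (nat_lit 248)]⟩]))) (BT.node (nat_lit 1643) (BT.leaf (.inv (nat_lit 1641))) (BT.leaf (.rel (nat_lit 1267) (nat_lit 5) [(nat_lit 915), (nat_lit 294)] [⟨(nat_lit 886), [], [(nat_lit 445), (nat_lit 222)]⟩, ⟨(nat_lit 1183), [(nat_lit 1046)], [(nat_lit 503), (nat_lit 556)]⟩])))) (BT.node (nat_lit 1646) (BT.node (nat_lit 1645) (BT.leaf (.inv (nat_lit 1643))) (BT.leaf (.rel (nat_lit 796) (nat_lit 3) [(nat_lit 152), (nat_lit 475)] [⟨(nat_lit 1057), [], [(nat_lit 358), (nat_lit 222)]⟩, ⟨(nat_lit 1229), [(nat_lit 457)], [(nat_lit 942), (nat_lit 813)]⟩]))) (BT.node (nat_lit 1647) (BT.leaf (.inv (nat_lit 1645))) (BT.leaf (.rel (nat_lit 876) (nat_lit 2) [(nat_lit 445), (nat_lit 512)] [⟨(nat_lit 1217), [(nat_lit 935)], [(nat_lit 1257), (nat_lit 1503)]⟩, ⟨(nat_lit 876), [(nat_lit 775)], [(nat_lit 467), (nat_lit 361)]⟩])))))) (BT.node (nat_lit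 1656) (BT.node (nat_lit 1652) (BT.node (nat_lit 1650) (BT.node (nat_lit 1649) (BT.leaf (.emul [(nat_lit 645), (nat_lit 654)])) (BT.leaf (.emul [(nat_lit 564), (nat_lit 1593)]))) (BT.node (nat_lit 1651) (BT.leaf (.emul [(nat_lit 558), (nat_lit 1649)])) (BT.leaf (.rel (nat_lit 884) (nat_lit 5) [(nat_lit 226), (nat_lit 125)] [⟨(nat_lit 732), [(nat_lit 1648)], [(nat_lit 539), (nat_lit 684)]⟩, ⟨(nat_lit 1219), [(nat_lit 1650)], [(nat_lit 257), (nat_lit 330)]⟩])))) (BT.node (nat_lit 1654) (BT.node (nat_lit 1653) (BT.leaf (.rel (nat_lit 1379) (nat_lit 3) [(nat_lit 441), (nat_lit 249)] [⟨(nat_lit 1090), [], [(nat_lit 463), (nat_lit 1256)]⟩, ⟨(nat_lit 1224), [], [(nat_lit 865), (nat_lit 762)]⟩])) (BT.leaf (.inv (nat_lit 1652)))) (BT.node (nat_lit 1655) (BT.leaf (.rel (nat_lit 1626) (nat_lit 1) [(nat_lit 359), (nat_lit 647)] [⟨(nat_lit 1611), [(nat_lit 775)],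 [(nat_lit 434), (nat_lit 1329)]⟩])) (BT.leaf (.inv (nat_lit 1654)))))) (BT.node (nat_lit 1660) (BT.node (nat_lit 1658) (BT.node (nat_lit 1657) (BT.leaf (.emul [(nat_lit 143), (nat_lit 615)])) (BT.leaf (.emul [(nat_lit 168), (nat_lit 1656)]))) (BT.node (nat_lit 1659) (BT.leaf (.rel (nat_lit 1110) (nat_lit 1) [(nat_lit 734), (nat_lit 438)] [⟨(nat_lit 1111), [(nat_lit 1657)], [(nat_lit 212), (nat_lit 1375)]⟩])) (BT.leaf (.rel (nat_lit 1074) (nat_lit 5) [(nat_lit 174), (nat_lit 556)] [⟨(nat_lit 1262), [], [(nat_lit 1201), (nat_lit 172)]⟩, ⟨(nat_lit 1197), [(nat_lit 935)], [(nat_lit 1600), (nat_lit 712)]⟩])))) (BT.node (nat_lit 1662) (BT.node (nat_lit 1661) (BT.leaf (.inv (nat_lit 1659))) (BT.leaf (.rel (nat_lit 1419) (nat_lit 1) [(nat_lit 257), (nat_lit 870)] [⟨(nat_lit 1558), [(nat_lit 935)], [(nat_lit 1257), (nat_lit 1043)]⟩]))) (BT.node (nat_lit 1663)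 (BT.leaf (.rel (nat_lit 1057) (nat_lit 4) [(nat_lit 826), (nat_lit 384)] [⟨(nat_lit 354), [(nat_lit 458)], [(nat_lit 271), (nat_lit 247)]⟩, ⟨(nat_lit 1237), [(nat_lit 458)], [(nat_lit 298), (nat_lit 652)]⟩])) (BT.leaf (.inv (nat_lit 1662)))))))))
noncomputable def cF1664 : BT Fc := (BT.node (nat_lit 1696) (BT.node (nat_lit 1680) (BT.node (nat_lit 1672) (BT.node (nat_lit 1668) (BT.node (nat_lit 1666) (BT.node (nat_lit 1665) (BT.leaf ⟨(nat_lit 3), (nat_lit 7), (nat_lit 7), (nat_lit 0xe2b1605fd83ede8cb70aca97d2f25d), (nat_lit 0x440485f87e723bce93f82093d549c5), (nat_lit 0)⟩) (BT.leaf ⟨(nat_lit 3), (nat_lit 7), (nat_lit 7), (nat_lit 0x440485f87e723bce93f82093d549c5), (nat_lit 0xe2b1605fd83ede8cb70aca97d2f25d), (nat_lit 0)⟩)) (BT.node (nat_lit 1667) (BT.leaf ⟨(nat_lit 2), (nat_lit 2), (nat_lit 2), (nat_lit 0x2e4736276d8e58ad2b9b077fd54f51), (nat_lit 0),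 (nat_lit 0)⟩) (BT.leaf ⟨(nat_lit 3), (nat_lit 7), (nat_lit 7), (nat_lit 0x1bd8e72f4a2fb5143efc365bd3786e4), (nat_lit 0x4080349c8e200f9c3e1dec2092ef8f), (nat_lit 0)⟩))) (BT.node (nat_lit 1670) (BT.node (nat_lit 1669) (BT.leaf ⟨(nat_lit 3), (nat_lit 7), (nat_lit 7), (nat_lit 0x4080349c8e200f9c3e1dec2092ef8f), (nat_lit 0x1bd8e72f4a2fb5143efc365bd3786e4), (nat_lit 0)⟩) (BT.leaf ⟨(nat_lit 3), (nat_lit 7), (nat_lit 7), (nat_lit 0x4be0001008002000f46bd0081f1f3a), (nat_lit 0x2ddff78df3be3c65fad71a99751785), (nat_lit 0)⟩)) (BT.node (nat_lit 1671) (BT.leaf ⟨(nat_lit 3), (nat_lit 7), (nat_lit 7), (nat_lit 0x2ddff78df3be3c65fad71a99751785), (nat_lit 0x4be0001008002000f46bd0081f1f3a), (nat_lit 0)⟩) (BT.leaf ⟨(nat_lit 3), (nat_lit 7), (nat_lit 7), (nat_lit 0x882a3210b1a8042f8b93c681339cf4), (nat_lit 0x3ea1e9d438a75ed336c3a2e28ee8d5), (nat_lit 0)⟩)))) (BT.node (nat_lit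 1676) (BT.node (nat_lit 1674) (BT.node (nat_lit 1673) (BT.leaf ⟨(nat_lit 3), (nat_lit 7), (nat_lit 7), (nat_lit 0x3ea1e9d438a75ed336c3a2e28ee8d5), (nat_lit 0x882a3210b1a8042f8b93c681339cf4), (nat_lit 0)⟩) (BT.leaf ⟨(nat_lit 3), (nat_lit 7), (nat_lit 7), (nat_lit 0x180114530480836a10f7860c0108a0), (nat_lit 0xf0df9be76c678fc81bc8dcf851b4d9), (nat_lit 0)⟩)) (BT.node (nat_lit 1675) (BT.leaf ⟨(nat_lit 3), (nat_lit 7), (nat_lit 7), (nat_lit 0xf0df9be76c678fc81bc8dcf851b4d9), (nat_lit 0x180114530480836a10f7860c0108a0), (nat_lit 0)⟩) (BT.leaf ⟨(nat_lit 3), (nat_lit 7), (nat_lit 7), (nat_lit 0x5e790ff450fbc3726d4ce9ad18e517), (nat_lit 0x5e6c6f857fd4d3c67cde1beb532ea2), (nat_lit 0)⟩))) (BT.node (nat_lit 1678) (BT.node (nat_lit 1677) (BT.leaf ⟨(nat_lit 3), (nat_lit 7), (nat_lit 7), (nat_lit 0x17d2fec1c5974ab2cab4bc9fc731bc), (nat_lit 0xd7ecf0d55c640817e462095cf46900),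 (nat_lit 0)⟩) (BT.leaf ⟨(nat_lit 3), (nat_lit 7), (nat_lit 7), (nat_lit 0xb7ee93700bf8b0731bcaca96d2ecab), (nat_lit 0x2052f0413a8f8ba380325de337ade9), (nat_lit 0)⟩)) (BT.node (nat_lit 1679) (BT.leaf ⟨(nat_lit 3), (nat_lit 7), (nat_lit 7), (nat_lit 0x2052f0413a8f8ba380325de337ade9), (nat_lit 0xb7ee93700bf8b0731bcaca96d2ecab), (nat_lit 0)⟩) (BT.leaf ⟨(nat_lit 3), (nat_lit 7), (nat_lit 7), (nat_lit 0x14ebbd73added25d2565675ccb9d8b7), (nat_lit 0x1b295d8b9571d45cb58357aae54cc4d), (nat_lit 0)⟩))))) (BT.node (nat_lit 1688) (BT.node (nat_lit 1684) (BT.node (nat_lit 1682) (BT.node (nat_lit 1681) (BT.leaf ⟨(nat_lit 3), (nat_lit 7), (nat_lit 7), (nat_lit 0x1b295d8b9571d45cb58357aae54cc4d), (nat_lit 0x14ebbd73added25d2565675ccb9d8b7), (nat_lit 0)⟩) (BT.leaf ⟨(nat_lit 3), (nat_lit 7), (nat_lit 7), (nat_lit 0xb4b9d73b675c69a4eefa7536795738), (nat_lit 0x1010f84418137ad42f9d68503e6c40),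 (nat_lit 0)⟩)) (BT.node (nat_lit 1683) (BT.leaf ⟨(nat_lit 3), (nat_lit 7), (nat_lit 7), (nat_lit 0x1010f84418137ad42f9d68503e6c40), (nat_lit 0xb4b9d73b675c69a4eefa7536795738), (nat_lit 0)⟩) (BT.leaf ⟨(nat_lit 3), (nat_lit 7), (nat_lit 7), (nat_lit 0x6bd6f880f8d5a1400a0301c3460239), (nat_lit 0x118c0c48e02871408a4f02444008210), (nat_lit 0)⟩))) (BT.node (nat_lit 1686) (BT.node (nat_lit 1685) (BT.leaf ⟨(nat_lit 3), (nat_lit 7), (nat_lit 7), (nat_lit 0x118c0c48e02871408a4f02444008210), (nat_lit 0x6bd6f880f8d5a1400a0301c3460239), (nat_lit 0)⟩) (BT.leaf ⟨(nat_lit 3), (nat_lit 7), (nat_lit 7), (nat_lit 0xd1a204020e70059d38d809f8f2fc80), (nat_lit 0xd7db85d24ae974de65f4bd4652fec1), (nat_lit 0)⟩)) (BT.node (nat_lit 1687) (BT.leaf ⟨(nat_lit 3), (nat_lit 7), (nat_lit 7), (nat_lit 0xd7db85d24ae974de65f4bd4652fec1), (nat_lit 0xd1a204020e70059d38d809f8f2fc80), (nat_lit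 0)⟩) (BT.leaf ⟨(nat_lit 3), (nat_lit 7), (nat_lit 7), (nat_lit 0x14eb9f3a4c741f26cfbae7673b95615), (nat_lit 0x40092a9061b90e293f0a093d08090), (nat_lit 0)⟩)))) (BT.node (nat_lit 1692) (BT.node (nat_lit 1690) (BT.node (nat_lit 1689) (BT.leaf ⟨(nat_lit 3), (nat_lit 7), (nat_lit 7), (nat_lit 0x40092a9061b90e293f0a093d08090), (nat_lit 0x14eb9f3a4c741f26cfbae7673b95615), (nat_lit 0)⟩) (BT.leaf ⟨(nat_lit 3), (nat_lit 7), (nat_lit 7), (nat_lit 0x189e6f313efb6c65f49f13d23aa5a6a), (nat_lit 0x1963908d5a96750e89dd46c75c7d195), (nat_lit 0)⟩)) (BT.node (nat_lit 1691) (BT.leaf ⟨(nat_lit 3), (nat_lit 7), (nat_lit 7), (nat_lit 0x1e2751265f5be36c6d34f1832fc28b7), (nat_lit 0x1855cb7dbcd25bd665b1a5e4fc9390f), (nat_lit 0)⟩) (BT.leaf ⟨(nat_lit 3), (nat_lit 7), (nat_lit 7), (nat_lit 0x1855cb7dbcd25bd665b1a5e4fc9390f), (nat_lit 0x1e2751265f5be36c6d34f1832fc28b7), (nat_lit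 0)⟩))) (BT.node (nat_lit 1694) (BT.node (nat_lit 1693) (BT.leaf ⟨(nat_lit 3), (nat_lit 7), (nat_lit 7), (nat_lit 0x10120089e6747a20448088100039fe3), (nat_lit 0x84146d4e350814ca20ecc9fc114be), (nat_lit 0)⟩) (BT.leaf ⟨(nat_lit 3), (nat_lit 7), (nat_lit 7), (nat_lit 0x84146d4e350814ca20ecc9fc114be), (nat_lit 0x10120089e6747a20448088100039fe3), (nat_lit 0)⟩)) (BT.node (nat_lit 1695) (BT.leaf ⟨(nat_lit 3), (nat_lit 7), (nat_lit 7), (nat_lit 0x189d7cf51532ac55ea39573b2a268e6), (nat_lit 0x17e018011eac051548500250400c79d), (nat_lit 0)⟩) (BT.leaf ⟨(nat_lit 3), (nat_lit 7), (nat_lit 7), (nat_lit 0x17e018011eac051548500250400c79d), (nat_lit 0x189d7cf51532ac55ea39573b2a268e6), (nat_lit 0)⟩)))))) (BT.node (nat_lit 1712) (BT.node (nat_lit 1704) (BT.node (nat_lit 1700) (BT.node (nat_lit 1698) (BT.node (nat_lit 1697) (BT.leaf ⟨(nat_lit 3), (nat_lit 7), (nat_lit 7),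 (nat_lit 0x8834f2401734eb007e83c6f5500e73), (nat_lit 0x1ee96ffc66c62073a080ad1200d78a0), (nat_lit 0)⟩) (BT.leaf ⟨(nat_lit 3), (nat_lit 7), (nat_lit 7), (nat_lit 0xf8c97900003bd040400010800011d5), (nat_lit 0xfcc18011dc806127c63bf123809410), (nat_lit 0)⟩)) (BT.node (nat_lit 1699) (BT.leaf ⟨(nat_lit 3), (nat_lit 7), (nat_lit 7), (nat_lit 0xfcc18011dc806127c63bf123809410), (nat_lit 0xf8c97900003bd040400010800011d5), (nat_lit 0)⟩) (BT.leaf ⟨(nat_lit 3), (nat_lit 7), (nat_lit 7), (nat_lit 0x1a785cd3a501fa1ead8da8d3d100b2f), (nat_lit 0xe8e6cbe27cff8d1b3e1f20fcdb1d17), (nat_lit 0)⟩))) (BT.node (nat_lit 1702) (BT.node (nat_lit 1701) (BT.leaf ⟨(nat_lit 3), (nat_lit 7), (nat_lit 7), (nat_lit 0xe8e6cbe27cff8d1b3e1f20fcdb1d17), (nat_lit 0x1a785cd3a501fa1ead8da8d3d100b2f), (nat_lit 0)⟩) (BT.leaf ⟨(nat_lit 3), (nat_lit 7), (nat_lit 7), (nat_lit 0x569dceb9a68be5548b9d94af51c8e6),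 (nat_lit 0x9792efb7acad7f166c1a332ad0f9bc), (nat_lit 0)⟩)) (BT.node (nat_lit 1703) (BT.leaf ⟨(nat_lit 3), (nat_lit 7), (nat_lit 7), (nat_lit 0xe934f6c17b127b13d4b13d23a4b4de), (nat_lit 0x73b3a721de1f6f6a2f4dc9bf255cf4), (nat_lit 0)⟩) (BT.leaf ⟨(nat_lit 3), (nat_lit 7), (nat_lit 7), (nat_lit 0x73b3a721de1f6f6a2f4dc9bf255cf4), (nat_lit 0xe934f6c17b127b13d4b13d23a4b4de), (nat_lit 0)⟩)))) (BT.node (nat_lit 1708) (BT.node (nat_lit 1706) (BT.node (nat_lit 1705) (BT.leaf ⟨(nat_lit 3), (nat_lit 7), (nat_lit 7), (nat_lit 0x2409f81449e06088050060047ab210), (nat_lit 0x1c37c2c6e71a32d32d34b1ac4c5bfad), (nat_lit 0)⟩) (BT.leaf ⟨(nat_lit 3), (nat_lit 7), (nat_lit 7), (nat_lit 0x3b64b49c13d379354be934e92473d8), (nat_lit 0x2e42fd46a74a01009e34808830032f), (nat_lit 0)⟩)) (BT.node (nat_lit 1707) (BT.leaf ⟨(nat_lit 3), (nat_lit 7), (nat_lit 7), (nat_lit 0x2e42fd46a74a01009e34808830032f),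 (nat_lit 0x3b64b49c13d379354be934e92473d8), (nat_lit 0)⟩) (BT.leaf ⟨(nat_lit 3), (nat_lit 7), (nat_lit 7), (nat_lit 0x1365f3ba35c6f87059e3fc6f8bbebc3), (nat_lit 0x49c045e0012fac4401805095e3dab1), (nat_lit 0)⟩))) (BT.node (nat_lit 1710) (BT.node (nat_lit 1709) (BT.leaf ⟨(nat_lit 3), (nat_lit 7), (nat_lit 7), (nat_lit 0x49c045e0012fac4401805095e3dab1), (nat_lit 0x1365f3ba35c6f87059e3fc6f8bbebc3), (nat_lit 0)⟩) (BT.leaf ⟨(nat_lit 3), (nat_lit 7), (nat_lit 7), (nat_lit 0x1b064b26a93c3b74f09eb3d2fbbee27), (nat_lit 0x1296371e3efab31f5f90a2ef89f3bc3), (nat_lit 0)⟩)) (BT.node (nat_lit 1711) (BT.leaf ⟨(nat_lit 3), (nat_lit 7), (nat_lit 7), (nat_lit 0x1296371e3efab31f5f90a2ef89f3bc3), (nat_lit 0x1b064b26a93c3b74f09eb3d2fbbee27), (nat_lit 0)⟩) (BT.leaf ⟨(nat_lit 3), (nat_lit 7), (nat_lit 7), (nat_lit 0xaa409210f3a042fc0507e7043721c5), (nat_lit 0x1e264d0044b6091f380c2571dc03404),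 (nat_lit 0)⟩))))) (BT.node (nat_lit 1720) (BT.node (nat_lit 1716) (BT.node (nat_lit 1714) (BT.node (nat_lit 1713) (BT.leaf ⟨(nat_lit 3), (nat_lit 7), (nat_lit 7), (nat_lit 0x1e264d0044b6091f380c2571dc03404), (nat_lit 0xaa409210f3a042fc0507e7043721c5), (nat_lit 0)⟩) (BT.leaf ⟨(nat_lit 3), (nat_lit 7), (nat_lit 7), (nat_lit 0x84500228a6880faa99050481e1dc8), (nat_lit 0x1c87ed9ced69137fa26adea5e77a6f0), (nat_lit 0)⟩)) (BT.node (nat_lit 1715) (BT.leaf ⟨(nat_lit 3), (nat_lit 7), (nat_lit 7), (nat_lit 0x1c87ed9ced69137fa26adea5e77a6f0), (nat_lit 0x84500228a6880faa99050481e1dc8), (nat_lit 0)⟩) (BT.leaf ⟨(nat_lit 3), (nat_lit 7), (nat_lit 7), (nat_lit 0x75004841403e33a38814bc4b802c72), (nat_lit 0x1bd255e7450f1376a6e45e86cb90b1c), (nat_lit 0)⟩))) (BT.node (nat_lit 1718) (BT.node (nat_lit 1717) (BT.leaf ⟨(nat_lit 3), (nat_lit 7), (nat_lit 7), (nat_lit 0x7a21edc898f3a3f4568c16b48bb5ea),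 (nat_lit 0xf85f14d9378b3252bebf208dbf1b63), (nat_lit 0)⟩) (BT.leaf ⟨(nat_lit 3), (nat_lit 7), (nat_lit 7), (nat_lit 0xf85f14d9378b3252bebf208dbf1b63), (nat_lit 0x7a21edc898f3a3f4568c16b48bb5ea), (nat_lit 0)⟩)) (BT.node (nat_lit 1719) (BT.leaf ⟨(nat_lit 3), (nat_lit 7), (nat_lit 7), (nat_lit 0x2005048035ed8eb4082f75f1842180), (nat_lit 0xf0cde3eb746b3171be39b278cad363), (nat_lit 0)⟩) (BT.leaf ⟨(nat_lit 3), (nat_lit 7), (nat_lit 7), (nat_lit 0xf0cde3eb746b3171be39b278cad363), (nat_lit 0x2005048035ed8eb4082f75f1842180), (nat_lit 0)⟩)))) (BT.node (nat_lit 1724) (BT.node (nat_lit 1722) (BT.node (nat_lit 1721) (BT.leaf ⟨(nat_lit 3), (nat_lit 7), (nat_lit 7), (nat_lit 0x482b99106be50017d00600601dc902), (nat_lit 0x11de39d5c8f666e39349ce73ce31c33), (nat_lit 0)⟩) (BT.leaf ⟨(nat_lit 3), (nat_lit 7), (nat_lit 7), (nat_lit 0x11de39d5c8f666e39349ce73ce31c33), (nat_lit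 0x482b99106be50017d00600601dc902), (nat_lit 0)⟩)) (BT.node (nat_lit 1723) (BT.leaf ⟨(nat_lit 3), (nat_lit 7), (nat_lit 7), (nat_lit 0x1698fac3d6d875f909dd3a871749d4b), (nat_lit 0x127e00be24bde32f4805e8e20401ef5), (nat_lit 0)⟩) (BT.leaf ⟨(nat_lit 3), (nat_lit 7), (nat_lit 7), (nat_lit 0x127e00be24bde32f4805e8e20401ef5), (nat_lit 0x1698fac3d6d875f909dd3a871749d4b), (nat_lit 0)⟩))) (BT.node (nat_lit 1726) (BT.node (nat_lit 1725) (BT.leaf ⟨(nat_lit 3), (nat_lit 7), (nat_lit 7), (nat_lit 0x1caa6cf38ddf4eab2fbac2b60f9d9ce), (nat_lit 0x17a6d45c89d17b3a899b638997f45e0), (nat_lit 0)⟩) (BT.leaf ⟨(nat_lit 2), (nat_lit 4), (nat_lit 4), (nat_lit 0x131c1793f25e6beae0fa257f6d6632f), (nat_lit 0), (nat_lit 0)⟩)) (BT.node (nat_lit 1727) (BT.leaf ⟨(nat_lit 3), (nat_lit 7), (nat_lit 7), (nat_lit 0x1919ec2aebfe6cba374268da4fa387c), (nat_lit 0x100080004040007a378d7c77a239a00),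 (nat_lit 0)⟩) (BT.leaf ⟨(nat_lit 3), (nat_lit 7), (nat_lit 7), (nat_lit 0x100080004040007a378d7c77a239a00), (nat_lit 0x1919ec2aebfe6cba374268da4fa387c), (nat_lit 0)⟩)))))))
noncomputable def cP1664 : BT Pf := (BT.node (nat_lit 1696) (BT.node (nat_lit 1680) (BT.node (nat_lit 1672) (BT.node (nat_lit 1668) (BT.node (nat_lit 1666) (BT.node (nat_lit 1665) (BT.leaf (.rel (nat_lit 1149) (nat_lit 2) [(nat_lit 298), (nat_lit 596)] [⟨(nat_lit 793), [(nat_lit 1255)], [(nat_lit 826), (nat_lit 891)]⟩, ⟨(nat_lit 908), [(nat_lit 935)], [(nat_lit 832), (nat_lit 279)]⟩])) (BT.leaf (.inv (nat_lit 1664)))) (BT.node (nat_lit 1667) (BT.leaf (.emul [(nat_lit 168), (nat_lit 1276)])) (BT.leaf (.rel (nat_lit 1110) (nat_lit 3) [(nat_lit 1218), (nat_lit 1133)] [⟨(nat_lit 1389), [(nat_lit 238), (nat_lit 1666)], [(nat_lit 208), (nat_lit 712)]⟩, ⟨(nat_lit 1167), [], [(nat_lit 429),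 (nat_lit 604)]⟩])))) (BT.node (nat_lit 1670) (BT.node (nat_lit 1669) (BT.leaf (.inv (nat_lit 1667))) (BT.leaf (.rel (nat_lit 1541) (nat_lit 1) [(nat_lit 913), (nat_lit 738)] [⟨(nat_lit 1023), [], [(nat_lit 259), (nat_lit 1348)]⟩]))) (BT.node (nat_lit 1671) (BT.leaf (.inv (nat_lit 1669))) (BT.leaf (.rel (nat_lit 1668) (nat_lit 4) [(nat_lit 1087), (nat_lit 203)] [⟨(nat_lit 1447), [(nat_lit 775)], [(nat_lit 93), (nat_lit 328)]⟩, ⟨(nat_lit 1567), [], [(nat_lit 447), (nat_lit 597)]⟩]))))) (BT.node (nat_lit 1676) (BT.node (nat_lit 1674) (BT.node (nat_lit 1673) (BT.leaf (.inv (nat_lit 1671))) (BT.leaf (.rel (nat_lit 1495) (nat_lit 5) [(nat_lit 726), (nat_lit 974)] [⟨(nat_lit 807), [], [(nat_lit 357), (nat_lit 525)]⟩, ⟨(nat_lit 1553), [(nat_lit 935)], [(nat_lit 689), (nat_lit 490)]⟩]))) (BT.node (nat_lit 1675) (BT.leaf (.inv (nat_lit 1673))) (BT.leaf (.rel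 (nat_lit 1625) (nat_lit 1) [(nat_lit 359), (nat_lit 369)] [⟨(nat_lit 1615), [], [(nat_lit 941), (nat_lit 140)]⟩])))) (BT.node (nat_lit 1678) (BT.node (nat_lit 1677) (BT.leaf (.rel (nat_lit 1233) (nat_lit 0) [(nat_lit 733), (nat_lit 1348)] [⟨(nat_lit 836), [(nat_lit 935)], [(nat_lit 394), (nat_lit 169)]⟩])) (BT.leaf (.rel (nat_lit 1144) (nat_lit 3) [(nat_lit 239), (nat_lit 985)] [⟨(nat_lit 1110), [(nat_lit 935)], [(nat_lit 211), (nat_lit 740)]⟩, ⟨(nat_lit 769), [(nat_lit 238), (nat_lit 656)], [(nat_lit 913), (nat_lit 1478)]⟩]))) (BT.node (nat_lit 1679) (BT.leaf (.inv (nat_lit 1677))) (BT.leaf (.rel (nat_lit 1221) (nat_lit 3) [(nat_lit 705), (nat_lit 363)] [⟨(nat_lit 1240), [(nat_lit 775)], [(nat_lit 1242), (nat_lit 247)]⟩, ⟨(nat_lit 1119), [(nat_lit 935)], [(nat_lit 1106), (nat_lit 555)]⟩])))))) (BT.node (nat_lit 1688) (BT.node (nat_lit 1684) (BT.node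 (nat_lit 1682) (BT.node (nat_lit 1681) (BT.leaf (.inv (nat_lit 1679))) (BT.leaf (.rel (nat_lit 984) (nat_lit 3) [(nat_lit 914), (nat_lit 778)] [⟨(nat_lit 1565), [(nat_lit 775)], [(nat_lit 284), (nat_lit 785)]⟩, ⟨(nat_lit 1584), [], [(nat_lit 827), (nat_lit 506)]⟩]))) (BT.node (nat_lit 1683) (BT.leaf (.inv (nat_lit 1681))) (BT.leaf (.rel (nat_lit 1589) (nat_lit 0) [(nat_lit 175), (nat_lit 171)] [⟨(nat_lit 1440), [(nat_lit 775)], [(nat_lit 356), (nat_lit 1203)]⟩])))) (BT.node (nat_lit 1686) (BT.node (nat_lit 1685) (BT.leaf (.inv (nat_lit 1683))) (BT.leaf (.rel (nat_lit 1466) (nat_lit 4) [(nat_lit 164), (nat_lit 202)] [⟨(nat_lit 984), [(nat_lit 775)], [(nat_lit 392), (nat_lit 596)]⟩, ⟨(nat_lit 1377), [(nat_lit 775)], [(nat_lit 488), (nat_lit 372)]⟩]))) (BT.node (nat_lit 1687) (BT.leaf (.inv (nat_lit 1685))) (BT.leaf (.rel (nat_lit 1347) (nat_lit 0) [(nat_lit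 474), (nat_lit 525)] [⟨(nat_lit 1074), [], [(nat_lit 1099), (nat_lit 399)]⟩]))))) (BT.node (nat_lit 1692) (BT.node (nat_lit 1690) (BT.node (nat_lit 1689) (BT.leaf (.inv (nat_lit 1687))) (BT.leaf (.rel (nat_lit 1275) (nat_lit 3) [(nat_lit 579), (nat_lit 814)] [⟨(nat_lit 1022), [], [(nat_lit 911), (nat_lit 880)]⟩, ⟨(nat_lit 963), [], [(nat_lit 241), (nat_lit 162)]⟩]))) (BT.node (nat_lit 1691) (BT.leaf (.rel (nat_lit 1469) (nat_lit 3) [(nat_lit 237), (nat_lit 525)] [⟨(nat_lit 1295), [], [(nat_lit 759), (nat_lit 906)]⟩, ⟨(nat_lit 1467), [(nat_lit 775)], [(nat_lit 348), (nat_lit 367)]⟩])) (BT.leaf (.inv (nat_lit 1690))))) (BT.node (nat_lit 1694) (BT.node (nat_lit 1693) (BT.leaf (.rel (nat_lit 1671) (nat_lit 1) [(nat_lit 482), (nat_lit 253)] [⟨(nat_lit 1104), [(nat_lit 935)], [(nat_lit 829), (nat_lit 490)]⟩])) (BT.leaf (.inv (nat_lit 1692)))) (BT.node (nat_lit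 1695) (BT.leaf (.rel (nat_lit 1260) (nat_lit 2) [(nat_lit 747), (nat_lit 563)] [⟨(nat_lit 1261), [(nat_lit 1546)], [(nat_lit 394), (nat_lit 717)]⟩, ⟨(nat_lit 1119), [(nat_lit 935)], [(nat_lit 441), (nat_lit 490)]⟩])) (BT.leaf (.inv (nat_lit 1694)))))))) (BT.node (nat_lit 1712) (BT.node (nat_lit 1704) (BT.node (nat_lit 1700) (BT.node (nat_lit 1698) (BT.node (nat_lit 1697) (BT.leaf (.rel (nat_lit 1429) (nat_lit 0) [(nat_lit 539), (nat_lit 334)] [⟨(nat_lit 1125), [], [(nat_lit 520), (nat_lit 684)]⟩])) (BT.leaf (.rel (nat_lit 998) (nat_lit 2) [(nat_lit 259), (nat_lit 581)] [⟨(nat_lit 1523), [(nat_lit 775)], [(nat_lit 152), (nat_lit 438)]⟩, ⟨(nat_lit 1498), [], [(nat_lit 1235), (nat_lit 555)]⟩]))) (BT.node (nat_lit 1699) (BT.leaf (.inv (nat_lit 1697))) (BT.leaf (.rel (nat_lit 1608) (nat_lit 2) [(nat_lit 209), (nat_lit 202)] [⟨(nat_lit 1020), [(nat_lit 1084)],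 [(nat_lit 913), (nat_lit 225)]⟩, ⟨(nat_lit 1492), [(nat_lit 935)], [(nat_lit 695), (nat_lit 347)]⟩])))) (BT.node (nat_lit 1702) (BT.node (nat_lit 1701) (BT.leaf (.inv (nat_lit 1699))) (BT.leaf (.rel (nat_lit 1422) (nat_lit 3) [(nat_lit 990), (nat_lit 171)] [⟨(nat_lit 1281), [(nat_lit 935)], [(nat_lit 832), (nat_lit 532)]⟩, ⟨(nat_lit 912), [], [(nat_lit 427), (nat_lit 319)]⟩]))) (BT.node (nat_lit 1703) (BT.leaf (.rel (nat_lit 1693) (nat_lit 0) [(nat_lit 503), (nat_lit 777)] [⟨(nat_lit 1320), [(nat_lit 935)], [(nat_lit 429), (nat_lit 162)]⟩])) (BT.leaf (.inv (nat_lit 1702)))))) (BT.node (nat_lit 1708) (BT.node (nat_lit 1706) (BT.node (nat_lit 1705) (BT.leaf (.rel (nat_lit 1641) (nat_lit 1) [(nat_lit 1175), (nat_lit 563)] [⟨(nat_lit 1291), [(nat_lit 935)], [(nat_lit 928), (nat_lit 891)]⟩])) (BT.leaf (.rel (nat_lit 1326) (nat_lit 4) [(nat_lit 492), (nat_lit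 870)] [⟨(nat_lit 1587), [(nat_lit 775)], [(nat_lit 433), (nat_lit 762)]⟩, ⟨(nat_lit 1544), [(nat_lit 935)], [(nat_lit 759), (nat_lit 628)]⟩]))) (BT.node (nat_lit 1707) (BT.leaf (.inv (nat_lit 1705))) (BT.leaf (.rel (nat_lit 1671) (nat_lit 5) [(nat_lit 707), (nat_lit 291)] [⟨(nat_lit 1156), [], [(nat_lit 784), (nat_lit 751)]⟩, ⟨(nat_lit 1701), [], [(nat_lit 943), (nat_lit 969)]⟩])))) (BT.node (nat_lit 1710) (BT.node (nat_lit 1709) (BT.leaf (.inv (nat_lit 1707))) (BT.leaf (.rel (nat_lit 1129) (nat_lit 2) [(nat_lit 164), (nat_lit 891)] [⟨(nat_lit 1213), [(nat_lit 775)], [(nat_lit 406), (nat_lit 1)]⟩, ⟨(nat_lit 1328), [(nat_lit 935)], [(nat_lit 469), (nat_lit 1226)]⟩]))) (BT.node (nat_lit 1711) (BT.leaf (.inv (nat_lit 1709))) (BT.leaf (.rel (nat_lit 1652) (nat_lit 2) [(nat_lit 445), (nat_lit 868)] [⟨(nat_lit 1481), [], [(nat_lit 690), (nat_lit 646)]⟩,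 ⟨(nat_lit 1626), [(nat_lit 935)], [(nat_lit 177), (nat_lit 814)]⟩])))))) (BT.node (nat_lit 1720) (BT.node (nat_lit 1716) (BT.node (nat_lit 1714) (BT.node (nat_lit 1713) (BT.leaf (.inv (nat_lit 1711))) (BT.leaf (.rel (nat_lit 1208) (nat_lit 4) [(nat_lit 503), (nat_lit 265)] [⟨(nat_lit 1644), [(nat_lit 935)], [(nat_lit 43), (nat_lit 439)]⟩, ⟨(nat_lit 1704), [(nat_lit 775)], [(nat_lit 255), (nat_lit 821)]⟩]))) (BT.node (nat_lit 1715) (BT.leaf (.inv (nat_lit 1713))) (BT.leaf (.rel (nat_lit 1469) (nat_lit 1) [(nat_lit 911), (nat_lit 646)] [⟨(nat_lit 1601), [(nat_lit 935)], [(nat_lit 376), (nat_lit 290)]⟩])))) (BT.node (nat_lit 1718) (BT.node (nat_lit 1717) (BT.leaf (.rel (nat_lit 1420) (nat_lit 1) [(nat_lit 462), (nat_lit 1100)] [⟨(nat_lit 1699), [(nat_lit 935)], [(nat_lit 97), (nat_lit 490)]⟩])) (BT.leaf (.inv (nat_lit 1716)))) (BT.node (nat_lit 1719)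 (BT.leaf (.rel (nat_lit 1467) (nat_lit 3) [(nat_lit 784), (nat_lit 306)] [⟨(nat_lit 1431), [(nat_lit 775)], [(nat_lit 256), (nat_lit 398)]⟩, ⟨(nat_lit 1663), [(nat_lit 935)], [(nat_lit 782), (nat_lit 877)]⟩])) (BT.leaf (.inv (nat_lit 1718)))))) (BT.node (nat_lit 1724) (BT.node (nat_lit 1722) (BT.node (nat_lit 1721) (BT.leaf (.rel (nat_lit 1698) (nat_lit 3) [(nat_lit 267), (nat_lit 478)] [⟨(nat_lit 1499), [(nat_lit 775)], [(nat_lit 403), (nat_lit 90)]⟩, ⟨(nat_lit 1405), [(nat_lit 775)], [(nat_lit 544), (nat_lit 0)]⟩])) (BT.leaf (.inv (nat_lit 1720)))) (BT.node (nat_lit 1723) (BT.leaf (.rel (nat_lit 1380) (nat_lit 0) [(nat_lit 582), (nat_lit 1165)] [⟨(nat_lit 1339), [], [(nat_lit 164), (nat_lit 0)]⟩])) (BT.leaf (.inv (nat_lit 1722))))) (BT.node (nat_lit 1726) (BT.node (nat_lit 1725) (BT.leaf (.rel (nat_lit 1646) (nat_lit 0) [(nat_lit 193), (nat_lit 814)]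 [⟨(nat_lit 1652), [], [(nat_lit 153), (nat_lit 880)]⟩])) (BT.leaf (.emul [(nat_lit 558), (nat_lit 1594)]))) (BT.node (nat_lit 1727) (BT.leaf (.rel (nat_lit 1260) (nat_lit 1) [(nat_lit 825), (nat_lit 1043)] [⟨(nat_lit 1301), [(nat_lit 1725)], [(nat_lit 579), (nat_lit 438)]⟩])) (BT.leaf (.inv (nat_lit 1726)))))))))
noncomputable def cF1728 : BT Fc := (BT.node (nat_lit 1760) (BT.node (nat_lit 1744) (BT.node (nat_lit 1736) (BT.node (nat_lit 1732) (BT.node (nat_lit 1730) (BT.node (nat_lit 1729) (BT.leaf ⟨(nat_lit 3), (nat_lit 7), (nat_lit 7), (nat_lit 0x2e74f2104029030032ffd19cd0258d), (nat_lit 0x7506a9d16d8655c50fa87a554e2f21), (nat_lit 0)⟩) (BT.leaf ⟨(nat_lit 3), (nat_lit 7), (nat_lit 7), (nat_lit 0x17490fadf4fed7d2f2574be93d2e9bc), (nat_lit 0xffa19c631db57039c7b8e73cf39f90), (nat_lit 0)⟩)) (BT.node (nat_lit 1731) (BT.leaf ⟨(nat_lit 3), (nat_lit 7), (nat_lit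 7), (nat_lit 0x401804e85c7401dc940c8d8e9afd73), (nat_lit 0x1d5afc13f82004154bf3121b9127830), (nat_lit 0)⟩) (BT.leaf ⟨(nat_lit 3), (nat_lit 7), (nat_lit 7), (nat_lit 0xae440746041bd097f8d40097ceac00), (nat_lit 0x995572d2bc1edfa8de92ed7b2f5568), (nat_lit 0)⟩))) (BT.node (nat_lit 1734) (BT.node (nat_lit 1733) (BT.leaf ⟨(nat_lit 3), (nat_lit 7), (nat_lit 7), (nat_lit 0xaec8112d80480af5042e70048033e1), (nat_lit 0x2404041e104281400849e6d8c60674), (nat_lit 0)⟩) (BT.leaf ⟨(nat_lit 3), (nat_lit 7), (nat_lit 7), (nat_lit 0x2404041e104281400849e6d8c60674), (nat_lit 0xaec8112d80480af5042e70048033e1), (nat_lit 0)⟩)) (BT.node (nat_lit 1735) (BT.leaf ⟨(nat_lit 3), (nat_lit 7), (nat_lit 7), (nat_lit 0x8105e83ab00097801021ceb7a746), (nat_lit 0x127dec49e935273bee9e9bd6c5356c1), (nat_lit 0)⟩) (BT.leaf ⟨(nat_lit 3), (nat_lit 7), (nat_lit 7), (nat_lit 0x1d39a3646e85a4fab766e88abaa3519),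 (nat_lit 0xe37e6c6ef18997c4ea216fc3465f85), (nat_lit 0)⟩)))) (BT.node (nat_lit 1740) (BT.node (nat_lit 1738) (BT.node (nat_lit 1737) (BT.leaf ⟨(nat_lit 3), (nat_lit 7), (nat_lit 7), (nat_lit 0xe37e6c6ef18997c4ea216fc3465f85), (nat_lit 0x1d39a3646e85a4fab766e88abaa3519), (nat_lit 0)⟩) (BT.leaf ⟨(nat_lit 3), (nat_lit 7), (nat_lit 7), (nat_lit 0xac64b74e21049c0c1dd05012006008), (nat_lit 0x1a34887f4ae64028059e204d7c6ae46), (nat_lit 0)⟩)) (BT.node (nat_lit 1739) (BT.leaf ⟨(nat_lit 3), (nat_lit 7), (nat_lit 7), (nat_lit 0x1a34887f4ae64028059e204d7c6ae46), (nat_lit 0xac64b74e21049c0c1dd05012006008), (nat_lit 0)⟩) (BT.leaf ⟨(nat_lit 3), (nat_lit 7), (nat_lit 7), (nat_lit 0x90907ad0c07d53f90f060f0c10a20), (nat_lit 0x10bbd4400c087ccacde48012020050), (nat_lit 0)⟩))) (BT.node (nat_lit 1742) (BT.node (nat_lit 1741) (BT.leaf ⟨(nat_lit 3), (nat_lit 5), (nat_lit 5),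 (nat_lit 0x1d1f7aab800a4b8ea49f803e3020881), (nat_lit 0x1365a4eefe741f0e7615749ee99d73e), (nat_lit 0)⟩) (BT.leaf ⟨(nat_lit 3), (nat_lit 7), (nat_lit 7), (nat_lit 0x1e3f9c0822044b77b4710061095dc9c), (nat_lit 0x97d0fa7f37817e55a5e5be93db85d2), (nat_lit 0)⟩)) (BT.node (nat_lit 1743) (BT.leaf ⟨(nat_lit 3), (nat_lit 7), (nat_lit 7), (nat_lit 0x97d0fa7f37817e55a5e5be93db85d2), (nat_lit 0x1e3f9c0822044b77b4710061095dc9c), (nat_lit 0)⟩) (BT.leaf ⟨(nat_lit 3), (nat_lit 7), (nat_lit 7), (nat_lit 0xac414088e9d25804848810423c2a08), (nat_lit 0x11cd2ff8d0037a39d10025eae77a1d5), (nat_lit 0)⟩))))) (BT.node (nat_lit 1752) (BT.node (nat_lit 1748) (BT.node (nat_lit 1746) (BT.node (nat_lit 1745) (BT.leaf ⟨(nat_lit 3), (nat_lit 7), (nat_lit 7), (nat_lit 0x11cd2ff8d0037a39d10025eae77a1d5), (nat_lit 0xac414088e9d25804848810423c2a08), (nat_lit 0)⟩) (BT.leaf ⟨(nat_lit 1),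 (nat_lit 0), (nat_lit 0), (nat_lit 0x312d80493474502044e844ad5e824), (nat_lit 0x312d80493474502044e844ad5e824), (nat_lit 0)⟩)) (BT.node (nat_lit 1747) (BT.leaf ⟨(nat_lit 3), (nat_lit 7), (nat_lit 7), (nat_lit 0x1812477f120304249a4b6af40a404), (nat_lit 0x174ab2a4f4ba6f0733704b6b7f1625e), (nat_lit 0)⟩) (BT.leaf ⟨(nat_lit 3), (nat_lit 7), (nat_lit 7), (nat_lit 0x113e6f06080900212f98801235a5a8), (nat_lit 0x5e77ad17de9bc13544d9e99d35a1ce), (nat_lit 0)⟩))) (BT.node (nat_lit 1750) (BT.node (nat_lit 1749) (BT.leaf ⟨(nat_lit 3), (nat_lit 7), (nat_lit 7), (nat_lit 0x5e77ad17de9bc13544d9e99d35a1ce), (nat_lit 0x113e6f06080900212f98801235a5a8), (nat_lit 0)⟩) (BT.leaf ⟨(nat_lit 3), (nat_lit 7), (nat_lit 7), (nat_lit 0x1365663e72b4f0e52a367c26f1f1d17), (nat_lit 0x1d58e2f2a12123a31ee40220609f830), (nat_lit 0)⟩)) (BT.node (nat_lit 1751) (BT.leaf ⟨(nat_lit 3), (nat_lit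 7), (nat_lit 7), (nat_lit 0x17e3f45eaad0ab8bb5a898f3a305f51), (nat_lit 0x1ae439c0113d401c6b3a5e9f8e04346), (nat_lit 0)⟩) (BT.leaf ⟨(nat_lit 3), (nat_lit 7), (nat_lit 7), (nat_lit 0x1ae439c0113d401c6b3a5e9f8e04346), (nat_lit 0x17e3f45eaad0ab8bb5a898f3a305f51), (nat_lit 0)⟩)))) (BT.node (nat_lit 1756) (BT.node (nat_lit 1754) (BT.node (nat_lit 1753) (BT.leaf ⟨(nat_lit 3), (nat_lit 7), (nat_lit 7), (nat_lit 0x182df11bcfc6f8df3ae37e7df6373e1), (nat_lit 0x152c76c8e13da7a4d4ded83df589c9c), (nat_lit 0)⟩) (BT.leaf ⟨(nat_lit 3), (nat_lit 7), (nat_lit 7), (nat_lit 0x503bd240f9a3017c844d68656204de), (nat_lit 0x1d08061d100c014227890480124d404), (nat_lit 0)⟩)) (BT.node (nat_lit 1755) (BT.leaf ⟨(nat_lit 3), (nat_lit 7), (nat_lit 7), (nat_lit 0x1d08061d100c014227890480124d404), (nat_lit 0x503bd240f9a3017c844d68656204de), (nat_lit 0)⟩) (BT.leaf ⟨(nat_lit 3), (nat_lit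 7), (nat_lit 7), (nat_lit 0xaee26ab81734d11cab11cc5694ce27), (nat_lit 0x3ead8b966e043f34d2f2de4bbedcc7), (nat_lit 0)⟩))) (BT.node (nat_lit 1758) (BT.node (nat_lit 1757) (BT.leaf ⟨(nat_lit 3), (nat_lit 7), (nat_lit 7), (nat_lit 0xae45cab1576aa4ad2bd5f2a651cc4d), (nat_lit 0x1202807e3d72d1839c0467502297e00), (nat_lit 0)⟩) (BT.leaf ⟨(nat_lit 3), (nat_lit 7), (nat_lit 7), (nat_lit 0x1202807e3d72d1839c0467502297e00), (nat_lit 0xae45cab1576aa4ad2bd5f2a651cc4d), (nat_lit 0)⟩)) (BT.node (nat_lit 1759) (BT.leaf ⟨(nat_lit 3), (nat_lit 7), (nat_lit 7), (nat_lit 0x8080904210401bc78023ae974052bb), (nat_lit 0x1c37e3674900b7caaa399e75a0c07ba), (nat_lit 0)⟩) (BT.leaf ⟨(nat_lit 3), (nat_lit 7), (nat_lit 7), (nat_lit 0x1c37e3674900b7caaa399e75a0c07ba), (nat_lit 0x8080904210401bc78023ae974052bb), (nat_lit 0)⟩)))))) (BT.node (nat_lit 1776) (BT.node (nat_lit 1768) (BT.node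 (nat_lit 1764) (BT.node (nat_lit 1762) (BT.node (nat_lit 1761) (BT.leaf ⟨(nat_lit 3), (nat_lit 7), (nat_lit 7), (nat_lit 0x12f810820048f0c1427f53243e29fad), (nat_lit 0x480125c8042f0f8d0a006043e107ad), (nat_lit 0)⟩) (BT.leaf ⟨(nat_lit 3), (nat_lit 7), (nat_lit 7), (nat_lit 0xa6713ab9570af6c1dff6d9d44ad2bb), (nat_lit 0x1cef9c72addf857dd1ceb078ebbd71a), (nat_lit 0)⟩)) (BT.node (nat_lit 1763) (BT.leaf ⟨(nat_lit 3), (nat_lit 7), (nat_lit 7), (nat_lit 0x174ab2a4f4af8b1afa5b0bfedcde519), (nat_lit 0x55444674140d8e798841026bd6fc1e), (nat_lit 0)⟩) (BT.leaf ⟨(nat_lit 3), (nat_lit 7), (nat_lit 7), (nat_lit 0x55444674140d8e798841026bd6fc1e), (nat_lit 0x174ab2a4f4af8b1afa5b0bfedcde519), (nat_lit 0)⟩))) (BT.node (nat_lit 1766) (BT.node (nat_lit 1765) (BT.leaf ⟨(nat_lit 3), (nat_lit 7), (nat_lit 7), (nat_lit 0x16375170da68ffbd6e58f13e77c678f), (nat_lit 0x4088011030041017e466018eab9ce8),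 (nat_lit 0)⟩) (BT.leaf ⟨(nat_lit 3), (nat_lit 7), (nat_lit 7), (nat_lit 0x4088011030041017e466018eab9ce8), (nat_lit 0x16375170da68ffbd6e58f13e77c678f), (nat_lit 0)⟩)) (BT.node (nat_lit 1767) (BT.leaf ⟨(nat_lit 3), (nat_lit 7), (nat_lit 7), (nat_lit 0x7d4e29d446d754eb955ddf0f4e88d5), (nat_lit 0x8e5b1d6835e207dd7c612020060280), (nat_lit 0)⟩) (BT.leaf ⟨(nat_lit 3), (nat_lit 7), (nat_lit 7), (nat_lit 0xe4e3e1f1e40b9c0824bb7a95d802), (nat_lit 0x1a7a5f49e74937989c1eb6325a4e54b), (nat_lit 0)⟩)))) (BT.node (nat_lit 1772) (BT.node (nat_lit 1770) (BT.node (nat_lit 1769) (BT.leaf ⟨(nat_lit 3), (nat_lit 7), (nat_lit 7), (nat_lit 0x1a7a5f49e74937989c1eb6325a4e54b), (nat_lit 0xe4e3e1f1e40b9c0824bb7a95d802), (nat_lit 0)⟩) (BT.leaf ⟨(nat_lit 3), (nat_lit 7), (nat_lit 7), (nat_lit 0xe8df0bf38dddf5f1e0b6c7f8cf1ae3), (nat_lit 0x42086e47e61400893feac442475f8), (nat_lit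 0)⟩)) (BT.node (nat_lit 1771) (BT.leaf ⟨(nat_lit 3), (nat_lit 7), (nat_lit 7), (nat_lit 0x1c1bbd040089ad2d40489bcbe421440), (nat_lit 0x197d2ea7f1cc97db862cf6e6f360a4f), (nat_lit 0)⟩) (BT.leaf ⟨(nat_lit 3), (nat_lit 7), (nat_lit 7), (nat_lit 0x197d2ea7f1cc97db862cf6e6f360a4f), (nat_lit 0x1c1bbd040089ad2d40489bcbe421440), (nat_lit 0)⟩))) (BT.node (nat_lit 1774) (BT.node (nat_lit 1773) (BT.leaf ⟨(nat_lit 3), (nat_lit 7), (nat_lit 7), (nat_lit 0x17a7f443d3d17b2e4176bf17a9692ae), (nat_lit 0xfaf059bc3c6569f0a36598fcdf1363), (nat_lit 0)⟩) (BT.leaf ⟨(nat_lit 3), (nat_lit 7), (nat_lit 7), (nat_lit 0xfaf059bc3c6569f0a36598fcdf1363), (nat_lit 0x17a7f443d3d17b2e4176bf17a9692ae), (nat_lit 0)⟩)) (BT.node (nat_lit 1775) (BT.leaf ⟨(nat_lit 3), (nat_lit 7), (nat_lit 7), (nat_lit 0x4aef601400a2137825be851dc02404), (nat_lit 0x49c04de092c774060182100292bab1), (nat_lit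 0)⟩) (BT.leaf ⟨(nat_lit 3), (nat_lit 7), (nat_lit 7), (nat_lit 0x49c04de092c774060182100292bab1), (nat_lit 0x4aef601400a2137825be851dc02404), (nat_lit 0)⟩))))) (BT.node (nat_lit 1784) (BT.node (nat_lit 1780) (BT.node (nat_lit 1778) (BT.node (nat_lit 1777) (BT.leaf ⟨(nat_lit 3), (nat_lit 7), (nat_lit 7), (nat_lit 0x152e5f49ad3d259ec26a93fb064e41e), (nat_lit 0xac55ed83d73d455cb96d957fe26abb), (nat_lit 0)⟩) (BT.leaf ⟨(nat_lit 2), (nat_lit 5), (nat_lit 5), (nat_lit 0x12f818020b907d4112200420a09010f), (nat_lit 0), (nat_lit 0)⟩)) (BT.node (nat_lit 1779) (BT.leaf ⟨(nat_lit 2), (nat_lit 5), (nat_lit 5), (nat_lit 0x87d7cfcd867de8a07062de104203a3), (nat_lit 0), (nat_lit 0)⟩) (BT.leaf ⟨(nat_lit 3), (nat_lit 7), (nat_lit 7), (nat_lit 0xfaf05be17e68d8de4d9f20b8e8bb63), (nat_lit 0x1f6e55cf4e439d3727f4de86cb5a517), (nat_lit 0)⟩))) (BT.node (nat_lit 1782) (BT.node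 (nat_lit 1781) (BT.leaf ⟨(nat_lit 3), (nat_lit 7), (nat_lit 7), (nat_lit 0x1f6e55cf4e439d3727f4de86cb5a517), (nat_lit 0xfaf05be17e68d8de4d9f20b8e8bb63), (nat_lit 0)⟩) (BT.leaf ⟨(nat_lit 3), (nat_lit 7), (nat_lit 7), (nat_lit 0x8010a200c0283b37ad8a60a14cf1a), (nat_lit 0xaecad23955360d58f511cce597cab8), (nat_lit 0)⟩)) (BT.node (nat_lit 1783) (BT.leaf ⟨(nat_lit 3), (nat_lit 7), (nat_lit 7), (nat_lit 0xaecad23955360d58f511cce597cab8), (nat_lit 0x8010a200c0283b37ad8a60a14cf1a), (nat_lit 0)⟩) (BT.leaf ⟨(nat_lit 3), (nat_lit 7), (nat_lit 7), (nat_lit 0x19a723746e841f349f56e89d99a374e), (nat_lit 0x2df99583ef473b8d63a749cefdd4d9), (nat_lit 0)⟩)))) (BT.node (nat_lit 1788) (BT.node (nat_lit 1786) (BT.node (nat_lit 1785) (BT.leaf ⟨(nat_lit 3), (nat_lit 7), (nat_lit 7), (nat_lit 0x2df99583ef473b8d63a749cefdd4d9), (nat_lit 0x19a723746e841f349f56e89d99a374e), (nat_lit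 0)⟩) (BT.leaf ⟨(nat_lit 3), (nat_lit 7), (nat_lit 7), (nat_lit 0x197d7a09e881ae604402820e36801e8), (nat_lit 0xb7fe3090901ee8503631002211c881), (nat_lit 0)⟩)) (BT.node (nat_lit 1787) (BT.leaf ⟨(nat_lit 3), (nat_lit 7), (nat_lit 7), (nat_lit 0x9793fe5fa3287cde62c1cd595afa4f), (nat_lit 0x11c476f900e718e3dcf3c591cccdd73), (nat_lit 0)⟩) (BT.leaf ⟨(nat_lit 3), (nat_lit 7), (nat_lit 7), (nat_lit 0x11c476f900e718e3dcf3c591cccdd73), (nat_lit 0x9793fe5fa3287cde62c1cd595afa4f), (nat_lit 0)⟩))) (BT.node (nat_lit 1790) (BT.node (nat_lit 1789) (BT.leaf ⟨(nat_lit 3), (nat_lit 7), (nat_lit 7), (nat_lit 0x19a7a3f4266a32fab706bff51a52f4e), (nat_lit 0x881008b90bffa108240409518f1a08), (nat_lit 0)⟩) (BT.leaf ⟨(nat_lit 3), (nat_lit 7), (nat_lit 7), (nat_lit 0xc0017ff4202601af904220482b9ce8), (nat_lit 0x12ace76d489b3d35a7f4dea9a97a517), (nat_lit 0)⟩)) (BT.node (nat_lit 1791)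 (BT.leaf ⟨(nat_lit 3), (nat_lit 7), (nat_lit 7), (nat_lit 0x1b537e721a2e738d931c4d4bd35a4f4), (nat_lit 0x18eb9df3ee35cc9a4b3a5a560dd27ba), (nat_lit 0)⟩) (BT.leaf ⟨(nat_lit 3), (nat_lit 7), (nat_lit 7), (nat_lit 0x4b8d7b96fb6dc30ab2f2560bcb7cc7), (nat_lit 0x1296372e37e66f30595a3c7f8df3acc), (nat_lit 0)⟩)))))))
noncomputable def cP1728 : BT Pf := (BT.node (nat_lit 1760) (BT.node (nat_lit 1744) (BT.node (nat_lit 1736) (BT.node (nat_lit 1732) (BT.node (nat_lit 1730) (BT.node (nat_lit 1729) (BT.leaf (.rel (nat_lit 1129) (nat_lit 5) [(nat_lit 474), (nat_lit 0)] [⟨(nat_lit 1422), [], [(nat_lit 1087), (nat_lit 1226)]⟩, ⟨(nat_lit 1553), [(nat_lit 775)], [(nat_lit 359), (nat_lit 864)]⟩])) (BT.leaf (.rel (nat_lit 1452) (nat_lit 2) [(nat_lit 474), (nat_lit 604)] [⟨(nat_lit 1647), [], [(nat_lit 176), (nat_lit 426)]⟩, ⟨(nat_lit 1451), [], [(nat_lit 111), (nat_lit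 584)]⟩]))) (BT.node (nat_lit 1731) (BT.leaf (.rel (nat_lit 1511) (nat_lit 2) [(nat_lit 539), (nat_lit 289)] [⟨(nat_lit 1159), [(nat_lit 775)], [(nat_lit 487), (nat_lit 972)]⟩, ⟨(nat_lit 1459), [(nat_lit 935)], [(nat_lit 1257), (nat_lit 319)]⟩])) (BT.leaf (.rel (nat_lit 1209) (nat_lit 1) [(nat_lit 450), (nat_lit 1247)] [⟨(nat_lit 1006), [], [(nat_lit 392), (nat_lit 139)]⟩])))) (BT.node (nat_lit 1734) (BT.node (nat_lit 1733) (BT.leaf (.rel (nat_lit 1400) (nat_lit 2) [(nat_lit 208), (nat_lit 1472)] [⟨(nat_lit 1044), [], [(nat_lit 763), (nat_lit 556)]⟩, ⟨(nat_lit 1131), [(nat_lit 443)], [(nat_lit 284), (nat_lit 1123)]⟩])) (BT.leaf (.inv (nat_lit 1732)))) (BT.node (nat_lit 1735) (BT.leaf (.rel (nat_lit 1400) (nat_lit 3) [(nat_lit 840), (nat_lit 936)] [⟨(nat_lit 1560), [(nat_lit 935)], [(nat_lit 483), (nat_lit 88)]⟩, ⟨(nat_lit 1317), [(nat_lit 775)], [(nat_lit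 213), (nat_lit 319)]⟩])) (BT.leaf (.rel (nat_lit 869) (nat_lit 2) [(nat_lit 174), (nat_lit 110)] [⟨(nat_lit 1719), [], [(nat_lit 784), (nat_lit 279)]⟩, ⟨(nat_lit 1224), [(nat_lit 775)], [(nat_lit 582), (nat_lit 477)]⟩]))))) (BT.node (nat_lit 1740) (BT.node (nat_lit 1738) (BT.node (nat_lit 1737) (BT.leaf (.inv (nat_lit 1735))) (BT.leaf (.rel (nat_lit 907) (nat_lit 2) [(nat_lit 296), (nat_lit 1)] [⟨(nat_lit 879), [(nat_lit 775)], [(nat_lit 551), (nat_lit 1165)]⟩, ⟨(nat_lit 1715), [(nat_lit 935)], [(nat_lit 19), (nat_lit 1583)]⟩]))) (BT.node (nat_lit 1739) (BT.leaf (.inv (nat_lit 1737))) (BT.leaf (.rel (nat_lit 1532) (nat_lit 4) [(nat_lit 129), (nat_lit 1083)] [⟨(nat_lit 1419), [], [(nat_lit 424), (nat_lit 290)]⟩, ⟨(nat_lit 1611), [(nat_lit 935)], [(nat_lit 741), (nat_lit 109)]⟩])))) (BT.node (nat_lit 1742) (BT.node (nat_lit 1741) (BT.leaf (.rel (nat_lit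 616) (nat_lit 4) [(nat_lit 568), (nat_lit 1375)] [⟨(nat_lit 1131), [(nat_lit 1037)], [(nat_lit 166), (nat_lit 173)]⟩, ⟨(nat_lit 975), [(nat_lit 935)], [(nat_lit 523), (nat_lit 651)]⟩])) (BT.leaf (.rel (nat_lit 1286) (nat_lit 1) [(nat_lit 696), (nat_lit 455)] [⟨(nat_lit 1617), [(nat_lit 935)], [(nat_lit 521), (nat_lit 431)]⟩]))) (BT.node (nat_lit 1743) (BT.leaf (.inv (nat_lit 1741))) (BT.leaf (.rel (nat_lit 1230) (nat_lit 1) [(nat_lit 349), (nat_lit 236)] [⟨(nat_lit 1706), [], [(nat_lit 696), (nat_lit 1216)]⟩])))))) (BT.node (nat_lit 1752) (BT.node (nat_lit 1748) (BT.node (nat_lit 1746) (BT.node (nat_lit 1745) (BT.leaf (.inv (nat_lit 1743))) (BT.leaf (.nmul (nat_lit 1001) [(nat_lit 19)]))) (BT.node (nat_lit 1747) (BT.leaf (.rel (nat_lit 1617) (nat_lit 4) [(nat_lit 786), (nat_lit 1745)] [⟨(nat_lit 1619), [(nat_lit 935)], [(nat_lit 470), (nat_lit 499)]⟩,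 ⟨(nat_lit 1646), [(nat_lit 775)], [(nat_lit 484), (nat_lit 525)]⟩])) (BT.leaf (.rel (nat_lit 1543) (nat_lit 4) [(nat_lit 92), (nat_lit 439)] [⟨(nat_lit 1382), [(nat_lit 935)], [(nat_lit 1173), (nat_lit 287)]⟩, ⟨(nat_lit 1685), [], [(nat_lit 1162), (nat_lit 1133)]⟩])))) (BT.node (nat_lit 1750) (BT.node (nat_lit 1749) (BT.leaf (.inv (nat_lit 1747))) (BT.leaf (.rel (nat_lit 1019) (nat_lit 3) [(nat_lit 789), (nat_lit 88)] [⟨(nat_lit 823), [(nat_lit 443)], [(nat_lit 493), (nat_lit 737)]⟩, ⟨(nat_lit 820), [(nat_lit 1073)], [(nat_lit 539), (nat_lit 1192)]⟩]))) (BT.node (nat_lit 1751) (BT.leaf (.rel (nat_lit 1518) (nat_lit 1) [(nat_lit 97), (nat_lit 585)] [⟨(nat_lit 1429), [(nat_lit 775)], [(nat_lit 197), (nat_lit 0)]⟩])) (BT.leaf (.inv (nat_lit 1750)))))) (BT.node (nat_lit 1756) (BT.node (nat_lit 1754) (BT.node (nat_lit 1753) (BT.leaf (.rel (nat_lit 909)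 (nat_lit 1) [(nat_lit 111), (nat_lit 1192)] [⟨(nat_lit 1210), [(nat_lit 935)], [(nat_lit 281), (nat_lit 532)]⟩])) (BT.leaf (.rel (nat_lit 1468) (nat_lit 2) [(nat_lit 570), (nat_lit 877)] [⟨(nat_lit 1245), [(nat_lit 775)], [(nat_lit 1092), (nat_lit 375)]⟩, ⟨(nat_lit 1471), [], [(nat_lit 575), (nat_lit 500)]⟩]))) (BT.node (nat_lit 1755) (BT.leaf (.inv (nat_lit 1753))) (BT.leaf (.rel (nat_lit 908) (nat_lit 0) [(nat_lit 575), (nat_lit 319)] [⟨(nat_lit 1127), [], [(nat_lit 391), (nat_lit 204)]⟩])))) (BT.node (nat_lit 1758) (BT.node (nat_lit 1757) (BT.leaf (.rel (nat_lit 1289) (nat_lit 2) [(nat_lit 675), (nat_lit 533)] [⟨(nat_lit 1477), [], [(nat_lit 373), (nat_lit 293)]⟩, ⟨(nat_lit 1181), [], [(nat_lit 631), (nat_lit 421)]⟩])) (BT.leaf (.inv (nat_lit 1756)))) (BT.node (nat_lit 1759) (BT.leaf (.rel (nat_lit 1263) (nat_lit 1) [(nat_lit 174), (nat_lit 604)]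 [⟨(nat_lit 1197), [], [(nat_lit 1218), (nat_lit 1376)]⟩])) (BT.leaf (.inv (nat_lit 1758)))))))) (BT.node (nat_lit 1776) (BT.node (nat_lit 1768) (BT.node (nat_lit 1764) (BT.node (nat_lit 1762) (BT.node (nat_lit 1761) (BT.leaf (.rel (nat_lit 1401) (nat_lit 1) [(nat_lit 95), (nat_lit 163)] [⟨(nat_lit 1285), [(nat_lit 775)], [(nat_lit 359), (nat_lit 124)]⟩])) (BT.leaf (.rel (nat_lit 1662) (nat_lit 0) [(nat_lit 394)] [⟨(nat_lit 1579), [], [(nat_lit 578)]⟩]))) (BT.node (nat_lit 1763) (BT.leaf (.rel (nat_lit 1618) (nat_lit 0) [(nat_lit 167), (nat_lit 224)] [⟨(nat_lit 1145), [], [(nat_lit 335), (nat_lit 694)]⟩])) (BT.leaf (.inv (nat_lit 1762))))) (BT.node (nat_lit 1766) (BT.node (nat_lit 1765) (BT.leaf (.rel (nat_lit 1633) (nat_lit 5) [(nat_lit 258), (nat_lit 936)] [⟨(nat_lit 1754), [(nat_lit 935)], [(nat_lit 194), (nat_lit 625)]⟩, ⟨(nat_lit 1578), [(nat_lit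 935)], [(nat_lit 653), (nat_lit 676)]⟩])) (BT.leaf (.inv (nat_lit 1764)))) (BT.node (nat_lit 1767) (BT.leaf (.rel (nat_lit 1412) (nat_lit 4) [(nat_lit 871), (nat_lit 711)] [⟨(nat_lit 1636), [], [(nat_lit 832), (nat_lit 223)]⟩, ⟨(nat_lit 1677), [(nat_lit 935)], [(nat_lit 93), (nat_lit 625)]⟩])) (BT.leaf (.rel (nat_lit 1299) (nat_lit 2) [(nat_lit 523), (nat_lit 1)] [⟨(nat_lit 1368), [(nat_lit 935)], [(nat_lit 707), (nat_lit 737)]⟩, ⟨(nat_lit 1671), [(nat_lit 775)], [(nat_lit 195), (nat_lit 191)]⟩]))))) (BT.node (nat_lit 1772) (BT.node (nat_lit 1770) (BT.node (nat_lit 1769) (BT.leaf (.inv (nat_lit 1767))) (BT.leaf (.rel (nat_lit 1751) (nat_lit 1) [(nat_lit 1195), (nat_lit 390)] [⟨(nat_lit 1479), [], [(nat_lit 373), (nat_lit 506)]⟩]))) (BT.node (nat_lit 1771) (BT.leaf (.rel (nat_lit 1642) (nat_lit 1) [(nat_lit 404), (nat_lit 835)] [⟨(nat_lit 1282), [],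 [(nat_lit 527), (nat_lit 460)]⟩])) (BT.leaf (.inv (nat_lit 1770))))) (BT.node (nat_lit 1774) (BT.node (nat_lit 1773) (BT.leaf (.rel (nat_lit 1071) (nat_lit 4) [(nat_lit 281), (nat_lit 1192)] [⟨(nat_lit 1513), [(nat_lit 775)], [(nat_lit 295), (nat_lit 821)]⟩, ⟨(nat_lit 1336), [], [(nat_lit 570), (nat_lit 1123)]⟩])) (BT.leaf (.inv (nat_lit 1772)))) (BT.node (nat_lit 1775) (BT.leaf (.rel (nat_lit 1613) (nat_lit 2) [(nat_lit 441), (nat_lit 1)] [⟨(nat_lit 807), [], [(nat_lit 450), (nat_lit 126)]⟩, ⟨(nat_lit 1427), [(nat_lit 935)], [(nat_lit 527), (nat_lit 319)]⟩])) (BT.leaf (.inv (nat_lit 1774))))))) (BT.node (nat_lit 1784) (BT.node (nat_lit 1780) (BT.node (nat_lit 1778) (BT.node (nat_lit 1777) (BT.leaf (.rel (nat_lit 1494) (nat_lit 4) [(nat_lit 176), (nat_lit 108)] [⟨(nat_lit 1421), [], [(nat_lit 527), (nat_lit 1256)]⟩, ⟨(nat_lit 1564), [], [(nat_lit 282),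 (nat_lit 1009)]⟩])) (BT.leaf (.emul [(nat_lit 607), (nat_lit 841)]))) (BT.node (nat_lit 1779) (BT.leaf (.emul [(nat_lit 654), (nat_lit 1777)])) (BT.leaf (.rel (nat_lit 857) (nat_lit 0) [(nat_lit 1600), (nat_lit 395)] [⟨(nat_lit 1591), [(nat_lit 1778)], [(nat_lit 1126), (nat_lit 236)]⟩])))) (BT.node (nat_lit 1782) (BT.node (nat_lit 1781) (BT.leaf (.inv (nat_lit 1779))) (BT.leaf (.rel (nat_lit 1557) (nat_lit 0) [(nat_lit 883), (nat_lit 580)] [⟨(nat_lit 1711), [], [(nat_lit 726), (nat_lit 711)]⟩]))) (BT.node (nat_lit 1783) (BT.leaf (.inv (nat_lit 1781))) (BT.leaf (.rel (nat_lit 1780) (nat_lit 3) [(nat_lit 825), (nat_lit 877)] [⟨(nat_lit 1471), [(nat_lit 935)], [(nat_lit 213), (nat_lit 652)]⟩, ⟨(nat_lit 1287), [], [(nat_lit 942), (nat_lit 1017)]⟩]))))) (BT.node (nat_lit 1788) (BT.node (nat_lit 1786) (BT.node (nat_lit 1785) (BT.leaf (.inv (nat_lit 1783)))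 (BT.leaf (.rel (nat_lit 1275) (nat_lit 4) [(nat_lit 764), (nat_lit 870)] [⟨(nat_lit 1453), [], [(nat_lit 94), (nat_lit 491)]⟩, ⟨(nat_lit 1639), [(nat_lit 935)], [(nat_lit 568), (nat_lit 478)]⟩]))) (BT.node (nat_lit 1787) (BT.leaf (.rel (nat_lit 1533) (nat_lit 1) [(nat_lit 1162), (nat_lit 835)] [⟨(nat_lit 1781), [(nat_lit 935)], [(nat_lit 391), (nat_lit 173)]⟩])) (BT.leaf (.inv (nat_lit 1786))))) (BT.node (nat_lit 1790) (BT.node (nat_lit 1789) (BT.leaf (.rel (nat_lit 1556) (nat_lit 5) [(nat_lit 695), (nat_lit 389)] [⟨(nat_lit 1752), [(nat_lit 935)], [(nat_lit 416), (nat_lit 504)]⟩, ⟨(nat_lit 1557), [(nat_lit 775)], [(nat_lit 1235), (nat_lit 798)]⟩])) (BT.leaf (.rel (nat_lit 1529) (nat_lit 4) [(nat_lit 445), (nat_lit 477)] [⟨(nat_lit 1584), [(nat_lit 775)], [(nat_lit 445), (nat_lit 1109)]⟩, ⟨(nat_lit 1565), [], [(nat_lit 351), (nat_lit 624)]⟩]))) (BT.node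 (nat_lit 1791) (BT.leaf (.rel (nat_lit 1011) (nat_lit 4) [(nat_lit 257), (nat_lit 1140)] [⟨(nat_lit 1040), [(nat_lit 1390)], [(nat_lit 214), (nat_lit 421)]⟩, ⟨(nat_lit 1338), [], [(nat_lit 321), (nat_lit 874)]⟩])) (BT.leaf (.rel (nat_lit 1067) (nat_lit 0) [(nat_lit 434), (nat_lit 384)] [⟨(nat_lit 1413), [(nat_lit 935)], [(nat_lit 254), (nat_lit 752)]⟩]))))))))
noncomputable def cF1792 : BT Fc := (BT.node (nat_lit 1824) (BT.node (nat_lit 1808) (BT.node (nat_lit 1800) (BT.node (nat_lit 1796) (BT.node (nat_lit 1794) (BT.node (nat_lit 1793) (BT.leaf ⟨(nat_lit 3), (nat_lit 7), (nat_lit 7), (nat_lit 0x1296372e37e66f30595a3c7f8df3acc), (nat_lit 0x4b8d7b96fb6dc30ab2f2560bcb7cc7), (nat_lit 0)⟩) (BT.leaf ⟨(nat_lit 3), (nat_lit 7), (nat_lit 7), (nat_lit 0x6f28bb6346cf8971bebc16f9e373e1), (nat_lit 0x189dec77d93d52c4f49c93f25b60db1), (nat_lit 0)⟩)) (BT.node (nat_lit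 1795) (BT.leaf ⟨(nat_lit 3), (nat_lit 7), (nat_lit 7), (nat_lit 0x9a9899769392fb60c9ac4f67a4f48e), (nat_lit 0x4fc088508208400924f91d18fcef2a), (nat_lit 0)⟩) (BT.leaf ⟨(nat_lit 3), (nat_lit 7), (nat_lit 7), (nat_lit 0x569662367d6f9df0ba37c5df4f1d17), (nat_lit 0x280146d421e0c3d69204ffc6ae41f5), (nat_lit 0)⟩))) (BT.node (nat_lit 1798) (BT.node (nat_lit 1797) (BT.leaf ⟨(nat_lit 3), (nat_lit 7), (nat_lit 7), (nat_lit 0xbd2eab3a805012103468010044f408), (nat_lit 0xa66268b9562398ad53472db297cbb9), (nat_lit 0)⟩) (BT.leaf ⟨(nat_lit 3), (nat_lit 7), (nat_lit 7), (nat_lit 0xa66268b9562398ad53472db297cbb9), (nat_lit 0xbd2eab3a805012103468010044f408), (nat_lit 0)⟩)) (BT.node (nat_lit 1799) (BT.leaf ⟨(nat_lit 2), (nat_lit 5), (nat_lit 5), (nat_lit 0x1003005d590197e101e8675f8e97c01), (nat_lit 0), (nat_lit 0)⟩) (BT.leaf ⟨(nat_lit 3), (nat_lit 7), (nat_lit 7), (nat_lit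 0x1a8b0a8fa05e4ac97e69ab84b893d2f), (nat_lit 0x1e17d6f8da69963c66a2d1a5e7c48b7), (nat_lit 0)⟩)))) (BT.node (nat_lit 1804) (BT.node (nat_lit 1802) (BT.node (nat_lit 1801) (BT.leaf ⟨(nat_lit 3), (nat_lit 7), (nat_lit 7), (nat_lit 0x1d100902220480896ef6939e3c2125d), (nat_lit 0x503fa11020840a743b9240c006a980), (nat_lit 0)⟩) (BT.leaf ⟨(nat_lit 3), (nat_lit 7), (nat_lit 7), (nat_lit 0x30028195b50be4a04de08487dd1844), (nat_lit 0x10cc76e739e75cf1628733714dff55c), (nat_lit 0)⟩)) (BT.node (nat_lit 1803) (BT.leaf ⟨(nat_lit 3), (nat_lit 7), (nat_lit 7), (nat_lit 0x10cc76e739e75cf1628733714dff55c), (nat_lit 0x30028195b50be4a04de08487dd1844), (nat_lit 0)⟩) (BT.leaf ⟨(nat_lit 3), (nat_lit 7), (nat_lit 7), (nat_lit 0x1d18ea92f004ae4800804bf7a239808), (nat_lit 0x1e7637785f5be30bce58f9affbc4d8d), (nat_lit 0)⟩))) (BT.node (nat_lit 1806) (BT.node (nat_lit 1805) (BT.leaf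 ⟨(nat_lit 3), (nat_lit 7), (nat_lit 7), (nat_lit 0x1e7637785f5be30bce58f9affbc4d8d), (nat_lit 0x1d18ea92f004ae4800804bf7a239808), (nat_lit 0)⟩) (BT.leaf ⟨(nat_lit 3), (nat_lit 7), (nat_lit 7), (nat_lit 0x1fa0f1e9e40490339d3a402c01ea8b9), (nat_lit 0x191817e8d7733a2cf1006003571d108), (nat_lit 0)⟩)) (BT.node (nat_lit 1807) (BT.leaf ⟨(nat_lit 3), (nat_lit 7), (nat_lit 7), (nat_lit 0xd1a00c20675023f1eb93d14bf00404), (nat_lit 0x8836a3c397c080878308a62813f860), (nat_lit 0)⟩) (BT.leaf ⟨(nat_lit 3), (nat_lit 7), (nat_lit 7), (nat_lit 0x8836a3c397c080878308a62813f860), (nat_lit 0xd1a00c20675023f1eb93d14bf00404), (nat_lit 0)⟩))))) (BT.node (nat_lit 1816) (BT.node (nat_lit 1812) (BT.node (nat_lit 1810) (BT.node (nat_lit 1809) (BT.leaf ⟨(nat_lit 3), (nat_lit 7), (nat_lit 7), (nat_lit 0x11b9c6fcd4cb4d2e958dd1aff8bc8b7), (nat_lit 0x1eb6e96a21974d1c6d8d627c34bcf85),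 (nat_lit 0)⟩) (BT.leaf ⟨(nat_lit 3), (nat_lit 7), (nat_lit 7), (nat_lit 0x17aa747515a55a0bb5f83370f5574c7), (nat_lit 0xf561e9d13ba750eaa36d2675f77955), (nat_lit 0)⟩)) (BT.node (nat_lit 1811) (BT.leaf ⟨(nat_lit 3), (nat_lit 7), (nat_lit 7), (nat_lit 0xf561e9d13ba750eaa36d2675f77955), (nat_lit 0x17aa747515a55a0bb5f83370f5574c7), (nat_lit 0)⟩) (BT.leaf ⟨(nat_lit 3), (nat_lit 7), (nat_lit 7), (nat_lit 0x10010204be021000408e600497be3), (nat_lit 0x1caa6cad2f75bbf0a8b7b06cea9d738), (nat_lit 0)⟩))) (BT.node (nat_lit 1814) (BT.node (nat_lit 1813) (BT.leaf ⟨(nat_lit 3), (nat_lit 7), (nat_lit 7), (nat_lit 0x4004000100497c20400de9e36399d5), (nat_lit 0x118c282a90284ffcec8eead7e127c10), (nat_lit 0)⟩) (BT.leaf ⟨(nat_lit 3), (nat_lit 7), (nat_lit 7), (nat_lit 0x3b638eca0e757239335692a1dff47b), (nat_lit 0x1466a34a5c8da4dec756e9cd1ba3706), (nat_lit 0)⟩)) (BT.node (nat_lit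 1815) (BT.leaf ⟨(nat_lit 3), (nat_lit 7), (nat_lit 7), (nat_lit 0x1466a34a5c8da4dec756e9cd1ba3706), (nat_lit 0x3b638eca0e757239335692a1dff47b), (nat_lit 0)⟩) (BT.leaf ⟨(nat_lit 3), (nat_lit 7), (nat_lit 7), (nat_lit 0xb7db81bc1cc93d0fd1971497d2f27f), (nat_lit 0x997e6f9d2f3a8bc2dd2cb1eb45bd34), (nat_lit 0)⟩)))) (BT.node (nat_lit 1820) (BT.node (nat_lit 1818) (BT.node (nat_lit 1817) (BT.leaf ⟨(nat_lit 3), (nat_lit 7), (nat_lit 7), (nat_lit 0x997e6f9d2f3a8bc2dd2cb1eb45bd34), (nat_lit 0xb7db81bc1cc93d0fd1971497d2f27f), (nat_lit 0)⟩) (BT.leaf ⟨(nat_lit 2), (nat_lit 5), (nat_lit 5), (nat_lit 0xceac1eef693deb8d07ce65cfb9c3a4), (nat_lit 0), (nat_lit 0)⟩)) (BT.node (nat_lit 1819) (BT.leaf ⟨(nat_lit 3), (nat_lit 7), (nat_lit 7), (nat_lit 0x32e3738d627f37ced34f12996c6f8f), (nat_lit 0x137a4e31391da7b60c964d526aa5db1), (nat_lit 0)⟩) (BT.leaf ⟨(nat_lit 3), (nat_lit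 7), (nat_lit 7), (nat_lit 0x84ea472f18046f4a0193e2077a92e), (nat_lit 0x8223df854af0224b2b1014fac93808), (nat_lit 0)⟩))) (BT.node (nat_lit 1822) (BT.node (nat_lit 1821) (BT.leaf ⟨(nat_lit 3), (nat_lit 2), (nat_lit 8), (nat_lit 0x11345ca396d8ae0732bbbfe569cb2bd), (nat_lit 0x1001001001001001001001001001001), (nat_lit 0)⟩) (BT.leaf ⟨(nat_lit 2), (nat_lit 2), (nat_lit 2), (nat_lit 0x14d36562789aa657cabbb07d4554dff), (nat_lit 0), (nat_lit 0)⟩)) (BT.node (nat_lit 1823) (BT.leaf ⟨(nat_lit 2), (nat_lit 8), (nat_lit 8), (nat_lit 0xf9e6cd177e729705b638ddf8d661bc), (nat_lit 0), (nat_lit 0)⟩) (BT.leaf ⟨(nat_lit 3), (nat_lit 8), (nat_lit 2), (nat_lit 0x1001001001001001001001001001001), (nat_lit 0x11345ca396d8ae0732bbbfe569cb2bd), (nat_lit 0)⟩)))))) (BT.node (nat_lit 1840) (BT.node (nat_lit 1832) (BT.node (nat_lit 1828) (BT.node (nat_lit 1826) (BT.node (nat_lit 1825)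 (BT.leaf ⟨(nat_lit 2), (nat_lit 2), (nat_lit 2), (nat_lit 0xfcc0c24f91db904801082004554814), (nat_lit 0), (nat_lit 0)⟩) (BT.leaf ⟨(nat_lit 2), (nat_lit 2), (nat_lit 2), (nat_lit 0x118fce93f49fca80c010061d5954df8), (nat_lit 0), (nat_lit 0)⟩)) (BT.node (nat_lit 1827) (BT.leaf ⟨(nat_lit 3), (nat_lit 7), (nat_lit 8), (nat_lit 0x18b12ea1f4bee28735d26beb7d2f370), (nat_lit 0x9ab7e674e425e68bef6639f6f5a7f4), (nat_lit 0)⟩) (BT.leaf ⟨(nat_lit 3), (nat_lit 8), (nat_lit 7), (nat_lit 0x9ab7e674e425e68bef6639f6f5a7f4), (nat_lit 0x18b12ea1f4bee28735d26beb7d2f370), (nat_lit 0)⟩))) (BT.node (nat_lit 1830) (BT.node (nat_lit 1829) (BT.leaf ⟨(nat_lit 3), (nat_lit 8), (nat_lit 7), (nat_lit 0x40484100d1ac00810d52215cf1d104), (nat_lit 0x1eebbd6ef0f960da48b79b2e939973b), (nat_lit 0)⟩) (BT.leaf ⟨(nat_lit 3), (nat_lit 7), (nat_lit 8), (nat_lit 0x1eebbd6ef0f960da48b79b2e939973b),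 (nat_lit 0x40484100d1ac00810d52215cf1d104), (nat_lit 0)⟩)) (BT.node (nat_lit 1831) (BT.leaf ⟨(nat_lit 3), (nat_lit 8), (nat_lit 7), (nat_lit 0x174bcef85f18ff9c6f0d4cb4d2c6979), (nat_lit 0x1bc0e76fcdc9bd7edaf4ce93d36a287), (nat_lit 0)⟩) (BT.leaf ⟨(nat_lit 3), (nat_lit 7), (nat_lit 8), (nat_lit 0x1bc0e76fcdc9bd7edaf4ce93d36a287), (nat_lit 0x174bcef85f18ff9c6f0d4cb4d2c6979), (nat_lit 0)⟩)))) (BT.node (nat_lit 1836) (BT.node (nat_lit 1834) (BT.node (nat_lit 1833) (BT.leaf ⟨(nat_lit 3), (nat_lit 7), (nat_lit 8), (nat_lit 0x402846302271527830bf0fcf95090), (nat_lit 0x1bbcfa9d5715a4ceedd5cb08daa58fa), (nat_lit 0)⟩) (BT.leaf ⟨(nat_lit 3), (nat_lit 8), (nat_lit 7), (nat_lit 0x1bbcfa9d5715a4ceedd5cb08daa58fa), (nat_lit 0x402846302271527830bf0fcf95090), (nat_lit 0)⟩)) (BT.node (nat_lit 1835) (BT.leaf ⟨(nat_lit 2), (nat_lit 2), (nat_lit 2), (nat_lit 0x7523912edeb27c04f4704200c02801),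 (nat_lit 0), (nat_lit 0)⟩) (BT.leaf ⟨(nat_lit 2), (nat_lit 2), (nat_lit 2), (nat_lit 0x66e1ead2f6f722d45ec2ed7e157751), (nat_lit 0), (nat_lit 0)⟩))) (BT.node (nat_lit 1838) (BT.node (nat_lit 1837) (BT.leaf ⟨(nat_lit 3), (nat_lit 8), (nat_lit 4), (nat_lit 0xc0100600411519eab2ffd090101220), (nat_lit 0xd8fe3674141ee8c023990020ab4280), (nat_lit 0)⟩) (BT.leaf ⟨(nat_lit 3), (nat_lit 4), (nat_lit 8), (nat_lit 0xd8fe3674141ee8c023990020ab4280), (nat_lit 0xc0100600411519eab2ffd090101220), (nat_lit 0)⟩)) (BT.node (nat_lit 1839) (BT.leaf ⟨(nat_lit 2), (nat_lit 4), (nat_lit 4), (nat_lit 0x822a305f6008405cb2fce68827a240), (nat_lit 0), (nat_lit 0)⟩) (BT.leaf ⟨(nat_lit 2), (nat_lit 4), (nat_lit 4), (nat_lit 0x1200c00a0511ed2b9dde9de164b208), (nat_lit 0), (nat_lit 0)⟩))))) (BT.node (nat_lit 1848) (BT.node (nat_lit 1844) (BT.node (nat_lit 1842) (BT.node (nat_lit 1841)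 (BT.leaf ⟨(nat_lit 2), (nat_lit 4), (nat_lit 4), (nat_lit 0x32f46bfe4cbeb75179dba54d32c78c), (nat_lit 0), (nat_lit 0)⟩) (BT.leaf ⟨(nat_lit 3), (nat_lit 8), (nat_lit 4), (nat_lit 0x63ce81122104127830eac4fd54c8e), (nat_lit 0x1d9bd6a7f8a60c14c90f041c6890028), (nat_lit 0)⟩)) (BT.node (nat_lit 1843) (BT.leaf ⟨(nat_lit 3), (nat_lit 4), (nat_lit 8), (nat_lit 0x1d9bd6a7f8a60c14c90f041c6890028), (nat_lit 0x63ce81122104127830eac4fd54c8e), (nat_lit 0)⟩) (BT.leaf ⟨(nat_lit 2), (nat_lit 4), (nat_lit 4), (nat_lit 0xc70f45e0fd17e2f65c89d16a15760b), (nat_lit 0), (nat_lit 0)⟩))) (BT.node (nat_lit 1846) (BT.node (nat_lit 1845) (BT.leaf ⟨(nat_lit 2), (nat_lit 4), (nat_lit 4), (nat_lit 0x1268020440191dc427890488100a6f0), (nat_lit 0), (nat_lit 0)⟩) (BT.leaf ⟨(nat_lit 2), (nat_lit 4), (nat_lit 4), (nat_lit 0x11ceb9da68e3b2a31f907fd0cf16453), (nat_lit 0), (nat_lit 0)⟩))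 (BT.node (nat_lit 1847) (BT.leaf ⟨(nat_lit 2), (nat_lit 8), (nat_lit 8), (nat_lit 0x1b9c6f60060882125d3af00801082), (nat_lit 0), (nat_lit 0)⟩) (BT.leaf ⟨(nat_lit 3), (nat_lit 7), (nat_lit 8), (nat_lit 0x17492fe2c1cc6f1c525b6e087c2fa57), (nat_lit 0x6be799805bf5a3dd1551052011c881), (nat_lit 0)⟩)))) (BT.node (nat_lit 1852) (BT.node (nat_lit 1850) (BT.node (nat_lit 1849) (BT.leaf ⟨(nat_lit 3), (nat_lit 8), (nat_lit 7), (nat_lit 0x6be799805bf5a3dd1551052011c881), (nat_lit 0x17492fe2c1cc6f1c525b6e087c2fa57), (nat_lit 0)⟩) (BT.leaf ⟨(nat_lit 1), (nat_lit 0), (nat_lit 0), (nat_lit 0xe2b498d5b4c7d77795546c744eadd5), (nat_lit 0xe2b498d5b4c7d77795546c744eadd5), (nat_lit 0)⟩)) (BT.node (nat_lit 1851) (BT.leaf ⟨(nat_lit 3), (nat_lit 8), (nat_lit 7), (nat_lit 0x3992eb8aa326f1afa5bd835952fa5e), (nat_lit 0x1c197cf7a43f1012006086650024041), (nat_lit 0)⟩) (BT.leaf ⟨(nat_lit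 3), (nat_lit 7), (nat_lit 8), (nat_lit 0x1c197cf7a43f1012006086650024041), (nat_lit 0x3992eb8aa326f1afa5bd835952fa5e), (nat_lit 0)⟩))) (BT.node (nat_lit 1854) (BT.node (nat_lit 1853) (BT.leaf ⟨(nat_lit 3), (nat_lit 7), (nat_lit 8), (nat_lit 0x3e89692f27eb330a82f2df6c751669), (nat_lit 0x9ab4f3137b152e4d41eb63679d209e), (nat_lit 0)⟩) (BT.leaf ⟨(nat_lit 3), (nat_lit 8), (nat_lit 7), (nat_lit 0x9ab4f3137b152e4d41eb63679d209e), (nat_lit 0x3e89692f27eb330a82f2df6c751669), (nat_lit 0)⟩)) (BT.node (nat_lit 1855) (BT.leaf ⟨(nat_lit 3), (nat_lit 7), (nat_lit 8), (nat_lit 0x5e75a6f689bbd76a721de8bd0e731c), (nat_lit 0x1d137b02225af8421738bd5009011d7), (nat_lit 0)⟩) (BT.leaf ⟨(nat_lit 3), (nat_lit 8), (nat_lit 7), (nat_lit 0x1d137b02225af8421738bd5009011d7), (nat_lit 0x5e75a6f689bbd76a721de8bd0e731c), (nat_lit 0)⟩)))))))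
noncomputable def cP1792 : BT Pf := (BT.node (nat_lit 1824) (BT.node (nat_lit 1808) (BT.node (nat_lit 1800) (BT.node (nat_lit 1796) (BT.node (nat_lit 1794) (BT.node (nat_lit 1793) (BT.leaf (.inv (nat_lit 1791))) (BT.leaf (.rel (nat_lit 1688) (nat_lit 0) [(nat_lit 427), (nat_lit 762)] [⟨(nat_lit 1409), [], [(nat_lit 629), (nat_lit 1083)]⟩]))) (BT.node (nat_lit 1795) (BT.leaf (.rel (nat_lit 1528) (nat_lit 2) [(nat_lit 1087), (nat_lit 1369)] [⟨(nat_lit 1490), [(nat_lit 775)], [(nat_lit 538), (nat_lit 235)]⟩, ⟨(nat_lit 1440), [(nat_lit 775)], [(nat_lit 746), (nat_lit 498)]⟩])) (BT.leaf (.rel (nat_lit 1723) (nat_lit 0) [(nat_lit 1087), (nat_lit 597)] [⟨(nat_lit 1251), [(nat_lit 775)], [(nat_lit 941), (nat_lit 606)]⟩])))) (BT.node (nat_lit 1798) (BT.node (nat_lit 1797) (BT.leaf (.rel (nat_lit 1589) (nat_lit 0) [(nat_lit 1292), (nat_lit 1140)] [⟨(nat_lit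 1747), [(nat_lit 775)], [(nat_lit 1027), (nat_lit 162)]⟩])) (BT.leaf (.inv (nat_lit 1796)))) (BT.node (nat_lit 1799) (BT.leaf (.emul [(nat_lit 645), (nat_lit 698)])) (BT.leaf (.rel (nat_lit 1499) (nat_lit 3) [(nat_lit 416), (nat_lit 328)] [⟨(nat_lit 1154), [], [(nat_lit 111), (nat_lit 898)]⟩, ⟨(nat_lit 1458), [(nat_lit 1798)], [(nat_lit 299), (nat_lit 1472)]⟩]))))) (BT.node (nat_lit 1804) (BT.node (nat_lit 1802) (BT.node (nat_lit 1801) (BT.leaf (.rel (nat_lit 1066) (nat_lit 4) [(nat_lit 1175), (nat_lit 1583)] [⟨(nat_lit 1554), [], [(nat_lit 194), (nat_lit 1133)]⟩, ⟨(nat_lit 1418), [], [(nat_lit 216), (nat_lit 1329)]⟩])) (BT.leaf (.rel (nat_lit 1172) (nat_lit 4) [(nat_lit 95), (nat_lit 372)] [⟨(nat_lit 1301), [(nat_lit 1277)], [(nat_lit 466), (nat_lit 1583)]⟩, ⟨(nat_lit 1588), [(nat_lit 775)], [(nat_lit 463), (nat_lit 676)]⟩]))) (BT.node (nat_lit 1803)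 (BT.leaf (.inv (nat_lit 1801))) (BT.leaf (.rel (nat_lit 1154) (nat_lit 0) [(nat_lit 300), (nat_lit 477)] [⟨(nat_lit 1193), [(nat_lit 709)], [(nat_lit 507), (nat_lit 1369)]⟩])))) (BT.node (nat_lit 1806) (BT.node (nat_lit 1805) (BT.leaf (.inv (nat_lit 1803))) (BT.leaf (.rel (nat_lit 1471) (nat_lit 1) [(nat_lit 261), (nat_lit 247)] [⟨(nat_lit 1290), [], [(nat_lit 521), (nat_lit 802)]⟩]))) (BT.node (nat_lit 1807) (BT.leaf (.rel (nat_lit 1138) (nat_lit 5) [(nat_lit 513), (nat_lit 361)] [⟨(nat_lit 1679), [(nat_lit 935)], [(nat_lit 403), (nat_lit 572)]⟩, ⟨(nat_lit 1107), [], [(nat_lit 1257), (nat_lit 559)]⟩])) (BT.leaf (.inv (nat_lit 1806))))))) (BT.node (nat_lit 1816) (BT.node (nat_lit 1812) (BT.node (nat_lit 1810) (BT.node (nat_lit 1809) (BT.leaf (.rel (nat_lit 1167) (nat_lit 4) [(nat_lit 260), (nat_lit 814)] [⟨(nat_lit 1802), [], [(nat_lit 487), (nat_lit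 1503)]⟩, ⟨(nat_lit 1679), [], [(nat_lit 292), (nat_lit 1226)]⟩])) (BT.leaf (.rel (nat_lit 1653) (nat_lit 0) [(nat_lit 273), (nat_lit 1503)] [⟨(nat_lit 1736), [], [(nat_lit 212), (nat_lit 875)]⟩]))) (BT.node (nat_lit 1811) (BT.leaf (.inv (nat_lit 1809))) (BT.leaf (.rel (nat_lit 1569) (nat_lit 0) [(nat_lit 254), (nat_lit 1100)] [⟨(nat_lit 1676), [], [(nat_lit 1337), (nat_lit 1211)]⟩])))) (BT.node (nat_lit 1814) (BT.node (nat_lit 1813) (BT.leaf (.rel (nat_lit 1746) (nat_lit 0) [(nat_lit 434), (nat_lit 328)] [⟨(nat_lit 1498), [(nat_lit 775)], [(nat_lit 215), (nat_lit 1369)]⟩])) (BT.leaf (.rel (nat_lit 1303) (nat_lit 3) [(nat_lit 94), (nat_lit 235)] [⟨(nat_lit 1776), [], [(nat_lit 151), (nat_lit 605)]⟩, ⟨(nat_lit 1718), [], [(nat_lit 462), (nat_lit 498)]⟩]))) (BT.node (nat_lit 1815) (BT.leaf (.inv (nat_lit 1813))) (BT.leaf (.rel (nat_lit 1786) (nat_lit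 0) [(nat_lit 1292), (nat_lit 438)] [⟨(nat_lit 1440), [(nat_lit 775)], [(nat_lit 1026), (nat_lit 752)]⟩]))))) (BT.node (nat_lit 1820) (BT.node (nat_lit 1818) (BT.node (nat_lit 1817) (BT.leaf (.inv (nat_lit 1815))) (BT.leaf (.emul [(nat_lit 654), (nat_lit 1254)]))) (BT.node (nat_lit 1819) (BT.leaf (.rel (nat_lit 1674) (nat_lit 4) [(nat_lit 1106), (nat_lit 875)] [⟨(nat_lit 1360), [(nat_lit 775)], [(nat_lit 93), (nat_lit 606)]⟩, ⟨(nat_lit 1458), [(nat_lit 1817)], [(nat_lit 349), (nat_lit 142)]⟩])) (BT.leaf (.rel (nat_lit 1414) (nat_lit 0) [(nat_lit 726), (nat_lit 288)] [⟨(nat_lit 1259), [(nat_lit 775)], [(nat_lit 95), (nat_lit 291)]⟩])))) (BT.node (nat_lit 1822) (BT.node (nat_lit 1821) (BT.leaf (.dfn [(nat_lit 3), (nat_lit 1), (nat_lit 3)])) (BT.leaf (.emul [(nat_lit 168), (nat_lit 615)]))) (BT.node (nat_lit 1823) (BT.leaf (.cmp (nat_lit 1820) ⟨(nat_lit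 1820), [(nat_lit 1821)], [(nat_lit 166), (nat_lit 566)]⟩)) (BT.leaf (.inv (nat_lit 1820)))))))) (BT.node (nat_lit 1840) (BT.node (nat_lit 1832) (BT.node (nat_lit 1828) (BT.node (nat_lit 1826) (BT.node (nat_lit 1825) (BT.leaf (.emul [(nat_lit 168), (nat_lit 658)])) (BT.leaf (.emul [(nat_lit 210), (nat_lit 1824)]))) (BT.node (nat_lit 1827) (BT.leaf (.rel (nat_lit 1823) (nat_lit 2) [(nat_lit 523), (nat_lit 1136)] [⟨(nat_lit 589), [(nat_lit 1825)], [(nat_lit 1099), (nat_lit 206)]⟩, ⟨(nat_lit 1591), [(nat_lit 645)], [(nat_lit 493), (nat_lit 1140)]⟩])) (BT.leaf (.inv (nat_lit 1826))))) (BT.node (nat_lit 1830) (BT.node (nat_lit 1829) (BT.leaf (.rel (nat_lit 1388) (nat_lit 0) [(nat_lit 461), (nat_lit 525)] [⟨(nat_lit 1820), [(nat_lit 749)], [(nat_lit 214), (nat_lit 985)]⟩])) (BT.leaf (.inv (nat_lit 1828)))) (BT.node (nat_lit 1831) (BT.leaf (.rel (nat_lit 1280)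 (nat_lit 0) [(nat_lit 653), (nat_lit 1583)] [⟨(nat_lit 1826), [], [(nat_lit 391), (nat_lit 818)]⟩])) (BT.leaf (.inv (nat_lit 1830)))))) (BT.node (nat_lit 1836) (BT.node (nat_lit 1834) (BT.node (nat_lit 1833) (BT.leaf (.rel (nat_lit 1827) (nat_lit 0) [(nat_lit 483), (nat_lit 1376)] [⟨(nat_lit 1438), [], [(nat_lit 1201), (nat_lit 439)]⟩])) (BT.leaf (.inv (nat_lit 1832)))) (BT.node (nat_lit 1835) (BT.leaf (.emul [(nat_lit 143), (nat_lit 1455)])) (BT.leaf (.emul [(nat_lit 154), (nat_lit 1834)])))) (BT.node (nat_lit 1838) (BT.node (nat_lit 1837) (BT.leaf (.rel (nat_lit 565) (nat_lit 1) [(nat_lit 521), (nat_lit 169)] [⟨(nat_lit 1820), [(nat_lit 452), (nat_lit 1835)], [(nat_lit 1026), (nat_lit 372)]⟩])) (BT.leaf (.inv (nat_lit 1836)))) (BT.node (nat_lit 1839) (BT.leaf (.emul [(nat_lit 552), (nat_lit 558)])) (BT.leaf (.emul [(nat_lit 564), (nat_lit 1838)]))))))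 (BT.node (nat_lit 1848) (BT.node (nat_lit 1844) (BT.node (nat_lit 1842) (BT.node (nat_lit 1841) (BT.leaf (.emul [(nat_lit 552), (nat_lit 1839)])) (BT.leaf (.rel (nat_lit 571) (nat_lit 1) [(nat_lit 826), (nat_lit 555)] [⟨(nat_lit 1837), [(nat_lit 1840)], [(nat_lit 520), (nat_lit 646)]⟩]))) (BT.node (nat_lit 1843) (BT.leaf (.inv (nat_lit 1841))) (BT.leaf (.emul [(nat_lit 564), (nat_lit 552)])))) (BT.node (nat_lit 1846) (BT.node (nat_lit 1845) (BT.leaf (.emul [(nat_lit 564), (nat_lit 1843)])) (BT.leaf (.emul [(nat_lit 558), (nat_lit 1844)]))) (BT.node (nat_lit 1847) (BT.leaf (.cmp (nat_lit 1842) ⟨(nat_lit 1837), [(nat_lit 1845)], [(nat_lit 865), (nat_lit 400)]⟩)) (BT.leaf (.rel (nat_lit 1833) (nat_lit 3) [(nat_lit 782), (nat_lit 563)] [⟨(nat_lit 1561), [(nat_lit 775)], [(nat_lit 434), (nat_lit 270)]⟩, ⟨(nat_lit 1754), [(nat_lit 935)], [(nat_lit 192),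 (nat_lit 1141)]⟩]))))) (BT.node (nat_lit 1852) (BT.node (nat_lit 1850) (BT.node (nat_lit 1849) (BT.leaf (.inv (nat_lit 1847))) (BT.leaf (.nmul (nat_lit 936) [(nat_lit 19)]))) (BT.node (nat_lit 1851) (BT.leaf (.rel (nat_lit 1122) (nat_lit 3) [(nat_lit 111), (nat_lit 1849)] [⟨(nat_lit 1071), [(nat_lit 935)], [(nat_lit 292), (nat_lit 140)]⟩, ⟨(nat_lit 1829), [(nat_lit 775)], [(nat_lit 213), (nat_lit 566)]⟩])) (BT.leaf (.inv (nat_lit 1850))))) (BT.node (nat_lit 1854) (BT.node (nat_lit 1853) (BT.leaf (.rel (nat_lit 1830) (nat_lit 4) [(nat_lit 427), (nat_lit 874)] [⟨(nat_lit 1601), [], [(nat_lit 575), (nat_lit 737)]⟩, ⟨(nat_lit 1734), [], [(nat_lit 746), (nat_lit 421)]⟩])) (BT.leaf (.inv (nat_lit 1852)))) (BT.node (nat_lit 1855) (BT.leaf (.rel (nat_lit 1828) (nat_lit 0) [(nat_lit 192), (nat_lit 1375)] [⟨(nat_lit 958), [(nat_lit 775)], [(nat_lit 441), (nat_lit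 390)]⟩])) (BT.leaf (.inv (nat_lit 1854)))))))))
noncomputable def cF1856 : BT Fc := (BT.node (nat_lit 1888) (BT.node (nat_lit 1872) (BT.node (nat_lit 1864) (BT.node (nat_lit 1860) (BT.node (nat_lit 1858) (BT.node (nat_lit 1857) (BT.leaf ⟨(nat_lit 2), (nat_lit 4), (nat_lit 4), (nat_lit 0x1366c1ad2c2bee99d1cee754eb1d0b7), (nat_lit 0), (nat_lit 0)⟩) (BT.leaf ⟨(nat_lit 3), (nat_lit 8), (nat_lit 8), (nat_lit 0x237a25f040802399000084bc00840), (nat_lit 0x1eb532f9dd45e30658b7cb0c4dff46e), (nat_lit 0)⟩)) (BT.node (nat_lit 1859) (BT.leaf ⟨(nat_lit 3), (nat_lit 8), (nat_lit 7), (nat_lit 0xee571e8d3015ce74101a004031d35f), (nat_lit 0x1e1589c6e4cb963c4e8db1ba8bc78cb), (nat_lit 0)⟩) (BT.leaf ⟨(nat_lit 3), (nat_lit 7), (nat_lit 8), (nat_lit 0x1e1589c6e4cb963c4e8db1ba8bc78cb), (nat_lit 0xee571e8d3015ce74101a004031d35f), (nat_lit 0)⟩))) (BT.node (nat_lit 1862) (BT.node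 (nat_lit 1861) (BT.leaf ⟨(nat_lit 3), (nat_lit 7), (nat_lit 8), (nat_lit 0x1279007463aaf8f9d004de8ae401040), (nat_lit 0x354e8f213aee2aeab6cdde776d3195), (nat_lit 0)⟩) (BT.leaf ⟨(nat_lit 3), (nat_lit 8), (nat_lit 7), (nat_lit 0x354e8f213aee2aeab6cdde776d3195), (nat_lit 0x1279007463aaf8f9d004de8ae401040), (nat_lit 0)⟩)) (BT.node (nat_lit 1863) (BT.leaf ⟨(nat_lit 3), (nat_lit 7), (nat_lit 8), (nat_lit 0x8069d3d542080aa3240c00c03f4673), (nat_lit 0xaa55edffb063995deca472ee57cf51), (nat_lit 0)⟩) (BT.leaf ⟨(nat_lit 3), (nat_lit 8), (nat_lit 7), (nat_lit 0xaa55edffb063995deca472ee57cf51), (nat_lit 0x8069d3d542080aa3240c00c03f4673), (nat_lit 0)⟩)))) (BT.node (nat_lit 1868) (BT.node (nat_lit 1866) (BT.node (nat_lit 1865) (BT.leaf ⟨(nat_lit 3), (nat_lit 8), (nat_lit 7), (nat_lit 0x482cf1016000bf46908c74442800d5), (nat_lit 0x10be6af91805038377a32b0cc20850), (nat_lit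 0)⟩) (BT.leaf ⟨(nat_lit 3), (nat_lit 7), (nat_lit 8), (nat_lit 0x10be6af91805038377a32b0cc20850), (nat_lit 0x482cf1016000bf46908c74442800d5), (nat_lit 0)⟩)) (BT.node (nat_lit 1867) (BT.leaf ⟨(nat_lit 3), (nat_lit 3), (nat_lit 8), (nat_lit 0x48086e402214048018553e749f830), (nat_lit 0x750e28fad26356ea9d53a2775eaf21), (nat_lit 0)⟩) (BT.leaf ⟨(nat_lit 3), (nat_lit 8), (nat_lit 3), (nat_lit 0x750e28fad26356ea9d53a2775eaf21), (nat_lit 0x48086e402214048018553e749f830), (nat_lit 0)⟩))) (BT.node (nat_lit 1870) (BT.node (nat_lit 1869) (BT.leaf ⟨(nat_lit 3), (nat_lit 8), (nat_lit 7), (nat_lit 0xd7d27a5b37887dc527f6e146655ec1), (nat_lit 0x1d1f34f4e36551ba2756bffd99a3693), (nat_lit 0)⟩) (BT.leaf ⟨(nat_lit 3), (nat_lit 7), (nat_lit 8), (nat_lit 0x1d1f34f4e36551ba2756bffd99a3693), (nat_lit 0xd7d27a5b37887dc527f6e146655ec1), (nat_lit 0)⟩)) (BT.node (nat_lit 1871)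 (BT.leaf ⟨(nat_lit 2), (nat_lit 8), (nat_lit 8), (nat_lit 0x185495d5c35e5bf3492e24ecbc9693f), (nat_lit 0), (nat_lit 0)⟩) (BT.leaf ⟨(nat_lit 1), (nat_lit 0), (nat_lit 0), (nat_lit 0x744ebd4b38a6551b5a63ba555eadd5), (nat_lit 0x744ebd4b38a6551b5a63ba555eadd5), (nat_lit 0)⟩))))) (BT.node (nat_lit 1880) (BT.node (nat_lit 1876) (BT.node (nat_lit 1874) (BT.node (nat_lit 1873) (BT.leaf ⟨(nat_lit 3), (nat_lit 7), (nat_lit 8), (nat_lit 0x1ae6801e8802cebf1c4071b75610400), (nat_lit 0xf89d1e0b5c6f84ad3e7efb1b91b363), (nat_lit 0)⟩) (BT.leaf ⟨(nat_lit 3), (nat_lit 8), (nat_lit 7), (nat_lit 0xf89d1e0b5c6f84ad3e7efb1b91b363), (nat_lit 0x1ae6801e8802cebf1c4071b75610400), (nat_lit 0)⟩)) (BT.node (nat_lit 1875) (BT.leaf ⟨(nat_lit 3), (nat_lit 8), (nat_lit 7), (nat_lit 0x1e33c4fad2f3f37c2b8df3be3532dd2), (nat_lit 0x1eeb86980ce8208440a0109f1a79880), (nat_lit 0)⟩) (BT.leaf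 ⟨(nat_lit 3), (nat_lit 7), (nat_lit 8), (nat_lit 0x1eeb86980ce8208440a0109f1a79880), (nat_lit 0x1e33c4fad2f3f37c2b8df3be3532dd2), (nat_lit 0)⟩))) (BT.node (nat_lit 1878) (BT.node (nat_lit 1877) (BT.leaf ⟨(nat_lit 3), (nat_lit 3), (nat_lit 8), (nat_lit 0x19d11cc1e501f1840888140600d7890), (nat_lit 0x1e7532f85e1b74989d34cb1e37c7c6e), (nat_lit 0)⟩) (BT.leaf ⟨(nat_lit 3), (nat_lit 8), (nat_lit 3), (nat_lit 0x1e7532f85e1b74989d34cb1e37c7c6e), (nat_lit 0x19d11cc1e501f1840888140600d7890), (nat_lit 0)⟩)) (BT.node (nat_lit 1879) (BT.leaf ⟨(nat_lit 2), (nat_lit 2), (nat_lit 2), (nat_lit 0x9777b1028e2108112bb01400c01006), (nat_lit 0), (nat_lit 0)⟩) (BT.leaf ⟨(nat_lit 3), (nat_lit 7), (nat_lit 8), (nat_lit 0xe926f6c192d23a4f3d8efb26a0f0ed), (nat_lit 0x1b0713c9ea97df64d4be83c9aa6f3d8), (nat_lit 0)⟩)))) (BT.node (nat_lit 1884) (BT.node (nat_lit 1882) (BT.node (nat_lit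 1881) (BT.leaf ⟨(nat_lit 3), (nat_lit 8), (nat_lit 7), (nat_lit 0x1b0713c9ea97df64d4be83c9aa6f3d8), (nat_lit 0xe926f6c192d23a4f3d8efb26a0f0ed), (nat_lit 0)⟩) (BT.leaf ⟨(nat_lit 3), (nat_lit 8), (nat_lit 7), (nat_lit 0xee75cc4d72c3985cabbea2ae313d83), (nat_lit 0x93c4814008030222bde844ad021d1), (nat_lit 0)⟩)) (BT.node (nat_lit 1883) (BT.leaf ⟨(nat_lit 3), (nat_lit 7), (nat_lit 8), (nat_lit 0x93c4814008030222bde844ad021d1), (nat_lit 0xee75cc4d72c3985cabbea2ae313d83), (nat_lit 0)⟩) (BT.leaf ⟨(nat_lit 2), (nat_lit 8), (nat_lit 8), (nat_lit 0x1cc80647b0500612bde024e820ee848), (nat_lit 0), (nat_lit 0)⟩))) (BT.node (nat_lit 1886) (BT.node (nat_lit 1885) (BT.leaf ⟨(nat_lit 3), (nat_lit 8), (nat_lit 7), (nat_lit 0x1fa34f240b1aa030005fa8c88197a08), (nat_lit 0x4a47090e54aa7ab1c50300477213f), (nat_lit 0)⟩) (BT.leaf ⟨(nat_lit 3), (nat_lit 7), (nat_lit 8), (nat_lit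 0x4a47090e54aa7ab1c50300477213f), (nat_lit 0x1fa34f240b1aa030005fa8c88197a08), (nat_lit 0)⟩)) (BT.node (nat_lit 1887) (BT.leaf ⟨(nat_lit 3), (nat_lit 8), (nat_lit 7), (nat_lit 0x1295f14d9fc6facde2e3c16f8cad236), (nat_lit 0xae5cb583473d469a0e6532be55ec4d), (nat_lit 0)⟩) (BT.leaf ⟨(nat_lit 3), (nat_lit 7), (nat_lit 8), (nat_lit 0xae5cb583473d469a0e6532be55ec4d), (nat_lit 0x1295f14d9fc6facde2e3c16f8cad236), (nat_lit 0)⟩)))))) (BT.node (nat_lit 1904) (BT.node (nat_lit 1896) (BT.node (nat_lit 1892) (BT.node (nat_lit 1890) (BT.node (nat_lit 1889) (BT.leaf ⟨(nat_lit 3), (nat_lit 8), (nat_lit 7), (nat_lit 0x4200107c6ae64f2003abe379d5e8), (nat_lit 0xf89f1ba3c16fadf3b635c66f11b3e1), (nat_lit 0)⟩) (BT.leaf ⟨(nat_lit 3), (nat_lit 7), (nat_lit 8), (nat_lit 0xf89f1ba3c16fadf3b635c66f11b3e1), (nat_lit 0x4200107c6ae64f2003abe379d5e8), (nat_lit 0)⟩)) (BT.node (nat_lit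 1891) (BT.leaf ⟨(nat_lit 3), (nat_lit 8), (nat_lit 7), (nat_lit 0xb7c40c80e1b078501afad030040088), (nat_lit 0x1bf27a5174d5ad390fdbdc92affa6f4), (nat_lit 0)⟩) (BT.leaf ⟨(nat_lit 3), (nat_lit 7), (nat_lit 8), (nat_lit 0x1bf27a5174d5ad390fdbdc92affa6f4), (nat_lit 0xb7c40c80e1b078501afad030040088), (nat_lit 0)⟩))) (BT.node (nat_lit 1894) (BT.node (nat_lit 1893) (BT.leaf ⟨(nat_lit 2), (nat_lit 4), (nat_lit 4), (nat_lit 0x6bd97b96ab96c49392f27f31c87e69), (nat_lit 0), (nat_lit 0)⟩) (BT.leaf ⟨(nat_lit 3), (nat_lit 8), (nat_lit 3), (nat_lit 0x1b0655d1943e97d27d654bad7c2f9bc), (nat_lit 0x96fa10060280150212b089268421d1), (nat_lit 0)⟩)) (BT.node (nat_lit 1895) (BT.leaf ⟨(nat_lit 3), (nat_lit 3), (nat_lit 8), (nat_lit 0x96fa10060280150212b089268421d1), (nat_lit 0x1b0655d1943e97d27d654bad7c2f9bc), (nat_lit 0)⟩) (BT.leaf ⟨(nat_lit 3), (nat_lit 8), (nat_lit 7), (nat_lit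 0x97d2ed654b72ad0fa4f0bf7496fa57), (nat_lit 0x1a7b39b00c0151a9d58d3c73d10032f), (nat_lit 0)⟩)))) (BT.node (nat_lit 1900) (BT.node (nat_lit 1898) (BT.node (nat_lit 1897) (BT.leaf ⟨(nat_lit 3), (nat_lit 7), (nat_lit 8), (nat_lit 0x1a7b39b00c0151a9d58d3c73d10032f), (nat_lit 0x97d2ed654b72ad0fa4f0bf7496fa57), (nat_lit 0)⟩) (BT.leaf ⟨(nat_lit 3), (nat_lit 8), (nat_lit 7), (nat_lit 0x42180101b3d91b46b5f05e40bfa180), (nat_lit 0x4927c1091c0500c72a0200c09fbf3), (nat_lit 0)⟩)) (BT.node (nat_lit 1899) (BT.leaf ⟨(nat_lit 3), (nat_lit 7), (nat_lit 8), (nat_lit 0x4927c1091c0500c72a0200c09fbf3), (nat_lit 0x42180101b3d91b46b5f05e40bfa180), (nat_lit 0)⟩) (BT.leaf ⟨(nat_lit 3), (nat_lit 8), (nat_lit 3), (nat_lit 0x4bc974c72df4bfed927ab8e5887acc), (nat_lit 0x131ed44e8ea266d32de83d1722f4dea), (nat_lit 0)⟩))) (BT.node (nat_lit 1902) (BT.node (nat_lit 1901) (BT.leaf ⟨(nat_lit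 3), (nat_lit 3), (nat_lit 8), (nat_lit 0x131ed44e8ea266d32de83d1722f4dea), (nat_lit 0x4bc974c72df4bfed927ab8e5887acc), (nat_lit 0)⟩) (BT.leaf ⟨(nat_lit 3), (nat_lit 7), (nat_lit 8), (nat_lit 0x11bbc7e8d7fce37c4ea2ba54d32c70d), (nat_lit 0x800f1a08c01519402019e88818032f), (nat_lit 0)⟩)) (BT.node (nat_lit 1903) (BT.leaf ⟨(nat_lit 3), (nat_lit 8), (nat_lit 7), (nat_lit 0x800f1a08c01519402019e88818032f), (nat_lit 0x11bbc7e8d7fce37c4ea2ba54d32c70d), (nat_lit 0)⟩) (BT.leaf ⟨(nat_lit 3), (nat_lit 7), (nat_lit 8), (nat_lit 0x1b9008f2a27e24231c8e02493c88014), (nat_lit 0x7572c7211f5a4ceedd51ab0f4eb9f5), (nat_lit 0)⟩))))) (BT.node (nat_lit 1912) (BT.node (nat_lit 1908) (BT.node (nat_lit 1906) (BT.node (nat_lit 1905) (BT.leaf ⟨(nat_lit 3), (nat_lit 8), (nat_lit 7), (nat_lit 0x7572c7211f5a4ceedd51ab0f4eb9f5), (nat_lit 0x1b9008f2a27e24231c8e02493c88014), (nat_lit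 0)⟩) (BT.leaf ⟨(nat_lit 3), (nat_lit 8), (nat_lit 7), (nat_lit 0xcbd10202500f54f1a00fd0c02a305f), (nat_lit 0x2020f2df1419d1b1fc6ad1eeb86cf3), (nat_lit 0)⟩)) (BT.node (nat_lit 1907) (BT.leaf ⟨(nat_lit 3), (nat_lit 7), (nat_lit 8), (nat_lit 0x2020f2df1419d1b1fc6ad1eeb86cf3), (nat_lit 0xcbd10202500f54f1a00fd0c02a305f), (nat_lit 0)⟩) (BT.leaf ⟨(nat_lit 3), (nat_lit 7), (nat_lit 8), (nat_lit 0x1bd0eaa000404bc02100e8c0404025f), (nat_lit 0x19a697fdb1f4e59661af27f571b812b), (nat_lit 0)⟩))) (BT.node (nat_lit 1910) (BT.node (nat_lit 1909) (BT.leaf ⟨(nat_lit 3), (nat_lit 8), (nat_lit 7), (nat_lit 0x19a697fdb1f4e59661af27f571b812b), (nat_lit 0x1bd0eaa000404bc02100e8c0404025f), (nat_lit 0)⟩) (BT.leaf ⟨(nat_lit 3), (nat_lit 8), (nat_lit 7), (nat_lit 0x126a4b26ab63a7a4f8edb3d89f60b13), (nat_lit 0x1eb5ff78d8dd63465b8dd1a5e45bf89), (nat_lit 0)⟩)) (BT.node (nat_lit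 1911) (BT.leaf ⟨(nat_lit 3), (nat_lit 7), (nat_lit 8), (nat_lit 0x1eb5ff78d8dd63465b8dd1a5e45bf89), (nat_lit 0x126a4b26ab63a7a4f8edb3d89f60b13), (nat_lit 0)⟩) (BT.leaf ⟨(nat_lit 3), (nat_lit 7), (nat_lit 8), (nat_lit 0xf6252f46c8c1f3a7669e89d9b49b46), (nat_lit 0x977c7f38004aedf0882bd500a38902), (nat_lit 0)⟩)))) (BT.node (nat_lit 1916) (BT.node (nat_lit 1914) (BT.node (nat_lit 1913) (BT.leaf ⟨(nat_lit 3), (nat_lit 8), (nat_lit 7), (nat_lit 0x977c7f38004aedf0882bd500a38902), (nat_lit 0xf6252f46c8c1f3a7669e89d9b49b46), (nat_lit 0)⟩) (BT.leaf ⟨(nat_lit 3), (nat_lit 8), (nat_lit 4), (nat_lit 0xbe620240181deb83433082e8c206b4), (nat_lit 0x3b76519b7fd69b164538e31cd9a873), (nat_lit 0)⟩)) (BT.node (nat_lit 1915) (BT.leaf ⟨(nat_lit 3), (nat_lit 4), (nat_lit 8), (nat_lit 0x3b76519b7fd69b164538e31cd9a873), (nat_lit 0xbe620240181deb83433082e8c206b4), (nat_lit 0)⟩)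 (BT.leaf ⟨(nat_lit 3), (nat_lit 7), (nat_lit 8), (nat_lit 0xb4bdb9e8bf10f58e176fd066e63da8), (nat_lit 0x1f8e6cf90746f8e52e0befaf8a8b95a), (nat_lit 0)⟩))) (BT.node (nat_lit 1918) (BT.node (nat_lit 1917) (BT.leaf ⟨(nat_lit 3), (nat_lit 8), (nat_lit 7), (nat_lit 0x1f8e6cf90746f8e52e0befaf8a8b95a), (nat_lit 0xb4bdb9e8bf10f58e176fd066e63da8), (nat_lit 0)⟩) (BT.leaf ⟨(nat_lit 3), (nat_lit 7), (nat_lit 8), (nat_lit 0xc96822e70018413e1f1e408052bb), (nat_lit 0x1b2affbb9d72ae5b62a91ccaf51cd34), (nat_lit 0)⟩)) (BT.node (nat_lit 1919) (BT.leaf ⟨(nat_lit 3), (nat_lit 8), (nat_lit 7), (nat_lit 0x1b2affbb9d72ae5b62a91ccaf51cd34), (nat_lit 0xc96822e70018413e1f1e408052bb), (nat_lit 0)⟩) (BT.leaf ⟨(nat_lit 3), (nat_lit 3), (nat_lit 8), (nat_lit 0x4ace88240080180649a00be255ef42), (nat_lit 0x131efc56855cc72e41763d16a2745e8), (nat_lit 0)⟩)))))))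
noncomputable def cP1856 : BT Pf := (BT.node (nat_lit 1888) (BT.node (nat_lit 1872) (BT.node (nat_lit 1864) (BT.node (nat_lit 1860) (BT.node (nat_lit 1858) (BT.node (nat_lit 1857) (BT.leaf (.emul [(nat_lit 564), (nat_lit 1304)])) (BT.leaf (.rel (nat_lit 1836) (nat_lit 1) [(nat_lit 424), (nat_lit 390)] [⟨(nat_lit 1837), [(nat_lit 1856)], [(nat_lit 1174), (nat_lit 802)]⟩]))) (BT.node (nat_lit 1859) (BT.leaf (.rel (nat_lit 1413) (nat_lit 0) [(nat_lit 1201), (nat_lit 985)] [⟨(nat_lit 1829), [(nat_lit 775)], [(nat_lit 241), (nat_lit 328)]⟩])) (BT.leaf (.inv (nat_lit 1858))))) (BT.node (nat_lit 1862) (BT.node (nat_lit 1861) (BT.leaf (.rel (nat_lit 1828) (nat_lit 1) [(nat_lit 129), (nat_lit 1745)] [⟨(nat_lit 1146), [(nat_lit 935)], [(nat_lit 619), (nat_lit 1136)]⟩])) (BT.leaf (.inv (nat_lit 1860)))) (BT.node (nat_lit 1863) (BT.leaf (.rel (nat_lit 1858) (nat_lit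 5) [(nat_lit 902), (nat_lit 1109)] [⟨(nat_lit 1361), [], [(nat_lit 174), (nat_lit 475)]⟩, ⟨(nat_lit 1691), [], [(nat_lit 194), (nat_lit 1053)]⟩])) (BT.leaf (.inv (nat_lit 1862)))))) (BT.node (nat_lit 1868) (BT.node (nat_lit 1866) (BT.node (nat_lit 1865) (BT.leaf (.rel (nat_lit 1206) (nat_lit 0) [(nat_lit 511), (nat_lit 398)] [⟨(nat_lit 1862), [(nat_lit 775)], [(nat_lit 1126), (nat_lit 1070)]⟩])) (BT.leaf (.inv (nat_lit 1864)))) (BT.node (nat_lit 1867) (BT.leaf (.rel (nat_lit 1848) (nat_lit 3) [(nat_lit 266), (nat_lit 224)] [⟨(nat_lit 837), [(nat_lit 935)], [(nat_lit 259), (nat_lit 486)]⟩, ⟨(nat_lit 1055), [(nat_lit 775)], [(nat_lit 493), (nat_lit 420)]⟩])) (BT.leaf (.inv (nat_lit 1866))))) (BT.node (nat_lit 1870) (BT.node (nat_lit 1869) (BT.leaf (.rel (nat_lit 1715) (nat_lit 0) [(nat_lit 483), (nat_lit 751)] [⟨(nat_lit 1859), [], [(nat_lit 357), (nat_lit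 738)]⟩])) (BT.leaf (.inv (nat_lit 1868)))) (BT.node (nat_lit 1871) (BT.leaf (.cmp (nat_lit 1869) ⟨(nat_lit 1859), [(nat_lit 935)], [(nat_lit 825), (nat_lit 248)]⟩)) (BT.leaf (.nmul (nat_lit 818) [(nat_lit 1)])))))) (BT.node (nat_lit 1880) (BT.node (nat_lit 1876) (BT.node (nat_lit 1874) (BT.node (nat_lit 1873) (BT.leaf (.rel (nat_lit 1867) (nat_lit 4) [(nat_lit 350), (nat_lit 740)] [⟨(nat_lit 1058), [(nat_lit 458)], [(nat_lit 474), (nat_lit 264)]⟩, ⟨(nat_lit 954), [(nat_lit 935)], [(nat_lit 428), (nat_lit 1871)]⟩])) (BT.leaf (.inv (nat_lit 1872)))) (BT.node (nat_lit 1875) (BT.leaf (.rel (nat_lit 1573) (nat_lit 2) [(nat_lit 1337), (nat_lit 90)] [⟨(nat_lit 1774), [], [(nat_lit 1092), (nat_lit 652)]⟩, ⟨(nat_lit 1831), [], [(nat_lit 630), (nat_lit 628)]⟩])) (BT.leaf (.inv (nat_lit 1874))))) (BT.node (nat_lit 1878) (BT.node (nat_lit 1877) (BT.leaf (.rel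 (nat_lit 1863) (nat_lit 0) [(nat_lit 387), (nat_lit 173)] [⟨(nat_lit 803), [(nat_lit 775)], [(nat_lit 970), (nat_lit 455)]⟩])) (BT.leaf (.inv (nat_lit 1876)))) (BT.node (nat_lit 1879) (BT.leaf (.emul [(nat_lit 154), (nat_lit 131)])) (BT.leaf (.rel (nat_lit 1823) (nat_lit 3) [(nat_lit 364), (nat_lit 1109)] [⟨(nat_lit 1002), [(nat_lit 238), (nat_lit 1878)], [(nat_lit 726), (nat_lit 870)]⟩, ⟨(nat_lit 1295), [], [(nat_lit 707), (nat_lit 202)]⟩]))))) (BT.node (nat_lit 1884) (BT.node (nat_lit 1882) (BT.node (nat_lit 1881) (BT.leaf (.inv (nat_lit 1879))) (BT.leaf (.rel (nat_lit 1158) (nat_lit 3) [(nat_lit 1242), (nat_lit 573)] [⟨(nat_lit 1295), [(nat_lit 935)], [(nat_lit 97), (nat_lit 525)]⟩, ⟨(nat_lit 1847), [(nat_lit 775)], [(nat_lit 95), (nat_lit 1211)]⟩]))) (BT.node (nat_lit 1883) (BT.leaf (.inv (nat_lit 1881))) (BT.leaf (.cmp (nat_lit 1882) ⟨(nat_lit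 1826), [(nat_lit 935)], [(nat_lit 258), (nat_lit 878)]⟩)))) (BT.node (nat_lit 1886) (BT.node (nat_lit 1885) (BT.leaf (.rel (nat_lit 1214) (nat_lit 2) [(nat_lit 473), (nat_lit 334)] [⟨(nat_lit 852), [], [(nat_lit 194), (nat_lit 752)]⟩, ⟨(nat_lit 1876), [(nat_lit 946)], [(nat_lit 195), (nat_lit 555)]⟩])) (BT.leaf (.inv (nat_lit 1884)))) (BT.node (nat_lit 1887) (BT.leaf (.rel (nat_lit 1611) (nat_lit 3) [(nat_lit 392), (nat_lit 1009)] [⟨(nat_lit 1643), [], [(nat_lit 271), (nat_lit 593)]⟩, ⟨(nat_lit 1851), [], [(nat_lit 520), (nat_lit 891)]⟩])) (BT.leaf (.inv (nat_lit 1886)))))))) (BT.node (nat_lit 1904) (BT.node (nat_lit 1896) (BT.node (nat_lit 1892) (BT.node (nat_lit 1890) (BT.node (nat_lit 1889) (BT.leaf (.rel (nat_lit 1061) (nat_lit 0) [(nat_lit 164), (nat_lit 293)] [⟨(nat_lit 1887), [(nat_lit 775)], [(nat_lit 209), (nat_lit 203)]⟩])) (BT.leaf (.inv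 (nat_lit 1888)))) (BT.node (nat_lit 1891) (BT.leaf (.rel (nat_lit 1769) (nat_lit 5) [(nat_lit 95), (nat_lit 1192)] [⟨(nat_lit 1328), [(nat_lit 775)], [(nat_lit 1195), (nat_lit 533)]⟩, ⟨(nat_lit 1885), [(nat_lit 935)], [(nat_lit 355), (nat_lit 1141)]⟩])) (BT.leaf (.inv (nat_lit 1890))))) (BT.node (nat_lit 1894) (BT.node (nat_lit 1893) (BT.leaf (.emul [(nat_lit 558), (nat_lit 1393)])) (BT.leaf (.rel (nat_lit 725) (nat_lit 0) [(nat_lit 97), (nat_lit 379)] [⟨(nat_lit 1837), [(nat_lit 1892)], [(nat_lit 1041), (nat_lit 110)]⟩]))) (BT.node (nat_lit 1895) (BT.leaf (.inv (nat_lit 1893))) (BT.leaf (.rel (nat_lit 1134) (nat_lit 0) [(nat_lit 629), (nat_lit 969)] [⟨(nat_lit 1862), [(nat_lit 935)], [(nat_lit 130), (nat_lit 265)]⟩]))))) (BT.node (nat_lit 1900) (BT.node (nat_lit 1898) (BT.node (nat_lit 1897) (BT.leaf (.inv (nat_lit 1895))) (BT.leaf (.rel (nat_lit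 1215) (nat_lit 1) [(nat_lit 942), (nat_lit 1223)] [⟨(nat_lit 1885), [(nat_lit 775)], [(nat_lit 568), (nat_lit 88)]⟩]))) (BT.node (nat_lit 1899) (BT.leaf (.inv (nat_lit 1897))) (BT.leaf (.rel (nat_lit 448) (nat_lit 1) [(nat_lit 527), (nat_lit 162)] [⟨(nat_lit 1866), [(nat_lit 767)], [(nat_lit 507), (nat_lit 1211)]⟩])))) (BT.node (nat_lit 1902) (BT.node (nat_lit 1901) (BT.leaf (.inv (nat_lit 1899))) (BT.leaf (.rel (nat_lit 1884) (nat_lit 1) [(nat_lit 526), (nat_lit 969)] [⟨(nat_lit 1736), [(nat_lit 775)], [(nat_lit 902), (nat_lit 737)]⟩]))) (BT.node (nat_lit 1903) (BT.leaf (.inv (nat_lit 1901))) (BT.leaf (.rel (nat_lit 1833) (nat_lit 4) [(nat_lit 761), (nat_lit 559)] [⟨(nat_lit 1552), [(nat_lit 775)], [(nat_lit 441), (nat_lit 264)]⟩, ⟨(nat_lit 1313), [], [(nat_lit 631), (nat_lit 1849)]⟩])))))) (BT.node (nat_lit 1912) (BT.node (nat_lit 1908) (BT.node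 (nat_lit 1906) (BT.node (nat_lit 1905) (BT.leaf (.inv (nat_lit 1903))) (BT.leaf (.rel (nat_lit 1202) (nat_lit 5) [(nat_lit 129), (nat_lit 512)] [⟨(nat_lit 1733), [], [(nat_lit 152), (nat_lit 652)]⟩, ⟨(nat_lit 1903), [(nat_lit 775)], [(nat_lit 1292), (nat_lit 892)]⟩]))) (BT.node (nat_lit 1907) (BT.leaf (.inv (nat_lit 1905))) (BT.leaf (.rel (nat_lit 1893) (nat_lit 1) [(nat_lit 914), (nat_lit 1)] [⟨(nat_lit 989), [(nat_lit 828)], [(nat_lit 1173), (nat_lit 751)]⟩])))) (BT.node (nat_lit 1910) (BT.node (nat_lit 1909) (BT.leaf (.inv (nat_lit 1907))) (BT.leaf (.rel (nat_lit 1405) (nat_lit 0) [(nat_lit 689), (nat_lit 279)] [⟨(nat_lit 1872), [], [(nat_lit 630), (nat_lit 396)]⟩]))) (BT.node (nat_lit 1911) (BT.leaf (.inv (nat_lit 1909))) (BT.leaf (.rel (nat_lit 1895) (nat_lit 0) [(nat_lit 1308), (nat_lit 495)] [⟨(nat_lit 1366), [], [(nat_lit 1014), (nat_lit 1472)]⟩])))))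 (BT.node (nat_lit 1916) (BT.node (nat_lit 1914) (BT.node (nat_lit 1913) (BT.leaf (.inv (nat_lit 1911))) (BT.leaf (.rel (nat_lit 1200) (nat_lit 4) [(nat_lit 422), (nat_lit 252)] [⟨(nat_lit 1167), [(nat_lit 775)], [(nat_lit 1014), (nat_lit 525)]⟩, ⟨(nat_lit 1862), [(nat_lit 775)], [(nat_lit 1235), (nat_lit 363)]⟩]))) (BT.node (nat_lit 1915) (BT.leaf (.inv (nat_lit 1913))) (BT.leaf (.rel (nat_lit 1873) (nat_lit 0) [(nat_lit 673), (nat_lit 361)] [⟨(nat_lit 1788), [(nat_lit 775)], [(nat_lit 237), (nat_lit 717)]⟩])))) (BT.node (nat_lit 1918) (BT.node (nat_lit 1917) (BT.leaf (.inv (nat_lit 1915))) (BT.leaf (.rel (nat_lit 1827) (nat_lit 1) [(nat_lit 746), (nat_lit 777)] [⟨(nat_lit 1721), [], [(nat_lit 942), (nat_lit 490)]⟩]))) (BT.node (nat_lit 1919) (BT.leaf (.inv (nat_lit 1917))) (BT.leaf (.rel (nat_lit 1909) (nat_lit 0) [(nat_lit 1173), (nat_lit 395)] [⟨(nat_lit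 931), [], [(nat_lit 1004), (nat_lit 877)]⟩]))))))))
noncomputable def cF1920 : BT Fc := (BT.node (nat_lit 1952) (BT.node (nat_lit 1936) (BT.node (nat_lit 1928) (BT.node (nat_lit 1924) (BT.node (nat_lit 1922) (BT.node (nat_lit 1921) (BT.leaf ⟨(nat_lit 3), (nat_lit 8), (nat_lit 3), (nat_lit 0x131efc56855cc72e41763d16a2745e8), (nat_lit 0x4ace88240080180649a00be255ef42), (nat_lit 0)⟩) (BT.leaf ⟨(nat_lit 2), (nat_lit 8), (nat_lit 8), (nat_lit 0x14bd9782f6e131f3492eb624ad6613f), (nat_lit 0), (nat_lit 0)⟩)) (BT.node (nat_lit 1923) (BT.leaf ⟨(nat_lit 2), (nat_lit 8), (nat_lit 8), (nat_lit 0xe924d0ed7b127e0f4de93da7989976), (nat_lit 0), (nat_lit 0)⟩) (BT.leaf ⟨(nat_lit 3), (nat_lit 7), (nat_lit 8), (nat_lit 0x1006979e8fc797e40410bab0035cc04), (nat_lit 0x1e3132f85f1f74a37789d1affbe6f0d), (nat_lit 0)⟩))) (BT.node (nat_lit 1926) (BT.node (nat_lit 1925) (BT.leaf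 ⟨(nat_lit 3), (nat_lit 8), (nat_lit 7), (nat_lit 0x1e3132f85f1f74a37789d1affbe6f0d), (nat_lit 0x1006979e8fc797e40410bab0035cc04), (nat_lit 0)⟩) (BT.leaf ⟨(nat_lit 3), (nat_lit 7), (nat_lit 8), (nat_lit 0x7d77799538a3e8ebd4b2aadb3498d5), (nat_lit 0x221f5c960127740c6fc4ae0a2042b1), (nat_lit 0)⟩)) (BT.node (nat_lit 1927) (BT.leaf ⟨(nat_lit 3), (nat_lit 8), (nat_lit 7), (nat_lit 0x221f5c960127740c6fc4ae0a2042b1), (nat_lit 0x7d77799538a3e8ebd4b2aadb3498d5), (nat_lit 0)⟩) (BT.leaf ⟨(nat_lit 3), (nat_lit 7), (nat_lit 8), (nat_lit 0x1edd694e8ea331ff419b87b5a2e4265), (nat_lit 0xfce373637d72951b3e17c6b8cad2cc), (nat_lit 0)⟩)))) (BT.node (nat_lit 1932) (BT.node (nat_lit 1930) (BT.node (nat_lit 1929) (BT.leaf ⟨(nat_lit 3), (nat_lit 8), (nat_lit 7), (nat_lit 0xfce373637d72951b3e17c6b8cad2cc), (nat_lit 0x1edd694e8ea331ff419b87b5a2e4265), (nat_lit 0)⟩) (BT.leaf ⟨(nat_lit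 3), (nat_lit 8), (nat_lit 7), (nat_lit 0x1fa2e45689d17a8bb43d3d0abaf0751), (nat_lit 0x1ceda4f7a39dcc83e2d2749cea9d0b7), (nat_lit 0)⟩)) (BT.node (nat_lit 1931) (BT.leaf ⟨(nat_lit 3), (nat_lit 7), (nat_lit 8), (nat_lit 0x1ceda4f7a39dcc83e2d2749cea9d0b7), (nat_lit 0x1fa2e45689d17a8bb43d3d0abaf0751), (nat_lit 0)⟩) (BT.leaf ⟨(nat_lit 3), (nat_lit 5), (nat_lit 8), (nat_lit 0x93dafe5f3789782fb70ba495e8cec1), (nat_lit 0x1e40de4a59b25691b77dfc6fcde1ba3), (nat_lit 0)⟩))) (BT.node (nat_lit 1934) (BT.node (nat_lit 1933) (BT.leaf ⟨(nat_lit 3), (nat_lit 8), (nat_lit 5), (nat_lit 0x1e40de4a59b25691b77dfc6fcde1ba3), (nat_lit 0x93dafe5f3789782fb70ba495e8cec1), (nat_lit 0)⟩) (BT.leaf ⟨(nat_lit 3), (nat_lit 7), (nat_lit 8), (nat_lit 0x110a07cd2dfde8208c0090e8d202f9), (nat_lit 0x2e75cb96bfe8e5b62bb562ae226a99), (nat_lit 0)⟩)) (BT.node (nat_lit 1935) (BT.leaf ⟨(nat_lit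 3), (nat_lit 8), (nat_lit 7), (nat_lit 0x2e75cb96bfe8e5b62bb562ae226a99), (nat_lit 0x110a07cd2dfde8208c0090e8d202f9), (nat_lit 0)⟩) (BT.leaf ⟨(nat_lit 3), (nat_lit 8), (nat_lit 7), (nat_lit 0x421718d530041274573b3d4031d120), (nat_lit 0x16350460060017e9d20140080b4f673), (nat_lit 0)⟩))))) (BT.node (nat_lit 1944) (BT.node (nat_lit 1940) (BT.node (nat_lit 1938) (BT.node (nat_lit 1937) (BT.leaf ⟨(nat_lit 3), (nat_lit 7), (nat_lit 8), (nat_lit 0x16350460060017e9d20140080b4f673), (nat_lit 0x421718d530041274573b3d4031d120), (nat_lit 0)⟩) (BT.leaf ⟨(nat_lit 3), (nat_lit 8), (nat_lit 5), (nat_lit 0x1edd574c72ed72305da8bf1fa132f51), (nat_lit 0x81042044029e279f404209268e8f42), (nat_lit 0)⟩)) (BT.node (nat_lit 1939) (BT.leaf ⟨(nat_lit 3), (nat_lit 5), (nat_lit 8), (nat_lit 0x81042044029e279f404209268e8f42), (nat_lit 0x1edd574c72ed72305da8bf1fa132f51), (nat_lit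 0)⟩) (BT.leaf ⟨(nat_lit 1), (nat_lit 0), (nat_lit 0), (nat_lit 0x1134d926a50fbf35a6f5fe9b937a2f4), (nat_lit 0x1134d926a50fbf35a6f5fe9b937a2f4), (nat_lit 0)⟩))) (BT.node (nat_lit 1942) (BT.node (nat_lit 1941) (BT.leaf ⟨(nat_lit 3), (nat_lit 8), (nat_lit 7), (nat_lit 0x443231085c6600825736be502cf68d), (nat_lit 0x10817a40280380202408d73f8c39c00), (nat_lit 0)⟩) (BT.leaf ⟨(nat_lit 3), (nat_lit 7), (nat_lit 8), (nat_lit 0x10817a40280380202408d73f8c39c00), (nat_lit 0x443231085c6600825736be502cf68d), (nat_lit 0)⟩)) (BT.node (nat_lit 1943) (BT.leaf ⟨(nat_lit 3), (nat_lit 8), (nat_lit 3), (nat_lit 0xf7b12d93875c0974400c40841202), (nat_lit 0x806a33d5d3ca018020417280b0058d), (nat_lit 0)⟩) (BT.leaf ⟨(nat_lit 3), (nat_lit 3), (nat_lit 8), (nat_lit 0x806a33d5d3ca018020417280b0058d), (nat_lit 0xf7b12d93875c0974400c40841202), (nat_lit 0)⟩)))) (BT.node (nat_lit 1948)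 (BT.node (nat_lit 1946) (BT.node (nat_lit 1945) (BT.leaf ⟨(nat_lit 3), (nat_lit 7), (nat_lit 8), (nat_lit 0x1f6e559cee43b5378674dc93d1356f6), (nat_lit 0xaef9c042024028014027c37a811744), (nat_lit 0)⟩) (BT.leaf ⟨(nat_lit 3), (nat_lit 8), (nat_lit 7), (nat_lit 0xaef9c042024028014027c37a811744), (nat_lit 0x1f6e559cee43b5378674dc93d1356f6), (nat_lit 0)⟩)) (BT.node (nat_lit 1947) (BT.leaf ⟨(nat_lit 3), (nat_lit 8), (nat_lit 7), (nat_lit 0x127a4b4beefa9a9d2176a9737b4f49f), (nat_lit 0x3995da3953256b13ab9b06ee626b96), (nat_lit 0)⟩) (BT.leaf ⟨(nat_lit 3), (nat_lit 7), (nat_lit 8), (nat_lit 0x3995da3953256b13ab9b06ee626b96), (nat_lit 0x127a4b4beefa9a9d2176a9737b4f49f), (nat_lit 0)⟩))) (BT.node (nat_lit 1950) (BT.node (nat_lit 1949) (BT.leaf ⟨(nat_lit 3), (nat_lit 8), (nat_lit 7), (nat_lit 0x18090028f5a880506d4e34a6412420), (nat_lit 0x300a404257269f3c774b621003204),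 (nat_lit 0)⟩) (BT.leaf ⟨(nat_lit 3), (nat_lit 7), (nat_lit 8), (nat_lit 0x300a404257269f3c774b621003204), (nat_lit 0x18090028f5a880506d4e34a6412420), (nat_lit 0)⟩)) (BT.node (nat_lit 1951) (BT.leaf ⟨(nat_lit 3), (nat_lit 7), (nat_lit 8), (nat_lit 0x8130053a172cbcf1e73d3c8010805f), (nat_lit 0x440a05739d0ee48268d1aa60090500), (nat_lit 0)⟩) (BT.leaf ⟨(nat_lit 3), (nat_lit 8), (nat_lit 7), (nat_lit 0x440a05739d0ee48268d1aa60090500), (nat_lit 0x8130053a172cbcf1e73d3c8010805f), (nat_lit 0)⟩)))))) (BT.node (nat_lit 1968) (BT.node (nat_lit 1960) (BT.node (nat_lit 1956) (BT.node (nat_lit 1954) (BT.node (nat_lit 1953) (BT.leaf ⟨(nat_lit 3), (nat_lit 7), (nat_lit 8), (nat_lit 0x6bcaa884e1b5a140480ce9078442df), (nat_lit 0x1d3958a0805049c04c7b810223c2908), (nat_lit 0)⟩) (BT.leaf ⟨(nat_lit 3), (nat_lit 8), (nat_lit 7), (nat_lit 0x1d3958a0805049c04c7b810223c2908),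 (nat_lit 0x6bcaa884e1b5a140480ce9078442df), (nat_lit 0)⟩)) (BT.node (nat_lit 1955) (BT.leaf ⟨(nat_lit 3), (nat_lit 8), (nat_lit 7), (nat_lit 0x11ba6cbe346d45cde3e27e782dd1be7), (nat_lit 0x32d5774e94b91bb35ffa8d464d9693), (nat_lit 0)⟩) (BT.leaf ⟨(nat_lit 3), (nat_lit 7), (nat_lit 8), (nat_lit 0x32d5774e94b91bb35ffa8d464d9693), (nat_lit 0x11ba6cbe346d45cde3e27e782dd1be7), (nat_lit 0)⟩))) (BT.node (nat_lit 1958) (BT.node (nat_lit 1957) (BT.leaf ⟨(nat_lit 3), (nat_lit 5), (nat_lit 8), (nat_lit 0x1f372c0b7f1e5e6c6e8d71be7786d34), (nat_lit 0x11368b979de1ad0e76fcda8a1f724f4), (nat_lit 0)⟩) (BT.leaf ⟨(nat_lit 3), (nat_lit 8), (nat_lit 5), (nat_lit 0x11368b979de1ad0e76fcda8a1f724f4), (nat_lit 0x1f372c0b7f1e5e6c6e8d71be7786d34), (nat_lit 0)⟩)) (BT.node (nat_lit 1959) (BT.leaf ⟨(nat_lit 3), (nat_lit 8), (nat_lit 7), (nat_lit 0x31f3884de0090e8dec0084100a005),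 (nat_lit 0x15a0420816c6b7cc041e901ee840239), (nat_lit 0)⟩) (BT.leaf ⟨(nat_lit 3), (nat_lit 7), (nat_lit 8), (nat_lit 0x15a0420816c6b7cc041e901ee840239), (nat_lit 0x31f3884de0090e8dec0084100a005), (nat_lit 0)⟩)))) (BT.node (nat_lit 1964) (BT.node (nat_lit 1962) (BT.node (nat_lit 1961) (BT.leaf ⟨(nat_lit 3), (nat_lit 8), (nat_lit 7), (nat_lit 0x110e880c00dd0a4d00457a96c426f0), (nat_lit 0xc006ab5fae73a0a063a208ee7fa646), (nat_lit 0)⟩) (BT.leaf ⟨(nat_lit 3), (nat_lit 7), (nat_lit 8), (nat_lit 0xc006ab5fae73a0a063a208ee7fa646), (nat_lit 0x110e880c00dd0a4d00457a96c426f0), (nat_lit 0)⟩)) (BT.node (nat_lit 1963) (BT.leaf ⟨(nat_lit 3), (nat_lit 8), (nat_lit 7), (nat_lit 0x1402eac0268d0061033a71b02220404), (nat_lit 0x1fa2d47519d0ab8bb5f8bd9782f45c8), (nat_lit 0)⟩) (BT.leaf ⟨(nat_lit 3), (nat_lit 7), (nat_lit 8), (nat_lit 0x1fa2d47519d0ab8bb5f8bd9782f45c8), (nat_lit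 0x1402eac0268d0061033a71b02220404), (nat_lit 0)⟩))) (BT.node (nat_lit 1966) (BT.node (nat_lit 1965) (BT.leaf ⟨(nat_lit 3), (nat_lit 8), (nat_lit 7), (nat_lit 0x1f05bf32b07eeb9c33aacbcf9d271a), (nat_lit 0x1bdba2006bd4f850112d57602801738), (nat_lit 0)⟩) (BT.leaf ⟨(nat_lit 3), (nat_lit 7), (nat_lit 8), (nat_lit 0x1bdba2006bd4f850112d57602801738), (nat_lit 0x1f05bf32b07eeb9c33aacbcf9d271a), (nat_lit 0)⟩)) (BT.node (nat_lit 1967) (BT.leaf ⟨(nat_lit 2), (nat_lit 5), (nat_lit 5), (nat_lit 0x87a3c01dea014972b8f18005f1041), (nat_lit 0), (nat_lit 0)⟩) (BT.leaf ⟨(nat_lit 3), (nat_lit 8), (nat_lit 7), (nat_lit 0x822f0009e9c95e3df857d60a0842b1), (nat_lit 0x17575caf4c010021009e802e3697c04), (nat_lit 0)⟩))))) (BT.node (nat_lit 1976) (BT.node (nat_lit 1972) (BT.node (nat_lit 1970) (BT.node (nat_lit 1969) (BT.leaf ⟨(nat_lit 3), (nat_lit 7), (nat_lit 8), (nat_lit 0x17575caf4c010021009e802e3697c04),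 (nat_lit 0x822f0009e9c95e3df857d60a0842b1), (nat_lit 0)⟩) (BT.leaf ⟨(nat_lit 3), (nat_lit 8), (nat_lit 7), (nat_lit 0x42017e8d208501afff42013a180500), (nat_lit 0x100eaf8d200043a3020bd100004004), (nat_lit 0)⟩)) (BT.node (nat_lit 1971) (BT.leaf ⟨(nat_lit 3), (nat_lit 7), (nat_lit 8), (nat_lit 0x100eaf8d200043a3020bd100004004), (nat_lit 0x42017e8d208501afff42013a180500), (nat_lit 0)⟩) (BT.leaf ⟨(nat_lit 3), (nat_lit 7), (nat_lit 8), (nat_lit 0xaf44225b3a2091f3904de001003742), (nat_lit 0x1f6d357f4de9b9226ed450fbda55e74), (nat_lit 0)⟩))) (BT.node (nat_lit 1974) (BT.node (nat_lit 1973) (BT.leaf ⟨(nat_lit 3), (nat_lit 8), (nat_lit 7), (nat_lit 0x1f6d357f4de9b9226ed450fbda55e74), (nat_lit 0xaf44225b3a2091f3904de001003742), (nat_lit 0)⟩) (BT.leaf ⟨(nat_lit 3), (nat_lit 7), (nat_lit 8), (nat_lit 0x19cd041e3600902a3202172883f4201), (nat_lit 0x1c19d1eb408887c2877a28065619a40),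 (nat_lit 0)⟩)) (BT.node (nat_lit 1975) (BT.leaf ⟨(nat_lit 3), (nat_lit 8), (nat_lit 7), (nat_lit 0x1c19d1eb408887c2877a28065619a40), (nat_lit 0x19cd041e3600902a3202172883f4201), (nat_lit 0)⟩) (BT.leaf ⟨(nat_lit 3), (nat_lit 8), (nat_lit 7), (nat_lit 0x32f468b7f0affb2c38dba5637c7ea2), (nat_lit 0x17ffa3b35d27f183e75694b9a7a2519), (nat_lit 0)⟩)))) (BT.node (nat_lit 1980) (BT.node (nat_lit 1978) (BT.node (nat_lit 1977) (BT.leaf ⟨(nat_lit 3), (nat_lit 7), (nat_lit 8), (nat_lit 0x17ffa3b35d27f183e75694b9a7a2519), (nat_lit 0x32f468b7f0affb2c38dba5637c7ea2), (nat_lit 0)⟩) (BT.leaf ⟨(nat_lit 3), (nat_lit 8), (nat_lit 7), (nat_lit 0x423234e8d1a44171b5fa000bc90104), (nat_lit 0x114c1103097ca66e40a0042090141f5), (nat_lit 0)⟩)) (BT.node (nat_lit 1979) (BT.leaf ⟨(nat_lit 3), (nat_lit 7), (nat_lit 8), (nat_lit 0x114c1103097ca66e40a0042090141f5), (nat_lit 0x423234e8d1a44171b5fa000bc90104),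 (nat_lit 0)⟩) (BT.leaf ⟨(nat_lit 3), (nat_lit 7), (nat_lit 8), (nat_lit 0xf603e2ae365d0b830cbf8dd9ba3f56), (nat_lit 0x20901003e88aee3881225b7abc7802), (nat_lit 0)⟩))) (BT.node (nat_lit 1982) (BT.node (nat_lit 1981) (BT.leaf ⟨(nat_lit 3), (nat_lit 8), (nat_lit 7), (nat_lit 0x20901003e88aee3881225b7abc7802), (nat_lit 0xf603e2ae365d0b830cbf8dd9ba3f56), (nat_lit 0)⟩) (BT.leaf ⟨(nat_lit 3), (nat_lit 8), (nat_lit 7), (nat_lit 0x17dc55654bcb7daf8e649fb068ca7f), (nat_lit 0x48eb84204480bc7882e8840b7b3e1), (nat_lit 0)⟩)) (BT.node (nat_lit 1983) (BT.leaf ⟨(nat_lit 3), (nat_lit 7), (nat_lit 8), (nat_lit 0x48eb84204480bc7882e8840b7b3e1), (nat_lit 0x17dc55654bcb7daf8e649fb068ca7f), (nat_lit 0)⟩) (BT.leaf ⟨(nat_lit 3), (nat_lit 7), (nat_lit 8), (nat_lit 0x14e9085464102e51058dd3cf558032f), (nat_lit 0x17812b80af0aac7a70187d702084127), (nat_lit 0)⟩)))))))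
noncomputable def cP1920 : BT Pf := (BT.node (nat_lit 1952) (BT.node (nat_lit 1936) (BT.node (nat_lit 1928) (BT.node (nat_lit 1924) (BT.node (nat_lit 1922) (BT.node (nat_lit 1921) (BT.leaf (.inv (nat_lit 1919))) (BT.leaf (.emul [(nat_lit 1846), (nat_lit 1822)]))) (BT.node (nat_lit 1923) (BT.leaf (.emul [(nat_lit 1883), (nat_lit 1921)])) (BT.leaf (.rel (nat_lit 1857) (nat_lit 0) [(nat_lit 900), (nat_lit 288)] [⟨(nat_lit 1895), [(nat_lit 1922)], [(nat_lit 97), (nat_lit 814)]⟩])))) (BT.node (nat_lit 1926) (BT.node (nat_lit 1925) (BT.leaf (.inv (nat_lit 1923))) (BT.leaf (.rel (nat_lit 1867) (nat_lit 5) [(nat_lit 675), (nat_lit 375)] [⟨(nat_lit 981), [(nat_lit 995)], [(nat_lit 152), (nat_lit 320)]⟩, ⟨(nat_lit 1454), [(nat_lit 775)], [(nat_lit 840), (nat_lit 1043)]⟩]))) (BT.node (nat_lit 1927) (BT.leaf (.inv (nat_lit 1925))) (BT.leaf (.rel (nat_lit 1890)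 (nat_lit 2) [(nat_lit 1175), (nat_lit 1083)] [⟨(nat_lit 1098), [], [(nat_lit 631), (nat_lit 401)]⟩, ⟨(nat_lit 1020), [(nat_lit 817)], [(nat_lit 521), (nat_lit 222)]⟩]))))) (BT.node (nat_lit 1932) (BT.node (nat_lit 1930) (BT.node (nat_lit 1929) (BT.leaf (.inv (nat_lit 1927))) (BT.leaf (.rel (nat_lit 1061) (nat_lit 1) [(nat_lit 450), (nat_lit 347)] [⟨(nat_lit 1889), [], [(nat_lit 424), (nat_lit 1376)]⟩]))) (BT.node (nat_lit 1931) (BT.leaf (.inv (nat_lit 1929))) (BT.leaf (.rel (nat_lit 1899) (nat_lit 1) [(nat_lit 433), (nat_lit 891)] [⟨(nat_lit 765), [(nat_lit 443)], [(nat_lit 1026), (nat_lit 89)]⟩])))) (BT.node (nat_lit 1934) (BT.node (nat_lit 1933) (BT.leaf (.inv (nat_lit 1931))) (BT.leaf (.rel (nat_lit 1926) (nat_lit 3) [(nat_lit 92), (nat_lit 808)] [⟨(nat_lit 1300), [(nat_lit 775)], [(nat_lit 526), (nat_lit 124)]⟩, ⟨(nat_lit 1332), [(nat_lit 935)],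 [(nat_lit 865), (nat_lit 752)]⟩]))) (BT.node (nat_lit 1935) (BT.leaf (.inv (nat_lit 1933))) (BT.leaf (.rel (nat_lit 1207) (nat_lit 0) [(nat_lit 352), (nat_lit 1329)] [⟨(nat_lit 1854), [(nat_lit 935)], [(nat_lit 483), (nat_lit 1537)]⟩])))))) (BT.node (nat_lit 1944) (BT.node (nat_lit 1940) (BT.node (nat_lit 1938) (BT.node (nat_lit 1937) (BT.leaf (.inv (nat_lit 1935))) (BT.leaf (.rel (nat_lit 1359) (nat_lit 0) [(nat_lit 620), (nat_lit 372)] [⟨(nat_lit 1829), [], [(nat_lit 523), (nat_lit 438)]⟩]))) (BT.node (nat_lit 1939) (BT.leaf (.inv (nat_lit 1937))) (BT.leaf (.nmul (nat_lit 1279) [(nat_lit 1)])))) (BT.node (nat_lit 1942) (BT.node (nat_lit 1941) (BT.leaf (.rel (nat_lit 954) (nat_lit 5) [(nat_lit 336), (nat_lit 1503)] [⟨(nat_lit 1580), [], [(nat_lit 273), (nat_lit 264)]⟩, ⟨(nat_lit 1859), [(nat_lit 775)], [(nat_lit 653), (nat_lit 1939)]⟩])) (BT.leaf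 (.inv (nat_lit 1940)))) (BT.node (nat_lit 1943) (BT.leaf (.rel (nat_lit 979) (nat_lit 3) [(nat_lit 1600), (nat_lit 711)] [⟨(nat_lit 1222), [(nat_lit 935)], [(nat_lit 759), (nat_lit 875)]⟩, ⟨(nat_lit 1907), [(nat_lit 935)], [(nat_lit 424), (nat_lit 1216)]⟩])) (BT.leaf (.inv (nat_lit 1942)))))) (BT.node (nat_lit 1948) (BT.node (nat_lit 1946) (BT.node (nat_lit 1945) (BT.leaf (.rel (nat_lit 1893) (nat_lit 0) [(nat_lit 619), (nat_lit 605)] [⟨(nat_lit 1097), [(nat_lit 456)], [(nat_lit 196), (nat_lit 1083)]⟩])) (BT.leaf (.inv (nat_lit 1944)))) (BT.node (nat_lit 1947) (BT.leaf (.rel (nat_lit 1297) (nat_lit 4) [(nat_lit 1174), (nat_lit 802)] [⟨(nat_lit 1231), [(nat_lit 935)], [(nat_lit 763), (nat_lit 777)]⟩, ⟨(nat_lit 1944), [], [(nat_lit 284), (nat_lit 398)]⟩])) (BT.leaf (.inv (nat_lit 1946))))) (BT.node (nat_lit 1950) (BT.node (nat_lit 1949) (BT.leaf (.rel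 (nat_lit 1414) (nat_lit 3) [(nat_lit 1174), (nat_lit 1583)] [⟨(nat_lit 971), [], [(nat_lit 1174), (nat_lit 585)]⟩, ⟨(nat_lit 1860), [], [(nat_lit 292), (nat_lit 802)]⟩])) (BT.leaf (.inv (nat_lit 1948)))) (BT.node (nat_lit 1951) (BT.leaf (.rel (nat_lit 1858) (nat_lit 0) [(nat_lit 1235), (nat_lit 1329)] [⟨(nat_lit 1067), [(nat_lit 935)], [(nat_lit 522), (nat_lit 249)]⟩])) (BT.leaf (.inv (nat_lit 1950)))))))) (BT.node (nat_lit 1968) (BT.node (nat_lit 1960) (BT.node (nat_lit 1956) (BT.node (nat_lit 1954) (BT.node (nat_lit 1953) (BT.leaf (.rel (nat_lit 1920) (nat_lit 1) [(nat_lit 493), (nat_lit 880)] [⟨(nat_lit 981), [(nat_lit 458)], [(nat_lit 422), (nat_lit 141)]⟩])) (BT.leaf (.inv (nat_lit 1952)))) (BT.node (nat_lit 1955) (BT.leaf (.rel (nat_lit 1110) (nat_lit 0) [(nat_lit 1162), (nat_lit 379)] [⟨(nat_lit 1820), [(nat_lit 238), (nat_lit 590)], [(nat_lit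 1189), (nat_lit 778)]⟩])) (BT.leaf (.inv (nat_lit 1954))))) (BT.node (nat_lit 1958) (BT.node (nat_lit 1957) (BT.leaf (.rel (nat_lit 1928) (nat_lit 0) [(nat_lit 178), (nat_lit 173)] [⟨(nat_lit 1149), [(nat_lit 935)], [(nat_lit 387), (nat_lit 693)]⟩])) (BT.leaf (.inv (nat_lit 1956)))) (BT.node (nat_lit 1959) (BT.leaf (.rel (nat_lit 1232) (nat_lit 3) [(nat_lit 1103), (nat_lit 1001)] [⟨(nat_lit 1234), [(nat_lit 935)], [(nat_lit 150), (nat_lit 694)]⟩, ⟨(nat_lit 1947), [], [(nat_lit 482), (nat_lit 1871)]⟩])) (BT.leaf (.inv (nat_lit 1958)))))) (BT.node (nat_lit 1964) (BT.node (nat_lit 1962) (BT.node (nat_lit 1961) (BT.leaf (.rel (nat_lit 1631) (nat_lit 1) [(nat_lit 1087), (nat_lit 330)] [⟨(nat_lit 1900), [(nat_lit 888)], [(nat_lit 1162), (nat_lit 1140)]⟩])) (BT.leaf (.inv (nat_lit 1960)))) (BT.node (nat_lit 1963) (BT.leaf (.rel (nat_lit 1341) (nat_lit 1)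 [(nat_lit 237), (nat_lit 203)] [⟨(nat_lit 1910), [(nat_lit 775)], [(nat_lit 130), (nat_lit 627)]⟩])) (BT.leaf (.inv (nat_lit 1962))))) (BT.node (nat_lit 1966) (BT.node (nat_lit 1965) (BT.leaf (.rel (nat_lit 1385) (nat_lit 0) [(nat_lit 1103), (nat_lit 578)] [⟨(nat_lit 1959), [(nat_lit 775)], [(nat_lit 1056), (nat_lit 465)]⟩])) (BT.leaf (.inv (nat_lit 1964)))) (BT.node (nat_lit 1967) (BT.leaf (.emul [(nat_lit 654), (nat_lit 671)])) (BT.leaf (.rel (nat_lit 1122) (nat_lit 2) [(nat_lit 1103), (nat_lit 864)] [⟨(nat_lit 1457), [], [(nat_lit 620), (nat_lit 972)]⟩, ⟨(nat_lit 1956), [(nat_lit 1966)], [(nat_lit 527), (nat_lit 681)]⟩])))))) (BT.node (nat_lit 1976) (BT.node (nat_lit 1972) (BT.node (nat_lit 1970) (BT.node (nat_lit 1969) (BT.leaf (.inv (nat_lit 1967))) (BT.leaf (.rel (nat_lit 1357) (nat_lit 5) [(nat_lit 1201), (nat_lit 398)] [⟨(nat_lit 1760), [],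 [(nat_lit 178), (nat_lit 439)]⟩, ⟨(nat_lit 1859), [(nat_lit 775)], [(nat_lit 513), (nat_lit 555)]⟩]))) (BT.node (nat_lit 1971) (BT.leaf (.inv (nat_lit 1969))) (BT.leaf (.rel (nat_lit 1880) (nat_lit 3) [(nat_lit 353), (nat_lit 647)] [⟨(nat_lit 1113), [(nat_lit 775)], [(nat_lit 97), (nat_lit 191)]⟩, ⟨(nat_lit 1431), [], [(nat_lit 1106), (nat_lit 426)]⟩])))) (BT.node (nat_lit 1974) (BT.node (nat_lit 1973) (BT.leaf (.inv (nat_lit 1971))) (BT.leaf (.rel (nat_lit 1861) (nat_lit 2) [(nat_lit 538), (nat_lit 1133)] [⟨(nat_lit 1558), [], [(nat_lit 764), (nat_lit 495)]⟩, ⟨(nat_lit 1379), [(nat_lit 775)], [(nat_lit 488), (nat_lit 110)]⟩]))) (BT.node (nat_lit 1975) (BT.leaf (.inv (nat_lit 1973))) (BT.leaf (.rel (nat_lit 1474) (nat_lit 5) [(nat_lit 883), (nat_lit 1043)] [⟨(nat_lit 1280), [], [(nat_lit 295), (nat_lit 222)]⟩, ⟨(nat_lit 1832), [], [(nat_lit 394), (nat_lit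 421)]⟩]))))) (BT.node (nat_lit 1980) (BT.node (nat_lit 1978) (BT.node (nat_lit 1977) (BT.leaf (.inv (nat_lit 1975))) (BT.leaf (.rel (nat_lit 1205) (nat_lit 0) [(nat_lit 197), (nat_lit 874)] [⟨(nat_lit 1976), [(nat_lit 935)], [(nat_lit 175), (nat_lit 390)]⟩]))) (BT.node (nat_lit 1979) (BT.leaf (.inv (nat_lit 1977))) (BT.leaf (.rel (nat_lit 1909) (nat_lit 5) [(nat_lit 513), (nat_lit 1123)] [⟨(nat_lit 1680), [], [(nat_lit 197), (nat_lit 264)]⟩, ⟨(nat_lit 1557), [], [(nat_lit 550), (nat_lit 139)]⟩])))) (BT.node (nat_lit 1982) (BT.node (nat_lit 1981) (BT.leaf (.inv (nat_lit 1979))) (BT.leaf (.rel (nat_lit 1933) (nat_lit 2) [(nat_lit 285), (nat_lit 223)] [⟨(nat_lit 1916), [], [(nat_lit 913), (nat_lit 124)]⟩, ⟨(nat_lit 1832), [], [(nat_lit 239), (nat_lit 1036)]⟩]))) (BT.node (nat_lit 1983) (BT.leaf (.inv (nat_lit 1981))) (BT.leaf (.rel (nat_lit 1830) (nat_lit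 0) [(nat_lit 840), (nat_lit 497)] [⟨(nat_lit 1382), [], [(nat_lit 913), (nat_lit 368)]⟩]))))))))
noncomputable def cF1984 : BT Fc := (BT.node (nat_lit 2016) (BT.node (nat_lit 2000) (BT.node (nat_lit 1992) (BT.node (nat_lit 1988) (BT.node (nat_lit 1986) (BT.node (nat_lit 1985) (BT.leaf ⟨(nat_lit 3), (nat_lit 8), (nat_lit 7), (nat_lit 0x17812b80af0aac7a70187d702084127), (nat_lit 0x14e9085464102e51058dd3cf558032f), (nat_lit 0)⟩) (BT.leaf ⟨(nat_lit 3), (nat_lit 7), (nat_lit 7), (nat_lit 0x12784f49cefae926f4be93fa7876976), (nat_lit 0x1e74281c58c60460824fe557e1f9a10), (nat_lit 0)⟩)) (BT.node (nat_lit 1987) (BT.leaf ⟨(nat_lit 3), (nat_lit 8), (nat_lit 7), (nat_lit 0xaf7650e6772aa6ffa9989aae11cb6c), (nat_lit 0x1b937b26aa2fbf35a6f4e43fd255e74), (nat_lit 0)⟩) (BT.leaf ⟨(nat_lit 3), (nat_lit 7), (nat_lit 8), (nat_lit 0x1b937b26aa2fbf35a6f4e43fd255e74), (nat_lit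 0xaf7650e6772aa6ffa9989aae11cb6c), (nat_lit 0)⟩))) (BT.node (nat_lit 1990) (BT.node (nat_lit 1989) (BT.leaf ⟨(nat_lit 3), (nat_lit 8), (nat_lit 7), (nat_lit 0x14d158b96571d4626abbbff89ec1bb9), (nat_lit 0x11c639c5386769bc80731daa1f1647b), (nat_lit 0)⟩) (BT.leaf ⟨(nat_lit 3), (nat_lit 7), (nat_lit 8), (nat_lit 0x11c639c5386769bc80731daa1f1647b), (nat_lit 0x14d158b96571d4626abbbff89ec1bb9), (nat_lit 0)⟩)) (BT.node (nat_lit 1991) (BT.leaf ⟨(nat_lit 3), (nat_lit 8), (nat_lit 7), (nat_lit 0x1de85be159b3bbf9d583693cfb993a4), (nat_lit 0xffb51789f1e32fc6f85627e745be58), (nat_lit 0)⟩) (BT.leaf ⟨(nat_lit 3), (nat_lit 7), (nat_lit 8), (nat_lit 0xffb51789f1e32fc6f85627e745be58), (nat_lit 0x1de85be159b3bbf9d583693cfb993a4), (nat_lit 0)⟩)))) (BT.node (nat_lit 1996) (BT.node (nat_lit 1994) (BT.node (nat_lit 1993) (BT.leaf ⟨(nat_lit 3), (nat_lit 8), (nat_lit 8), (nat_lit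 0x169b16463336cd5a4e738e33ceae287), (nat_lit 0x1d58183f302884154ee40304fc48463), (nat_lit 0)⟩) (BT.leaf ⟨(nat_lit 3), (nat_lit 8), (nat_lit 8), (nat_lit 0x1d58183f302884154ee40304fc48463), (nat_lit 0x169b16463336cd5a4e738e33ceae287), (nat_lit 0)⟩)) (BT.node (nat_lit 1995) (BT.leaf ⟨(nat_lit 3), (nat_lit 8), (nat_lit 7), (nat_lit 0x11cb7a821007d1c971011037a404f8c), (nat_lit 0xaec031d7dec1092e902f1e04b9c202), (nat_lit 0)⟩) (BT.leaf ⟨(nat_lit 3), (nat_lit 7), (nat_lit 8), (nat_lit 0xaec031d7dec1092e902f1e04b9c202), (nat_lit 0x11cb7a821007d1c971011037a404f8c), (nat_lit 0)⟩))) (BT.node (nat_lit 1998) (BT.node (nat_lit 1997) (BT.leaf ⟨(nat_lit 3), (nat_lit 8), (nat_lit 7), (nat_lit 0x27c63e2e7680402803042ae020811), (nat_lit 0x420f8c00bd1f7ade9e7620404c72), (nat_lit 0)⟩) (BT.leaf ⟨(nat_lit 3), (nat_lit 7), (nat_lit 8), (nat_lit 0x420f8c00bd1f7ade9e7620404c72),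 (nat_lit 0x27c63e2e7680402803042ae020811), (nat_lit 0)⟩)) (BT.node (nat_lit 1999) (BT.leaf ⟨(nat_lit 3), (nat_lit 7), (nat_lit 8), (nat_lit 0x12af786fc4d5bd4d9674d69fd390ef4), (nat_lit 0x127cbb09ea96f6076b13d8307a4b59e), (nat_lit 0)⟩) (BT.leaf ⟨(nat_lit 3), (nat_lit 8), (nat_lit 7), (nat_lit 0x127cbb09ea96f6076b13d8307a4b59e), (nat_lit 0x12af786fc4d5bd4d9674d69fd390ef4), (nat_lit 0)⟩))))) (BT.node (nat_lit 2008) (BT.node (nat_lit 2004) (BT.node (nat_lit 2002) (BT.node (nat_lit 2001) (BT.leaf ⟨(nat_lit 3), (nat_lit 8), (nat_lit 7), (nat_lit 0x1dea6cb49acbc6b9d732749cec3e72a), (nat_lit 0x8034f58d3c74e9406007aacbea3208), (nat_lit 0)⟩) (BT.leaf ⟨(nat_lit 3), (nat_lit 7), (nat_lit 8), (nat_lit 0x8034f58d3c74e9406007aacbea3208), (nat_lit 0x1dea6cb49acbc6b9d732749cec3e72a), (nat_lit 0)⟩)) (BT.node (nat_lit 2003) (BT.leaf ⟨(nat_lit 2), (nat_lit 4), (nat_lit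 4), (nat_lit 0x95f7e0088f6ac4048480140a084127), (nat_lit 0), (nat_lit 0)⟩) (BT.leaf ⟨(nat_lit 2), (nat_lit 4), (nat_lit 4), (nat_lit 0x1a8bc4f0df5a2dd898cb7fc996c6f8d), (nat_lit 0), (nat_lit 0)⟩))) (BT.node (nat_lit 2006) (BT.node (nat_lit 2005) (BT.leaf ⟨(nat_lit 3), (nat_lit 7), (nat_lit 8), (nat_lit 0x107b3a084100603dd0c014024386881), (nat_lit 0x1594de25e6be97dc5257d8397f16519), (nat_lit 0)⟩) (BT.leaf ⟨(nat_lit 3), (nat_lit 8), (nat_lit 7), (nat_lit 0x1594de25e6be97dc5257d8397f16519), (nat_lit 0x107b3a084100603dd0c014024386881), (nat_lit 0)⟩)) (BT.node (nat_lit 2007) (BT.leaf ⟨(nat_lit 3), (nat_lit 8), (nat_lit 7), (nat_lit 0x152f4f4deb6227a4f6c1934f6135176), (nat_lit 0x2e7f42010bf3d120280ce74e900300), (nat_lit 0)⟩) (BT.leaf ⟨(nat_lit 3), (nat_lit 7), (nat_lit 8), (nat_lit 0x2e7f42010bf3d120280ce74e900300), (nat_lit 0x152f4f4deb6227a4f6c1934f6135176),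 (nat_lit 0)⟩)))) (BT.node (nat_lit 2012) (BT.node (nat_lit 2010) (BT.node (nat_lit 2009) (BT.leaf ⟨(nat_lit 3), (nat_lit 8), (nat_lit 7), (nat_lit 0x8801827f21e280fa8200432fa29f66), (nat_lit 0x13a1575e0b917ab05f5187ab48bb5e9), (nat_lit 0)⟩) (BT.leaf ⟨(nat_lit 3), (nat_lit 7), (nat_lit 8), (nat_lit 0x13a1575e0b917ab05f5187ab48bb5e9), (nat_lit 0x8801827f21e280fa8200432fa29f66), (nat_lit 0)⟩)) (BT.node (nat_lit 2011) (BT.leaf ⟨(nat_lit 3), (nat_lit 7), (nat_lit 8), (nat_lit 0x203dd1559e66bc4467410221041239), (nat_lit 0xf63a3f42f8cabb836463641f334b46), (nat_lit 0)⟩) (BT.leaf ⟨(nat_lit 3), (nat_lit 8), (nat_lit 7), (nat_lit 0xf63a3f42f8cabb836463641f334b46), (nat_lit 0x203dd1559e66bc4467410221041239), (nat_lit 0)⟩))) (BT.node (nat_lit 2014) (BT.node (nat_lit 2013) (BT.leaf ⟨(nat_lit 2), (nat_lit 5), (nat_lit 5), (nat_lit 0x413fa102c8c4831d5735c6d7f46908),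 (nat_lit 0), (nat_lit 0)⟩) (BT.leaf ⟨(nat_lit 2), (nat_lit 5), (nat_lit 5), (nat_lit 0x215880c8f649e4b74ee647752b828), (nat_lit 0), (nat_lit 0)⟩)) (BT.node (nat_lit 2015) (BT.leaf ⟨(nat_lit 3), (nat_lit 7), (nat_lit 8), (nat_lit 0xdb0eb9f5dde7751b721cb1754eada6), (nat_lit 0x11ba8bba3379e41f1be77c2569f9beb), (nat_lit 0)⟩) (BT.leaf ⟨(nat_lit 3), (nat_lit 8), (nat_lit 7), (nat_lit 0x11ba8bba3379e41f1be77c2569f9beb), (nat_lit 0xdb0eb9f5dde7751b721cb1754eada6), (nat_lit 0)⟩)))))) (BT.node (nat_lit 2032) (BT.node (nat_lit 2024) (BT.node (nat_lit 2020) (BT.node (nat_lit 2018) (BT.node (nat_lit 2017) (BT.leaf ⟨(nat_lit 3), (nat_lit 8), (nat_lit 8), (nat_lit 0x1cef778b7c753679c349e65cea9d583), (nat_lit 0x189ea5e9e93827a5f496934f626f6c1), (nat_lit 0)⟩) (BT.leaf ⟨(nat_lit 3), (nat_lit 8), (nat_lit 7), (nat_lit 0x191ba1346ead2978307cecc32e8cf46), (nat_lit 0x774446fce651ec2425705002a4b208),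 (nat_lit 0)⟩)) (BT.node (nat_lit 2019) (BT.leaf ⟨(nat_lit 3), (nat_lit 7), (nat_lit 8), (nat_lit 0x774446fce651ec2425705002a4b208), (nat_lit 0x191ba1346ead2978307cecc32e8cf46), (nat_lit 0)⟩) (BT.leaf ⟨(nat_lit 3), (nat_lit 8), (nat_lit 7), (nat_lit 0xfae4b0488f6220ee80821095ef0018), (nat_lit 0x10cd9ac738f7572298737fd1cb164f3), (nat_lit 0)⟩))) (BT.node (nat_lit 2022) (BT.node (nat_lit 2021) (BT.leaf ⟨(nat_lit 3), (nat_lit 7), (nat_lit 8), (nat_lit 0x10cd9ac738f7572298737fd1cb164f3), (nat_lit 0xfae4b0488f6220ee80821095ef0018), (nat_lit 0)⟩) (BT.leaf ⟨(nat_lit 3), (nat_lit 8), (nat_lit 7), (nat_lit 0x18020040213d0820233ad73201c6b46), (nat_lit 0x17a8969d700c40901022e7100801471), (nat_lit 0)⟩)) (BT.node (nat_lit 2023) (BT.leaf ⟨(nat_lit 3), (nat_lit 7), (nat_lit 8), (nat_lit 0x17a8969d700c40901022e7100801471), (nat_lit 0x18020040213d0820233ad73201c6b46),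 (nat_lit 0)⟩) (BT.leaf ⟨(nat_lit 3), (nat_lit 7), (nat_lit 8), (nat_lit 0xe5aae66921edc07d1afc2a49e97db1), (nat_lit 0x744125ec4b7cfa3b904256f9c2249a), (nat_lit 0)⟩)))) (BT.node (nat_lit 2028) (BT.node (nat_lit 2026) (BT.node (nat_lit 2025) (BT.leaf ⟨(nat_lit 3), (nat_lit 8), (nat_lit 7), (nat_lit 0x744125ec4b7cfa3b904256f9c2249a), (nat_lit 0xe5aae66921edc07d1afc2a49e97db1), (nat_lit 0)⟩) (BT.leaf ⟨(nat_lit 3), (nat_lit 8), (nat_lit 7), (nat_lit 0x1e332c78df3a2dfe6fadba5636373fe), (nat_lit 0x127e4b3a4a9737a5f77dd3db053509e), (nat_lit 0)⟩)) (BT.node (nat_lit 2027) (BT.leaf ⟨(nat_lit 3), (nat_lit 7), (nat_lit 8), (nat_lit 0x127e4b3a4a9737a5f77dd3db053509e), (nat_lit 0x1e332c78df3a2dfe6fadba5636373fe), (nat_lit 0)⟩) (BT.leaf ⟨(nat_lit 3), (nat_lit 7), (nat_lit 8), (nat_lit 0x1f3dd73be54ce8e73a4e355945bad2), (nat_lit 0x1013c48243a241003204108af402044),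 (nat_lit 0)⟩))) (BT.node (nat_lit 2030) (BT.node (nat_lit 2029) (BT.leaf ⟨(nat_lit 3), (nat_lit 8), (nat_lit 7), (nat_lit 0x1013c48243a241003204108af402044), (nat_lit 0x1f3dd73be54ce8e73a4e355945bad2), (nat_lit 0)⟩) (BT.leaf ⟨(nat_lit 3), (nat_lit 7), (nat_lit 8), (nat_lit 0x43c7d1272de4adb813ffb757334d2f), (nat_lit 0xee480573281a3480b5f2058eacf7f4), (nat_lit 0)⟩)) (BT.node (nat_lit 2031) (BT.leaf ⟨(nat_lit 3), (nat_lit 8), (nat_lit 7), (nat_lit 0xee480573281a3480b5f2058eacf7f4), (nat_lit 0x43c7d1272de4adb813ffb757334d2f), (nat_lit 0)⟩) (BT.leaf ⟨(nat_lit 3), (nat_lit 8), (nat_lit 7), (nat_lit 0x1d0bb31b27b146734e46d26cd43e546), (nat_lit 0xceb2fd2f81101240400d727a039b8d), (nat_lit 0)⟩))))) (BT.node (nat_lit 2040) (BT.node (nat_lit 2036) (BT.node (nat_lit 2034) (BT.node (nat_lit 2033) (BT.leaf ⟨(nat_lit 3), (nat_lit 7), (nat_lit 8), (nat_lit 0xceb2fd2f81101240400d727a039b8d),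 (nat_lit 0x1d0bb31b27b146734e46d26cd43e546), (nat_lit 0)⟩) (BT.leaf ⟨(nat_lit 2), (nat_lit 5), (nat_lit 5), (nat_lit 0x100240404c014be009e86754032fc20), (nat_lit 0), (nat_lit 0)⟩)) (BT.node (nat_lit 2035) (BT.leaf ⟨(nat_lit 3), (nat_lit 8), (nat_lit 7), (nat_lit 0x14656fa5b4ae3992f65f4ffedcde25d), (nat_lit 0x744ea1f538bbbf90c3d1ab699b6693), (nat_lit 0)⟩) (BT.leaf ⟨(nat_lit 3), (nat_lit 7), (nat_lit 8), (nat_lit 0x744ea1f538bbbf90c3d1ab699b6693), (nat_lit 0x14656fa5b4ae3992f65f4ffedcde25d), (nat_lit 0)⟩))) (BT.node (nat_lit 2038) (BT.node (nat_lit 2037) (BT.leaf ⟨(nat_lit 3), (nat_lit 8), (nat_lit 3), (nat_lit 0x1b50bcf21d69b937a5176389a97a6fc), (nat_lit 0x1080973810440805202dedd1096f8f), (nat_lit 0)⟩) (BT.leaf ⟨(nat_lit 3), (nat_lit 3), (nat_lit 8), (nat_lit 0x1080973810440805202dedd1096f8f), (nat_lit 0x1b50bcf21d69b937a5176389a97a6fc), (nat_lit 0)⟩))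 (BT.node (nat_lit 2039) (BT.leaf ⟨(nat_lit 3), (nat_lit 8), (nat_lit 7), (nat_lit 0x4806ad00ae6c0346902b3c407fa35f), (nat_lit 0x280aac801082433a180501ee8407c6), (nat_lit 0)⟩) (BT.leaf ⟨(nat_lit 3), (nat_lit 7), (nat_lit 8), (nat_lit 0x280aac801082433a180501ee8407c6), (nat_lit 0x4806ad00ae6c0346902b3c407fa35f), (nat_lit 0)⟩)))) (BT.node (nat_lit 2044) (BT.node (nat_lit 2042) (BT.node (nat_lit 2041) (BT.leaf ⟨(nat_lit 3), (nat_lit 8), (nat_lit 3), (nat_lit 0xe296fa4f6be97cde370ba49ff2f85f), (nat_lit 0x1a4fb3519e8551ba274666bd58d90cb), (nat_lit 0)⟩) (BT.leaf ⟨(nat_lit 3), (nat_lit 3), (nat_lit 8), (nat_lit 0x1a4fb3519e8551ba274666bd58d90cb), (nat_lit 0xe296fa4f6be97cde370ba49ff2f85f), (nat_lit 0)⟩)) (BT.node (nat_lit 2043) (BT.leaf ⟨(nat_lit 3), (nat_lit 7), (nat_lit 8), (nat_lit 0x1c18209409bc141202f90905bc217cd), (nat_lit 0x1f8e6cf9046ddf5664a55c6fcde1c6e),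 (nat_lit 0)⟩) (BT.leaf ⟨(nat_lit 3), (nat_lit 8), (nat_lit 7), (nat_lit 0x1f8e6cf9046ddf5664a55c6fcde1c6e), (nat_lit 0x1c18209409bc141202f90905bc217cd), (nat_lit 0)⟩))) (BT.node (nat_lit 2046) (BT.node (nat_lit 2045) (BT.leaf ⟨(nat_lit 3), (nat_lit 8), (nat_lit 7), (nat_lit 0x440081c5f3a1409fbf3552044485f8), (nat_lit 0x9002a04de07463bbe793421095f42), (nat_lit 0)⟩) (BT.leaf ⟨(nat_lit 3), (nat_lit 7), (nat_lit 8), (nat_lit 0x9002a04de07463bbe793421095f42), (nat_lit 0x440081c5f3a1409fbf3552044485f8), (nat_lit 0)⟩)) (BT.node (nat_lit 2047) (BT.leaf ⟨(nat_lit 3), (nat_lit 8), (nat_lit 8), (nat_lit 0x9aa26ef050ec73909b2da9f6f727f4), (nat_lit 0x1a35ff5d2a69e37c7d8dd45eb7c6313), (nat_lit 0)⟩) (BT.leaf ⟨(nat_lit 3), (nat_lit 7), (nat_lit 8), (nat_lit 0xf85f12e33c6fafbeb637cf364de60b), (nat_lit 0xdc02fadf95695eb2a1f71493f2fa5f), (nat_lit 0)⟩)))))))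
noncomputable def cP1984 : BT Pf := (BT.node (nat_lit 2016) (BT.node (nat_lit 2000) (BT.node (nat_lit 1992) (BT.node (nat_lit 1988) (BT.node (nat_lit 1986) (BT.node (nat_lit 1985) (BT.leaf (.inv (nat_lit 1983))) (BT.leaf (.rel (nat_lit 1022) (nat_lit 4) [(nat_lit 321), (nat_lit 578)] [⟨(nat_lit 1297), [(nat_lit 935)], [(nat_lit 281), (nat_lit 1088)]⟩, ⟨(nat_lit 1178), [(nat_lit 775)], [(nat_lit 241), (nat_lit 127)]⟩]))) (BT.node (nat_lit 1987) (BT.leaf (.rel (nat_lit 1806) (nat_lit 0) [(nat_lit 353), (nat_lit 162)] [⟨(nat_lit 1832), [], [(nat_lit 299), (nat_lit 203)]⟩])) (BT.leaf (.inv (nat_lit 1986))))) (BT.node (nat_lit 1990) (BT.node (nat_lit 1989) (BT.leaf (.rel (nat_lit 1105) (nat_lit 1) [(nat_lit 544), (nat_lit 682)] [⟨(nat_lit 1901), [], [(nat_lit 675), (nat_lit 572)]⟩])) (BT.leaf (.inv (nat_lit 1988)))) (BT.node (nat_lit 1991) (BT.leaf (.rel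 (nat_lit 1577) (nat_lit 2) [(nat_lit 194), (nat_lit 627)] [⟨(nat_lit 1334), [(nat_lit 775)], [(nat_lit 827), (nat_lit 573)]⟩, ⟨(nat_lit 1910), [], [(nat_lit 527), (nat_lit 162)]⟩])) (BT.leaf (.inv (nat_lit 1990)))))) (BT.node (nat_lit 1996) (BT.node (nat_lit 1994) (BT.node (nat_lit 1993) (BT.leaf (.rel (nat_lit 1958) (nat_lit 2) [(nat_lit 469), (nat_lit 700)] [⟨(nat_lit 1139), [(nat_lit 935)], [(nat_lit 447), (nat_lit 795)]⟩, ⟨(nat_lit 1947), [], [(nat_lit 284), (nat_lit 1871)]⟩])) (BT.leaf (.inv (nat_lit 1992)))) (BT.node (nat_lit 1995) (BT.leaf (.rel (nat_lit 1486) (nat_lit 5) [(nat_lit 569), (nat_lit 874)] [⟨(nat_lit 1618), [], [(nat_lit 1242), (nat_lit 279)]⟩, ⟨(nat_lit 1829), [(nat_lit 775)], [(nat_lit 93), (nat_lit 628)]⟩])) (BT.leaf (.inv (nat_lit 1994))))) (BT.node (nat_lit 1998) (BT.node (nat_lit 1997) (BT.leaf (.rel (nat_lit 1232) (nat_lit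 5) [(nat_lit 620), (nat_lit 235)] [⟨(nat_lit 1451), [], [(nat_lit 689), (nat_lit 597)]⟩, ⟨(nat_lit 1976), [(nat_lit 935)], [(nat_lit 991), (nat_lit 1001)]⟩])) (BT.leaf (.inv (nat_lit 1996)))) (BT.node (nat_lit 1999) (BT.leaf (.rel (nat_lit 1953) (nat_lit 2) [(nat_lit 357), (nat_lit 821)] [⟨(nat_lit 1381), [], [(nat_lit 175), (nat_lit 347)]⟩, ⟨(nat_lit 1258), [(nat_lit 775)], [(nat_lit 473), (nat_lit 584)]⟩])) (BT.leaf (.inv (nat_lit 1998))))))) (BT.node (nat_lit 2008) (BT.node (nat_lit 2004) (BT.node (nat_lit 2002) (BT.node (nat_lit 2001) (BT.leaf (.rel (nat_lit 1741) (nat_lit 0) [(nat_lit 483), (nat_lit 290)] [⟨(nat_lit 1865), [(nat_lit 935)], [(nat_lit 508), (nat_lit 306)]⟩])) (BT.leaf (.inv (nat_lit 2000)))) (BT.node (nat_lit 2003) (BT.leaf (.emul [(nat_lit 552), (nat_lit 1363)])) (BT.leaf (.emul [(nat_lit 552), (nat_lit 2002)])))) (BT.node (nat_lit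 2006) (BT.node (nat_lit 2005) (BT.leaf (.rel (nat_lit 1913) (nat_lit 1) [(nat_lit 446), (nat_lit 736)] [⟨(nat_lit 873), [(nat_lit 2003)], [(nat_lit 764), (nat_lit 556)]⟩])) (BT.leaf (.inv (nat_lit 2004)))) (BT.node (nat_lit 2007) (BT.leaf (.rel (nat_lit 1225) (nat_lit 0) [(nat_lit 511), (nat_lit 89)] [⟨(nat_lit 1860), [], [(nat_lit 913), (nat_lit 369)]⟩])) (BT.leaf (.inv (nat_lit 2006)))))) (BT.node (nat_lit 2012) (BT.node (nat_lit 2010) (BT.node (nat_lit 2009) (BT.leaf (.rel (nat_lit 965) (nat_lit 0) [(nat_lit 1070)] [⟨(nat_lit 1971), [], [(nat_lit 256), (nat_lit 91)]⟩])) (BT.leaf (.inv (nat_lit 2008)))) (BT.node (nat_lit 2011) (BT.leaf (.rel (nat_lit 1962) (nat_lit 0) [(nat_lit 424), (nat_lit 813)] [⟨(nat_lit 1779), [(nat_lit 775)], [(nat_lit 94), (nat_lit 864)]⟩])) (BT.leaf (.inv (nat_lit 2010))))) (BT.node (nat_lit 2014) (BT.node (nat_lit 2013)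 (BT.leaf (.emul [(nat_lit 594), (nat_lit 910)])) (BT.leaf (.emul [(nat_lit 594), (nat_lit 2012)]))) (BT.node (nat_lit 2015) (BT.leaf (.rel (nat_lit 1957) (nat_lit 0) [(nat_lit 520), (nat_lit 173)] [⟨(nat_lit 1169), [(nat_lit 2013)], [(nat_lit 285), (nat_lit 190)]⟩])) (BT.leaf (.inv (nat_lit 2014)))))))) (BT.node (nat_lit 2032) (BT.node (nat_lit 2024) (BT.node (nat_lit 2020) (BT.node (nat_lit 2018) (BT.node (nat_lit 2017) (BT.leaf (.rel (nat_lit 1946) (nat_lit 5) [(nat_lit 503), (nat_lit 584)] [⟨(nat_lit 983), [], [(nat_lit 95), (nat_lit 529)]⟩, ⟨(nat_lit 1887), [], [(nat_lit 462), (nat_lit 497)]⟩])) (BT.leaf (.rel (nat_lit 1625) (nat_lit 1) [(nat_lit 266), (nat_lit 163)] [⟨(nat_lit 1941), [(nat_lit 935)], [(nat_lit 492), (nat_lit 401)]⟩]))) (BT.node (nat_lit 2019) (BT.leaf (.inv (nat_lit 2017))) (BT.leaf (.rel (nat_lit 1137) (nat_lit 1) [(nat_lit 351),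 (nat_lit 390)] [⟨(nat_lit 1949), [], [(nat_lit 285), (nat_lit 126)]⟩])))) (BT.node (nat_lit 2022) (BT.node (nat_lit 2021) (BT.leaf (.inv (nat_lit 2019))) (BT.leaf (.rel (nat_lit 1463) (nat_lit 0) [(nat_lit 463), (nat_lit 1043)] [⟨(nat_lit 1949), [], [(nat_lit 446), (nat_lit 287)]⟩]))) (BT.node (nat_lit 2023) (BT.leaf (.inv (nat_lit 2021))) (BT.leaf (.rel (nat_lit 1908) (nat_lit 0) [(nat_lit 539), (nat_lit 875)] [⟨(nat_lit 1253), [(nat_lit 935)], [(nat_lit 1106), (nat_lit 89)]⟩]))))) (BT.node (nat_lit 2028) (BT.node (nat_lit 2026) (BT.node (nat_lit 2025) (BT.leaf (.inv (nat_lit 2023))) (BT.leaf (.rel (nat_lit 1635) (nat_lit 1) [(nat_lit 550), (nat_lit 459)] [⟨(nat_lit 1915), [], [(nat_lit 349), (nat_lit 306)]⟩]))) (BT.node (nat_lit 2027) (BT.leaf (.inv (nat_lit 2025))) (BT.leaf (.rel (nat_lit 1909) (nat_lit 1) [(nat_lit 629), (nat_lit 390)] [⟨(nat_lit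 1670), [], [(nat_lit 815), (nat_lit 499)]⟩])))) (BT.node (nat_lit 2030) (BT.node (nat_lit 2029) (BT.leaf (.inv (nat_lit 2027))) (BT.leaf (.rel (nat_lit 1874) (nat_lit 1) [(nat_lit 832), (nat_lit 361)] [⟨(nat_lit 1618), [], [(nat_lit 911), (nat_lit 421)]⟩]))) (BT.node (nat_lit 2031) (BT.leaf (.inv (nat_lit 2029))) (BT.leaf (.rel (nat_lit 1485) (nat_lit 0) [(nat_lit 1175), (nat_lit 798)] [⟨(nat_lit 2027), [(nat_lit 935)], [(nat_lit 538), (nat_lit 606)]⟩])))))) (BT.node (nat_lit 2040) (BT.node (nat_lit 2036) (BT.node (nat_lit 2034) (BT.node (nat_lit 2033) (BT.leaf (.inv (nat_lit 2031))) (BT.leaf (.emul [(nat_lit 654), (nat_lit 1581)]))) (BT.node (nat_lit 2035) (BT.leaf (.rel (nat_lit 1418) (nat_lit 5) [(nat_lit 94), (nat_lit 88)] [⟨(nat_lit 857), [(nat_lit 775)], [(nat_lit 825), (nat_lit 795)]⟩, ⟨(nat_lit 1938), [(nat_lit 2033)], [(nat_lit 393), (nat_lit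 662)]⟩])) (BT.leaf (.inv (nat_lit 2034))))) (BT.node (nat_lit 2038) (BT.node (nat_lit 2037) (BT.leaf (.rel (nat_lit 494) (nat_lit 1) [(nat_lit 941), (nat_lit 711)] [⟨(nat_lit 1894), [(nat_lit 863)], [(nat_lit 250), (nat_lit 1101)]⟩])) (BT.leaf (.inv (nat_lit 2036)))) (BT.node (nat_lit 2039) (BT.leaf (.rel (nat_lit 1681) (nat_lit 5) [(nat_lit 991), (nat_lit 1025)] [⟨(nat_lit 1716), [(nat_lit 775)], [(nat_lit 1140)]⟩, ⟨(nat_lit 1865), [(nat_lit 935)], [(nat_lit 1308), (nat_lit 529)]⟩])) (BT.leaf (.inv (nat_lit 2038)))))) (BT.node (nat_lit 2044) (BT.node (nat_lit 2042) (BT.node (nat_lit 2041) (BT.leaf (.rel (nat_lit 788) (nat_lit 2) [(nat_lit 673), (nat_lit 202)] [⟨(nat_lit 448), [(nat_lit 496)], [(nat_lit 620), (nat_lit 191)]⟩, ⟨(nat_lit 2037), [(nat_lit 668)], [(nat_lit 1027), (nat_lit 440)]⟩])) (BT.leaf (.inv (nat_lit 2040)))) (BT.node (nat_lit 2043)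 (BT.leaf (.rel (nat_lit 1836) (nat_lit 0) [(nat_lit 977), (nat_lit 559)] [⟨(nat_lit 1301), [(nat_lit 1725)], [(nat_lit 689), (nat_lit 109)]⟩])) (BT.leaf (.inv (nat_lit 2042))))) (BT.node (nat_lit 2046) (BT.node (nat_lit 2045) (BT.leaf (.rel (nat_lit 1158) (nat_lit 2) [(nat_lit 673), (nat_lit 367)] [⟨(nat_lit 929), [], [(nat_lit 280), (nat_lit 455)]⟩, ⟨(nat_lit 1900), [(nat_lit 322)], [(nat_lit 19), (nat_lit 628)]⟩])) (BT.leaf (.inv (nat_lit 2044)))) (BT.node (nat_lit 2047) (BT.leaf (.rel (nat_lit 1828) (nat_lit 1) [(nat_lit 281), (nat_lit 868)] [⟨(nat_lit 1860), [], [(nat_lit 675), (nat_lit 141)]⟩])) (BT.leaf (.rel (nat_lit 2044) (nat_lit 0) [(nat_lit 239), (nat_lit 596)] [⟨(nat_lit 1325), [(nat_lit 775)], [(nat_lit 550), (nat_lit 901)]⟩]))))))))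
noncomputable def cF2048 : BT Fc := (BT.node (nat_lit 2080) (BT.node (nat_lit 2064) (BT.node (nat_lit 2056) (BT.node (nat_lit 2052) (BT.node (nat_lit 2050) (BT.node (nat_lit 2049) (BT.leaf ⟨(nat_lit 3), (nat_lit 8), (nat_lit 7), (nat_lit 0xdc02fadf95695eb2a1f71493f2fa5f), (nat_lit 0xf85f12e33c6fafbeb637cf364de60b), (nat_lit 0)⟩) (BT.leaf ⟨(nat_lit 3), (nat_lit 8), (nat_lit 7), (nat_lit 0x18b255b7049e97f2fa5bba4e293fa57), (nat_lit 0x15cdff335693e423dc718c78b23b8ed), (nat_lit 0)⟩)) (BT.node (nat_lit 2051) (BT.leaf ⟨(nat_lit 3), (nat_lit 7), (nat_lit 8), (nat_lit 0x15cdff335693e423dc718c78b23b8ed), (nat_lit 0x18b255b7049e97f2fa5bba4e293fa57), (nat_lit 0)⟩) (BT.leaf ⟨(nat_lit 3), (nat_lit 7), (nat_lit 8), (nat_lit 0x1d9957335e9d91a8cf47e88f6252e69), (nat_lit 0xf62d8c9c93552cbb4deefba7a5f313), (nat_lit 0)⟩))) (BT.node (nat_lit 2054) (BT.node (nat_lit 2053)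 (BT.leaf ⟨(nat_lit 3), (nat_lit 8), (nat_lit 7), (nat_lit 0xf62d8c9c93552cbb4deefba7a5f313), (nat_lit 0x1d9957335e9d91a8cf47e88f6252e69), (nat_lit 0)⟩) (BT.leaf ⟨(nat_lit 3), (nat_lit 5), (nat_lit 8), (nat_lit 0x80eaa00009d1897be3de91cc205e8), (nat_lit 0x123a70280111efc281856242005496), (nat_lit 0)⟩)) (BT.node (nat_lit 2055) (BT.leaf ⟨(nat_lit 3), (nat_lit 8), (nat_lit 5), (nat_lit 0x123a70280111efc281856242005496), (nat_lit 0x80eaa00009d1897be3de91cc205e8), (nat_lit 0)⟩) (BT.leaf ⟨(nat_lit 3), (nat_lit 8), (nat_lit 8), (nat_lit 0x1082419508218022140e0c5bc285a8), (nat_lit 0x220aab63ad13cf3a090109c34602df), (nat_lit 0)⟩)))) (BT.node (nat_lit 2060) (BT.node (nat_lit 2058) (BT.node (nat_lit 2057) (BT.leaf ⟨(nat_lit 3), (nat_lit 8), (nat_lit 7), (nat_lit 0xf840949c044aee38f443ae977c7dea), (nat_lit 0x1ad0e76e489bc876a7db6386c8bcd17), (nat_lit 0)⟩) (BT.leaf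 ⟨(nat_lit 3), (nat_lit 7), (nat_lit 8), (nat_lit 0x1ad0e76e489bc876a7db6386c8bcd17), (nat_lit 0xf840949c044aee38f443ae977c7dea), (nat_lit 0)⟩)) (BT.node (nat_lit 2059) (BT.leaf ⟨(nat_lit 2), (nat_lit 5), (nat_lit 5), (nat_lit 0x1000403e34000080081001075420020), (nat_lit 0), (nat_lit 0)⟩) (BT.leaf ⟨(nat_lit 3), (nat_lit 8), (nat_lit 7), (nat_lit 0x1c87edef436473b6a6b44d51357a287), (nat_lit 0x1bbf0af7a749eeb992d2b078e99d0b7), (nat_lit 0)⟩))) (BT.node (nat_lit 2062) (BT.node (nat_lit 2061) (BT.leaf ⟨(nat_lit 3), (nat_lit 7), (nat_lit 8), (nat_lit 0x1bbf0af7a749eeb992d2b078e99d0b7), (nat_lit 0x1c87edef436473b6a6b44d51357a287), (nat_lit 0)⟩) (BT.leaf ⟨(nat_lit 1), (nat_lit 0), (nat_lit 0), (nat_lit 0x500020021ce8800807c697c01400), (nat_lit 0x500020021ce8800807c697c01400), (nat_lit 0)⟩)) (BT.node (nat_lit 2063) (BT.leaf ⟨(nat_lit 3), (nat_lit 7), (nat_lit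 8), (nat_lit 0xc00c0110205919af82f9d05008463a), (nat_lit 0x1bd2f4020100ae639a0093c040ea808), (nat_lit 0)⟩) (BT.leaf ⟨(nat_lit 3), (nat_lit 8), (nat_lit 7), (nat_lit 0x1bd2f4020100ae639a0093c040ea808), (nat_lit 0xc00c0110205919af82f9d05008463a), (nat_lit 0)⟩))))) (BT.node (nat_lit 2072) (BT.node (nat_lit 2068) (BT.node (nat_lit 2066) (BT.node (nat_lit 2065) (BT.leaf ⟨(nat_lit 3), (nat_lit 7), (nat_lit 8), (nat_lit 0x1cec5bf3aa75ce2b2fbae34b49a4f7a), (nat_lit 0x841eaa4040478f00673d3c17d40200), (nat_lit 0)⟩) (BT.leaf ⟨(nat_lit 3), (nat_lit 8), (nat_lit 7), (nat_lit 0x841eaa4040478f00673d3c17d40200), (nat_lit 0x1cec5bf3aa75ce2b2fbae34b49a4f7a), (nat_lit 0)⟩)) (BT.node (nat_lit 2067) (BT.leaf ⟨(nat_lit 3), (nat_lit 8), (nat_lit 8), (nat_lit 0x13d197d46d3c2e5eaa0848088100673), (nat_lit 0x137a4b627d82e92cf48e93952e4f26a), (nat_lit 0)⟩) (BT.leaf ⟨(nat_lit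 3), (nat_lit 8), (nat_lit 7), (nat_lit 0xf9c120443a20300a73ede1e240312b), (nat_lit 0x9abbec9c1db37a4d49ed83679ec41e), (nat_lit 0)⟩))) (BT.node (nat_lit 2070) (BT.node (nat_lit 2069) (BT.leaf ⟨(nat_lit 3), (nat_lit 7), (nat_lit 8), (nat_lit 0x9abbec9c1db37a4d49ed83679ec41e), (nat_lit 0xf9c120443a20300a73ede1e240312b), (nat_lit 0)⟩) (BT.leaf ⟨(nat_lit 3), (nat_lit 8), (nat_lit 7), (nat_lit 0x1ad255979de8a1d356d4dea73bedee4), (nat_lit 0x1052f73bbd275200a01e8e00e39005), (nat_lit 0)⟩)) (BT.node (nat_lit 2071) (BT.leaf ⟨(nat_lit 3), (nat_lit 7), (nat_lit 8), (nat_lit 0x1052f73bbd275200a01e8e00e39005), (nat_lit 0x1ad255979de8a1d356d4dea73bedee4), (nat_lit 0)⟩) (BT.leaf ⟨(nat_lit 3), (nat_lit 8), (nat_lit 7), (nat_lit 0x1d46745e887b6a2fc265b9131ef6568), (nat_lit 0x1bd68bc4ddedbc255ed439ca1d356e4), (nat_lit 0)⟩)))) (BT.node (nat_lit 2076) (BT.node (nat_lit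 2074) (BT.node (nat_lit 2073) (BT.leaf ⟨(nat_lit 3), (nat_lit 7), (nat_lit 8), (nat_lit 0x1bd68bc4ddedbc255ed439ca1d356e4), (nat_lit 0x1d46745e887b6a2fc265b9131ef6568), (nat_lit 0)⟩) (BT.leaf ⟨(nat_lit 3), (nat_lit 7), (nat_lit 8), (nat_lit 0x4401ef593e01400881043004809d4), (nat_lit 0x1bd7c61d4bd24b802f3b7c420401ab8), (nat_lit 0)⟩)) (BT.node (nat_lit 2075) (BT.leaf ⟨(nat_lit 3), (nat_lit 8), (nat_lit 7), (nat_lit 0x1bd7c61d4bd24b802f3b7c420401ab8), (nat_lit 0x4401ef593e01400881043004809d4), (nat_lit 0)⟩) (BT.leaf ⟨(nat_lit 2), (nat_lit 8), (nat_lit 8), (nat_lit 0x80a012bb025d102125df1fce096882), (nat_lit 0), (nat_lit 0)⟩))) (BT.node (nat_lit 2078) (BT.node (nat_lit 2077) (BT.leaf ⟨(nat_lit 3), (nat_lit 8), (nat_lit 7), (nat_lit 0x7a263f51fd0c7132aaeb917e0bb19b), (nat_lit 0x8139f0048ee1115edec93474778006), (nat_lit 0)⟩) (BT.leaf ⟨(nat_lit 3), (nat_lit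 7), (nat_lit 8), (nat_lit 0x8139f0048ee1115edec93474778006), (nat_lit 0x7a263f51fd0c7132aaeb917e0bb19b), (nat_lit 0)⟩)) (BT.node (nat_lit 2079) (BT.leaf ⟨(nat_lit 3), (nat_lit 8), (nat_lit 8), (nat_lit 0x406f4be2013cec01f474bc0040892e), (nat_lit 0x3b6d34338a75719ac718c79cf16349), (nat_lit 0)⟩) (BT.leaf ⟨(nat_lit 2), (nat_lit 4), (nat_lit 4), (nat_lit 0x1bd8e72f4de9ad28bef0ce9bd67a44d), (nat_lit 0), (nat_lit 0)⟩)))))) (BT.node (nat_lit 2096) (BT.node (nat_lit 2088) (BT.node (nat_lit 2084) (BT.node (nat_lit 2082) (BT.node (nat_lit 2081) (BT.leaf ⟨(nat_lit 3), (nat_lit 8), (nat_lit 7), (nat_lit 0xb7e55e5fa329fc731bc0be95d2f565), (nat_lit 0x27b5cfe35e87a200b3a8418032fc10), (nat_lit 0)⟩) (BT.leaf ⟨(nat_lit 3), (nat_lit 7), (nat_lit 8), (nat_lit 0x27b5cfe35e87a200b3a8418032fc10), (nat_lit 0xb7e55e5fa329fc731bc0be95d2f565), (nat_lit 0)⟩)) (BT.node (nat_lit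 2083) (BT.leaf ⟨(nat_lit 3), (nat_lit 8), (nat_lit 7), (nat_lit 0x50063e700a4137878900c0904249a), (nat_lit 0x10423e74b601ba1477de17b3c4824), (nat_lit 0)⟩) (BT.leaf ⟨(nat_lit 3), (nat_lit 7), (nat_lit 8), (nat_lit 0x10423e74b601ba1477de17b3c4824), (nat_lit 0x50063e700a4137878900c0904249a), (nat_lit 0)⟩))) (BT.node (nat_lit 2086) (BT.node (nat_lit 2085) (BT.leaf ⟨(nat_lit 3), (nat_lit 8), (nat_lit 7), (nat_lit 0x183837cd9bce8c201950a1de820a1f), (nat_lit 0x11c8028090029795c78c93fbd4ea12e), (nat_lit 0)⟩) (BT.leaf ⟨(nat_lit 3), (nat_lit 7), (nat_lit 8), (nat_lit 0x11c8028090029795c78c93fbd4ea12e), (nat_lit 0x183837cd9bce8c201950a1de820a1f), (nat_lit 0)⟩)) (BT.node (nat_lit 2087) (BT.leaf ⟨(nat_lit 3), (nat_lit 8), (nat_lit 7), (nat_lit 0x145e52be1598f8bc82367d7365b1bc3), (nat_lit 0x1cda34808410017a40813c7a201500), (nat_lit 0)⟩) (BT.leaf ⟨(nat_lit 3), (nat_lit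 7), (nat_lit 8), (nat_lit 0x1cda34808410017a40813c7a201500), (nat_lit 0x145e52be1598f8bc82367d7365b1bc3), (nat_lit 0)⟩)))) (BT.node (nat_lit 2092) (BT.node (nat_lit 2090) (BT.node (nat_lit 2089) (BT.leaf ⟨(nat_lit 3), (nat_lit 7), (nat_lit 8), (nat_lit 0x17a3a8df8bd5edd32aaebc13a0bb60b), (nat_lit 0x5db4f4ded823b64f48e74927e4e77d), (nat_lit 0)⟩) (BT.leaf ⟨(nat_lit 3), (nat_lit 8), (nat_lit 7), (nat_lit 0x5db4f4ded823b64f48e74927e4e77d), (nat_lit 0x17a3a8df8bd5edd32aaebc13a0bb60b), (nat_lit 0)⟩)) (BT.node (nat_lit 2091) (BT.leaf ⟨(nat_lit 3), (nat_lit 3), (nat_lit 8), (nat_lit 0xae5cb3b957bb2958d8347313554eb9), (nat_lit 0x22279882f8ca005041ead08e640363), (nat_lit 0)⟩) (BT.leaf ⟨(nat_lit 3), (nat_lit 8), (nat_lit 3), (nat_lit 0x22279882f8ca005041ead08e640363), (nat_lit 0xae5cb3b957bb2958d8347313554eb9), (nat_lit 0)⟩))) (BT.node (nat_lit 2094) (BT.node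 (nat_lit 2093) (BT.leaf ⟨(nat_lit 3), (nat_lit 7), (nat_lit 8), (nat_lit 0xce9a487ce3560f95615e77bbe6cd65), (nat_lit 0x1ad226e74fe86c943cf45e945f7e6f0), (nat_lit 0)⟩) (BT.leaf ⟨(nat_lit 3), (nat_lit 8), (nat_lit 7), (nat_lit 0x1ad226e74fe86c943cf45e945f7e6f0), (nat_lit 0xce9a487ce3560f95615e77bbe6cd65), (nat_lit 0)⟩)) (BT.node (nat_lit 2095) (BT.leaf ⟨(nat_lit 3), (nat_lit 8), (nat_lit 7), (nat_lit 0x2004f4e81178093a570180a23dbeb), (nat_lit 0x19d16f882500283dd1af47320040880), (nat_lit 0)⟩) (BT.leaf ⟨(nat_lit 3), (nat_lit 7), (nat_lit 8), (nat_lit 0x19d16f882500283dd1af47320040880), (nat_lit 0x2004f4e81178093a570180a23dbeb), (nat_lit 0)⟩))))) (BT.node (nat_lit 2104) (BT.node (nat_lit 2100) (BT.node (nat_lit 2098) (BT.node (nat_lit 2097) (BT.leaf ⟨(nat_lit 3), (nat_lit 7), (nat_lit 8), (nat_lit 0x6ca26a6a2f32afedef4e43bd98e1ce), (nat_lit 0xcd6b9da68e33ce3df901db57316673),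 (nat_lit 0)⟩) (BT.leaf ⟨(nat_lit 3), (nat_lit 8), (nat_lit 7), (nat_lit 0xcd6b9da68e33ce3df901db57316673), (nat_lit 0x6ca26a6a2f32afedef4e43bd98e1ce), (nat_lit 0)⟩)) (BT.node (nat_lit 2099) (BT.leaf ⟨(nat_lit 3), (nat_lit 7), (nat_lit 8), (nat_lit 0x118e29cf36921ce38d7350f1ed9a8ed), (nat_lit 0x96d2785fba487f2fd191cc9792bb8a), (nat_lit 0)⟩) (BT.leaf ⟨(nat_lit 3), (nat_lit 8), (nat_lit 7), (nat_lit 0x96d2785fba487f2fd191cc9792bb8a), (nat_lit 0x118e29cf36921ce38d7350f1ed9a8ed), (nat_lit 0)⟩))) (BT.node (nat_lit 2102) (BT.node (nat_lit 2101) (BT.leaf ⟨(nat_lit 3), (nat_lit 8), (nat_lit 7), (nat_lit 0x1a7a7a2204014e9802405018002f8b9), (nat_lit 0x1b07164ab4af5952f1bca32e28732df), (nat_lit 0)⟩) (BT.leaf ⟨(nat_lit 3), (nat_lit 7), (nat_lit 8), (nat_lit 0x1b07164ab4af5952f1bca32e28732df), (nat_lit 0x1a7a7a2204014e9802405018002f8b9), (nat_lit 0)⟩)) (BT.node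 (nat_lit 2103) (BT.leaf ⟨(nat_lit 3), (nat_lit 7), (nat_lit 8), (nat_lit 0x1fa1eae734028205ca0065ec02a3240), (nat_lit 0x22093efc0510212bc7b0121224b732), (nat_lit 0)⟩) (BT.leaf ⟨(nat_lit 3), (nat_lit 8), (nat_lit 7), (nat_lit 0x22093efc0510212bc7b0121224b732), (nat_lit 0x1fa1eae734028205ca0065ec02a3240), (nat_lit 0)⟩)))) (BT.node (nat_lit 2108) (BT.node (nat_lit 2106) (BT.node (nat_lit 2105) (BT.leaf ⟨(nat_lit 3), (nat_lit 8), (nat_lit 8), (nat_lit 0x1ee9401555be242407c61413cc42180), (nat_lit 0xd8fe30824722424028014021279980), (nat_lit 0)⟩) (BT.leaf ⟨(nat_lit 3), (nat_lit 8), (nat_lit 8), (nat_lit 0xaf554af957360fa8e27772db15da39), (nat_lit 0x100639009debceef4c9f25dd1c01a5e), (nat_lit 0)⟩)) (BT.node (nat_lit 2107) (BT.leaf ⟨(nat_lit 3), (nat_lit 8), (nat_lit 3), (nat_lit 0x189dec49c9bd0793549693fdf74f6c1), (nat_lit 0x66f164738c61ce3de73d953cd9ad73),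 (nat_lit 0)⟩) (BT.leaf ⟨(nat_lit 3), (nat_lit 3), (nat_lit 8), (nat_lit 0x66f164738c61ce3de73d953cd9ad73), (nat_lit 0x189dec49c9bd0793549693fdf74f6c1), (nat_lit 0)⟩))) (BT.node (nat_lit 2110) (BT.node (nat_lit 2109) (BT.leaf ⟨(nat_lit 3), (nat_lit 8), (nat_lit 8), (nat_lit 0xb4af643d2ededd575e8ad07a263b1c), (nat_lit 0x160c735347722e54cb6c57056a26abb), (nat_lit 0)⟩) (BT.leaf ⟨(nat_lit 3), (nat_lit 8), (nat_lit 8), (nat_lit 0x160c735347722e54cb6c57056a26abb), (nat_lit 0xb4af643d2ededd575e8ad07a263b1c), (nat_lit 0)⟩)) (BT.node (nat_lit 2111) (BT.leaf ⟨(nat_lit 3), (nat_lit 7), (nat_lit 8), (nat_lit 0x210036f020896c95f3e8097b00a49a), (nat_lit 0x4ace880640926af64040080140a2bd), (nat_lit 0)⟩) (BT.leaf ⟨(nat_lit 3), (nat_lit 8), (nat_lit 7), (nat_lit 0x4ace880640926af64040080140a2bd), (nat_lit 0x210036f020896c95f3e8097b00a49a), (nat_lit 0)⟩)))))))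
noncomputable def cP2048 : BT Pf := (BT.node (nat_lit 2080) (BT.node (nat_lit 2064) (BT.node (nat_lit 2056) (BT.node (nat_lit 2052) (BT.node (nat_lit 2050) (BT.node (nat_lit 2049) (BT.leaf (.inv (nat_lit 2047))) (BT.leaf (.rel (nat_lit 1156) (nat_lit 4) [(nat_lit 267), (nat_lit 1849)] [⟨(nat_lit 1420), [(nat_lit 775)], [(nat_lit 391), (nat_lit 555)]⟩, ⟨(nat_lit 1847), [(nat_lit 775)], [(nat_lit 784), (nat_lit 529)]⟩]))) (BT.node (nat_lit 2051) (BT.leaf (.inv (nat_lit 2049))) (BT.leaf (.rel (nat_lit 1986) (nat_lit 2) [(nat_lit 815), (nat_lit 269)] [⟨(nat_lit 1545), [(nat_lit 775)], [(nat_lit 211), (nat_lit 385)]⟩, ⟨(nat_lit 1281), [(nat_lit 935)], [(nat_lit 416), (nat_lit 108)]⟩])))) (BT.node (nat_lit 2054) (BT.node (nat_lit 2053) (BT.leaf (.inv (nat_lit 2051))) (BT.leaf (.rel (nat_lit 1884) (nat_lit 2) [(nat_lit 359), (nat_lit 1083)] [⟨(nat_lit 1671),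 [], [(nat_lit 267), (nat_lit 700)]⟩, ⟨(nat_lit 844), [(nat_lit 775)], [(nat_lit 130), (nat_lit 294)]⟩]))) (BT.node (nat_lit 2055) (BT.leaf (.inv (nat_lit 2053))) (BT.leaf (.rel (nat_lit 2036) (nat_lit 4) [(nat_lit 550), (nat_lit 586)] [⟨(nat_lit 831), [(nat_lit 938)], [(nat_lit 463), (nat_lit 662)]⟩, ⟨(nat_lit 2009), [(nat_lit 775)], [(nat_lit 298), (nat_lit 385)]⟩]))))) (BT.node (nat_lit 2060) (BT.node (nat_lit 2058) (BT.node (nat_lit 2057) (BT.leaf (.rel (nat_lit 1214) (nat_lit 1) [(nat_lit 433), (nat_lit 1279)] [⟨(nat_lit 1907), [], [(nat_lit 521), (nat_lit 400)]⟩])) (BT.leaf (.inv (nat_lit 2056)))) (BT.node (nat_lit 2059) (BT.leaf (.emul [(nat_lit 626), (nat_lit 704)])) (BT.leaf (.rel (nat_lit 1149) (nat_lit 1) [(nat_lit 350), (nat_lit 1025)] [⟨(nat_lit 1956), [(nat_lit 2058)], [(nat_lit 544), (nat_lit 974)]⟩])))) (BT.node (nat_lit 2062) (BT.node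 (nat_lit 2061) (BT.leaf (.inv (nat_lit 2059))) (BT.leaf (.nmul (nat_lit 695) [(nat_lit 43)]))) (BT.node (nat_lit 2063) (BT.leaf (.rel (nat_lit 1929) (nat_lit 1) [(nat_lit 733), (nat_lit 291)] [⟨(nat_lit 1371), [(nat_lit 775)], [(nat_lit 2061), (nat_lit 874)]⟩])) (BT.leaf (.inv (nat_lit 2062))))))) (BT.node (nat_lit 2072) (BT.node (nat_lit 2068) (BT.node (nat_lit 2066) (BT.node (nat_lit 2065) (BT.leaf (.rel (nat_lit 1912) (nat_lit 2) [(nat_lit 539), (nat_lit 712)] [⟨(nat_lit 803), [], [(nat_lit 568), (nat_lit 972)]⟩, ⟨(nat_lit 1010), [(nat_lit 1073)], [(nat_lit 166), (nat_lit 785)]⟩])) (BT.leaf (.inv (nat_lit 2064)))) (BT.node (nat_lit 2067) (BT.leaf (.rel (nat_lit 2021) (nat_lit 2) [(nat_lit 539), (nat_lit 426)] [⟨(nat_lit 1754), [(nat_lit 775)], [(nat_lit 261), (nat_lit 676)]⟩, ⟨(nat_lit 1947), [(nat_lit 775)], [(nat_lit 462), (nat_lit 752)]⟩])) (BT.leaf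 (.rel (nat_lit 1310) (nat_lit 3) [(nat_lit 167), (nat_lit 868)] [⟨(nat_lit 1213), [], [(nat_lit 1099), (nat_lit 778)]⟩, ⟨(nat_lit 1898), [(nat_lit 935)], [(nat_lit 1195), (nat_lit 605)]⟩])))) (BT.node (nat_lit 2070) (BT.node (nat_lit 2069) (BT.leaf (.inv (nat_lit 2067))) (BT.leaf (.rel (nat_lit 1380) (nat_lit 0) [(nat_lit 764), (nat_lit 717)] [⟨(nat_lit 2064), [(nat_lit 775)], [(nat_lit 493), (nat_lit 877)]⟩]))) (BT.node (nat_lit 2071) (BT.leaf (.inv (nat_lit 2069))) (BT.leaf (.rel (nat_lit 1687) (nat_lit 1) [(nat_lit 255), (nat_lit 439)] [⟨(nat_lit 2050), [(nat_lit 935)], [(nat_lit 1235), (nat_lit 891)]⟩]))))) (BT.node (nat_lit 2076) (BT.node (nat_lit 2074) (BT.node (nat_lit 2073) (BT.leaf (.inv (nat_lit 2071))) (BT.leaf (.rel (nat_lit 1975) (nat_lit 0) [(nat_lit 1173), (nat_lit 906)] [⟨(nat_lit 1662), [(nat_lit 775)], [(nat_lit 513), (nat_lit 361)]⟩])))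 (BT.node (nat_lit 2075) (BT.leaf (.inv (nat_lit 2073))) (BT.leaf (.emul [(nat_lit 1870), (nat_lit 1846)])))) (BT.node (nat_lit 2078) (BT.node (nat_lit 2077) (BT.leaf (.rel (nat_lit 1952) (nat_lit 3) [(nat_lit 1026), (nat_lit 269)] [⟨(nat_lit 1924), [(nat_lit 2075)], [(nat_lit 261), (nat_lit 628)]⟩, ⟨(nat_lit 2022), [(nat_lit 775)], [(nat_lit 461), (nat_lit 906)]⟩])) (BT.leaf (.inv (nat_lit 2076)))) (BT.node (nat_lit 2079) (BT.leaf (.rel (nat_lit 1830) (nat_lit 5) [(nat_lit 227), (nat_lit 1001)] [⟨(nat_lit 1494), [], [(nat_lit 239), (nat_lit 1)]⟩, ⟨(nat_lit 2009), [(nat_lit 775)], [(nat_lit 865), (nat_lit 785)]⟩])) (BT.leaf (.emul [(nat_lit 552), (nat_lit 1856)]))))))) (BT.node (nat_lit 2096) (BT.node (nat_lit 2088) (BT.node (nat_lit 2084) (BT.node (nat_lit 2082) (BT.node (nat_lit 2081) (BT.leaf (.rel (nat_lit 964) (nat_lit 3) [(nat_lit 914), (nat_lit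 330)] [⟨(nat_lit 1260), [(nat_lit 775)], [(nat_lit 373), (nat_lit 717)]⟩, ⟨(nat_lit 1914), [(nat_lit 2079)], [(nat_lit 299), (nat_lit 290)]⟩])) (BT.leaf (.inv (nat_lit 2080)))) (BT.node (nat_lit 2083) (BT.leaf (.rel (nat_lit 1217) (nat_lit 4) [(nat_lit 282), (nat_lit 142)] [⟨(nat_lit 1217), [(nat_lit 935)], [(nat_lit 178), (nat_lit 270)]⟩, ⟨(nat_lit 1906), [(nat_lit 775)], [(nat_lit 254), (nat_lit 585)]⟩])) (BT.leaf (.inv (nat_lit 2082))))) (BT.node (nat_lit 2086) (BT.node (nat_lit 2085) (BT.leaf (.rel (nat_lit 1493) (nat_lit 4) [(nat_lit 513), (nat_lit 813)] [⟨(nat_lit 1674), [(nat_lit 935)], [(nat_lit 470), (nat_lit 142)]⟩, ⟨(nat_lit 1875), [(nat_lit 775)], [(nat_lit 209), (nat_lit 288)]⟩])) (BT.leaf (.inv (nat_lit 2084)))) (BT.node (nat_lit 2087) (BT.leaf (.rel (nat_lit 1773) (nat_lit 3) [(nat_lit 380), (nat_lit 289)] [⟨(nat_lit 1181), [(nat_lit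 775)], [(nat_lit 705), (nat_lit 263)]⟩, ⟨(nat_lit 2062), [(nat_lit 935)], [(nat_lit 522), (nat_lit 108)]⟩])) (BT.leaf (.inv (nat_lit 2086)))))) (BT.node (nat_lit 2092) (BT.node (nat_lit 2090) (BT.node (nat_lit 2089) (BT.leaf (.rel (nat_lit 2031) (nat_lit 1) [(nat_lit 261), (nat_lit 91)] [⟨(nat_lit 1636), [], [(nat_lit 568), (nat_lit 190)]⟩])) (BT.leaf (.inv (nat_lit 2088)))) (BT.node (nat_lit 2091) (BT.leaf (.rel (nat_lit 1873) (nat_lit 1) [(nat_lit 392), (nat_lit 288)] [⟨(nat_lit 1177), [], [(nat_lit 522), (nat_lit 1478)]⟩])) (BT.leaf (.inv (nat_lit 2090))))) (BT.node (nat_lit 2094) (BT.node (nat_lit 2093) (BT.leaf (.rel (nat_lit 1880) (nat_lit 3) [(nat_lit 241), (nat_lit 1091)] [⟨(nat_lit 1454), [], [(nat_lit 1092), (nat_lit 835)]⟩, ⟨(nat_lit 1272), [], [(nat_lit 381), (nat_lit 431)]⟩])) (BT.leaf (.inv (nat_lit 2092)))) (BT.node (nat_lit 2095) (BT.leaf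 (.rel (nat_lit 1707) (nat_lit 0) [(nat_lit 195), (nat_lit 693)] [⟨(nat_lit 1944), [(nat_lit 775)], [(nat_lit 1102), (nat_lit 578)]⟩])) (BT.leaf (.inv (nat_lit 2094))))))) (BT.node (nat_lit 2104) (BT.node (nat_lit 2100) (BT.node (nat_lit 2098) (BT.node (nat_lit 2097) (BT.leaf (.rel (nat_lit 1953) (nat_lit 0) [(nat_lit 376), (nat_lit 580)] [⟨(nat_lit 1706), [(nat_lit 775)], [(nat_lit 1102), (nat_lit 566)]⟩])) (BT.leaf (.inv (nat_lit 2096)))) (BT.node (nat_lit 2099) (BT.leaf (.rel (nat_lit 2036) (nat_lit 1) [(nat_lit 1087), (nat_lit 109)] [⟨(nat_lit 979), [(nat_lit 456)], [(nat_lit 482), (nat_lit 203)]⟩])) (BT.leaf (.inv (nat_lit 2098))))) (BT.node (nat_lit 2102) (BT.node (nat_lit 2101) (BT.leaf (.rel (nat_lit 1313) (nat_lit 0) [(nat_lit 673), (nat_lit 190)] [⟨(nat_lit 1979), [], [(nat_lit 911), (nat_lit 752)]⟩])) (BT.leaf (.inv (nat_lit 2100)))) (BT.node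 (nat_lit 2103) (BT.leaf (.rel (nat_lit 2024) (nat_lit 4) [(nat_lit 176), (nat_lit 109)] [⟨(nat_lit 1713), [(nat_lit 775)], [(nat_lit 1162), (nat_lit 253)]⟩, ⟨(nat_lit 1813), [(nat_lit 775)], [(nat_lit 2061), (nat_lit 334)]⟩])) (BT.leaf (.inv (nat_lit 2102)))))) (BT.node (nat_lit 2108) (BT.node (nat_lit 2106) (BT.node (nat_lit 2105) (BT.leaf (.rel (nat_lit 1937) (nat_lit 1) [(nat_lit 393), (nat_lit 234)] [⟨(nat_lit 1938), [(nat_lit 894)], [(nat_lit 373), (nat_lit 1109)]⟩])) (BT.leaf (.rel (nat_lit 2000) (nat_lit 3) [(nat_lit 176), (nat_lit 555)] [⟨(nat_lit 1355), [(nat_lit 775)], [(nat_lit 2061), (nat_lit 173)]⟩, ⟨(nat_lit 1887), [(nat_lit 935)], [(nat_lit 991), (nat_lit 169)]⟩]))) (BT.node (nat_lit 2107) (BT.leaf (.rel (nat_lit 1040) (nat_lit 3) [(nat_lit 943), (nat_lit 606)] [⟨(nat_lit 1700), [(nat_lit 935)], [(nat_lit 296), (nat_lit 684)]⟩, ⟨(nat_lit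 1898), [(nat_lit 775)], [(nat_lit 208), (nat_lit 203)]⟩])) (BT.leaf (.inv (nat_lit 2106))))) (BT.node (nat_lit 2110) (BT.node (nat_lit 2109) (BT.leaf (.rel (nat_lit 2038) (nat_lit 3) [(nat_lit 1189), (nat_lit 1226)] [⟨(nat_lit 1545), [(nat_lit 935)], [(nat_lit 380), (nat_lit 400)]⟩, ⟨(nat_lit 2092), [(nat_lit 935)], [(nat_lit 1014), (nat_lit 127)]⟩])) (BT.leaf (.inv (nat_lit 2108)))) (BT.node (nat_lit 2111) (BT.leaf (.rel (nat_lit 1924) (nat_lit 4) [(nat_lit 1242), (nat_lit 506)] [⟨(nat_lit 1504), [(nat_lit 775)], [(nat_lit 587), (nat_lit 1369)]⟩, ⟨(nat_lit 1321), [], [(nat_lit 97), (nat_lit 1537)]⟩])) (BT.leaf (.inv (nat_lit 2110)))))))))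
noncomputable def cF2112 : BT Fc := (BT.node (nat_lit 2144) (BT.node (nat_lit 2128) (BT.node (nat_lit 2120) (BT.node (nat_lit 2116) (BT.node (nat_lit 2114) (BT.node (nat_lit 2113) (BT.leaf ⟨(nat_lit 3), (nat_lit 8), (nat_lit 8), (nat_lit 0x131fdbaaebf16a3f45e887b3a0f419b), (nat_lit 0xe597cecaea34d11c8e6d72ae54cc4d), (nat_lit 0)⟩) (BT.leaf ⟨(nat_lit 3), (nat_lit 8), (nat_lit 8), (nat_lit 0x17aa38abb04400c2110201475f7b25d), (nat_lit 0x152cebbd538bbbcca9dd3eb698ea955), (nat_lit 0)⟩)) (BT.node (nat_lit 2115) (BT.leaf ⟨(nat_lit 3), (nat_lit 8), (nat_lit 7), (nat_lit 0x815cbe3bd08012f804de9cea00473), (nat_lit 0x108240400d73006978733d0d1a0238d), (nat_lit 0)⟩) (BT.leaf ⟨(nat_lit 3), (nat_lit 7), (nat_lit 8), (nat_lit 0x108240400d73006978733d0d1a0238d), (nat_lit 0x815cbe3bd08012f804de9cea00473), (nat_lit 0)⟩))) (BT.node (nat_lit 2118) (BT.node (nat_lit 2117)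 (BT.leaf ⟨(nat_lit 3), (nat_lit 8), (nat_lit 8), (nat_lit 0xc80be23a80155c001013bd408de9), (nat_lit 0xcd6198edce73cc3999bab8ffb16473), (nat_lit 0)⟩) (BT.leaf ⟨(nat_lit 3), (nat_lit 7), (nat_lit 8), (nat_lit 0x1279f1c00010007c6840e74ae4eaef4), (nat_lit 0x13a31d6462015cf46902280405af8d5), (nat_lit 0)⟩)) (BT.node (nat_lit 2119) (BT.leaf ⟨(nat_lit 3), (nat_lit 8), (nat_lit 7), (nat_lit 0x13a31d6462015cf46902280405af8d5), (nat_lit 0x1279f1c00010007c6840e74ae4eaef4), (nat_lit 0)⟩) (BT.leaf ⟨(nat_lit 3), (nat_lit 8), (nat_lit 8), (nat_lit 0x80ac6a00ce78029d05fd3c88140204), (nat_lit 0x18011420060480fac53ecdb5087dc8), (nat_lit 0)⟩)))) (BT.node (nat_lit 2124) (BT.node (nat_lit 2122) (BT.node (nat_lit 2121) (BT.leaf ⟨(nat_lit 3), (nat_lit 8), (nat_lit 8), (nat_lit 0xd19c6fe3a5f04039eb93d0cea01500), (nat_lit 0x2033a0c01402116f88110507ab4088), (nat_lit 0)⟩) (BT.leaf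 ⟨(nat_lit 3), (nat_lit 8), (nat_lit 8), (nat_lit 0x1400f4408d721cff1c04803755a338d), (nat_lit 0x152ecf09e97d27c769767b137a4b77d), (nat_lit 0)⟩)) (BT.node (nat_lit 2123) (BT.leaf ⟨(nat_lit 3), (nat_lit 8), (nat_lit 7), (nat_lit 0x9fd107ad5330838d1f5044084180a0), (nat_lit 0x9fe5f02878643c11453533d98101f5), (nat_lit 0)⟩) (BT.leaf ⟨(nat_lit 3), (nat_lit 7), (nat_lit 8), (nat_lit 0x9fe5f02878643c11453533d98101f5), (nat_lit 0x9fd107ad5330838d1f5044084180a0), (nat_lit 0)⟩))) (BT.node (nat_lit 2126) (BT.node (nat_lit 2125) (BT.leaf ⟨(nat_lit 1), (nat_lit 0), (nat_lit 0), (nat_lit 0x1e24658b7a69eb7e6bfe626e372c5d2), (nat_lit 0x1e24658b7a69eb7e6bfe626e372c5d2), (nat_lit 0)⟩) (BT.leaf ⟨(nat_lit 3), (nat_lit 8), (nat_lit 8), (nat_lit 0xfad1b60b7cef85f9c6e598b8e8bb63), (nat_lit 0x1b294c8b977239954f515631357cb96), (nat_lit 0)⟩)) (BT.node (nat_lit 2127) (BT.leaf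 ⟨(nat_lit 3), (nat_lit 8), (nat_lit 7), (nat_lit 0xd7c813002018ea80108d1a502cf573), (nat_lit 0x17a080001401e3402746080ae404400), (nat_lit 0)⟩) (BT.leaf ⟨(nat_lit 3), (nat_lit 7), (nat_lit 8), (nat_lit 0x17a080001401e3402746080ae404400), (nat_lit 0xd7c813002018ea80108d1a502cf573), (nat_lit 0)⟩))))) (BT.node (nat_lit 2136) (BT.node (nat_lit 2132) (BT.node (nat_lit 2130) (BT.node (nat_lit 2129) (BT.leaf ⟨(nat_lit 2), (nat_lit 5), (nat_lit 5), (nat_lit 0x9756fa5e0be95d2dfb743e9ff2fb5f), (nat_lit 0), (nat_lit 0)⟩) (BT.leaf ⟨(nat_lit 3), (nat_lit 8), (nat_lit 7), (nat_lit 0xa64732bd577137652b9562db35ce27), (nat_lit 0x16c58989ec4f2693577d2ed67a4e41e), (nat_lit 0)⟩)) (BT.node (nat_lit 2131) (BT.leaf ⟨(nat_lit 3), (nat_lit 7), (nat_lit 8), (nat_lit 0x16c58989ec4f2693577d2ed67a4e41e), (nat_lit 0xa64732bd577137652b9562db35ce27), (nat_lit 0)⟩) (BT.leaf ⟨(nat_lit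 3), (nat_lit 7), (nat_lit 8), (nat_lit 0x13679df1ac741f39c73ab06d245bb3a), (nat_lit 0x5bc1793fcd3a89b812e5983ead890f), (nat_lit 0)⟩))) (BT.node (nat_lit 2134) (BT.node (nat_lit 2133) (BT.leaf ⟨(nat_lit 3), (nat_lit 8), (nat_lit 7), (nat_lit 0x5bc1793fcd3a89b812e5983ead890f), (nat_lit 0x13679df1ac741f39c73ab06d245bb3a), (nat_lit 0)⟩) (BT.leaf ⟨(nat_lit 3), (nat_lit 8), (nat_lit 8), (nat_lit 0x78d1b4a57cee8fbeb63378f866cf90), (nat_lit 0x11ba8bbe17cee8df5f90fc729571b63), (nat_lit 0)⟩)) (BT.node (nat_lit 2135) (BT.leaf ⟨(nat_lit 3), (nat_lit 8), (nat_lit 8), (nat_lit 0xa1e3dc720e7b2a388ed336d25ff55c), (nat_lit 0x1235a14043ebe4b7c400830ced4195), (nat_lit 0)⟩) (BT.leaf ⟨(nat_lit 3), (nat_lit 7), (nat_lit 8), (nat_lit 0x1fa102600172805203d560017e7a208), (nat_lit 0x39a8cec16be87c2f9bc4bb8b16fa4f), (nat_lit 0)⟩)))) (BT.node (nat_lit 2140) (BT.node (nat_lit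 2138) (BT.node (nat_lit 2137) (BT.leaf ⟨(nat_lit 3), (nat_lit 8), (nat_lit 7), (nat_lit 0x39a8cec16be87c2f9bc4bb8b16fa4f), (nat_lit 0x1fa102600172805203d560017e7a208), (nat_lit 0)⟩) (BT.leaf ⟨(nat_lit 3), (nat_lit 8), (nat_lit 3), (nat_lit 0x11de19c53c5866e38bfef20cd439e73), (nat_lit 0x1d455c5346d97fd54bb91cd135cb299), (nat_lit 0)⟩)) (BT.node (nat_lit 2139) (BT.leaf ⟨(nat_lit 3), (nat_lit 3), (nat_lit 8), (nat_lit 0x1d455c5346d97fd54bb91cd135cb299), (nat_lit 0x11de19c53c5866e38bfef20cd439e73), (nat_lit 0)⟩) (BT.leaf ⟨(nat_lit 3), (nat_lit 8), (nat_lit 8), (nat_lit 0x6bf3a280f753cc4008447222050090), (nat_lit 0x1d9a5f0284fe482298200c1b521071a), (nat_lit 0)⟩))) (BT.node (nat_lit 2142) (BT.node (nat_lit 2141) (BT.leaf ⟨(nat_lit 3), (nat_lit 8), (nat_lit 8), (nat_lit 0x15a0601af141203e3239ce821040888), (nat_lit 0xfac041dd92dbf024127030ac63d809), (nat_lit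 0)⟩) (BT.leaf ⟨(nat_lit 3), (nat_lit 7), (nat_lit 8), (nat_lit 0x126a3b8040484ace8f89089cfb7825b), (nat_lit 0x1eb487a7f051b52299f57860c14cf66), (nat_lit 0)⟩)) (BT.node (nat_lit 2143) (BT.leaf ⟨(nat_lit 3), (nat_lit 8), (nat_lit 7), (nat_lit 0x1eb487a7f051b52299f57860c14cf66), (nat_lit 0x126a3b8040484ace8f89089cfb7825b), (nat_lit 0)⟩) (BT.leaf ⟨(nat_lit 3), (nat_lit 8), (nat_lit 8), (nat_lit 0x8070028040078deae9ea742e67a202), (nat_lit 0x7a2f499bbd182e1e976b917e1575ea), (nat_lit 0)⟩)))))) (BT.node (nat_lit 2160) (BT.node (nat_lit 2152) (BT.node (nat_lit 2148) (BT.node (nat_lit 2146) (BT.node (nat_lit 2145) (BT.leaf ⟨(nat_lit 3), (nat_lit 8), (nat_lit 3), (nat_lit 0xd26c1ba4ddf4eb9d1ce675ccb8d0b7), (nat_lit 0xa1f90b1cfe89aa26e74df93d36a2f4), (nat_lit 0)⟩) (BT.leaf ⟨(nat_lit 3), (nat_lit 3), (nat_lit 8), (nat_lit 0xa1f90b1cfe89aa26e74df93d36a2f4), (nat_lit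 0xd26c1ba4ddf4eb9d1ce675ccb8d0b7), (nat_lit 0)⟩)) (BT.node (nat_lit 2147) (BT.leaf ⟨(nat_lit 3), (nat_lit 8), (nat_lit 8), (nat_lit 0x4fcb7acccd24aed8ea225e4b887b2f), (nat_lit 0x97c203e393de37a32b90031cc01100), (nat_lit 0)⟩) (BT.leaf ⟨(nat_lit 3), (nat_lit 8), (nat_lit 8), (nat_lit 0x1e3f86ea271b74a3758d4cbe25ff7cd), (nat_lit 0x1e3e9a46ef19e275117919774bcefcd), (nat_lit 0)⟩))) (BT.node (nat_lit 2150) (BT.node (nat_lit 2149) (BT.leaf ⟨(nat_lit 3), (nat_lit 8), (nat_lit 8), (nat_lit 0x19a41792ea5fa88d78fac2b6c493b2f), (nat_lit 0x1ce31d73bb0673b9f73ac2ae938d2d2), (nat_lit 0)⟩) (BT.leaf ⟨(nat_lit 3), (nat_lit 8), (nat_lit 8), (nat_lit 0x145f7a7212f31373a4ab4d5bf143ef6), (nat_lit 0x167a80104c8c40880ff43000bf1d573), (nat_lit 0)⟩)) (BT.node (nat_lit 2151) (BT.leaf ⟨(nat_lit 3), (nat_lit 8), (nat_lit 8), (nat_lit 0x11cceaa5f00202001200573e37a312f), (nat_lit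 0x182fc83c37d6f89661e38dcf9cde4d9), (nat_lit 0)⟩) (BT.leaf ⟨(nat_lit 3), (nat_lit 8), (nat_lit 8), (nat_lit 0x17812bf851100224b1088f606005732), (nat_lit 0x100ba2012045ce101006015e3df0882), (nat_lit 0)⟩)))) (BT.node (nat_lit 2156) (BT.node (nat_lit 2154) (BT.node (nat_lit 2153) (BT.leaf ⟨(nat_lit 2), (nat_lit 5), (nat_lit 5), (nat_lit 0x12f8bb49e91ddf66f69e62725a4d6c1), (nat_lit 0), (nat_lit 0)⟩) (BT.leaf ⟨(nat_lit 3), (nat_lit 8), (nat_lit 5), (nat_lit 0x12fae422006114c504200447d76a299), (nat_lit 0x11ef39b498673cd9ad73ab918e3beca), (nat_lit 0)⟩)) (BT.node (nat_lit 2155) (BT.leaf ⟨(nat_lit 3), (nat_lit 5), (nat_lit 8), (nat_lit 0x11ef39b498673cd9ad73ab918e3beca), (nat_lit 0x12fae422006114c504200447d76a299), (nat_lit 0)⟩) (BT.leaf ⟨(nat_lit 3), (nat_lit 8), (nat_lit 8), (nat_lit 0x20786884110d8d1ca802aa3033a1af), (nat_lit 0x1f37c668db1be17c7dd24cbe74bcd34),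 (nat_lit 0)⟩))) (BT.node (nat_lit 2158) (BT.node (nat_lit 2157) (BT.leaf ⟨(nat_lit 3), (nat_lit 8), (nat_lit 8), (nat_lit 0x174b5170df1e5e45bf896274d3ceb8d), (nat_lit 0xb8db1beb9b3f8d1b1e37c6b31f0c6e), (nat_lit 0)⟩) (BT.leaf ⟨(nat_lit 3), (nat_lit 8), (nat_lit 8), (nat_lit 0x108222f99bc1402096fd68657bd140), (nat_lit 0x1f39f583e35cef9563a39d4ebbd615), (nat_lit 0)⟩)) (BT.node (nat_lit 2159) (BT.leaf ⟨(nat_lit 3), (nat_lit 8), (nat_lit 8), (nat_lit 0xabb34bd8eaccd7a17c6e9dd1b49f47), (nat_lit 0x145de1ae37cff8df17907c31ba6c9bc), (nat_lit 0)⟩) (BT.leaf ⟨(nat_lit 3), (nat_lit 8), (nat_lit 8), (nat_lit 0x10ce3dd739e78b339bfe33714e38c73), (nat_lit 0xd27c84539e78b19ac7350f5ced33fe), (nat_lit 0)⟩))))) (BT.node (nat_lit 2168) (BT.node (nat_lit 2164) (BT.node (nat_lit 2162) (BT.node (nat_lit 2161) (BT.leaf ⟨(nat_lit 3), (nat_lit 8), (nat_lit 8), (nat_lit 0x1e37d6d8df13e7465fcde1a2ddff68d),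 (nat_lit 0x1e345ba65ba54d0bce8d7fdeb786fcd), (nat_lit 0)⟩) (BT.leaf ⟨(nat_lit 3), (nat_lit 8), (nat_lit 8), (nat_lit 0x600010de8803a35e87c601097900), (nat_lit 0x102004ab1211cc824028f0a95ceeefc), (nat_lit 0)⟩)) (BT.node (nat_lit 2163) (BT.leaf ⟨(nat_lit 3), (nat_lit 8), (nat_lit 8), (nat_lit 0x6be9792e98f9a49792d05edc30a8fa), (nat_lit 0xdc1cb55c98ecbf5112d21e6bf0a8fa), (nat_lit 0)⟩) (BT.leaf ⟨(nat_lit 3), (nat_lit 8), (nat_lit 8), (nat_lit 0x1081100a02400d011d700dce15d802), (nat_lit 0x4b64e1028e200d01002804f855d9d7), (nat_lit 0)⟩))) (BT.node (nat_lit 2166) (BT.node (nat_lit 2165) (BT.leaf ⟨(nat_lit 3), (nat_lit 2), (nat_lit 9), (nat_lit 0x152ceb9c532b754aae9387a7d72c0d5), (nat_lit 0x1001001001001001001001001001001), (nat_lit 0)⟩) (BT.leaf ⟨(nat_lit 3), (nat_lit 9), (nat_lit 2), (nat_lit 0x1001001001001001001001001001001), (nat_lit 0x152ceb9c532b754aae9387a7d72c0d5),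 (nat_lit 0)⟩)) (BT.node (nat_lit 2167) (BT.leaf ⟨(nat_lit 3), (nat_lit 3), (nat_lit 9), (nat_lit 0x145d439ce3652acbcff489abd37a721), (nat_lit 0xe3786ea2f1fa345bf8d6274d132dd2), (nat_lit 0)⟩) (BT.leaf ⟨(nat_lit 2), (nat_lit 9), (nat_lit 9), (nat_lit 0x1ae45caf9472ee713abb2b5d4554dff), (nat_lit 0), (nat_lit 0)⟩)))) (BT.node (nat_lit 2172) (BT.node (nat_lit 2170) (BT.node (nat_lit 2169) (BT.leaf ⟨(nat_lit 3), (nat_lit 9), (nat_lit 3), (nat_lit 0xe3786ea2f1fa345bf8d6274d132dd2), (nat_lit 0x145d439ce3652acbcff489abd37a721), (nat_lit 0)⟩) (BT.leaf ⟨(nat_lit 3), (nat_lit 9), (nat_lit 9), (nat_lit 0x97401102577ce02178f938048035ea), (nat_lit 0x47720301204fe474632217e009014), (nat_lit 0)⟩)) (BT.node (nat_lit 2171) (BT.leaf ⟨(nat_lit 2), (nat_lit 2), (nat_lit 2), (nat_lit 0x1bd600809f1810410f4720200402803), (nat_lit 0), (nat_lit 0)⟩) (BT.leaf ⟨(nat_lit 3), (nat_lit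 9), (nat_lit 3), (nat_lit 0x844081193e97b7a901002107a3be2), (nat_lit 0x18579f7bae70739a487c674b4a9d73b), (nat_lit 0)⟩))) (BT.node (nat_lit 2174) (BT.node (nat_lit 2173) (BT.leaf ⟨(nat_lit 3), (nat_lit 3), (nat_lit 9), (nat_lit 0x18579f7bae70739a487c674b4a9d73b), (nat_lit 0x844081193e97b7a901002107a3be2), (nat_lit 0)⟩) (BT.leaf ⟨(nat_lit 3), (nat_lit 9), (nat_lit 8), (nat_lit 0x41002be70480512d9d110801a02204), (nat_lit 0x31f5f4e3ba2212bc7b81125bc280a), (nat_lit 0)⟩)) (BT.node (nat_lit 2175) (BT.leaf ⟨(nat_lit 3), (nat_lit 8), (nat_lit 9), (nat_lit 0x31f5f4e3ba2212bc7b81125bc280a), (nat_lit 0x41002be70480512d9d110801a02204), (nat_lit 0)⟩) (BT.leaf ⟨(nat_lit 3), (nat_lit 8), (nat_lit 8), (nat_lit 0x1a37fa300208b8c88120c753a2b982f), (nat_lit 0x1e177e2080300a0063eb92d78204048), (nat_lit 0)⟩)))))))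
noncomputable def cP2112 : BT Pf := (BT.node (nat_lit 2144) (BT.node (nat_lit 2128) (BT.node (nat_lit 2120) (BT.node (nat_lit 2116) (BT.node (nat_lit 2114) (BT.node (nat_lit 2113) (BT.leaf (.rel (nat_lit 1981) (nat_lit 0) [(nat_lit 551), (nat_lit 1410)] [⟨(nat_lit 2032), [], [(nat_lit 510), (nat_lit 1192)]⟩])) (BT.leaf (.rel (nat_lit 1988) (nat_lit 0) [(nat_lit 2061), (nat_lit 389)] [⟨(nat_lit 1959), [(nat_lit 935)], [(nat_lit 1014), (nat_lit 1216)]⟩]))) (BT.node (nat_lit 2115) (BT.leaf (.rel (nat_lit 1812) (nat_lit 0) [(nat_lit 1308), (nat_lit 0)] [⟨(nat_lit 2042), [], [(nat_lit 43), (nat_lit 1018)]⟩])) (BT.leaf (.inv (nat_lit 2114))))) (BT.node (nat_lit 2118) (BT.node (nat_lit 2117) (BT.leaf (.rel (nat_lit 1920) (nat_lit 0) [(nat_lit 783), (nat_lit 395)] [⟨(nat_lit 1919), [(nat_lit 1028)], [(nat_lit 402), (nat_lit 449)]⟩])) (BT.leaf (.rel (nat_lit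 2049) (nat_lit 3) [(nat_lit 871), (nat_lit 127)] [⟨(nat_lit 1444), [(nat_lit 935)], [(nat_lit 1027), (nat_lit 270)]⟩, ⟨(nat_lit 1351), [], [(nat_lit 254), (nat_lit 1369)]⟩]))) (BT.node (nat_lit 2119) (BT.leaf (.inv (nat_lit 2117))) (BT.leaf (.rel (nat_lit 2043) (nat_lit 5) [(nat_lit 93), (nat_lit 478)] [⟨(nat_lit 1339), [(nat_lit 935)], [(nat_lit 213), (nat_lit 191)]⟩, ⟨(nat_lit 2027), [(nat_lit 775)], [(nat_lit 784), (nat_lit 269)]⟩]))))) (BT.node (nat_lit 2124) (BT.node (nat_lit 2122) (BT.node (nat_lit 2121) (BT.leaf (.rel (nat_lit 2000) (nat_lit 0) [(nat_lit 539), (nat_lit 563)] [⟨(nat_lit 1879), [], [(nat_lit 618), (nat_lit 202)]⟩])) (BT.leaf (.rel (nat_lit 2103) (nat_lit 1) [(nat_lit 351), (nat_lit 499)] [⟨(nat_lit 1847), [], [(nat_lit 177), (nat_lit 472)]⟩]))) (BT.node (nat_lit 2123) (BT.leaf (.rel (nat_lit 2022) (nat_lit 4) [(nat_lit 273), (nat_lit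 142)] [⟨(nat_lit 1935), [], [(nat_lit 150), (nat_lit 584)]⟩, ⟨(nat_lit 2062), [(nat_lit 775)], [(nat_lit 177), (nat_lit 1871)]⟩])) (BT.leaf (.inv (nat_lit 2122))))) (BT.node (nat_lit 2126) (BT.node (nat_lit 2125) (BT.leaf (.nmul (nat_lit 1162) [(nat_lit 43)])) (BT.leaf (.rel (nat_lit 2044) (nat_lit 2) [(nat_lit 2124), (nat_lit 563)] [⟨(nat_lit 2032), [(nat_lit 775)], [(nat_lit 1173), (nat_lit 580)]⟩, ⟨(nat_lit 2109), [(nat_lit 1870)], [(nat_lit 215), (nat_lit 141)]⟩]))) (BT.node (nat_lit 2127) (BT.leaf (.rel (nat_lit 1202) (nat_lit 2) [(nat_lit 1337), (nat_lit 891)] [⟨(nat_lit 978), [(nat_lit 775)], [(nat_lit 1235), (nat_lit 270)]⟩, ⟨(nat_lit 2041), [(nat_lit 995)], [(nat_lit 167), (nat_lit 225)]⟩])) (BT.leaf (.inv (nat_lit 2126))))))) (BT.node (nat_lit 2136) (BT.node (nat_lit 2132) (BT.node (nat_lit 2130) (BT.node (nat_lit 2129) (BT.leaf (.emul [(nat_lit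 645), (nat_lit 809)])) (BT.leaf (.rel (nat_lit 1592) (nat_lit 1) [(nat_lit 43), (nat_lit 737)] [⟨(nat_lit 1938), [(nat_lit 2128)], [(nat_lit 402), (nat_lit 307)]⟩]))) (BT.node (nat_lit 2131) (BT.leaf (.inv (nat_lit 2129))) (BT.leaf (.rel (nat_lit 1935) (nat_lit 1) [(nat_lit 520), (nat_lit 1503)] [⟨(nat_lit 1144), [], [(nat_lit 416), (nat_lit 252)]⟩])))) (BT.node (nat_lit 2134) (BT.node (nat_lit 2133) (BT.leaf (.inv (nat_lit 2131))) (BT.leaf (.rel (nat_lit 2116) (nat_lit 1) [(nat_lit 429), (nat_lit 736)] [⟨(nat_lit 2116), [(nat_lit 1870)], [(nat_lit 271), (nat_lit 1369)]⟩]))) (BT.node (nat_lit 2135) (BT.leaf (.rel (nat_lit 1863) (nat_lit 2) [(nat_lit 353), (nat_lit 892)] [⟨(nat_lit 1447), [], [(nat_lit 462), (nat_lit 190)]⟩, ⟨(nat_lit 1852), [], [(nat_lit 1014), (nat_lit 532)]⟩])) (BT.leaf (.rel (nat_lit 2111) (nat_lit 2) [(nat_lit 507), (nat_lit 1091)]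 [⟨(nat_lit 869), [(nat_lit 935)], [(nat_lit 523), (nat_lit 700)]⟩, ⟨(nat_lit 1602), [(nat_lit 775)], [(nat_lit 774), (nat_lit 1088)]⟩]))))) (BT.node (nat_lit 2140) (BT.node (nat_lit 2138) (BT.node (nat_lit 2137) (BT.leaf (.inv (nat_lit 2135))) (BT.leaf (.rel (nat_lit 515) (nat_lit 2) [(nat_lit 164), (nat_lit 475)] [⟨(nat_lit 862), [(nat_lit 1323)], [(nat_lit 705), (nat_lit 385)]⟩, ⟨(nat_lit 1982), [], [(nat_lit 544), (nat_lit 288)]⟩]))) (BT.node (nat_lit 2139) (BT.leaf (.inv (nat_lit 2137))) (BT.leaf (.rel (nat_lit 1969) (nat_lit 2) [(nat_lit 95), (nat_lit 821)] [⟨(nat_lit 1420), [(nat_lit 935)], [(nat_lit 815), (nat_lit 563)]⟩, ⟨(nat_lit 1952), [(nat_lit 775)], [(nat_lit 587), (nat_lit 1101)]⟩])))) (BT.node (nat_lit 2142) (BT.node (nat_lit 2141) (BT.leaf (.rel (nat_lit 2049) (nat_lit 1) [(nat_lit 513), (nat_lit 625)] [⟨(nat_lit 2045), [(nat_lit 935)],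 [(nat_lit 128), (nat_lit 605)]⟩])) (BT.leaf (.rel (nat_lit 1873) (nat_lit 1) [(nat_lit 1600), (nat_lit 363)] [⟨(nat_lit 1576), [(nat_lit 935)], [(nat_lit 1056), (nat_lit 319)]⟩]))) (BT.node (nat_lit 2143) (BT.leaf (.inv (nat_lit 2141))) (BT.leaf (.rel (nat_lit 1975) (nat_lit 0) [(nat_lit 544), (nat_lit 580)] [⟨(nat_lit 1847), [(nat_lit 935)], [(nat_lit 215), (nat_lit 486)]⟩]))))))) (BT.node (nat_lit 2160) (BT.node (nat_lit 2152) (BT.node (nat_lit 2148) (BT.node (nat_lit 2146) (BT.node (nat_lit 2145) (BT.leaf (.rel (nat_lit 1045) (nat_lit 1) [(nat_lit 1056), (nat_lit 1369)] [⟨(nat_lit 2047), [(nat_lit 935)], [(nat_lit 215), (nat_lit 362)]⟩])) (BT.leaf (.inv (nat_lit 2144)))) (BT.node (nat_lit 2147) (BT.leaf (.rel (nat_lit 2044) (nat_lit 0) [(nat_lit 211), (nat_lit 495)] [⟨(nat_lit 2130), [], [(nat_lit 763), (nat_lit 368)]⟩])) (BT.leaf (.rel (nat_lit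 1877) (nat_lit 0) [(nat_lit 520), (nat_lit 440)] [⟨(nat_lit 1876), [(nat_lit 927)], [(nat_lit 19), (nat_lit 1203)]⟩])))) (BT.node (nat_lit 2150) (BT.node (nat_lit 2149) (BT.leaf (.rel (nat_lit 1877) (nat_lit 1) [(nat_lit 1242), (nat_lit 1001)] [⟨(nat_lit 1876), [(nat_lit 859)], [(nat_lit 1162), (nat_lit 651)]⟩])) (BT.leaf (.rel (nat_lit 2084) (nat_lit 2) [(nat_lit 487), (nat_lit 785)] [⟨(nat_lit 1258), [(nat_lit 935)], [(nat_lit 483), (nat_lit 206)]⟩, ⟨(nat_lit 1933), [], [(nat_lit 1162)]⟩]))) (BT.node (nat_lit 2151) (BT.leaf (.rel (nat_lit 2132) (nat_lit 5) [(nat_lit 1140)] [⟨(nat_lit 1427), [], [(nat_lit 214), (nat_lit 278)]⟩, ⟨(nat_lit 2115), [], [(nat_lit 1292), (nat_lit 880)]⟩])) (BT.leaf (.rel (nat_lit 2111) (nat_lit 3) [(nat_lit 214), (nat_lit 593)] [⟨(nat_lit 1572), [(nat_lit 775)], [(nat_lit 192), (nat_lit 269)]⟩, ⟨(nat_lit 1987), [], [(nat_lit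 349), (nat_lit 140)]⟩]))))) (BT.node (nat_lit 2156) (BT.node (nat_lit 2154) (BT.node (nat_lit 2153) (BT.leaf (.emul [(nat_lit 654), (nat_lit 809)])) (BT.leaf (.rel (nat_lit 1740) (nat_lit 3) [(nat_lit 957), (nat_lit 440)] [⟨(nat_lit 1359), [(nat_lit 2152)], [(nat_lit 690), (nat_lit 202)]⟩, ⟨(nat_lit 2141), [(nat_lit 775)], [(nat_lit 673), (nat_lit 308)]⟩]))) (BT.node (nat_lit 2155) (BT.leaf (.inv (nat_lit 2153))) (BT.leaf (.rel (nat_lit 1888) (nat_lit 0) [(nat_lit 827), (nat_lit 1247)] [⟨(nat_lit 2020), [(nat_lit 935)], [(nat_lit 503), (nat_lit 385)]⟩])))) (BT.node (nat_lit 2158) (BT.node (nat_lit 2157) (BT.leaf (.rel (nat_lit 2065) (nat_lit 2) [(nat_lit 336), (nat_lit 384)] [⟨(nat_lit 1310), [(nat_lit 775)], [(nat_lit 630), (nat_lit 172)]⟩, ⟨(nat_lit 2081), [], [(nat_lit 784), (nat_lit 498)]⟩])) (BT.leaf (.rel (nat_lit 1893) (nat_lit 5) [(nat_lit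 695), (nat_lit 205)] [⟨(nat_lit 531), [(nat_lit 322)], [(nat_lit 422), (nat_lit 253)]⟩, ⟨(nat_lit 2037), [(nat_lit 1028)], [(nat_lit 470), (nat_lit 1025)]⟩]))) (BT.node (nat_lit 2159) (BT.leaf (.rel (nat_lit 2040) (nat_lit 1) [(nat_lit 502), (nat_lit 1369)] [⟨(nat_lit 2138), [(nat_lit 650)], [(nat_lit 195), (nat_lit 369)]⟩])) (BT.leaf (.rel (nat_lit 2143) (nat_lit 1) [(nat_lit 207), (nat_lit 1279)] [⟨(nat_lit 2143), [(nat_lit 1870)], [(nat_lit 468), (nat_lit 1279)]⟩])))))) (BT.node (nat_lit 2168) (BT.node (nat_lit 2164) (BT.node (nat_lit 2162) (BT.node (nat_lit 2161) (BT.leaf (.rel (nat_lit 2134) (nat_lit 0) [(nat_lit 207), (nat_lit 1583)] [⟨(nat_lit 2155), [(nat_lit 1870)], [(nat_lit 129), (nat_lit 330)]⟩])) (BT.leaf (.rel (nat_lit 2076) (nat_lit 1) [(nat_lit 1174), (nat_lit 662)] [⟨(nat_lit 2085), [(nat_lit 775)], [(nat_lit 901)]⟩]))) (BT.node (nat_lit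 2163) (BT.leaf (.rel (nat_lit 2040) (nat_lit 3) [(nat_lit 579), (nat_lit 1849)] [⟨(nat_lit 425), [(nat_lit 828)], [(nat_lit 781), (nat_lit 559)]⟩, ⟨(nat_lit 2041), [(nat_lit 859)], [(nat_lit 177), (nat_lit 495)]⟩])) (BT.leaf (.rel (nat_lit 2161) (nat_lit 0) [(nat_lit 1087), (nat_lit 864)] [⟨(nat_lit 2143), [(nat_lit 1822)], [(nat_lit 829), (nat_lit 1279)]⟩])))) (BT.node (nat_lit 2166) (BT.node (nat_lit 2165) (BT.leaf (.dfn [(nat_lit 1), (nat_lit 4), (nat_lit 1), (nat_lit 4)])) (BT.leaf (.inv (nat_lit 2164)))) (BT.node (nat_lit 2167) (BT.leaf (.rel (nat_lit 2165) (nat_lit 1) [(nat_lit 212), (nat_lit 308)] [⟨(nat_lit 366), [(nat_lit 430)], [(nat_lit 462), (nat_lit 1109)]⟩])) (BT.leaf (.cmp (nat_lit 2166) ⟨(nat_lit 2166), [(nat_lit 750)], [(nat_lit 295), (nat_lit 0)]⟩))))) (BT.node (nat_lit 2172) (BT.node (nat_lit 2170) (BT.node (nat_lit 2169) (BT.leaf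 (.inv (nat_lit 2166))) (BT.leaf (.rel (nat_lit 2165) (nat_lit 1) [(nat_lit 574), (nat_lit 1472)] [⟨(nat_lit 2164), [(nat_lit 452), (nat_lit 749)], [(nat_lit 95), (nat_lit 1583)]⟩]))) (BT.node (nat_lit 2171) (BT.leaf (.emul [(nat_lit 143), (nat_lit 168)])) (BT.leaf (.rel (nat_lit 730) (nat_lit 0) [(nat_lit 226), (nat_lit 162)] [⟨(nat_lit 2164), [(nat_lit 238), (nat_lit 2170)], [(nat_lit 394), (nat_lit 762)]⟩])))) (BT.node (nat_lit 2174) (BT.node (nat_lit 2173) (BT.leaf (.inv (nat_lit 2171))) (BT.leaf (.rel (nat_lit 2038) (nat_lit 2) [(nat_lit 487), (nat_lit 874)] [⟨(nat_lit 1110), [(nat_lit 775)], [(nat_lit 175), (nat_lit 0)]⟩, ⟨(nat_lit 2164), [(nat_lit 417)], [(nat_lit 152), (nat_lit 126)]⟩]))) (BT.node (nat_lit 2175) (BT.leaf (.inv (nat_lit 2173))) (BT.leaf (.rel (nat_lit 2084) (nat_lit 4) [(nat_lit 296), (nat_lit 785)] [⟨(nat_lit 1005), [], [(nat_lit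 991), (nat_lit 263)]⟩, ⟨(nat_lit 2085), [], [(nat_lit 364), (nat_lit 785)]⟩]))))))))
noncomputable def cF2176 : BT Fc := (BT.node (nat_lit 2208) (BT.node (nat_lit 2192) (BT.node (nat_lit 2184) (BT.node (nat_lit 2180) (BT.node (nat_lit 2178) (BT.node (nat_lit 2177) (BT.leaf ⟨(nat_lit 3), (nat_lit 8), (nat_lit 9), (nat_lit 0x19d37aef65e8c71356fc9e86c8e76e4), (nat_lit 0x32fa35ffd261f1ec742e8eabbe374e), (nat_lit 0)⟩) (BT.leaf ⟨(nat_lit 3), (nat_lit 9), (nat_lit 8), (nat_lit 0x32fa35ffd261f1ec742e8eabbe374e), (nat_lit 0x19d37aef65e8c71356fc9e86c8e76e4), (nat_lit 0)⟩)) (BT.node (nat_lit 2179) (BT.leaf ⟨(nat_lit 2), (nat_lit 2), (nat_lit 2), (nat_lit 0x4bb9dc01202806395e94bc04402ab8), (nat_lit 0), (nat_lit 0)⟩) (BT.leaf ⟨(nat_lit 3), (nat_lit 9), (nat_lit 7), (nat_lit 0x1f6e7a287da85e7786fcdea9aa26d17), (nat_lit 0x1bf36a1ced69bdbfa287de06c8bcef4), (nat_lit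 0)⟩))) (BT.node (nat_lit 2182) (BT.node (nat_lit 2181) (BT.leaf ⟨(nat_lit 3), (nat_lit 7), (nat_lit 9), (nat_lit 0x1bf36a1ced69bdbfa287de06c8bcef4), (nat_lit 0x1f6e7a287da85e7786fcdea9aa26d17), (nat_lit 0)⟩) (BT.leaf ⟨(nat_lit 2), (nat_lit 8), (nat_lit 8), (nat_lit 0x27b4f59e97d23a0f4deb6326aa5976), (nat_lit 0), (nat_lit 0)⟩)) (BT.node (nat_lit 2183) (BT.leaf ⟨(nat_lit 3), (nat_lit 9), (nat_lit 7), (nat_lit 0x87d27e2ccbf7492b85ff6ee293fadf), (nat_lit 0x1278400204000237a00400497c97c73), (nat_lit 0)⟩) (BT.leaf ⟨(nat_lit 3), (nat_lit 7), (nat_lit 9), (nat_lit 0x1278400204000237a00400497c97c73), (nat_lit 0x87d27e2ccbf7492b85ff6ee293fadf), (nat_lit 0)⟩)))) (BT.node (nat_lit 2188) (BT.node (nat_lit 2186) (BT.node (nat_lit 2185) (BT.leaf ⟨(nat_lit 3), (nat_lit 7), (nat_lit 9), (nat_lit 0xe5ac1abd562ae554a391ccee57cdff), (nat_lit 0x9002096f86687cca8500916a1d1af9),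 (nat_lit 0)⟩) (BT.leaf ⟨(nat_lit 3), (nat_lit 9), (nat_lit 7), (nat_lit 0x9002096f86687cca8500916a1d1af9), (nat_lit 0xe5ac1abd562ae554a391ccee57cdff), (nat_lit 0)⟩)) (BT.node (nat_lit 2187) (BT.leaf ⟨(nat_lit 3), (nat_lit 7), (nat_lit 9), (nat_lit 0x824f2b9de8004014737c640020010), (nat_lit 0x52fc030dc8042477560222409f910), (nat_lit 0)⟩) (BT.leaf ⟨(nat_lit 3), (nat_lit 9), (nat_lit 7), (nat_lit 0x52fc030dc8042477560222409f910), (nat_lit 0x824f2b9de8004014737c640020010), (nat_lit 0)⟩))) (BT.node (nat_lit 2190) (BT.node (nat_lit 2189) (BT.leaf ⟨(nat_lit 3), (nat_lit 9), (nat_lit 7), (nat_lit 0xa1e79c638f6d259ac73ae61ce38eca), (nat_lit 0xdc32fe2ca326f3608e6aca9fd0fa5f), (nat_lit 0)⟩) (BT.leaf ⟨(nat_lit 3), (nat_lit 7), (nat_lit 9), (nat_lit 0xdc32fe2ca326f3608e6aca9fd0fa5f), (nat_lit 0xa1e79c638f6d259ac73ae61ce38eca), (nat_lit 0)⟩)) (BT.node (nat_lit 2191)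 (BT.leaf ⟨(nat_lit 3), (nat_lit 5), (nat_lit 9), (nat_lit 0x4554df80610400c463028441086e4), (nat_lit 0x1d5b49f47cd391ba27460f8ab8d97c6), (nat_lit 0)⟩) (BT.leaf ⟨(nat_lit 3), (nat_lit 9), (nat_lit 5), (nat_lit 0x1d5b49f47cd391ba27460f8ab8d97c6), (nat_lit 0x4554df80610400c463028441086e4), (nat_lit 0)⟩))))) (BT.node (nat_lit 2200) (BT.node (nat_lit 2196) (BT.node (nat_lit 2194) (BT.node (nat_lit 2193) (BT.leaf ⟨(nat_lit 3), (nat_lit 9), (nat_lit 7), (nat_lit 0xcd723346cd3297a387ceadd0865f06), (nat_lit 0x3b64b17683cf63bee9e97db064754b), (nat_lit 0)⟩) (BT.leaf ⟨(nat_lit 3), (nat_lit 7), (nat_lit 9), (nat_lit 0x3b64b17683cf63bee9e97db064754b), (nat_lit 0xcd723346cd3297a387ceadd0865f06), (nat_lit 0)⟩)) (BT.node (nat_lit 2195) (BT.leaf ⟨(nat_lit 3), (nat_lit 9), (nat_lit 7), (nat_lit 0xaa6c1f512b4db3652f957ae595c2b1), (nat_lit 0x14d226aa9c4e2e51cdffb06ae1b6396),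 (nat_lit 0)⟩) (BT.leaf ⟨(nat_lit 3), (nat_lit 7), (nat_lit 9), (nat_lit 0x14d226aa9c4e2e51cdffb06ae1b6396), (nat_lit 0xaa6c1f512b4db3652f957ae595c2b1), (nat_lit 0)⟩))) (BT.node (nat_lit 2198) (BT.node (nat_lit 2197) (BT.leaf ⟨(nat_lit 3), (nat_lit 9), (nat_lit 7), (nat_lit 0x11c6390ed0e75ce31f9066aa1e29d5c), (nat_lit 0x3ebedcc725d855cb2cc35e5bed8b2f), (nat_lit 0)⟩) (BT.leaf ⟨(nat_lit 3), (nat_lit 7), (nat_lit 9), (nat_lit 0x3ebedcc725d855cb2cc35e5bed8b2f), (nat_lit 0x11c6390ed0e75ce31f9066aa1e29d5c), (nat_lit 0)⟩)) (BT.node (nat_lit 2199) (BT.leaf ⟨(nat_lit 3), (nat_lit 9), (nat_lit 7), (nat_lit 0x15ceae2878e30cf3999bb4cffb164f3), (nat_lit 0x1cab9f7bae7073b0a8b7675cea6cba4), (nat_lit 0)⟩) (BT.leaf ⟨(nat_lit 3), (nat_lit 7), (nat_lit 9), (nat_lit 0x1cab9f7bae7073b0a8b7675cea6cba4), (nat_lit 0x15ceae2878e30cf3999bb4cffb164f3), (nat_lit 0)⟩)))) (BT.node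 (nat_lit 2204) (BT.node (nat_lit 2202) (BT.node (nat_lit 2201) (BT.leaf ⟨(nat_lit 3), (nat_lit 9), (nat_lit 7), (nat_lit 0x12af7afdbde9fd3784f4ce945f6a6f6), (nat_lit 0x9aa5f3a493f89f4f0ed93d37989db1), (nat_lit 0)⟩) (BT.leaf ⟨(nat_lit 3), (nat_lit 7), (nat_lit 9), (nat_lit 0x9aa5f3a493f89f4f0ed93d37989db1), (nat_lit 0x12af7afdbde9fd3784f4ce945f6a6f6), (nat_lit 0)⟩)) (BT.node (nat_lit 2203) (BT.leaf ⟨(nat_lit 3), (nat_lit 7), (nat_lit 9), (nat_lit 0x1801802497dd99101207860a38d6d4), (nat_lit 0x15a386adff8deea0f6745013cc480a0), (nat_lit 0)⟩) (BT.leaf ⟨(nat_lit 3), (nat_lit 9), (nat_lit 7), (nat_lit 0x15a386adff8deea0f6745013cc480a0), (nat_lit 0x1801802497dd99101207860a38d6d4), (nat_lit 0)⟩))) (BT.node (nat_lit 2206) (BT.node (nat_lit 2205) (BT.leaf ⟨(nat_lit 3), (nat_lit 7), (nat_lit 9), (nat_lit 0x18b076c7166b14e3dd5cae73ce31c72), (nat_lit 0x1d084273e028010065ec08874495f89),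 (nat_lit 0)⟩) (BT.leaf ⟨(nat_lit 3), (nat_lit 9), (nat_lit 7), (nat_lit 0x1d084273e028010065ec08874495f89), (nat_lit 0x18b076c7166b14e3dd5cae73ce31c72), (nat_lit 0)⟩)) (BT.node (nat_lit 2207) (BT.leaf ⟨(nat_lit 3), (nat_lit 7), (nat_lit 9), (nat_lit 0x1d45dce27533b2954eb9a6913558ab9), (nat_lit 0xc20be2571e337aa5e04275008c72), (nat_lit 0)⟩) (BT.leaf ⟨(nat_lit 3), (nat_lit 9), (nat_lit 7), (nat_lit 0xc20be2571e337aa5e04275008c72), (nat_lit 0x1d45dce27533b2954eb9a6913558ab9), (nat_lit 0)⟩)))))) (BT.node (nat_lit 2224) (BT.node (nat_lit 2216) (BT.node (nat_lit 2212) (BT.node (nat_lit 2210) (BT.node (nat_lit 2209) (BT.leaf ⟨(nat_lit 3), (nat_lit 3), (nat_lit 9), (nat_lit 0x1d1c02803e764b820c01202f8900821), (nat_lit 0x101240408805103f1c10840d1b2f9e8), (nat_lit 0)⟩) (BT.leaf ⟨(nat_lit 3), (nat_lit 9), (nat_lit 3), (nat_lit 0x101240408805103f1c10840d1b2f9e8),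 (nat_lit 0x1d1c02803e764b820c01202f8900821), (nat_lit 0)⟩)) (BT.node (nat_lit 2211) (BT.leaf ⟨(nat_lit 2), (nat_lit 8), (nat_lit 8), (nat_lit 0x102104108e9c0252bde0010033c2848), (nat_lit 0), (nat_lit 0)⟩) (BT.leaf ⟨(nat_lit 3), (nat_lit 7), (nat_lit 9), (nat_lit 0x880183c30c09fc12028ecc08610020), (nat_lit 0xee57ca39bff60dcb2bbc4eaa7652b1), (nat_lit 0)⟩))) (BT.node (nat_lit 2214) (BT.node (nat_lit 2213) (BT.leaf ⟨(nat_lit 3), (nat_lit 9), (nat_lit 7), (nat_lit 0xee57ca39bff60dcb2bbc4eaa7652b1), (nat_lit 0x880183c30c09fc12028ecc08610020), (nat_lit 0)⟩) (BT.leaf ⟨(nat_lit 3), (nat_lit 7), (nat_lit 9), (nat_lit 0x1800399e88410235cb3a71ad1aeae5f), (nat_lit 0x4ae0225b0080939f1047cfd080a1d1), (nat_lit 0)⟩)) (BT.node (nat_lit 2215) (BT.leaf ⟨(nat_lit 3), (nat_lit 9), (nat_lit 7), (nat_lit 0x4ae0225b0080939f1047cfd080a1d1), (nat_lit 0x1800399e88410235cb3a71ad1aeae5f),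 (nat_lit 0)⟩) (BT.leaf ⟨(nat_lit 3), (nat_lit 4), (nat_lit 9), (nat_lit 0x8042fe004802e5082006014e904220), (nat_lit 0x17a60080593e04440c727c475004803), (nat_lit 0)⟩)))) (BT.node (nat_lit 2220) (BT.node (nat_lit 2218) (BT.node (nat_lit 2217) (BT.leaf ⟨(nat_lit 3), (nat_lit 9), (nat_lit 4), (nat_lit 0x17a60080593e04440c727c475004803), (nat_lit 0x8042fe004802e5082006014e904220), (nat_lit 0)⟩) (BT.leaf ⟨(nat_lit 3), (nat_lit 3), (nat_lit 9), (nat_lit 0x11b9719bc7868da5295a7c345df1be7), (nat_lit 0x197e0407313d005a333abab101c6d2f), (nat_lit 0)⟩)) (BT.node (nat_lit 2219) (BT.leaf ⟨(nat_lit 3), (nat_lit 9), (nat_lit 3), (nat_lit 0x197e0407313d005a333abab101c6d2f), (nat_lit 0x11b9719bc7868da5295a7c345df1be7), (nat_lit 0)⟩) (BT.leaf ⟨(nat_lit 3), (nat_lit 7), (nat_lit 9), (nat_lit 0x1a8bed90f65f6c4938fa2560bc9792d), (nat_lit 0x41002c040080915ec9af121112d92b),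 (nat_lit 0)⟩))) (BT.node (nat_lit 2222) (BT.node (nat_lit 2221) (BT.leaf ⟨(nat_lit 3), (nat_lit 9), (nat_lit 7), (nat_lit 0x41002c040080915ec9af121112d92b), (nat_lit 0x1a8bed90f65f6c4938fa2560bc9792d), (nat_lit 0)⟩) (BT.leaf ⟨(nat_lit 3), (nat_lit 9), (nat_lit 7), (nat_lit 0x1e4239b498e466ed32871db1dd9ac33), (nat_lit 0x4231a1091c048880500224fc0c3f3), (nat_lit 0)⟩)) (BT.node (nat_lit 2223) (BT.leaf ⟨(nat_lit 3), (nat_lit 7), (nat_lit 9), (nat_lit 0x4231a1091c048880500224fc0c3f3), (nat_lit 0x1e4239b498e466ed32871db1dd9ac33), (nat_lit 0)⟩) (BT.leaf ⟨(nat_lit 2), (nat_lit 8), (nat_lit 8), (nat_lit 0x1ce8024734bf7a01001093c801f1801), (nat_lit 0), (nat_lit 0)⟩))))) (BT.node (nat_lit 2232) (BT.node (nat_lit 2228) (BT.node (nat_lit 2226) (BT.node (nat_lit 2225) (BT.leaf ⟨(nat_lit 3), (nat_lit 9), (nat_lit 7), (nat_lit 0xc4ed8bd8934e93beec192d27a6f09e), (nat_lit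 0x404408013a91cba381100697810a01), (nat_lit 0)⟩) (BT.leaf ⟨(nat_lit 3), (nat_lit 7), (nat_lit 9), (nat_lit 0x404408013a91cba381100697810a01), (nat_lit 0xc4ed8bd8934e93beec192d27a6f09e), (nat_lit 0)⟩)) (BT.node (nat_lit 2227) (BT.leaf ⟨(nat_lit 3), (nat_lit 7), (nat_lit 9), (nat_lit 0x131ff443d3373a2f4deab51edfa8976), (nat_lit 0xee6ffb96173d45b66ca1ccac554abd), (nat_lit 0)⟩) (BT.leaf ⟨(nat_lit 3), (nat_lit 9), (nat_lit 7), (nat_lit 0xee6ffb96173d45b66ca1ccac554abd), (nat_lit 0x131ff443d3373a2f4deab51edfa8976), (nat_lit 0)⟩))) (BT.node (nat_lit 2230) (BT.node (nat_lit 2229) (BT.leaf ⟨(nat_lit 3), (nat_lit 9), (nat_lit 5), (nat_lit 0x556ea8d538a7d61eb6ccb075ed338a), (nat_lit 0x63c2828df925af0048e6482093808), (nat_lit 0)⟩) (BT.leaf ⟨(nat_lit 3), (nat_lit 5), (nat_lit 9), (nat_lit 0x63c2828df925af0048e6482093808), (nat_lit 0x556ea8d538a7d61eb6ccb075ed338a),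 (nat_lit 0)⟩)) (BT.node (nat_lit 2231) (BT.leaf ⟨(nat_lit 3), (nat_lit 9), (nat_lit 7), (nat_lit 0x356a5b8addf699ea8fa46d0f72c1d1), (nat_lit 0xbf1d10022035680108205679af920), (nat_lit 0)⟩) (BT.leaf ⟨(nat_lit 3), (nat_lit 7), (nat_lit 9), (nat_lit 0xbf1d10022035680108205679af920), (nat_lit 0x356a5b8addf699ea8fa46d0f72c1d1), (nat_lit 0)⟩)))) (BT.node (nat_lit 2236) (BT.node (nat_lit 2234) (BT.node (nat_lit 2233) (BT.leaf ⟨(nat_lit 3), (nat_lit 9), (nat_lit 7), (nat_lit 0xc0090100a01678840d505e6031d68d), (nat_lit 0x16a2e47e8bd582ef61e8639782fc5e8), (nat_lit 0)⟩) (BT.leaf ⟨(nat_lit 3), (nat_lit 7), (nat_lit 9), (nat_lit 0x16a2e47e8bd582ef61e8639782fc5e8), (nat_lit 0xc0090100a01678840d505e6031d68d), (nat_lit 0)⟩)) (BT.node (nat_lit 2235) (BT.leaf ⟨(nat_lit 3), (nat_lit 9), (nat_lit 5), (nat_lit 0x7d7d6cbe240082298240508814cf1a), (nat_lit 0x1a4da32ae0f929465f06c8cf63a15ff),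 (nat_lit 0)⟩) (BT.leaf ⟨(nat_lit 3), (nat_lit 5), (nat_lit 9), (nat_lit 0x1a4da32ae0f929465f06c8cf63a15ff), (nat_lit 0x7d7d6cbe240082298240508814cf1a), (nat_lit 0)⟩))) (BT.node (nat_lit 2238) (BT.node (nat_lit 2237) (BT.leaf ⟨(nat_lit 2), (nat_lit 5), (nat_lit 5), (nat_lit 0xce839dd5d734bdc6b468010132fc01), (nat_lit 0), (nat_lit 0)⟩) (BT.leaf ⟨(nat_lit 2), (nat_lit 9), (nat_lit 9), (nat_lit 0x1083b37ad1404838d03078772011220), (nat_lit 0), (nat_lit 0)⟩)) (BT.node (nat_lit 2239) (BT.leaf ⟨(nat_lit 3), (nat_lit 7), (nat_lit 9), (nat_lit 0x4baae6a22df6c496b2f21f9a493e15), (nat_lit 0x102158808051e14049dd92c221f5efc), (nat_lit 0)⟩) (BT.leaf ⟨(nat_lit 3), (nat_lit 9), (nat_lit 7), (nat_lit 0x102158808051e14049dd92c221f5efc), (nat_lit 0x4baae6a22df6c496b2f21f9a493e15), (nat_lit 0)⟩)))))))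
noncomputable def cP2176 : BT Pf := (BT.node (nat_lit 2208) (BT.node (nat_lit 2192) (BT.node (nat_lit 2184) (BT.node (nat_lit 2180) (BT.node (nat_lit 2178) (BT.node (nat_lit 2177) (BT.leaf (.rel (nat_lit 2168) (nat_lit 4) [(nat_lit 260), (nat_lit 1192)] [⟨(nat_lit 1030), [(nat_lit 679)], [(nat_lit 164), (nat_lit 398)]⟩, ⟨(nat_lit 1889), [(nat_lit 935)], [(nat_lit 373), (nat_lit 269)]⟩])) (BT.leaf (.inv (nat_lit 2176)))) (BT.node (nat_lit 2179) (BT.leaf (.emul [(nat_lit 210), (nat_lit 1455)])) (BT.leaf (.rel (nat_lit 1003) (nat_lit 0) [(nat_lit 1600), (nat_lit 835)] [⟨(nat_lit 2164), [(nat_lit 238), (nat_lit 2178)], [(nat_lit 631), (nat_lit 399)]⟩])))) (BT.node (nat_lit 2182) (BT.node (nat_lit 2181) (BT.leaf (.inv (nat_lit 2179))) (BT.leaf (.emul [(nat_lit 1883), (nat_lit 1870)]))) (BT.node (nat_lit 2183) (BT.leaf (.rel (nat_lit 1987) (nat_lit 3) [(nat_lit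 2061), (nat_lit 1939)] [⟨(nat_lit 2120), [(nat_lit 1883)], [(nat_lit 774), (nat_lit 1216)]⟩, ⟨(nat_lit 2174), [(nat_lit 2181)], [(nat_lit 283), (nat_lit 270)]⟩])) (BT.leaf (.inv (nat_lit 2182)))))) (BT.node (nat_lit 2188) (BT.node (nat_lit 2186) (BT.node (nat_lit 2185) (BT.leaf (.rel (nat_lit 2182) (nat_lit 4) [(nat_lit 911), (nat_lit 110)] [⟨(nat_lit 1077), [(nat_lit 775)], [(nat_lit 538), (nat_lit 936)]⟩, ⟨(nat_lit 1574), [(nat_lit 775)], [(nat_lit 827), (nat_lit 572)]⟩])) (BT.leaf (.inv (nat_lit 2184)))) (BT.node (nat_lit 2187) (BT.leaf (.rel (nat_lit 2171) (nat_lit 4) [(nat_lit 241), (nat_lit 736)] [⟨(nat_lit 1176), [(nat_lit 322)], [(nat_lit 214), (nat_lit 1021)]⟩, ⟨(nat_lit 1734), [(nat_lit 775)], [(nat_lit 428), (nat_lit 1745)]⟩])) (BT.leaf (.inv (nat_lit 2186))))) (BT.node (nat_lit 2190) (BT.node (nat_lit 2189) (BT.leaf (.rel (nat_lit 899)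 (nat_lit 5) [(nat_lit 523), (nat_lit 247)] [⟨(nat_lit 933), [(nat_lit 935)], [(nat_lit 462), (nat_lit 606)]⟩, ⟨(nat_lit 2172), [(nat_lit 1037)], [(nat_lit 266), (nat_lit 573)]⟩])) (BT.leaf (.inv (nat_lit 2188)))) (BT.node (nat_lit 2191) (BT.leaf (.rel (nat_lit 2188) (nat_lit 1) [(nat_lit 789), (nat_lit 386)] [⟨(nat_lit 1445), [(nat_lit 775)], [(nat_lit 446), (nat_lit 307)]⟩])) (BT.leaf (.inv (nat_lit 2190))))))) (BT.node (nat_lit 2200) (BT.node (nat_lit 2196) (BT.node (nat_lit 2194) (BT.node (nat_lit 2193) (BT.leaf (.rel (nat_lit 1477) (nat_lit 1) [(nat_lit 827), (nat_lit 172)] [⟨(nat_lit 2184), [], [(nat_lit 763), (nat_lit 1605)]⟩])) (BT.leaf (.inv (nat_lit 2192)))) (BT.node (nat_lit 2195) (BT.leaf (.rel (nat_lit 1812) (nat_lit 3) [(nat_lit 359), (nat_lit 1247)] [⟨(nat_lit 857), [], [(nat_lit 97), (nat_lit 710)]⟩, ⟨(nat_lit 2190), [(nat_lit 1623)],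 [(nat_lit 675), (nat_lit 172)]⟩])) (BT.leaf (.inv (nat_lit 2194))))) (BT.node (nat_lit 2198) (BT.node (nat_lit 2197) (BT.leaf (.rel (nat_lit 1395) (nat_lit 3) [(nat_lit 167), (nat_lit 651)] [⟨(nat_lit 1681), [], [(nat_lit 283), (nat_lit 586)]⟩, ⟨(nat_lit 2183), [], [(nat_lit 192), (nat_lit 367)]⟩])) (BT.leaf (.inv (nat_lit 2196)))) (BT.node (nat_lit 2199) (BT.leaf (.rel (nat_lit 1927) (nat_lit 4) [(nat_lit 902), (nat_lit 652)] [⟨(nat_lit 2103), [(nat_lit 1846)], [(nat_lit 473), (nat_lit 808)]⟩, ⟨(nat_lit 2180), [(nat_lit 935)], [(nat_lit 273), (nat_lit 279)]⟩])) (BT.leaf (.inv (nat_lit 2198)))))) (BT.node (nat_lit 2204) (BT.node (nat_lit 2202) (BT.node (nat_lit 2201) (BT.leaf (.rel (nat_lit 1613) (nat_lit 2) [(nat_lit 653), (nat_lit 694)] [⟨(nat_lit 1424), [(nat_lit 935)], [(nat_lit 178), (nat_lit 1849)]⟩, ⟨(nat_lit 2197), [(nat_lit 775)], [(nat_lit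 433), (nat_lit 495)]⟩])) (BT.leaf (.inv (nat_lit 2200)))) (BT.node (nat_lit 2203) (BT.leaf (.rel (nat_lit 2177) (nat_lit 1) [(nat_lit 94), (nat_lit 142)] [⟨(nat_lit 2097), [(nat_lit 1922)], [(nat_lit 759), (nat_lit 1141)]⟩])) (BT.leaf (.inv (nat_lit 2202))))) (BT.node (nat_lit 2206) (BT.node (nat_lit 2205) (BT.leaf (.rel (nat_lit 2179) (nat_lit 0) [(nat_lit 832), (nat_lit 401)] [⟨(nat_lit 1711), [], [(nat_lit 237), (nat_lit 222)]⟩])) (BT.leaf (.inv (nat_lit 2204)))) (BT.node (nat_lit 2207) (BT.leaf (.rel (nat_lit 2196) (nat_lit 2) [(nat_lit 450), (nat_lit 1369)] [⟨(nat_lit 1742), [], [(nat_lit 539), (nat_lit 646)]⟩, ⟨(nat_lit 1527), [(nat_lit 935)], [(nat_lit 913), (nat_lit 398)]⟩])) (BT.leaf (.inv (nat_lit 2206)))))))) (BT.node (nat_lit 2224) (BT.node (nat_lit 2216) (BT.node (nat_lit 2212) (BT.node (nat_lit 2210) (BT.node (nat_lit 2209) (BT.leaf (.rel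 (nat_lit 2168) (nat_lit 1) [(nat_lit 364), (nat_lit 586)] [⟨(nat_lit 374), [], [(nat_lit 1092), (nat_lit 289)]⟩])) (BT.leaf (.inv (nat_lit 2208)))) (BT.node (nat_lit 2211) (BT.leaf (.emul [(nat_lit 1870), (nat_lit 1883)])) (BT.leaf (.rel (nat_lit 2173) (nat_lit 4) [(nat_lit 1337), (nat_lit 969)] [⟨(nat_lit 1969), [(nat_lit 2210)], [(nat_lit 178), (nat_lit 585)]⟩, ⟨(nat_lit 1275), [(nat_lit 775)], [(nat_lit 427), (nat_lit 438)]⟩])))) (BT.node (nat_lit 2214) (BT.node (nat_lit 2213) (BT.leaf (.inv (nat_lit 2211))) (BT.leaf (.rel (nat_lit 2205) (nat_lit 2) [(nat_lit 151), (nat_lit 901)] [⟨(nat_lit 1479), [(nat_lit 935)], [(nat_lit 208), (nat_lit 1101)]⟩, ⟨(nat_lit 1733), [(nat_lit 935)], [(nat_lit 695), (nat_lit 389)]⟩]))) (BT.node (nat_lit 2215) (BT.leaf (.inv (nat_lit 2213))) (BT.leaf (.rel (nat_lit 2214) (nat_lit 5) [(nat_lit 746), (nat_lit 0)] [⟨(nat_lit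 1460), [(nat_lit 775)], [(nat_lit 526), (nat_lit 578)]⟩, ⟨(nat_lit 1248), [(nat_lit 935)], [(nat_lit 364), (nat_lit 864)]⟩]))))) (BT.node (nat_lit 2220) (BT.node (nat_lit 2218) (BT.node (nat_lit 2217) (BT.leaf (.inv (nat_lit 2215))) (BT.leaf (.rel (nat_lit 2194) (nat_lit 0) [(nat_lit 786), (nat_lit 624)] [⟨(nat_lit 1228), [(nat_lit 935)], [(nat_lit 356), (nat_lit 449)]⟩]))) (BT.node (nat_lit 2219) (BT.leaf (.inv (nat_lit 2217))) (BT.leaf (.rel (nat_lit 2205) (nat_lit 0) [(nat_lit 1103), (nat_lit 559)] [⟨(nat_lit 1691), [], [(nat_lit 502), (nat_lit 628)]⟩])))) (BT.node (nat_lit 2222) (BT.node (nat_lit 2221) (BT.leaf (.inv (nat_lit 2219))) (BT.leaf (.rel (nat_lit 1683) (nat_lit 2) [(nat_lit 349), (nat_lit 293)] [⟨(nat_lit 1330), [(nat_lit 935)], [(nat_lit 1106), (nat_lit 532)]⟩, ⟨(nat_lit 2217), [(nat_lit 528)], [(nat_lit 445), (nat_lit 738)]⟩]))) (BT.node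 (nat_lit 2223) (BT.leaf (.inv (nat_lit 2221))) (BT.leaf (.emul [(nat_lit 1870), (nat_lit 1921)])))))) (BT.node (nat_lit 2232) (BT.node (nat_lit 2228) (BT.node (nat_lit 2226) (BT.node (nat_lit 2225) (BT.leaf (.rel (nat_lit 1959) (nat_lit 0) [(nat_lit 787), (nat_lit 1849)] [⟨(nat_lit 2174), [(nat_lit 2223)], [(nat_lit 352), (nat_lit 1247)]⟩])) (BT.leaf (.inv (nat_lit 2224)))) (BT.node (nat_lit 2227) (BT.leaf (.rel (nat_lit 2224) (nat_lit 0) [(nat_lit 348), (nat_lit 628)] [⟨(nat_lit 1814), [], [(nat_lit 787), (nat_lit 504)]⟩])) (BT.leaf (.inv (nat_lit 2226))))) (BT.node (nat_lit 2230) (BT.node (nat_lit 2229) (BT.leaf (.rel (nat_lit 976) (nat_lit 0) [(nat_lit 357), (nat_lit 795)] [⟨(nat_lit 2195), [(nat_lit 775)], [(nat_lit 928), (nat_lit 162)]⟩])) (BT.leaf (.inv (nat_lit 2228)))) (BT.node (nat_lit 2231) (BT.leaf (.rel (nat_lit 1293) (nat_lit 1) [(nat_lit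 786), (nat_lit 269)] [⟨(nat_lit 2202), [(nat_lit 775)], [(nat_lit 1242), (nat_lit 1478)]⟩])) (BT.leaf (.inv (nat_lit 2230)))))) (BT.node (nat_lit 2236) (BT.node (nat_lit 2234) (BT.node (nat_lit 2233) (BT.leaf (.rel (nat_lit 1989) (nat_lit 0) [(nat_lit 381), (nat_lit 320)] [⟨(nat_lit 2174), [], [(nat_lit 787), (nat_lit 307)]⟩])) (BT.leaf (.inv (nat_lit 2232)))) (BT.node (nat_lit 2235) (BT.leaf (.rel (nat_lit 742) (nat_lit 4) [(nat_lit 1103), (nat_lit 253)] [⟨(nat_lit 1446), [(nat_lit 1306)], [(nat_lit 94), (nat_lit 1009)]⟩, ⟨(nat_lit 2186), [(nat_lit 775)], [(nat_lit 653), (nat_lit 1088)]⟩])) (BT.leaf (.inv (nat_lit 2234))))) (BT.node (nat_lit 2238) (BT.node (nat_lit 2237) (BT.leaf (.emul [(nat_lit 645), (nat_lit 2128)])) (BT.leaf (.cmp (nat_lit 2235) ⟨(nat_lit 2190), [(nat_lit 2236)], [(nat_lit 507), (nat_lit 472)]⟩))) (BT.node (nat_lit 2239) (BT.leaf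 (.rel (nat_lit 2200) (nat_lit 3) [(nat_lit 394), (nat_lit 1009)] [⟨(nat_lit 1468), [(nat_lit 935)], [(nat_lit 296), (nat_lit 141)]⟩, ⟨(nat_lit 1528), [], [(nat_lit 241), (nat_lit 107)]⟩])) (BT.leaf (.inv (nat_lit 2238)))))))))
noncomputable def cF2240 : BT Fc := (BT.node (nat_lit 2272) (BT.node (nat_lit 2256) (BT.node (nat_lit 2248) (BT.node (nat_lit 2244) (BT.node (nat_lit 2242) (BT.node (nat_lit 2241) (BT.leaf ⟨(nat_lit 3), (nat_lit 9), (nat_lit 7), (nat_lit 0x160f8d732f74d24e733a16ee929d63a), (nat_lit 0x19a465f4794bc19ec742f8cabafff4e), (nat_lit 0)⟩) (BT.leaf ⟨(nat_lit 3), (nat_lit 7), (nat_lit 9), (nat_lit 0x19a465f4794bc19ec742f8cabafff4e), (nat_lit 0x160f8d732f74d24e733a16ee929d63a), (nat_lit 0)⟩)) (BT.node (nat_lit 2243) (BT.leaf ⟨(nat_lit 3), (nat_lit 7), (nat_lit 9), (nat_lit 0x1e3dc6ea27fd4d1898cb2f3e77c60b7), (nat_lit 0x127b60a6a9bd078bb5b17b0c4dd209e),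 (nat_lit 0)⟩) (BT.leaf ⟨(nat_lit 3), (nat_lit 9), (nat_lit 7), (nat_lit 0x127b60a6a9bd078bb5b17b0c4dd209e), (nat_lit 0x1e3dc6ea27fd4d1898cb2f3e77c60b7), (nat_lit 0)⟩))) (BT.node (nat_lit 2246) (BT.node (nat_lit 2245) (BT.leaf ⟨(nat_lit 3), (nat_lit 9), (nat_lit 8), (nat_lit 0x1c877a287da9b933a4aba2ebd37831c), (nat_lit 0x1082015000e7023f1c80802ceb0009e), (nat_lit 0)⟩) (BT.leaf ⟨(nat_lit 3), (nat_lit 8), (nat_lit 9), (nat_lit 0x1082015000e7023f1c80802ceb0009e), (nat_lit 0x1c877a287da9b933a4aba2ebd37831c), (nat_lit 0)⟩)) (BT.node (nat_lit 2247) (BT.leaf ⟨(nat_lit 3), (nat_lit 7), (nat_lit 9), (nat_lit 0x97b60d1995693ee95654badc07325f), (nat_lit 0x900604338801826f048f9a654206b4), (nat_lit 0)⟩) (BT.leaf ⟨(nat_lit 3), (nat_lit 9), (nat_lit 7), (nat_lit 0x900604338801826f048f9a654206b4), (nat_lit 0x97b60d1995693ee95654badc07325f), (nat_lit 0)⟩)))) (BT.node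 (nat_lit 2252) (BT.node (nat_lit 2250) (BT.node (nat_lit 2249) (BT.leaf ⟨(nat_lit 3), (nat_lit 9), (nat_lit 7), (nat_lit 0x15cdafff4b3c41088646d1a42080920), (nat_lit 0x11004f420c0197eea8738050235cc00), (nat_lit 0)⟩) (BT.leaf ⟨(nat_lit 3), (nat_lit 7), (nat_lit 9), (nat_lit 0x11004f420c0197eea8738050235cc00), (nat_lit 0x15cdafff4b3c41088646d1a42080920), (nat_lit 0)⟩)) (BT.node (nat_lit 2251) (BT.leaf ⟨(nat_lit 3), (nat_lit 9), (nat_lit 7), (nat_lit 0x5e77831ce43bdb7a2f4365bd77e287), (nat_lit 0x1a371d1042815cc80ae3772482747f4), (nat_lit 0)⟩) (BT.leaf ⟨(nat_lit 3), (nat_lit 7), (nat_lit 9), (nat_lit 0x1a371d1042815cc80ae3772482747f4), (nat_lit 0x5e77831ce43bdb7a2f4365bd77e287), (nat_lit 0)⟩))) (BT.node (nat_lit 2254) (BT.node (nat_lit 2253) (BT.leaf ⟨(nat_lit 3), (nat_lit 7), (nat_lit 9), (nat_lit 0x17e12785002044231bf3eac060e2aa9), (nat_lit 0xc71575a8bd066cf45ec98f0f705de0),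 (nat_lit 0)⟩) (BT.leaf ⟨(nat_lit 3), (nat_lit 9), (nat_lit 7), (nat_lit 0xc71575a8bd066cf45ec98f0f705de0), (nat_lit 0x17e12785002044231bf3eac060e2aa9), (nat_lit 0)⟩)) (BT.node (nat_lit 2255) (BT.leaf ⟨(nat_lit 3), (nat_lit 9), (nat_lit 3), (nat_lit 0x8400979d7e6050286e4e557e208030), (nat_lit 0x752d31c5cb0555c50d5a967d51b43d), (nat_lit 0)⟩) (BT.leaf ⟨(nat_lit 3), (nat_lit 3), (nat_lit 9), (nat_lit 0x752d31c5cb0555c50d5a967d51b43d), (nat_lit 0x8400979d7e6050286e4e557e208030), (nat_lit 0)⟩))))) (BT.node (nat_lit 2264) (BT.node (nat_lit 2260) (BT.node (nat_lit 2258) (BT.node (nat_lit 2257) (BT.leaf ⟨(nat_lit 3), (nat_lit 9), (nat_lit 7), (nat_lit 0x1c68140a0533d9ae40240407d410cbe), (nat_lit 0xcea10404fc6bd1a309ea5f000f438d), (nat_lit 0)⟩) (BT.leaf ⟨(nat_lit 3), (nat_lit 7), (nat_lit 9), (nat_lit 0xcea10404fc6bd1a309ea5f000f438d), (nat_lit 0x1c68140a0533d9ae40240407d410cbe),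 (nat_lit 0)⟩)) (BT.node (nat_lit 2259) (BT.leaf ⟨(nat_lit 2), (nat_lit 8), (nat_lit 8), (nat_lit 0x78ff195a7c4f0f05b6346d365f19bc), (nat_lit 0), (nat_lit 0)⟩) (BT.leaf ⟨(nat_lit 2), (nat_lit 8), (nat_lit 8), (nat_lit 0x1e245b979f9b74bc67ad8dce37c28cb), (nat_lit 0), (nat_lit 0)⟩))) (BT.node (nat_lit 2262) (BT.node (nat_lit 2261) (BT.leaf ⟨(nat_lit 3), (nat_lit 7), (nat_lit 9), (nat_lit 0xe58d796f6e1a8a9792765eb309693f), (nat_lit 0xf63a1693e9d9a43e746eac6c865f06), (nat_lit 0)⟩) (BT.leaf ⟨(nat_lit 3), (nat_lit 9), (nat_lit 7), (nat_lit 0xf63a1693e9d9a43e746eac6c865f06), (nat_lit 0xe58d796f6e1a8a9792765eb309693f), (nat_lit 0)⟩)) (BT.node (nat_lit 2263) (BT.leaf ⟨(nat_lit 3), (nat_lit 9), (nat_lit 7), (nat_lit 0x13cc408882aa24140080f755a0c0363), (nat_lit 0x4ba3901100bced0080300208404881), (nat_lit 0)⟩) (BT.leaf ⟨(nat_lit 3), (nat_lit 7), (nat_lit 9), (nat_lit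 0x4ba3901100bced0080300208404881), (nat_lit 0x13cc408882aa24140080f755a0c0363), (nat_lit 0)⟩)))) (BT.node (nat_lit 2268) (BT.node (nat_lit 2266) (BT.node (nat_lit 2265) (BT.leaf ⟨(nat_lit 3), (nat_lit 7), (nat_lit 9), (nat_lit 0x1c6bd6cbe0482801006044114c87821), (nat_lit 0x1e25f3ef0e7c81095c7710901002104), (nat_lit 0)⟩) (BT.leaf ⟨(nat_lit 3), (nat_lit 9), (nat_lit 7), (nat_lit 0x1e25f3ef0e7c81095c7710901002104), (nat_lit 0x1c6bd6cbe0482801006044114c87821), (nat_lit 0)⟩)) (BT.node (nat_lit 2267) (BT.leaf ⟨(nat_lit 3), (nat_lit 9), (nat_lit 7), (nat_lit 0x1b2839c728f71cf167908e2ff99ac63), (nat_lit 0xf8cad2e394ae8cde60b6c6fadf9be7), (nat_lit 0)⟩) (BT.leaf ⟨(nat_lit 3), (nat_lit 7), (nat_lit 9), (nat_lit 0xf8cad2e394ae8cde60b6c6fadf9be7), (nat_lit 0x1b2839c728f71cf167908e2ff99ac63), (nat_lit 0)⟩))) (BT.node (nat_lit 2270) (BT.node (nat_lit 2269) (BT.leaf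 ⟨(nat_lit 3), (nat_lit 9), (nat_lit 7), (nat_lit 0xcd68cdffe8fd5b49aaee9dd1bb3744), (nat_lit 0x1cec02f8cbd3d1c08c010124077a821), (nat_lit 0)⟩) (BT.leaf ⟨(nat_lit 3), (nat_lit 7), (nat_lit 9), (nat_lit 0x1cec02f8cbd3d1c08c010124077a821), (nat_lit 0xcd68cdffe8fd5b49aaee9dd1bb3744), (nat_lit 0)⟩)) (BT.node (nat_lit 2271) (BT.leaf ⟨(nat_lit 3), (nat_lit 9), (nat_lit 8), (nat_lit 0x127800a000041037a0100102020073a), (nat_lit 0x91f3806108412026f08efcfba100c), (nat_lit 0)⟩) (BT.leaf ⟨(nat_lit 3), (nat_lit 8), (nat_lit 9), (nat_lit 0x91f3806108412026f08efcfba100c), (nat_lit 0x127800a000041037a0100102020073a), (nat_lit 0)⟩)))))) (BT.node (nat_lit 2288) (BT.node (nat_lit 2280) (BT.node (nat_lit 2276) (BT.node (nat_lit 2274) (BT.node (nat_lit 2273) (BT.leaf ⟨(nat_lit 3), (nat_lit 9), (nat_lit 3), (nat_lit 0x8d8ca9c51aa75caa9f5a967532c38a), (nat_lit 0xb4bbd565e64ceb8d63a9b3eeac1ba4),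 (nat_lit 0)⟩) (BT.leaf ⟨(nat_lit 3), (nat_lit 3), (nat_lit 9), (nat_lit 0xb4bbd565e64ceb8d63a9b3eeac1ba4), (nat_lit 0x8d8ca9c51aa75caa9f5a967532c38a), (nat_lit 0)⟩)) (BT.node (nat_lit 2275) (BT.leaf ⟨(nat_lit 3), (nat_lit 9), (nat_lit 7), (nat_lit 0x50066f00888104249a048412f6005), (nat_lit 0x17e0882a902893f953f34212384879d), (nat_lit 0)⟩) (BT.leaf ⟨(nat_lit 3), (nat_lit 7), (nat_lit 9), (nat_lit 0x17e0882a902893f953f34212384879d), (nat_lit 0x50066f00888104249a048412f6005), (nat_lit 0)⟩))) (BT.node (nat_lit 2278) (BT.node (nat_lit 2277) (BT.leaf ⟨(nat_lit 3), (nat_lit 7), (nat_lit 9), (nat_lit 0x1d103e0cbf8dd9a52b35d27d38d9346), (nat_lit 0x126a4fbd813d27b60b13c4f52e4b59e), (nat_lit 0)⟩) (BT.leaf ⟨(nat_lit 3), (nat_lit 9), (nat_lit 7), (nat_lit 0x126a4fbd813d27b60b13c4f52e4b59e), (nat_lit 0x1d103e0cbf8dd9a52b35d27d38d9346), (nat_lit 0)⟩)) (BT.node (nat_lit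 2279) (BT.leaf ⟨(nat_lit 3), (nat_lit 7), (nat_lit 9), (nat_lit 0x1e43654530e6d263bc728c666eae4f3), (nat_lit 0x6551b155715c84fa9c5a9675ceac3d), (nat_lit 0)⟩) (BT.leaf ⟨(nat_lit 3), (nat_lit 9), (nat_lit 7), (nat_lit 0x6551b155715c84fa9c5a9675ceac3d), (nat_lit 0x1e43654530e6d263bc728c666eae4f3), (nat_lit 0)⟩)))) (BT.node (nat_lit 2284) (BT.node (nat_lit 2282) (BT.node (nat_lit 2281) (BT.leaf ⟨(nat_lit 3), (nat_lit 7), (nat_lit 9), (nat_lit 0x1801022104013d05ca010be901401e3), (nat_lit 0x356a59dd38a556ea9f5e423e8e89d7), (nat_lit 0)⟩) (BT.leaf ⟨(nat_lit 3), (nat_lit 9), (nat_lit 7), (nat_lit 0x356a59dd38a556ea9f5e423e8e89d7), (nat_lit 0x1801022104013d05ca010be901401e3), (nat_lit 0)⟩)) (BT.node (nat_lit 2283) (BT.leaf ⟨(nat_lit 3), (nat_lit 3), (nat_lit 9), (nat_lit 0x30120195d68143e6848e0ce8d7c844), (nat_lit 0x1636e946ee1be3fceb13f0affbc6f8c), (nat_lit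 0)⟩) (BT.leaf ⟨(nat_lit 3), (nat_lit 9), (nat_lit 3), (nat_lit 0x1636e946ee1be3fceb13f0affbc6f8c), (nat_lit 0x30120195d68143e6848e0ce8d7c844), (nat_lit 0)⟩))) (BT.node (nat_lit 2286) (BT.node (nat_lit 2285) (BT.leaf ⟨(nat_lit 3), (nat_lit 7), (nat_lit 9), (nat_lit 0x5dacf48e74952e4d69e93d27d354be), (nat_lit 0x3002904028011022bdde009003789), (nat_lit 0)⟩) (BT.leaf ⟨(nat_lit 3), (nat_lit 9), (nat_lit 7), (nat_lit 0x3002904028011022bdde009003789), (nat_lit 0x5dacf48e74952e4d69e93d27d354be), (nat_lit 0)⟩)) (BT.node (nat_lit 2287) (BT.leaf ⟨(nat_lit 3), (nat_lit 7), (nat_lit 9), (nat_lit 0x110023e78091dce8a5b00a41012789), (nat_lit 0x279c6b46801006015005e904220408), (nat_lit 0)⟩) (BT.leaf ⟨(nat_lit 3), (nat_lit 9), (nat_lit 7), (nat_lit 0x279c6b46801006015005e904220408), (nat_lit 0x110023e78091dce8a5b00a41012789), (nat_lit 0)⟩))))) (BT.node (nat_lit 2296)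 (BT.node (nat_lit 2292) (BT.node (nat_lit 2290) (BT.node (nat_lit 2289) (BT.leaf ⟨(nat_lit 3), (nat_lit 8), (nat_lit 9), (nat_lit 0x30241dd8f695c845e0df8222042b1), (nat_lit 0x152cebeefd27754eee5838af56d31d1), (nat_lit 0)⟩) (BT.leaf ⟨(nat_lit 3), (nat_lit 9), (nat_lit 8), (nat_lit 0x152cebeefd27754eee5838af56d31d1), (nat_lit 0x30241dd8f695c845e0df8222042b1), (nat_lit 0)⟩)) (BT.node (nat_lit 2291) (BT.leaf ⟨(nat_lit 3), (nat_lit 8), (nat_lit 9), (nat_lit 0x6bc48155f74b7db1a39ce8603e3084), (nat_lit 0x159527a7f4bc97c2fb70a3397d6f8e6), (nat_lit 0)⟩) (BT.leaf ⟨(nat_lit 3), (nat_lit 9), (nat_lit 8), (nat_lit 0x159527a7f4bc97c2fb70a3397d6f8e6), (nat_lit 0x6bc48155f74b7db1a39ce8603e3084), (nat_lit 0)⟩))) (BT.node (nat_lit 2294) (BT.node (nat_lit 2293) (BT.leaf ⟨(nat_lit 3), (nat_lit 9), (nat_lit 7), (nat_lit 0x9a9ec54b939df64fc1ed82e924f59e), (nat_lit 0x49f9c108c77e3ce818028aa418010),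 (nat_lit 0)⟩) (BT.leaf ⟨(nat_lit 3), (nat_lit 7), (nat_lit 9), (nat_lit 0x49f9c108c77e3ce818028aa418010), (nat_lit 0x9a9ec54b939df64fc1ed82e924f59e), (nat_lit 0)⟩)) (BT.node (nat_lit 2295) (BT.leaf ⟨(nat_lit 3), (nat_lit 9), (nat_lit 7), (nat_lit 0x1b915481438a0c09f811e54060095f8), (nat_lit 0x356a5e5887bbbf499d746c77790dd5), (nat_lit 0)⟩) (BT.leaf ⟨(nat_lit 3), (nat_lit 7), (nat_lit 9), (nat_lit 0x356a5e5887bbbf499d746c77790dd5), (nat_lit 0x1b915481438a0c09f811e54060095f8), (nat_lit 0)⟩)))) (BT.node (nat_lit 2300) (BT.node (nat_lit 2298) (BT.node (nat_lit 2297) (BT.leaf ⟨(nat_lit 3), (nat_lit 9), (nat_lit 7), (nat_lit 0xae3138b9576ee6ffabd5628e5b6396), (nat_lit 0xcea01410cbebd20240171b4be405d5), (nat_lit 0)⟩) (BT.leaf ⟨(nat_lit 3), (nat_lit 7), (nat_lit 9), (nat_lit 0xcea01410cbebd20240171b4be405d5), (nat_lit 0xae3138b9576ee6ffabd5628e5b6396), (nat_lit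 0)⟩)) (BT.node (nat_lit 2299) (BT.leaf ⟨(nat_lit 3), (nat_lit 9), (nat_lit 7), (nat_lit 0x14032f8733d1802eaaf48114be00c00), (nat_lit 0xe92c1f3a39d8579973b693c6b9c7ba), (nat_lit 0)⟩) (BT.leaf ⟨(nat_lit 3), (nat_lit 7), (nat_lit 9), (nat_lit 0xe92c1f3a39d8579973b693c6b9c7ba), (nat_lit 0x14032f8733d1802eaaf48114be00c00), (nat_lit 0)⟩))) (BT.node (nat_lit 2302) (BT.node (nat_lit 2301) (BT.leaf ⟨(nat_lit 3), (nat_lit 7), (nat_lit 9), (nat_lit 0x127b7a7460020110012f010102f425f), (nat_lit 0x12695e80c408053c4884049cf882477), (nat_lit 0)⟩) (BT.leaf ⟨(nat_lit 3), (nat_lit 9), (nat_lit 7), (nat_lit 0x12695e80c408053c4884049cf882477), (nat_lit 0x127b7a7460020110012f010102f425f), (nat_lit 0)⟩)) (BT.node (nat_lit 2303) (BT.leaf ⟨(nat_lit 3), (nat_lit 8), (nat_lit 8), (nat_lit 0x172263e0bbd57a6f65e8f6f78132fe8), (nat_lit 0x182cbb5c8bd466ef67e8f6f3a1575e8), (nat_lit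 0)⟩) (BT.leaf ⟨(nat_lit 3), (nat_lit 9), (nat_lit 7), (nat_lit 0x8802fa02402c012053a3c68127a7e8), (nat_lit 0xa4e78f02401b7b00308408a38882), (nat_lit 0)⟩)))))))
noncomputable def cP2240 : BT Pf := (BT.node (nat_lit 2272) (BT.node (nat_lit 2256) (BT.node (nat_lit 2248) (BT.node (nat_lit 2244) (BT.node (nat_lit 2242) (BT.node (nat_lit 2241) (BT.leaf (.rel (nat_lit 1460) (nat_lit 0) [(nat_lit 259), (nat_lit 751)] [⟨(nat_lit 2189), [], [(nat_lit 166), (nat_lit 399)]⟩])) (BT.leaf (.inv (nat_lit 2240)))) (BT.node (nat_lit 2243) (BT.leaf (.rel (nat_lit 2207) (nat_lit 3) [(nat_lit 783), (nat_lit 586)] [⟨(nat_lit 1374), [(nat_lit 935)], [(nat_lit 394), (nat_lit 533)]⟩, ⟨(nat_lit 1712), [(nat_lit 775)], [(nat_lit 726), (nat_lit 375)]⟩])) (BT.leaf (.inv (nat_lit 2242))))) (BT.node (nat_lit 2246) (BT.node (nat_lit 2245) (BT.leaf (.rel (nat_lit 1951) (nat_lit 1)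 [(nat_lit 871), (nat_lit 1070)] [⟨(nat_lit 2219), [], [(nat_lit 900), (nat_lit 676)]⟩])) (BT.leaf (.inv (nat_lit 2244)))) (BT.node (nat_lit 2247) (BT.leaf (.rel (nat_lit 2207) (nat_lit 5) [(nat_lit 266), (nat_lit 90)] [⟨(nat_lit 1274), [(nat_lit 775)], [(nat_lit 539), (nat_lit 813)]⟩, ⟨(nat_lit 1428), [], [(nat_lit 402), (nat_lit 225)]⟩])) (BT.leaf (.inv (nat_lit 2246)))))) (BT.node (nat_lit 2252) (BT.node (nat_lit 2250) (BT.node (nat_lit 2249) (BT.leaf (.rel (nat_lit 1616) (nat_lit 5) [(nat_lit 461), (nat_lit 1140)] [⟨(nat_lit 1431), [(nat_lit 775)], [(nat_lit 404), (nat_lit 985)]⟩, ⟨(nat_lit 2201), [(nat_lit 935)], [(nat_lit 237), (nat_lit 499)]⟩])) (BT.leaf (.inv (nat_lit 2248)))) (BT.node (nat_lit 2251) (BT.leaf (.rel (nat_lit 1382) (nat_lit 5) [(nat_lit 1012), (nat_lit 693)] [⟨(nat_lit 884), [(nat_lit 775)], [(nat_lit 513), (nat_lit 236)]⟩, ⟨(nat_lit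 2190), [(nat_lit 881)], [(nat_lit 97), (nat_lit 1211)]⟩])) (BT.leaf (.inv (nat_lit 2250))))) (BT.node (nat_lit 2254) (BT.node (nat_lit 2253) (BT.leaf (.rel (nat_lit 2168) (nat_lit 3) [(nat_lit 487), (nat_lit 475)] [⟨(nat_lit 1040), [(nat_lit 678)], [(nat_lit 298), (nat_lit 162)]⟩, ⟨(nat_lit 1804), [(nat_lit 935)], [(nat_lit 522), (nat_lit 1203)]⟩])) (BT.leaf (.inv (nat_lit 2252)))) (BT.node (nat_lit 2255) (BT.leaf (.rel (nat_lit 1237) (nat_lit 3) [(nat_lit 285), (nat_lit 1100)] [⟨(nat_lit 1730), [(nat_lit 935)], [(nat_lit 911), (nat_lit 778)]⟩, ⟨(nat_lit 2241), [(nat_lit 775)], [(nat_lit 493), (nat_lit 426)]⟩])) (BT.leaf (.inv (nat_lit 2254))))))) (BT.node (nat_lit 2264) (BT.node (nat_lit 2260) (BT.node (nat_lit 2258) (BT.node (nat_lit 2257) (BT.leaf (.rel (nat_lit 2117) (nat_lit 0) [(nat_lit 2124), (nat_lit 223)] [⟨(nat_lit 2245), [(nat_lit 1921)],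 [(nat_lit 538), (nat_lit 712)]⟩])) (BT.leaf (.inv (nat_lit 2256)))) (BT.node (nat_lit 2259) (BT.leaf (.emul [(nat_lit 1870), (nat_lit 1822)])) (BT.leaf (.emul [(nat_lit 1883), (nat_lit 2258)])))) (BT.node (nat_lit 2262) (BT.node (nat_lit 2261) (BT.leaf (.rel (nat_lit 2218) (nat_lit 2) [(nat_lit 129), (nat_lit 263)] [⟨(nat_lit 2107), [], [(nat_lit 151), (nat_lit 969)]⟩, ⟨(nat_lit 1874), [(nat_lit 2259)], [(nat_lit 387), (nat_lit 681)]⟩])) (BT.leaf (.inv (nat_lit 2260)))) (BT.node (nat_lit 2263) (BT.leaf (.rel (nat_lit 1495) (nat_lit 0) [(nat_lit 1087), (nat_lit 822)] [⟨(nat_lit 2252), [], [(nat_lit 521), (nat_lit 190)]⟩])) (BT.leaf (.inv (nat_lit 2262)))))) (BT.node (nat_lit 2268) (BT.node (nat_lit 2266) (BT.node (nat_lit 2265) (BT.leaf (.rel (nat_lit 2203) (nat_lit 2) [(nat_lit 2124), (nat_lit 777)] [⟨(nat_lit 1552), [(nat_lit 775)], [(nat_lit 1218),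 (nat_lit 555)]⟩, ⟨(nat_lit 1500), [(nat_lit 775)], [(nat_lit 539), (nat_lit 88)]⟩])) (BT.leaf (.inv (nat_lit 2264)))) (BT.node (nat_lit 2267) (BT.leaf (.rel (nat_lit 1819) (nat_lit 0) [(nat_lit 1173), (nat_lit 711)] [⟨(nat_lit 2211), [(nat_lit 935)], [(nat_lit 254), (nat_lit 0)]⟩])) (BT.leaf (.inv (nat_lit 2266))))) (BT.node (nat_lit 2270) (BT.node (nat_lit 2269) (BT.leaf (.rel (nat_lit 1473) (nat_lit 4) [(nat_lit 239), (nat_lit 1192)] [⟨(nat_lit 1889), [(nat_lit 935)], [(nat_lit 883), (nat_lit 126)]⟩, ⟨(nat_lit 2174), [(nat_lit 2210)], [(nat_lit 466), (nat_lit 1053)]⟩])) (BT.leaf (.inv (nat_lit 2268)))) (BT.node (nat_lit 2271) (BT.leaf (.rel (nat_lit 2151) (nat_lit 2) [(nat_lit 111), (nat_lit 898)] [⟨(nat_lit 2146), [(nat_lit 2223)], [(nat_lit 1099), (nat_lit 253)]⟩, ⟨(nat_lit 2174), [(nat_lit 2210)], [(nat_lit 166), (nat_lit 1939)]⟩])) (BT.leaf (.inv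 (nat_lit 2270)))))))) (BT.node (nat_lit 2288) (BT.node (nat_lit 2280) (BT.node (nat_lit 2276) (BT.node (nat_lit 2274) (BT.node (nat_lit 2273) (BT.leaf (.rel (nat_lit 1020) (nat_lit 0) [(nat_lit 990), (nat_lit 604)] [⟨(nat_lit 2231), [], [(nat_lit 273), (nat_lit 693)]⟩])) (BT.leaf (.inv (nat_lit 2272)))) (BT.node (nat_lit 2275) (BT.leaf (.rel (nat_lit 1691) (nat_lit 5) [(nat_lit 212), (nat_lit 1537)] [⟨(nat_lit 1494), [(nat_lit 935)], [(nat_lit 95), (nat_lit 814)]⟩, ⟨(nat_lit 2183), [(nat_lit 775)], [(nat_lit 227), (nat_lit 777)]⟩])) (BT.leaf (.inv (nat_lit 2274))))) (BT.node (nat_lit 2278) (BT.node (nat_lit 2277) (BT.leaf (.rel (nat_lit 2198) (nat_lit 0) [(nat_lit 570), (nat_lit 477)] [⟨(nat_lit 940), [(nat_lit 935)], [(nat_lit 285), (nat_lit 1053)]⟩])) (BT.leaf (.inv (nat_lit 2276)))) (BT.node (nat_lit 2279) (BT.leaf (.rel (nat_lit 2200) (nat_lit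 0) [(nat_lit 493), (nat_lit 385)] [⟨(nat_lit 1726), [(nat_lit 775)], [(nat_lit 1195), (nat_lit 475)]⟩])) (BT.leaf (.inv (nat_lit 2278)))))) (BT.node (nat_lit 2284) (BT.node (nat_lit 2282) (BT.node (nat_lit 2281) (BT.leaf (.rel (nat_lit 2254) (nat_lit 1) [(nat_lit 43), (nat_lit 1083)] [⟨(nat_lit 1086), [(nat_lit 444)], [(nat_lit 570), (nat_lit 449)]⟩])) (BT.leaf (.inv (nat_lit 2280)))) (BT.node (nat_lit 2283) (BT.leaf (.rel (nat_lit 2248) (nat_lit 1) [(nat_lit 695), (nat_lit 390)] [⟨(nat_lit 1330), [(nat_lit 935)], [(nat_lit 256), (nat_lit 738)]⟩])) (BT.leaf (.inv (nat_lit 2282))))) (BT.node (nat_lit 2286) (BT.node (nat_lit 2285) (BT.leaf (.rel (nat_lit 2224) (nat_lit 0) [(nat_lit 1162), (nat_lit 333)] [⟨(nat_lit 1692), [], [(nat_lit 446), (nat_lit 1009)]⟩])) (BT.leaf (.inv (nat_lit 2284)))) (BT.node (nat_lit 2287) (BT.leaf (.rel (nat_lit 2283) (nat_lit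 4) [(nat_lit 741), (nat_lit 901)] [⟨(nat_lit 1176), [(nat_lit 457)], [(nat_lit 1218), (nat_lit 822)]⟩, ⟨(nat_lit 1773), [], [(nat_lit 93), (nat_lit 506)]⟩])) (BT.leaf (.inv (nat_lit 2286))))))) (BT.node (nat_lit 2296) (BT.node (nat_lit 2292) (BT.node (nat_lit 2290) (BT.node (nat_lit 2289) (BT.leaf (.rel (nat_lit 2177) (nat_lit 5) [(nat_lit 256), (nat_lit 682)] [⟨(nat_lit 2063), [(nat_lit 1922)], [(nat_lit 484), (nat_lit 1871)]⟩, ⟨(nat_lit 1936), [], [(nat_lit 261), (nat_lit 1101)]⟩])) (BT.leaf (.inv (nat_lit 2288)))) (BT.node (nat_lit 2291) (BT.leaf (.rel (nat_lit 2171) (nat_lit 4) [(nat_lit 784), (nat_lit 234)] [⟨(nat_lit 1045), [(nat_lit 863)], [(nat_lit 1218), (nat_lit 1204)]⟩, ⟨(nat_lit 1944), [(nat_lit 935)], [(nat_lit 815), (nat_lit 1849)]⟩])) (BT.leaf (.inv (nat_lit 2290))))) (BT.node (nat_lit 2294) (BT.node (nat_lit 2293) (BT.leaf (.rel (nat_lit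 1377) (nat_lit 2) [(nat_lit 350), (nat_lit 390)] [⟨(nat_lit 1274), [], [(nat_lit 428), (nat_lit 459)]⟩, ⟨(nat_lit 2183), [(nat_lit 775)], [(nat_lit 164), (nat_lit 578)]⟩])) (BT.leaf (.inv (nat_lit 2292)))) (BT.node (nat_lit 2295) (BT.leaf (.rel (nat_lit 1350) (nat_lit 5) [(nat_lit 193), (nat_lit 1472)] [⟨(nat_lit 1122), [(nat_lit 935)], [(nat_lit 538), (nat_lit 1369)]⟩, ⟨(nat_lit 2280), [], [(nat_lit 451), (nat_lit 1017)]⟩])) (BT.leaf (.inv (nat_lit 2294)))))) (BT.node (nat_lit 2300) (BT.node (nat_lit 2298) (BT.node (nat_lit 2297) (BT.leaf (.rel (nat_lit 2130) (nat_lit 3) [(nat_lit 1099), (nat_lit 1369)] [⟨(nat_lit 1993), [(nat_lit 1846)], [(nat_lit 690), (nat_lit 711)]⟩, ⟨(nat_lit 2245), [], [(nat_lit 781), (nat_lit 190)]⟩])) (BT.leaf (.inv (nat_lit 2296)))) (BT.node (nat_lit 2299) (BT.leaf (.rel (nat_lit 1286) (nat_lit 1) [(nat_lit 1106), (nat_lit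 646)] [⟨(nat_lit 2197), [], [(nat_lit 957), (nat_lit 880)]⟩])) (BT.leaf (.inv (nat_lit 2298))))) (BT.node (nat_lit 2302) (BT.node (nat_lit 2301) (BT.leaf (.rel (nat_lit 2168) (nat_lit 4) [(nat_lit 618), (nat_lit 605)] [⟨(nat_lit 1040), [(nat_lit 767)], [(nat_lit 392), (nat_lit 584)]⟩, ⟨(nat_lit 1441), [(nat_lit 935)], [(nat_lit 296), (nat_lit 870)]⟩])) (BT.leaf (.inv (nat_lit 2300)))) (BT.node (nat_lit 2303) (BT.leaf (.rel (nat_lit 2162) (nat_lit 0) [(nat_lit 177), (nat_lit 555)] [⟨(nat_lit 2133), [], [(nat_lit 941), (nat_lit 170)]⟩])) (BT.leaf (.rel (nat_lit 1691) (nat_lit 0) [(nat_lit 1195), (nat_lit 1018)] [⟨(nat_lit 2213), [(nat_lit 775)], [(nat_lit 815), (nat_lit 870)]⟩]))))))))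
noncomputable def cF2304 : BT Fc := (BT.node (nat_lit 2336) (BT.node (nat_lit 2320) (BT.node (nat_lit 2312) (BT.node (nat_lit 2308) (BT.node (nat_lit 2306) (BT.node (nat_lit 2305) (BT.leaf ⟨(nat_lit 3), (nat_lit 7), (nat_lit 9), (nat_lit 0xa4e78f02401b7b00308408a38882), (nat_lit 0x8802fa02402c012053a3c68127a7e8), (nat_lit 0)⟩) (BT.leaf ⟨(nat_lit 3), (nat_lit 9), (nat_lit 7), (nat_lit 0x17dafd65ba497b167b7d832ad27b8a), (nat_lit 0x501afe3a2215ccc0108241fd346ae3), (nat_lit 0)⟩)) (BT.node (nat_lit 2307) (BT.leaf ⟨(nat_lit 3), (nat_lit 7), (nat_lit 9), (nat_lit 0x501afe3a2215ccc0108241fd346ae3), (nat_lit 0x17dafd65ba497b167b7d832ad27b8a), (nat_lit 0)⟩) (BT.leaf ⟨(nat_lit 3), (nat_lit 7), (nat_lit 9), (nat_lit 0x747909f5715960caa36b4c554eae93), (nat_lit 0x40821744bd4f852eabb025e3f7b471), (nat_lit 0)⟩))) (BT.node (nat_lit 2310) (BT.node (nat_lit 2309) (BT.leaf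 ⟨(nat_lit 3), (nat_lit 9), (nat_lit 7), (nat_lit 0x40821744bd4f852eabb025e3f7b471), (nat_lit 0x747909f5715960caa36b4c554eae93), (nat_lit 0)⟩) (BT.leaf ⟨(nat_lit 3), (nat_lit 9), (nat_lit 7), (nat_lit 0x65460440d68503e6842b505bfbd060), (nat_lit 0x10a19848d68113bd3a3180654204de), (nat_lit 0)⟩)) (BT.node (nat_lit 2311) (BT.leaf ⟨(nat_lit 3), (nat_lit 7), (nat_lit 9), (nat_lit 0x10a19848d68113bd3a3180654204de), (nat_lit 0x65460440d68503e6842b505bfbd060), (nat_lit 0)⟩) (BT.leaf ⟨(nat_lit 2), (nat_lit 9), (nat_lit 9), (nat_lit 0x14bf3482f35fa89cb12dab9f6c9f92e), (nat_lit 0), (nat_lit 0)⟩)))) (BT.node (nat_lit 2316) (BT.node (nat_lit 2314) (BT.node (nat_lit 2313) (BT.leaf ⟨(nat_lit 3), (nat_lit 9), (nat_lit 3), (nat_lit 0xaed5c2f9552af6c1a396d94d365751), (nat_lit 0x4afa1024de0016020048ef26b9f014), (nat_lit 0)⟩) (BT.leaf ⟨(nat_lit 3), (nat_lit 3), (nat_lit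 9), (nat_lit 0x4afa1024de0016020048ef26b9f014), (nat_lit 0xaed5c2f9552af6c1a396d94d365751), (nat_lit 0)⟩)) (BT.node (nat_lit 2315) (BT.leaf ⟨(nat_lit 3), (nat_lit 7), (nat_lit 9), (nat_lit 0x300b7f7a2816a26f195f9a12219850), (nat_lit 0xac404408110029043eb091d3814127), (nat_lit 0)⟩) (BT.leaf ⟨(nat_lit 3), (nat_lit 9), (nat_lit 7), (nat_lit 0xac404408110029043eb091d3814127), (nat_lit 0x300b7f7a2816a26f195f9a12219850), (nat_lit 0)⟩))) (BT.node (nat_lit 2318) (BT.node (nat_lit 2317) (BT.leaf ⟨(nat_lit 3), (nat_lit 7), (nat_lit 9), (nat_lit 0x808115ea4bbbd8051d7e7004896806), (nat_lit 0x1cca3d80cf0aac404108014fad2befc), (nat_lit 0)⟩) (BT.leaf ⟨(nat_lit 3), (nat_lit 9), (nat_lit 7), (nat_lit 0x1cca3d80cf0aac404108014fad2befc), (nat_lit 0x808115ea4bbbd8051d7e7004896806), (nat_lit 0)⟩)) (BT.node (nat_lit 2319) (BT.leaf ⟨(nat_lit 3), (nat_lit 8), (nat_lit 9),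 (nat_lit 0x15cd43b49ce71ca3deca8e71c629f90), (nat_lit 0x84120a0f5a7d43071a53243d104be), (nat_lit 0)⟩) (BT.leaf ⟨(nat_lit 3), (nat_lit 9), (nat_lit 8), (nat_lit 0x84120a0f5a7d43071a53243d104be), (nat_lit 0x15cd43b49ce71ca3deca8e71c629f90), (nat_lit 0)⟩))))) (BT.node (nat_lit 2328) (BT.node (nat_lit 2324) (BT.node (nat_lit 2322) (BT.node (nat_lit 2321) (BT.leaf ⟨(nat_lit 3), (nat_lit 8), (nat_lit 9), (nat_lit 0x18b1ff0738f718e3899bf211ceae6ca), (nat_lit 0x1e152b80803042093de011003024208), (nat_lit 0)⟩) (BT.leaf ⟨(nat_lit 3), (nat_lit 9), (nat_lit 8), (nat_lit 0x1e152b80803042093de011003024208), (nat_lit 0x18b1ff0738f718e3899bf211ceae6ca), (nat_lit 0)⟩)) (BT.node (nat_lit 2323) (BT.leaf ⟨(nat_lit 3), (nat_lit 7), (nat_lit 9), (nat_lit 0x241b1fbace82804408083c6bd40081), (nat_lit 0x744ebe93e42f546a9f546ce29b61dd), (nat_lit 0)⟩) (BT.leaf ⟨(nat_lit 3), (nat_lit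 9), (nat_lit 7), (nat_lit 0x744ebe93e42f546a9f546ce29b61dd), (nat_lit 0x241b1fbace82804408083c6bd40081), (nat_lit 0)⟩))) (BT.node (nat_lit 2326) (BT.node (nat_lit 2325) (BT.leaf ⟨(nat_lit 3), (nat_lit 7), (nat_lit 9), (nat_lit 0x1a4f90b8abaa8d8ea8d57ab0f6d31d4), (nat_lit 0x12584400a8111ec9380c051d3b7e732), (nat_lit 0)⟩) (BT.leaf ⟨(nat_lit 3), (nat_lit 9), (nat_lit 7), (nat_lit 0x12584400a8111ec9380c051d3b7e732), (nat_lit 0x1a4f90b8abaa8d8ea8d57ab0f6d31d4), (nat_lit 0)⟩)) (BT.node (nat_lit 2327) (BT.leaf ⟨(nat_lit 3), (nat_lit 9), (nat_lit 7), (nat_lit 0x9755d8063ae04841202decf864e022), (nat_lit 0x27a80408fc70097a38d675102eac20), (nat_lit 0)⟩) (BT.leaf ⟨(nat_lit 3), (nat_lit 7), (nat_lit 9), (nat_lit 0x27a80408fc70097a38d675102eac20), (nat_lit 0x9755d8063ae04841202decf864e022), (nat_lit 0)⟩)))) (BT.node (nat_lit 2332) (BT.node (nat_lit 2330) (BT.node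 (nat_lit 2329) (BT.leaf ⟨(nat_lit 3), (nat_lit 7), (nat_lit 9), (nat_lit 0x180240440d73042804028030121033a), (nat_lit 0x210c0155901f18440a01819d140568), (nat_lit 0)⟩) (BT.leaf ⟨(nat_lit 3), (nat_lit 9), (nat_lit 7), (nat_lit 0x210c0155901f18440a01819d140568), (nat_lit 0x180240440d73042804028030121033a), (nat_lit 0)⟩)) (BT.node (nat_lit 2331) (BT.leaf ⟨(nat_lit 3), (nat_lit 9), (nat_lit 3), (nat_lit 0xe37510b7f9be33c7a65b1bc3465e8d), (nat_lit 0x5be9792b98e43fed92e24f6c497e15), (nat_lit 0)⟩) (BT.leaf ⟨(nat_lit 3), (nat_lit 3), (nat_lit 9), (nat_lit 0x5be9792b98e43fed92e24f6c497e15), (nat_lit 0xe37510b7f9be33c7a65b1bc3465e8d), (nat_lit 0)⟩))) (BT.node (nat_lit 2334) (BT.node (nat_lit 2333) (BT.leaf ⟨(nat_lit 3), (nat_lit 9), (nat_lit 7), (nat_lit 0x9035a1402de10ad4041f9a14219f06), (nat_lit 0x1d39ec744e0d91a8cf42ecdd183e546), (nat_lit 0)⟩) (BT.leaf ⟨(nat_lit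 3), (nat_lit 7), (nat_lit 9), (nat_lit 0x1d39ec744e0d91a8cf42ecdd183e546), (nat_lit 0x9035a1402de10ad4041f9a14219f06), (nat_lit 0)⟩)) (BT.node (nat_lit 2335) (BT.leaf ⟨(nat_lit 3), (nat_lit 9), (nat_lit 7), (nat_lit 0x8127a3d5ce617d0169e1729010032f), (nat_lit 0x16a18e751b917a6f05f85a499663976), (nat_lit 0)⟩) (BT.leaf ⟨(nat_lit 3), (nat_lit 7), (nat_lit 9), (nat_lit 0x16a18e751b917a6f05f85a499663976), (nat_lit 0x8127a3d5ce617d0169e1729010032f), (nat_lit 0)⟩)))))) (BT.node (nat_lit 2352) (BT.node (nat_lit 2344) (BT.node (nat_lit 2340) (BT.node (nat_lit 2338) (BT.node (nat_lit 2337) (BT.leaf ⟨(nat_lit 3), (nat_lit 7), (nat_lit 9), (nat_lit 0x4106f45728024f002e7500080010), (nat_lit 0x143ab41006118c081c50228439513f), (nat_lit 0)⟩) (BT.leaf ⟨(nat_lit 3), (nat_lit 9), (nat_lit 7), (nat_lit 0x143ab41006118c081c50228439513f), (nat_lit 0x4106f45728024f002e7500080010),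 (nat_lit 0)⟩)) (BT.node (nat_lit 2339) (BT.leaf ⟨(nat_lit 2), (nat_lit 5), (nat_lit 5), (nat_lit 0x8db499d7e4396377b6c3a2e28fa9dd), (nat_lit 0), (nat_lit 0)⟩) (BT.leaf ⟨(nat_lit 3), (nat_lit 9), (nat_lit 7), (nat_lit 0x5da741e8638ab96956833731fdbc3d), (nat_lit 0xb7fdba4f4bf4652dec10be87d2f25d), (nat_lit 0)⟩))) (BT.node (nat_lit 2342) (BT.node (nat_lit 2341) (BT.leaf ⟨(nat_lit 3), (nat_lit 7), (nat_lit 9), (nat_lit 0xb7fdba4f4bf4652dec10be87d2f25d), (nat_lit 0x5da741e8638ab96956833731fdbc3d), (nat_lit 0)⟩) (BT.leaf ⟨(nat_lit 3), (nat_lit 9), (nat_lit 7), (nat_lit 0xb326cae346c78df5e0b7c4f8e8bf7d), (nat_lit 0x145e3715af20f9e52ba37c4fad664d9), (nat_lit 0)⟩)) (BT.node (nat_lit 2343) (BT.leaf ⟨(nat_lit 3), (nat_lit 7), (nat_lit 9), (nat_lit 0x145e3715af20f9e52ba37c4fad664d9), (nat_lit 0xb326cae346c78df5e0b7c4f8e8bf7d), (nat_lit 0)⟩) (BT.leaf ⟨(nat_lit 3),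 (nat_lit 7), (nat_lit 9), (nat_lit 0xb8df0ca57d7367c82cca2e569f3be2), (nat_lit 0x71749e586d9c84e8b8a7aa654aa9d7), (nat_lit 0)⟩)))) (BT.node (nat_lit 2348) (BT.node (nat_lit 2346) (BT.node (nat_lit 2345) (BT.leaf ⟨(nat_lit 3), (nat_lit 9), (nat_lit 7), (nat_lit 0x71749e586d9c84e8b8a7aa654aa9d7), (nat_lit 0xb8df0ca57d7367c82cca2e569f3be2), (nat_lit 0)⟩) (BT.leaf ⟨(nat_lit 3), (nat_lit 9), (nat_lit 7), (nat_lit 0x1d1b837c6eccd1ba3b3594bd5aff8cb), (nat_lit 0x1f6e7a1ce2f313790e745e9bf35a287), (nat_lit 0)⟩)) (BT.node (nat_lit 2347) (BT.leaf ⟨(nat_lit 3), (nat_lit 7), (nat_lit 9), (nat_lit 0x1f6e7a1ce2f313790e745e9bf35a287), (nat_lit 0x1d1b837c6eccd1ba3b3594bd5aff8cb), (nat_lit 0)⟩) (BT.leaf ⟨(nat_lit 3), (nat_lit 9), (nat_lit 7), (nat_lit 0xa029d208c00812c6a006019cd0805f), (nat_lit 0x74749a363aedb0ea43d3ba754cab8a), (nat_lit 0)⟩))) (BT.node (nat_lit 2350)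 (BT.node (nat_lit 2349) (BT.leaf ⟨(nat_lit 3), (nat_lit 7), (nat_lit 9), (nat_lit 0x74749a363aedb0ea43d3ba754cab8a), (nat_lit 0xa029d208c00812c6a006019cd0805f), (nat_lit 0)⟩) (BT.leaf ⟨(nat_lit 3), (nat_lit 8), (nat_lit 9), (nat_lit 0x93b32200c1723d6a7f04008850420), (nat_lit 0x127aa5cbe91da79ec59e2ed89f60a6a), (nat_lit 0)⟩)) (BT.node (nat_lit 2351) (BT.leaf ⟨(nat_lit 3), (nat_lit 9), (nat_lit 8), (nat_lit 0x127aa5cbe91da79ec59e2ed89f60a6a), (nat_lit 0x93b32200c1723d6a7f04008850420), (nat_lit 0)⟩) (BT.leaf ⟨(nat_lit 3), (nat_lit 9), (nat_lit 7), (nat_lit 0x1838d27ff5a482e40a053208610020), (nat_lit 0x151b8366966af63a15ff68dd1865aae), (nat_lit 0)⟩))))) (BT.node (nat_lit 2360) (BT.node (nat_lit 2356) (BT.node (nat_lit 2354) (BT.node (nat_lit 2353) (BT.leaf ⟨(nat_lit 3), (nat_lit 7), (nat_lit 9), (nat_lit 0x151b8366966af63a15ff68dd1865aae), (nat_lit 0x1838d27ff5a482e40a053208610020),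 (nat_lit 0)⟩) (BT.leaf ⟨(nat_lit 3), (nat_lit 7), (nat_lit 9), (nat_lit 0x13679973a16fce03e2d2e54d27dd73b), (nat_lit 0x40400ef58029795c1d493e10401811), (nat_lit 0)⟩)) (BT.node (nat_lit 2355) (BT.leaf ⟨(nat_lit 3), (nat_lit 9), (nat_lit 7), (nat_lit 0x40400ef58029795c1d493e10401811), (nat_lit 0x13679973a16fce03e2d2e54d27dd73b), (nat_lit 0)⟩) (BT.leaf ⟨(nat_lit 3), (nat_lit 9), (nat_lit 7), (nat_lit 0x80010011004bf9d5e808040004200), (nat_lit 0x1df60f31397d6c5ec48ec4fa7acf49a), (nat_lit 0)⟩))) (BT.node (nat_lit 2358) (BT.node (nat_lit 2357) (BT.leaf ⟨(nat_lit 3), (nat_lit 7), (nat_lit 9), (nat_lit 0x1df60f31397d6c5ec48ec4fa7acf49a), (nat_lit 0x80010011004bf9d5e808040004200), (nat_lit 0)⟩) (BT.leaf ⟨(nat_lit 2), (nat_lit 8), (nat_lit 8), (nat_lit 0xf56eab6c32ae28e2e9346dbbcee9f5), (nat_lit 0), (nat_lit 0)⟩)) (BT.node (nat_lit 2359) (BT.leaf ⟨(nat_lit 3),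 (nat_lit 7), (nat_lit 9), (nat_lit 0xbe5dceca72c8e62695a57aaa54cab1), (nat_lit 0x1b537aefc2f2bd226eb46399d37b7db), (nat_lit 0)⟩) (BT.leaf ⟨(nat_lit 3), (nat_lit 9), (nat_lit 7), (nat_lit 0x1b537aefc2f2bd226eb46399d37b7db), (nat_lit 0xbe5dceca72c8e62695a57aaa54cab1), (nat_lit 0)⟩)))) (BT.node (nat_lit 2364) (BT.node (nat_lit 2362) (BT.node (nat_lit 2361) (BT.leaf ⟨(nat_lit 3), (nat_lit 9), (nat_lit 8), (nat_lit 0x1bd37e6f6364c70bcef09e9f6e26a87), (nat_lit 0x17a98e751bf17a1574e8bd35a2f0176), (nat_lit 0)⟩) (BT.leaf ⟨(nat_lit 3), (nat_lit 8), (nat_lit 9), (nat_lit 0x17a98e751bf17a1574e8bd35a2f0176), (nat_lit 0x1bd37e6f6364c70bcef09e9f6e26a87), (nat_lit 0)⟩)) (BT.node (nat_lit 2363) (BT.leaf ⟨(nat_lit 3), (nat_lit 9), (nat_lit 9), (nat_lit 0x152e6f627efb6c74f4be934c4ecf3d8), (nat_lit 0x180201400841ae59d480880bd20809e), (nat_lit 0)⟩) (BT.leaf ⟨(nat_lit 3),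 (nat_lit 9), (nat_lit 9), (nat_lit 0x180201400841ae59d480880bd20809e), (nat_lit 0x152e6f627efb6c74f4be934c4ecf3d8), (nat_lit 0)⟩))) (BT.node (nat_lit 2366) (BT.node (nat_lit 2365) (BT.leaf ⟨(nat_lit 3), (nat_lit 9), (nat_lit 8), (nat_lit 0x1b2a79873ae6cd631bfe1dbe41a4c77), (nat_lit 0x75dea8fa3ba7d4aa9d138ba4c6ada6), (nat_lit 0)⟩) (BT.leaf ⟨(nat_lit 3), (nat_lit 8), (nat_lit 9), (nat_lit 0x75dea8fa3ba7d4aa9d138ba4c6ada6), (nat_lit 0x1b2a79873ae6cd631bfe1dbe41a4c77), (nat_lit 0)⟩)) (BT.node (nat_lit 2367) (BT.leaf ⟨(nat_lit 3), (nat_lit 7), (nat_lit 9), (nat_lit 0x11377a6f0a2fbd543e74365ad37e179), (nat_lit 0x9ffd686078608b6a5c806043e5f766), (nat_lit 0)⟩) (BT.leaf ⟨(nat_lit 3), (nat_lit 9), (nat_lit 7), (nat_lit 0x9ffd686078608b6a5c806043e5f766), (nat_lit 0x11377a6f0a2fbd543e74365ad37e179), (nat_lit 0)⟩)))))))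
noncomputable def cP2304 : BT Pf := (BT.node (nat_lit 2336) (BT.node (nat_lit 2320) (BT.node (nat_lit 2312) (BT.node (nat_lit 2308) (BT.node (nat_lit 2306) (BT.node (nat_lit 2305) (BT.leaf (.inv (nat_lit 2303))) (BT.leaf (.rel (nat_lit 1181) (nat_lit 1) [(nat_lit 493), (nat_lit 293)] [⟨(nat_lit 2206), [(nat_lit 935)], [(nat_lit 492), (nat_lit 813)]⟩]))) (BT.node (nat_lit 2307) (BT.leaf (.inv (nat_lit 2305))) (BT.leaf (.rel (nat_lit 2198) (nat_lit 0) [(nat_lit 207), (nat_lit 559)] [⟨(nat_lit 1240), [], [(nat_lit 911), (nat_lit 814)]⟩])))) (BT.node (nat_lit 2310) (BT.node (nat_lit 2309) (BT.leaf (.inv (nat_lit 2307))) (BT.leaf (.rel (nat_lit 1790) (nat_lit 0) [(nat_lit 164), (nat_lit 1001)] [⟨(nat_lit 2278), [(nat_lit 775)], [(nat_lit 468), (nat_lit 127)]⟩]))) (BT.node (nat_lit 2311) (BT.leaf (.inv (nat_lit 2309))) (BT.leaf (.emul [(nat_lit 2237), (nat_lit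 2167)]))))) (BT.node (nat_lit 2316) (BT.node (nat_lit 2314) (BT.node (nat_lit 2313) (BT.leaf (.rel (nat_lit 2217) (nat_lit 4) [(nat_lit 690), (nat_lit 379)] [⟨(nat_lit 2205), [(nat_lit 2311)], [(nat_lit 631), (nat_lit 205)]⟩, ⟨(nat_lit 2219), [(nat_lit 935)], [(nat_lit 255), (nat_lit 737)]⟩])) (BT.leaf (.inv (nat_lit 2312)))) (BT.node (nat_lit 2315) (BT.leaf (.rel (nat_lit 2227) (nat_lit 0) [(nat_lit 461), (nat_lit 529)] [⟨(nat_lit 1461), [(nat_lit 775)], [(nat_lit 335), (nat_lit 529)]⟩])) (BT.leaf (.inv (nat_lit 2314))))) (BT.node (nat_lit 2318) (BT.node (nat_lit 2317) (BT.leaf (.rel (nat_lit 2198) (nat_lit 3) [(nat_lit 1012), (nat_lit 1053)] [⟨(nat_lit 884), [(nat_lit 775)], [(nat_lit 579), (nat_lit 306)]⟩, ⟨(nat_lit 1150), [(nat_lit 709)], [(nat_lit 353), (nat_lit 651)]⟩])) (BT.leaf (.inv (nat_lit 2316)))) (BT.node (nat_lit 2319) (BT.leaf (.rel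 (nat_lit 2279) (nat_lit 5) [(nat_lit 356), (nat_lit 89)] [⟨(nat_lit 844), [], [(nat_lit 747), (nat_lit 1021)]⟩, ⟨(nat_lit 1956), [(nat_lit 2128)], [(nat_lit 619), (nat_lit 400)]⟩])) (BT.leaf (.inv (nat_lit 2318))))))) (BT.node (nat_lit 2328) (BT.node (nat_lit 2324) (BT.node (nat_lit 2322) (BT.node (nat_lit 2321) (BT.leaf (.rel (nat_lit 2203) (nat_lit 2) [(nat_lit 281), (nat_lit 477)] [⟨(nat_lit 1689), [(nat_lit 935)], [(nat_lit 216), (nat_lit 821)]⟩, ⟨(nat_lit 2001), [], [(nat_lit 675), (nat_lit 956)]⟩])) (BT.leaf (.inv (nat_lit 2320)))) (BT.node (nat_lit 2323) (BT.leaf (.rel (nat_lit 2250) (nat_lit 4) [(nat_lit 207), (nat_lit 864)] [⟨(nat_lit 1399), [(nat_lit 775)], [(nat_lit 827), (nat_lit 169)]⟩, ⟨(nat_lit 1553), [(nat_lit 775)], [(nat_lit 1056), (nat_lit 711)]⟩])) (BT.leaf (.inv (nat_lit 2322))))) (BT.node (nat_lit 2326) (BT.node (nat_lit 2325)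 (BT.leaf (.rel (nat_lit 2243) (nat_lit 2) [(nat_lit 1257), (nat_lit 386)] [⟨(nat_lit 1538), [(nat_lit 935)], [(nat_lit 429), (nat_lit 252)]⟩, ⟨(nat_lit 1732), [(nat_lit 775)], [(nat_lit 428), (nat_lit 624)]⟩])) (BT.leaf (.inv (nat_lit 2324)))) (BT.node (nat_lit 2327) (BT.leaf (.rel (nat_lit 1347) (nat_lit 2) [(nat_lit 1087), (nat_lit 163)] [⟨(nat_lit 1466), [], [(nat_lit 759), (nat_lit 320)]⟩, ⟨(nat_lit 2206), [(nat_lit 935)], [(nat_lit 1027), (nat_lit 891)]⟩])) (BT.leaf (.inv (nat_lit 2326)))))) (BT.node (nat_lit 2332) (BT.node (nat_lit 2330) (BT.node (nat_lit 2329) (BT.leaf (.rel (nat_lit 2244) (nat_lit 3) [(nat_lit 255), (nat_lit 449)] [⟨(nat_lit 2105), [(nat_lit 1870)], [(nat_lit 673), (nat_lit 386)]⟩, ⟨(nat_lit 1994), [(nat_lit 1822)], [(nat_lit 359), (nat_lit 334)]⟩])) (BT.leaf (.inv (nat_lit 2328)))) (BT.node (nat_lit 2331) (BT.leaf (.rel (nat_lit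 1054) (nat_lit 4) [(nat_lit 673), (nat_lit 1226)] [⟨(nat_lit 1224), [(nat_lit 935)], [(nat_lit 741), (nat_lit 439)]⟩, ⟨(nat_lit 2269), [(nat_lit 775)], [(nat_lit 977), (nat_lit 740)]⟩])) (BT.leaf (.inv (nat_lit 2330))))) (BT.node (nat_lit 2334) (BT.node (nat_lit 2333) (BT.leaf (.rel (nat_lit 1566) (nat_lit 4) [(nat_lit 153), (nat_lit 974)] [⟨(nat_lit 1120), [], [(nat_lit 1600), (nat_lit 578)]⟩, ⟨(nat_lit 2166), [(nat_lit 1046)], [(nat_lit 152), (nat_lit 439)]⟩])) (BT.leaf (.inv (nat_lit 2332)))) (BT.node (nat_lit 2335) (BT.leaf (.rel (nat_lit 1983) (nat_lit 0) [(nat_lit 167), (nat_lit 1021)] [⟨(nat_lit 2174), [(nat_lit 2258)], [(nat_lit 227), (nat_lit 398)]⟩])) (BT.leaf (.inv (nat_lit 2334)))))))) (BT.node (nat_lit 2352) (BT.node (nat_lit 2344) (BT.node (nat_lit 2340) (BT.node (nat_lit 2338) (BT.node (nat_lit 2337) (BT.leaf (.rel (nat_lit 2294) (nat_lit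 0) [(nat_lit 707), (nat_lit 874)] [⟨(nat_lit 1775), [(nat_lit 935)], [(nat_lit 296), (nat_lit 1329)]⟩])) (BT.leaf (.inv (nat_lit 2336)))) (BT.node (nat_lit 2339) (BT.leaf (.emul [(nat_lit 594), (nat_lit 698)])) (BT.leaf (.rel (nat_lit 844) (nat_lit 3) [(nat_lit 197), (nat_lit 1140)] [⟨(nat_lit 793), [(nat_lit 2338)], [(nat_lit 587), (nat_lit 1053)]⟩, ⟨(nat_lit 2193), [(nat_lit 775)], [(nat_lit 705), (nat_lit 1009)]⟩])))) (BT.node (nat_lit 2342) (BT.node (nat_lit 2341) (BT.leaf (.inv (nat_lit 2339))) (BT.leaf (.rel (nat_lit 1380) (nat_lit 1) [(nat_lit 502), (nat_lit 676)] [⟨(nat_lit 2267), [(nat_lit 935)], [(nat_lit 526), (nat_lit 465)]⟩]))) (BT.node (nat_lit 2343) (BT.leaf (.inv (nat_lit 2341))) (BT.leaf (.rel (nat_lit 2232) (nat_lit 4) [(nat_lit 348), (nat_lit 222)] [⟨(nat_lit 1462), [(nat_lit 775)], [(nat_lit 1173), (nat_lit 125)]⟩, ⟨(nat_lit 1731),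 [], [(nat_lit 97), (nat_lit 162)]⟩]))))) (BT.node (nat_lit 2348) (BT.node (nat_lit 2346) (BT.node (nat_lit 2345) (BT.leaf (.inv (nat_lit 2343))) (BT.leaf (.rel (nat_lit 1160) (nat_lit 4) [(nat_lit 97), (nat_lit 864)] [⟨(nat_lit 983), [], [(nat_lit 474), (nat_lit 140)]⟩, ⟨(nat_lit 2222), [(nat_lit 775)], [(nat_lit 43), (nat_lit 1)]⟩]))) (BT.node (nat_lit 2347) (BT.leaf (.inv (nat_lit 2345))) (BT.leaf (.rel (nat_lit 1659) (nat_lit 4) [(nat_lit 871), (nat_lit 877)] [⟨(nat_lit 939), [(nat_lit 775)], [(nat_lit 538), (nat_lit 497)]⟩, ⟨(nat_lit 2304), [(nat_lit 775)], [(nat_lit 942), (nat_lit 586)]⟩])))) (BT.node (nat_lit 2350) (BT.node (nat_lit 2349) (BT.leaf (.inv (nat_lit 2347))) (BT.leaf (.rel (nat_lit 2216) (nat_lit 2) [(nat_lit 631), (nat_lit 533)] [⟨(nat_lit 1219), [(nat_lit 1838)], [(nat_lit 1026), (nat_lit 821)]⟩, ⟨(nat_lit 2026), [(nat_lit 775)],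 [(nat_lit 441), (nat_lit 1348)]⟩]))) (BT.node (nat_lit 2351) (BT.leaf (.inv (nat_lit 2349))) (BT.leaf (.rel (nat_lit 1599) (nat_lit 0) [(nat_lit 469), (nat_lit 785)] [⟨(nat_lit 2263), [(nat_lit 935)], [(nat_lit 957), (nat_lit 89)]⟩])))))) (BT.node (nat_lit 2360) (BT.node (nat_lit 2356) (BT.node (nat_lit 2354) (BT.node (nat_lit 2353) (BT.leaf (.inv (nat_lit 2351))) (BT.leaf (.rel (nat_lit 2298) (nat_lit 0) [(nat_lit 428), (nat_lit 1036)] [⟨(nat_lit 1677), [], [(nat_lit 825), (nat_lit 399)]⟩]))) (BT.node (nat_lit 2355) (BT.leaf (.inv (nat_lit 2353))) (BT.leaf (.rel (nat_lit 971) (nat_lit 3) [(nat_lit 1162), (nat_lit 88)] [⟨(nat_lit 852), [(nat_lit 775)], [(nat_lit 416), (nat_lit 557)]⟩, ⟨(nat_lit 2208), [(nat_lit 457)], [(nat_lit 152), (nat_lit 580)]⟩])))) (BT.node (nat_lit 2358) (BT.node (nat_lit 2357) (BT.leaf (.inv (nat_lit 2355))) (BT.leaf (.emul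 [(nat_lit 1883), (nat_lit 1846)]))) (BT.node (nat_lit 2359) (BT.leaf (.rel (nat_lit 2321) (nat_lit 1) [(nat_lit 871), (nat_lit 586)] [⟨(nat_lit 1951), [(nat_lit 2357)], [(nat_lit 355), (nat_lit 475)]⟩])) (BT.leaf (.inv (nat_lit 2358)))))) (BT.node (nat_lit 2364) (BT.node (nat_lit 2362) (BT.node (nat_lit 2361) (BT.leaf (.rel (nat_lit 1929) (nat_lit 3) [(nat_lit 261), (nat_lit 1939)] [⟨(nat_lit 1208), [(nat_lit 935)], [(nat_lit 177), (nat_lit 1009)]⟩, ⟨(nat_lit 2327), [], [(nat_lit 568), (nat_lit 901)]⟩])) (BT.leaf (.inv (nat_lit 2360)))) (BT.node (nat_lit 2363) (BT.leaf (.rel (nat_lit 2254) (nat_lit 0) [(nat_lit 493), (nat_lit 139)] [⟨(nat_lit 2313), [(nat_lit 828)], [(nat_lit 619), (nat_lit 982)]⟩])) (BT.leaf (.inv (nat_lit 2362))))) (BT.node (nat_lit 2366) (BT.node (nat_lit 2365) (BT.leaf (.rel (nat_lit 1986) (nat_lit 5) [(nat_lit 463), (nat_lit 1478)]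 [⟨(nat_lit 975), [], [(nat_lit 653), (nat_lit 762)]⟩, ⟨(nat_lit 2190), [(nat_lit 2236)], [(nat_lit 789), (nat_lit 555)]⟩])) (BT.leaf (.inv (nat_lit 2364)))) (BT.node (nat_lit 2367) (BT.leaf (.rel (nat_lit 2325) (nat_lit 3) [(nat_lit 747), (nat_lit 333)] [⟨(nat_lit 960), [], [(nat_lit 787), (nat_lit 1216)]⟩, ⟨(nat_lit 959), [], [(nat_lit 296), (nat_lit 91)]⟩])) (BT.leaf (.inv (nat_lit 2366)))))))))
noncomputable def cF2368 : BT Fc := (BT.node (nat_lit 2400) (BT.node (nat_lit 2384) (BT.node (nat_lit 2376) (BT.node (nat_lit 2372) (BT.node (nat_lit 2370) (BT.node (nat_lit 2369) (BT.leaf ⟨(nat_lit 3), (nat_lit 7), (nat_lit 9), (nat_lit 0x1bd935674956a1e8b9cefe86cb90ef0), (nat_lit 0x1b927a6fcdeb45e55af46385e73a1b2), (nat_lit 0)⟩) (BT.leaf ⟨(nat_lit 3), (nat_lit 9), (nat_lit 7), (nat_lit 0x1b927a6fcdeb45e55af46385e73a1b2), (nat_lit 0x1bd935674956a1e8b9cefe86cb90ef0),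 (nat_lit 0)⟩)) (BT.node (nat_lit 2371) (BT.leaf ⟨(nat_lit 3), (nat_lit 9), (nat_lit 7), (nat_lit 0x118da4f908f71c9ff3358e79ce38e2c), (nat_lit 0x4ac7d37035fa889390f25bf6ed893f), (nat_lit 0)⟩) (BT.leaf ⟨(nat_lit 3), (nat_lit 7), (nat_lit 9), (nat_lit 0x4ac7d37035fa889390f25bf6ed893f), (nat_lit 0x118da4f908f71c9ff3358e79ce38e2c), (nat_lit 0)⟩))) (BT.node (nat_lit 2374) (BT.node (nat_lit 2373) (BT.leaf ⟨(nat_lit 3), (nat_lit 7), (nat_lit 9), (nat_lit 0x6f4c9f00af8820c0100697bc612e), (nat_lit 0x8e5dc8e6576db1cb44dd734d15eaf9), (nat_lit 0)⟩) (BT.leaf ⟨(nat_lit 3), (nat_lit 9), (nat_lit 7), (nat_lit 0x8e5dc8e6576db1cb44dd734d15eaf9), (nat_lit 0x6f4c9f00af8820c0100697bc612e), (nat_lit 0)⟩)) (BT.node (nat_lit 2375) (BT.leaf ⟨(nat_lit 3), (nat_lit 9), (nat_lit 7), (nat_lit 0x6f12fe5fc59749afd654b63992ba5d), (nat_lit 0x4239c9e4be4004012f5727540473a), (nat_lit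 0)⟩) (BT.leaf ⟨(nat_lit 3), (nat_lit 7), (nat_lit 9), (nat_lit 0x4239c9e4be4004012f5727540473a), (nat_lit 0x6f12fe5fc59749afd654b63992ba5d), (nat_lit 0)⟩)))) (BT.node (nat_lit 2380) (BT.node (nat_lit 2378) (BT.node (nat_lit 2377) (BT.leaf ⟨(nat_lit 2), (nat_lit 8), (nat_lit 8), (nat_lit 0x1635c6d344cbc37c67adf1e2dd898cb), (nat_lit 0), (nat_lit 0)⟩) (BT.leaf ⟨(nat_lit 3), (nat_lit 9), (nat_lit 7), (nat_lit 0x17a00425f93c007a34007c62039d040), (nat_lit 0x17493fd19d82dc12da4f95617fdba5e), (nat_lit 0)⟩)) (BT.node (nat_lit 2379) (BT.leaf ⟨(nat_lit 3), (nat_lit 7), (nat_lit 9), (nat_lit 0x17493fd19d82dc12da4f95617fdba5e), (nat_lit 0x17a00425f93c007a34007c62039d040), (nat_lit 0)⟩) (BT.leaf ⟨(nat_lit 3), (nat_lit 9), (nat_lit 3), (nat_lit 0x100500901f1875008809e7600410de9), (nat_lit 0x239d1007c7e35004000404bc08040), (nat_lit 0)⟩))) (BT.node (nat_lit 2382) (BT.node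 (nat_lit 2381) (BT.leaf ⟨(nat_lit 3), (nat_lit 3), (nat_lit 9), (nat_lit 0x239d1007c7e35004000404bc08040), (nat_lit 0x100500901f1875008809e7600410de9), (nat_lit 0)⟩) (BT.leaf ⟨(nat_lit 3), (nat_lit 7), (nat_lit 9), (nat_lit 0x95d2fb8ad829feb2e5f4b6978de519), (nat_lit 0x714ea9953a2f547d1d487b754eea36), (nat_lit 0)⟩)) (BT.node (nat_lit 2383) (BT.leaf ⟨(nat_lit 3), (nat_lit 9), (nat_lit 7), (nat_lit 0x714ea9953a2f547d1d487b754eea36), (nat_lit 0x95d2fb8ad829feb2e5f4b6978de519), (nat_lit 0)⟩) (BT.leaf ⟨(nat_lit 3), (nat_lit 7), (nat_lit 9), (nat_lit 0x159799349e7d4e85bcd9748b48e707c), (nat_lit 0x93df99c50300444846391dd580a2a9), (nat_lit 0)⟩))))) (BT.node (nat_lit 2392) (BT.node (nat_lit 2388) (BT.node (nat_lit 2386) (BT.node (nat_lit 2385) (BT.leaf ⟨(nat_lit 3), (nat_lit 9), (nat_lit 7), (nat_lit 0x93df99c50300444846391dd580a2a9), (nat_lit 0x159799349e7d4e85bcd9748b48e707c),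 (nat_lit 0)⟩) (BT.leaf ⟨(nat_lit 3), (nat_lit 9), (nat_lit 7), (nat_lit 0x996e97898dda8be6d8d7fde3346f8f), (nat_lit 0x1424703038bd588872a7e718c9f812), (nat_lit 0)⟩)) (BT.node (nat_lit 2387) (BT.leaf ⟨(nat_lit 3), (nat_lit 7), (nat_lit 9), (nat_lit 0x1424703038bd588872a7e718c9f812), (nat_lit 0x996e97898dda8be6d8d7fde3346f8f), (nat_lit 0)⟩) (BT.leaf ⟨(nat_lit 3), (nat_lit 7), (nat_lit 9), (nat_lit 0xb7d407c6ad0280487ba1808e640080), (nat_lit 0xe8df136346df8e8bacc7c6fce6cbe7), (nat_lit 0)⟩))) (BT.node (nat_lit 2390) (BT.node (nat_lit 2389) (BT.leaf ⟨(nat_lit 3), (nat_lit 9), (nat_lit 7), (nat_lit 0xe8df136346df8e8bacc7c6fce6cbe7), (nat_lit 0xb7d407c6ad0280487ba1808e640080), (nat_lit 0)⟩) (BT.leaf ⟨(nat_lit 3), (nat_lit 9), (nat_lit 7), (nat_lit 0xe92cf26ad8389c76976a96f620f49c), (nat_lit 0x12680a742e7c210066f0f120915ea5b), (nat_lit 0)⟩)) (BT.node (nat_lit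 2391) (BT.leaf ⟨(nat_lit 3), (nat_lit 7), (nat_lit 9), (nat_lit 0x12680a742e7c210066f0f120915ea5b), (nat_lit 0xe92cf26ad8389c76976a96f620f49c), (nat_lit 0)⟩) (BT.leaf ⟨(nat_lit 3), (nat_lit 9), (nat_lit 7), (nat_lit 0x11dc03044109e26023e7e7c0148225b), (nat_lit 0x9a943ef0da9ad0bccf439cbd255ee4), (nat_lit 0)⟩)))) (BT.node (nat_lit 2396) (BT.node (nat_lit 2394) (BT.node (nat_lit 2393) (BT.leaf ⟨(nat_lit 3), (nat_lit 7), (nat_lit 9), (nat_lit 0x9a943ef0da9ad0bccf439cbd255ee4), (nat_lit 0x11dc03044109e26023e7e7c0148225b), (nat_lit 0)⟩) (BT.leaf ⟨(nat_lit 3), (nat_lit 9), (nat_lit 9), (nat_lit 0x189ec1af9a68db1cb2997728e558ab8), (nat_lit 0x1826f240090654a0040088143bd7cd), (nat_lit 0)⟩)) (BT.node (nat_lit 2395) (BT.leaf ⟨(nat_lit 3), (nat_lit 9), (nat_lit 9), (nat_lit 0x1826f240090654a0040088143bd7cd), (nat_lit 0x189ec1af9a68db1cb2997728e558ab8), (nat_lit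 0)⟩) (BT.leaf ⟨(nat_lit 3), (nat_lit 9), (nat_lit 7), (nat_lit 0x10400de925c979f149f403bd480c72), (nat_lit 0x11dc39b49ab918dff5a666be4229c33), (nat_lit 0)⟩))) (BT.node (nat_lit 2398) (BT.node (nat_lit 2397) (BT.leaf ⟨(nat_lit 3), (nat_lit 7), (nat_lit 9), (nat_lit 0x11dc39b49ab918dff5a666be4229c33), (nat_lit 0x10400de925c979f149f403bd480c72), (nat_lit 0)⟩) (BT.leaf ⟨(nat_lit 3), (nat_lit 9), (nat_lit 7), (nat_lit 0xf877b0428051c6f508220402896a02), (nat_lit 0x10039d0017c60101047310004100008), (nat_lit 0)⟩)) (BT.node (nat_lit 2399) (BT.leaf ⟨(nat_lit 3), (nat_lit 7), (nat_lit 9), (nat_lit 0x10039d0017c60101047310004100008), (nat_lit 0xf877b0428051c6f508220402896a02), (nat_lit 0)⟩) (BT.leaf ⟨(nat_lit 3), (nat_lit 9), (nat_lit 7), (nat_lit 0x14d0bcfcd7fd6372c46e16fe3746f8f), (nat_lit 0x19d17a4f4e43b9135287fb7ad3787f4), (nat_lit 0)⟩)))))) (BT.node (nat_lit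 2416) (BT.node (nat_lit 2408) (BT.node (nat_lit 2404) (BT.node (nat_lit 2402) (BT.node (nat_lit 2401) (BT.leaf ⟨(nat_lit 3), (nat_lit 7), (nat_lit 9), (nat_lit 0x19d17a4f4e43b9135287fb7ad3787f4), (nat_lit 0x14d0bcfcd7fd6372c46e16fe3746f8f), (nat_lit 0)⟩) (BT.leaf ⟨(nat_lit 3), (nat_lit 7), (nat_lit 9), (nat_lit 0xf8bc6201e76106f480125c0255c472), (nat_lit 0x17557a1e8811f8f5cc0088180208401), (nat_lit 0)⟩)) (BT.node (nat_lit 2403) (BT.leaf ⟨(nat_lit 3), (nat_lit 9), (nat_lit 7), (nat_lit 0x17557a1e8811f8f5cc0088180208401), (nat_lit 0xf8bc6201e76106f480125c0255c472), (nat_lit 0)⟩) (BT.leaf ⟨(nat_lit 3), (nat_lit 9), (nat_lit 8), (nat_lit 0xd1bf1c088097572fc10881005c69e8), (nat_lit 0x10210474e7d6027c2818df80a09380a), (nat_lit 0)⟩))) (BT.node (nat_lit 2406) (BT.node (nat_lit 2405) (BT.leaf ⟨(nat_lit 3), (nat_lit 8), (nat_lit 9), (nat_lit 0x10210474e7d6027c2818df80a09380a),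 (nat_lit 0xd1bf1c088097572fc10881005c69e8), (nat_lit 0)⟩) (BT.leaf ⟨(nat_lit 3), (nat_lit 9), (nat_lit 7), (nat_lit 0xe016f600de3e4e01201410901002), (nat_lit 0xc09f81203093efc050020053ab011), (nat_lit 0)⟩)) (BT.node (nat_lit 2407) (BT.leaf ⟨(nat_lit 3), (nat_lit 7), (nat_lit 9), (nat_lit 0xc09f81203093efc050020053ab011), (nat_lit 0xe016f600de3e4e01201410901002), (nat_lit 0)⟩) (BT.leaf ⟨(nat_lit 3), (nat_lit 7), (nat_lit 9), (nat_lit 0x95eb2e2c49e39ae927f6be6f12dd19), (nat_lit 0xa0279881101f1ab408435ed8c440a0), (nat_lit 0)⟩)))) (BT.node (nat_lit 2412) (BT.node (nat_lit 2410) (BT.node (nat_lit 2409) (BT.leaf ⟨(nat_lit 3), (nat_lit 9), (nat_lit 7), (nat_lit 0xa0279881101f1ab408435ed8c440a0), (nat_lit 0x95eb2e2c49e39ae927f6be6f12dd19), (nat_lit 0)⟩) (BT.leaf ⟨(nat_lit 3), (nat_lit 8), (nat_lit 9), (nat_lit 0x15735132fb634bcd792dcd2b330a93f), (nat_lit 0x1a89cb13f25f6c697cc76e05bc7d12e),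 (nat_lit 0)⟩)) (BT.node (nat_lit 2411) (BT.leaf ⟨(nat_lit 3), (nat_lit 9), (nat_lit 8), (nat_lit 0x1a89cb13f25f6c697cc76e05bc7d12e), (nat_lit 0x15735132fb634bcd792dcd2b330a93f), (nat_lit 0)⟩) (BT.leaf ⟨(nat_lit 3), (nat_lit 9), (nat_lit 7), (nat_lit 0xac5b6751bfeae35cc4dc4f4d15caf9), (nat_lit 0x415c9000408012f804081ceba3080), (nat_lit 0)⟩))) (BT.node (nat_lit 2414) (BT.node (nat_lit 2413) (BT.leaf ⟨(nat_lit 3), (nat_lit 7), (nat_lit 9), (nat_lit 0x415c9000408012f804081ceba3080), (nat_lit 0xac5b6751bfeae35cc4dc4f4d15caf9), (nat_lit 0)⟩) (BT.leaf ⟨(nat_lit 2), (nat_lit 9), (nat_lit 9), (nat_lit 0xceb9df7af742df9d72a69273b9c07c), (nat_lit 0), (nat_lit 0)⟩)) (BT.node (nat_lit 2415) (BT.leaf ⟨(nat_lit 3), (nat_lit 9), (nat_lit 7), (nat_lit 0x19d040c1ef8d5a0400a01093cd6fb63), (nat_lit 0x12968cd46f8dd12ffb357b1919570cb), (nat_lit 0)⟩) (BT.leaf ⟨(nat_lit 3),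 (nat_lit 7), (nat_lit 9), (nat_lit 0x12968cd46f8dd12ffb357b1919570cb), (nat_lit 0x19d040c1ef8d5a0400a01093cd6fb63), (nat_lit 0)⟩))))) (BT.node (nat_lit 2424) (BT.node (nat_lit 2420) (BT.node (nat_lit 2418) (BT.node (nat_lit 2417) (BT.leaf ⟨(nat_lit 3), (nat_lit 7), (nat_lit 9), (nat_lit 0x1f342221f0a1100601952805bd7c841), (nat_lit 0x19a5ec742bffd5865f0666b91a52d19), (nat_lit 0)⟩) (BT.leaf ⟨(nat_lit 3), (nat_lit 9), (nat_lit 7), (nat_lit 0x19a5ec742bffd5865f0666b91a52d19), (nat_lit 0x1f342221f0a1100601952805bd7c841), (nat_lit 0)⟩)) (BT.node (nat_lit 2419) (BT.leaf ⟨(nat_lit 3), (nat_lit 7), (nat_lit 9), (nat_lit 0x189fbeec17b16c64754bd3c9aa6f313), (nat_lit 0xb3017db135e4feae32f24e4bc95fdb), (nat_lit 0)⟩) (BT.leaf ⟨(nat_lit 3), (nat_lit 9), (nat_lit 7), (nat_lit 0xb3017db135e4feae32f24e4bc95fdb), (nat_lit 0x189fbeec17b16c64754bd3c9aa6f313), (nat_lit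 0)⟩))) (BT.node (nat_lit 2422) (BT.node (nat_lit 2421) (BT.leaf ⟨(nat_lit 3), (nat_lit 3), (nat_lit 9), (nat_lit 0x13d3786fca2ea1f7a1ce89a6c8bcee4), (nat_lit 0x1801204f47aa80100d46601fa339d8d), (nat_lit 0)⟩) (BT.leaf ⟨(nat_lit 3), (nat_lit 9), (nat_lit 3), (nat_lit 0x1801204f47aa80100d46601fa339d8d), (nat_lit 0x13d3786fca2ea1f7a1ce89a6c8bcee4), (nat_lit 0)⟩)) (BT.node (nat_lit 2423) (BT.leaf ⟨(nat_lit 3), (nat_lit 9), (nat_lit 7), (nat_lit 0x12f810766048086e445321e4814c830), (nat_lit 0x97fa3010011e3401400040800021d5), (nat_lit 0)⟩) (BT.leaf ⟨(nat_lit 3), (nat_lit 7), (nat_lit 9), (nat_lit 0x97fa3010011e3401400040800021d5), (nat_lit 0x12f810766048086e445321e4814c830), (nat_lit 0)⟩)))) (BT.node (nat_lit 2428) (BT.node (nat_lit 2426) (BT.node (nat_lit 2425) (BT.leaf ⟨(nat_lit 3), (nat_lit 7), (nat_lit 9), (nat_lit 0x9035a3a3088183832f943e5bfe6850), (nat_lit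 0x1755b643d1aaf57499f5b4c554e8e58), (nat_lit 0)⟩) (BT.leaf ⟨(nat_lit 3), (nat_lit 9), (nat_lit 7), (nat_lit 0x1755b643d1aaf57499f5b4c554e8e58), (nat_lit 0x9035a3a3088183832f943e5bfe6850), (nat_lit 0)⟩)) (BT.node (nat_lit 2427) (BT.leaf ⟨(nat_lit 3), (nat_lit 9), (nat_lit 7), (nat_lit 0xd184f40281100439b8d8094be006b9), (nat_lit 0x1d1aa32ae7b19a59af66bffd1f2307c), (nat_lit 0)⟩) (BT.leaf ⟨(nat_lit 3), (nat_lit 7), (nat_lit 9), (nat_lit 0x1d1aa32ae7b19a59af66bffd1f2307c), (nat_lit 0xd184f40281100439b8d8094be006b9), (nat_lit 0)⟩))) (BT.node (nat_lit 2430) (BT.node (nat_lit 2429) (BT.leaf ⟨(nat_lit 3), (nat_lit 7), (nat_lit 9), (nat_lit 0x1b9009090bf0aa6319c5eac0464772a), (nat_lit 0x152c6a9d7babc84fa9ddcb0745b60fa), (nat_lit 0)⟩) (BT.leaf ⟨(nat_lit 3), (nat_lit 9), (nat_lit 7), (nat_lit 0x152c6a9d7babc84fa9ddcb0745b60fa), (nat_lit 0x1b9009090bf0aa6319c5eac0464772a),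 (nat_lit 0)⟩)) (BT.node (nat_lit 2431) (BT.leaf ⟨(nat_lit 3), (nat_lit 7), (nat_lit 9), (nat_lit 0x150081100327f7ac01042f88409d4), (nat_lit 0x14eb95738e7d60c5b9cee65cee6cd65), (nat_lit 0)⟩) (BT.leaf ⟨(nat_lit 3), (nat_lit 9), (nat_lit 7), (nat_lit 0x14eb95738e7d60c5b9cee65cee6cd65), (nat_lit 0x150081100327f7ac01042f88409d4), (nat_lit 0)⟩)))))))
noncomputable def cP2368 : BT Pf := (BT.node (nat_lit 2400) (BT.node (nat_lit 2384) (BT.node (nat_lit 2376) (BT.node (nat_lit 2372) (BT.node (nat_lit 2370) (BT.node (nat_lit 2369) (BT.leaf (.rel (nat_lit 2266) (nat_lit 3) [(nat_lit 1026), (nat_lit 1279)] [⟨(nat_lit 1383), [(nat_lit 935)], [(nat_lit 840), (nat_lit 287)]⟩, ⟨(nat_lit 1746), [], [(nat_lit 258), (nat_lit 170)]⟩])) (BT.leaf (.inv (nat_lit 2368)))) (BT.node (nat_lit 2371) (BT.leaf (.rel (nat_lit 866) (nat_lit 4) [(nat_lit 404), (nat_lit 421)] [⟨(nat_lit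 999), [(nat_lit 750)], [(nat_lit 258), (nat_lit 1070)]⟩, ⟨(nat_lit 2180), [(nat_lit 935)], [(nat_lit 915), (nat_lit 389)]⟩])) (BT.leaf (.inv (nat_lit 2370))))) (BT.node (nat_lit 2374) (BT.node (nat_lit 2373) (BT.leaf (.rel (nat_lit 2227) (nat_lit 2) [(nat_lit 467), (nat_lit 818)] [⟨(nat_lit 1770), [(nat_lit 775)], [(nat_lit 280), (nat_lit 877)]⟩, ⟨(nat_lit 1439), [(nat_lit 935)], [(nat_lit 380), (nat_lit 225)]⟩])) (BT.leaf (.inv (nat_lit 2372)))) (BT.node (nat_lit 2375) (BT.leaf (.rel (nat_lit 1811) (nat_lit 0) [(nat_lit 493), (nat_lit 530)] [⟨(nat_lit 2189), [(nat_lit 775)], [(nat_lit 150), (nat_lit 624)]⟩])) (BT.leaf (.inv (nat_lit 2374)))))) (BT.node (nat_lit 2380) (BT.node (nat_lit 2378) (BT.node (nat_lit 2377) (BT.leaf (.emul [(nat_lit 1883), (nat_lit 1822)])) (BT.leaf (.rel (nat_lit 2135) (nat_lit 5) [(nat_lit 177), (nat_lit 802)] [⟨(nat_lit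 1945), [(nat_lit 2376)], [(nat_lit 914), (nat_lit 559)]⟩, ⟨(nat_lit 2300), [(nat_lit 935)], [(nat_lit 689), (nat_lit 498)]⟩]))) (BT.node (nat_lit 2379) (BT.leaf (.inv (nat_lit 2377))) (BT.leaf (.rel (nat_lit 989) (nat_lit 0) [(nat_lit 579), (nat_lit 559)] [⟨(nat_lit 2340), [], [(nat_lit 462), (nat_lit 625)]⟩])))) (BT.node (nat_lit 2382) (BT.node (nat_lit 2381) (BT.leaf (.inv (nat_lit 2379))) (BT.leaf (.rel (nat_lit 2187) (nat_lit 0) [(nat_lit 1126), (nat_lit 1001)] [⟨(nat_lit 1553), [(nat_lit 775)], [(nat_lit 746), (nat_lit 1745)]⟩]))) (BT.node (nat_lit 2383) (BT.leaf (.inv (nat_lit 2381))) (BT.leaf (.rel (nat_lit 2345) (nat_lit 1) [(nat_lit 747), (nat_lit 646)] [⟨(nat_lit 1282), [(nat_lit 775)], [(nat_lit 520), (nat_lit 265)]⟩])))))) (BT.node (nat_lit 2392) (BT.node (nat_lit 2388) (BT.node (nat_lit 2386) (BT.node (nat_lit 2385) (BT.leaf (.inv (nat_lit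 2383))) (BT.leaf (.rel (nat_lit 933) (nat_lit 3) [(nat_lit 815), (nat_lit 465)] [⟨(nat_lit 1058), [(nat_lit 1038)], [(nat_lit 468), (nat_lit 1088)]⟩, ⟨(nat_lit 2257), [(nat_lit 935)], [(nat_lit 355), (nat_lit 717)]⟩]))) (BT.node (nat_lit 2387) (BT.leaf (.inv (nat_lit 2385))) (BT.leaf (.rel (nat_lit 2212) (nat_lit 2) [(nat_lit 470), (nat_lit 478)] [⟨(nat_lit 1917), [], [(nat_lit 829), (nat_lit 141)]⟩, ⟨(nat_lit 2089), [(nat_lit 1870)], [(nat_lit 527), (nat_lit 1375)]⟩])))) (BT.node (nat_lit 2390) (BT.node (nat_lit 2389) (BT.leaf (.inv (nat_lit 2387))) (BT.leaf (.rel (nat_lit 1197) (nat_lit 5) [(nat_lit 282), (nat_lit 566)] [⟨(nat_lit 1465), [], [(nat_lit 747), (nat_lit 126)]⟩, ⟨(nat_lit 2368), [], [(nat_lit 705), (nat_lit 585)]⟩]))) (BT.node (nat_lit 2391) (BT.leaf (.inv (nat_lit 2389))) (BT.leaf (.rel (nat_lit 2062) (nat_lit 1) [(nat_lit 527), (nat_lit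 491)] [⟨(nat_lit 2176), [(nat_lit 1921)], [(nat_lit 424), (nat_lit 459)]⟩]))))) (BT.node (nat_lit 2396) (BT.node (nat_lit 2394) (BT.node (nat_lit 2393) (BT.leaf (.inv (nat_lit 2391))) (BT.leaf (.rel (nat_lit 2326) (nat_lit 2) [(nat_lit 164), (nat_lit 264)] [⟨(nat_lit 836), [(nat_lit 935)], [(nat_lit 696), (nat_lit 395)]⟩, ⟨(nat_lit 2304), [(nat_lit 775)], [(nat_lit 941), (nat_lit 191)]⟩]))) (BT.node (nat_lit 2395) (BT.leaf (.inv (nat_lit 2393))) (BT.leaf (.rel (nat_lit 1633) (nat_lit 1) [(nat_lit 208), (nat_lit 400)] [⟨(nat_lit 2368), [], [(nat_lit 759), (nat_lit 762)]⟩])))) (BT.node (nat_lit 2398) (BT.node (nat_lit 2397) (BT.leaf (.inv (nat_lit 2395))) (BT.leaf (.rel (nat_lit 1809) (nat_lit 1) [(nat_lit 197), (nat_lit 235)] [⟨(nat_lit 2300), [(nat_lit 775)], [(nat_lit 913), (nat_lit 495)]⟩]))) (BT.node (nat_lit 2399) (BT.leaf (.inv (nat_lit 2397)))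 (BT.leaf (.rel (nat_lit 1132) (nat_lit 1) [(nat_lit 1257), (nat_lit 868)] [⟨(nat_lit 2380), [(nat_lit 678)], [(nat_lit 150), (nat_lit 171)]⟩]))))))) (BT.node (nat_lit 2416) (BT.node (nat_lit 2408) (BT.node (nat_lit 2404) (BT.node (nat_lit 2402) (BT.node (nat_lit 2401) (BT.leaf (.inv (nat_lit 2399))) (BT.leaf (.rel (nat_lit 2191) (nat_lit 1) [(nat_lit 321), (nat_lit 294)] [⟨(nat_lit 1095), [(nat_lit 1387)], [(nat_lit 381), (nat_lit 449)]⟩]))) (BT.node (nat_lit 2403) (BT.leaf (.inv (nat_lit 2401))) (BT.leaf (.rel (nat_lit 2030) (nat_lit 0) [(nat_lit 784), (nat_lit 624)] [⟨(nat_lit 2348), [(nat_lit 935)], [(nat_lit 267), (nat_lit 956)]⟩])))) (BT.node (nat_lit 2406) (BT.node (nat_lit 2405) (BT.leaf (.inv (nat_lit 2403))) (BT.leaf (.rel (nat_lit 931) (nat_lit 4) [(nat_lit 538), (nat_lit 1083)] [⟨(nat_lit 1131), [], [(nat_lit 483), (nat_lit 646)]⟩, ⟨(nat_lit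 2340), [], [(nat_lit 741), (nat_lit 449)]⟩]))) (BT.node (nat_lit 2407) (BT.leaf (.inv (nat_lit 2405))) (BT.leaf (.rel (nat_lit 2403) (nat_lit 3) [(nat_lit 93), (nat_lit 624)] [⟨(nat_lit 2125), [(nat_lit 2210)], [(nat_lit 357), (nat_lit 684)]⟩, ⟨(nat_lit 2089), [(nat_lit 1870)], [(nat_lit 1173), (nat_lit 1376)]⟩]))))) (BT.node (nat_lit 2412) (BT.node (nat_lit 2410) (BT.node (nat_lit 2409) (BT.leaf (.inv (nat_lit 2407))) (BT.leaf (.rel (nat_lit 2287) (nat_lit 1) [(nat_lit 257), (nat_lit 288)] [⟨(nat_lit 2029), [(nat_lit 935)], [(nat_lit 284), (nat_lit 500)]⟩]))) (BT.node (nat_lit 2411) (BT.leaf (.inv (nat_lit 2409))) (BT.leaf (.rel (nat_lit 1283) (nat_lit 2) [(nat_lit 450), (nat_lit 647)] [⟨(nat_lit 1550), [], [(nat_lit 1308), (nat_lit 190)]⟩, ⟨(nat_lit 2383), [], [(nat_lit 746), (nat_lit 223)]⟩])))) (BT.node (nat_lit 2414) (BT.node (nat_lit 2413) (BT.leaf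 (.inv (nat_lit 2411))) (BT.leaf (.emul [(nat_lit 2237), (nat_lit 2237)]))) (BT.node (nat_lit 2415) (BT.leaf (.rel (nat_lit 2358) (nat_lit 5) [(nat_lit 1162), (nat_lit 1203)] [⟨(nat_lit 2224), [(nat_lit 2413)], [(nat_lit 942), (nat_lit 234)]⟩, ⟨(nat_lit 2278), [], [(nat_lit 424), (nat_lit 290)]⟩])) (BT.leaf (.inv (nat_lit 2414))))))) (BT.node (nat_lit 2424) (BT.node (nat_lit 2420) (BT.node (nat_lit 2418) (BT.node (nat_lit 2417) (BT.leaf (.rel (nat_lit 2203) (nat_lit 4) [(nat_lit 941), (nat_lit 681)] [⟨(nat_lit 1194), [(nat_lit 775)], [(nat_lit 267), (nat_lit 585)]⟩, ⟨(nat_lit 1359), [(nat_lit 856)], [(nat_lit 214), (nat_lit 279)]⟩])) (BT.leaf (.inv (nat_lit 2416)))) (BT.node (nat_lit 2419) (BT.leaf (.rel (nat_lit 2408) (nat_lit 2) [(nat_lit 450), (nat_lit 891)] [⟨(nat_lit 1068), [(nat_lit 775)], [(nat_lit 216), (nat_lit 1376)]⟩, ⟨(nat_lit 1786), [(nat_lit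 935)], [(nat_lit 92), (nat_lit 1375)]⟩])) (BT.leaf (.inv (nat_lit 2418))))) (BT.node (nat_lit 2422) (BT.node (nat_lit 2421) (BT.leaf (.rel (nat_lit 2326) (nat_lit 5) [(nat_lit 267), (nat_lit 495)] [⟨(nat_lit 1130), [(nat_lit 935)], [(nat_lit 241), (nat_lit 375)]⟩, ⟨(nat_lit 929), [(nat_lit 775)], [(nat_lit 570), (nat_lit 1123)]⟩])) (BT.leaf (.inv (nat_lit 2420)))) (BT.node (nat_lit 2423) (BT.leaf (.rel (nat_lit 1266) (nat_lit 1) [(nat_lit 434), (nat_lit 712)] [⟨(nat_lit 2186), [], [(nat_lit 466), (nat_lit 379)]⟩])) (BT.leaf (.inv (nat_lit 2422)))))) (BT.node (nat_lit 2428) (BT.node (nat_lit 2426) (BT.node (nat_lit 2425) (BT.leaf (.rel (nat_lit 2266) (nat_lit 0) [(nat_lit 1092), (nat_lit 532)] [⟨(nat_lit 1799), [(nat_lit 935)], [(nat_lit 260), (nat_lit 500)]⟩])) (BT.leaf (.inv (nat_lit 2424)))) (BT.node (nat_lit 2427) (BT.leaf (.rel (nat_lit 1901) (nat_lit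 4) [(nat_lit 784), (nat_lit 1939)] [⟨(nat_lit 1861), [(nat_lit 2376)], [(nat_lit 349), (nat_lit 396)]⟩, ⟨(nat_lit 2400), [(nat_lit 935)], [(nat_lit 468), (nat_lit 395)]⟩])) (BT.leaf (.inv (nat_lit 2426))))) (BT.node (nat_lit 2430) (BT.node (nat_lit 2429) (BT.leaf (.rel (nat_lit 2341) (nat_lit 2) [(nat_lit 943), (nat_lit 396)] [⟨(nat_lit 1358), [(nat_lit 935)], [(nat_lit 433), (nat_lit 892)]⟩, ⟨(nat_lit 1688), [(nat_lit 775)], [(nat_lit 1218), (nat_lit 1141)]⟩])) (BT.leaf (.inv (nat_lit 2428)))) (BT.node (nat_lit 2431) (BT.leaf (.rel (nat_lit 2410) (nat_lit 4) [(nat_lit 865), (nat_lit 1)] [⟨(nat_lit 2067), [(nat_lit 2210)], [(nat_lit 351), (nat_lit 738)]⟩, ⟨(nat_lit 1207), [(nat_lit 935)], [(nat_lit 900), (nat_lit 459)]⟩])) (BT.leaf (.inv (nat_lit 2430)))))))))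
noncomputable def cF2432 : BT Fc := (BT.node (nat_lit 2464) (BT.node (nat_lit 2448) (BT.node (nat_lit 2440) (BT.node (nat_lit 2436) (BT.node (nat_lit 2434) (BT.node (nat_lit 2433) (BT.leaf ⟨(nat_lit 3), (nat_lit 9), (nat_lit 7), (nat_lit 0x84902204fe090504be3ebd9a29860), (nat_lit 0x1e77868b7a69e275158d197e3fd6f85), (nat_lit 0)⟩) (BT.leaf ⟨(nat_lit 3), (nat_lit 7), (nat_lit 9), (nat_lit 0x1e77868b7a69e275158d197e3fd6f85), (nat_lit 0x84902204fe090504be3ebd9a29860), (nat_lit 0)⟩)) (BT.node (nat_lit 2435) (BT.leaf ⟨(nat_lit 3), (nat_lit 9), (nat_lit 7), (nat_lit 0x1d195cc730204002025ff1a0104073a), (nat_lit 0x1bd2398087c727840200201ce897810), (nat_lit 0)⟩) (BT.leaf ⟨(nat_lit 3), (nat_lit 7), (nat_lit 9), (nat_lit 0x1bd2398087c727840200201ce897810), (nat_lit 0x1d195cc730204002025ff1a0104073a), (nat_lit 0)⟩))) (BT.node (nat_lit 2438) (BT.node (nat_lit 2437)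 (BT.leaf ⟨(nat_lit 3), (nat_lit 9), (nat_lit 9), (nat_lit 0x1b527a2f4639b93fa17950f9d35a6f5), (nat_lit 0x123b9541049eaa428012060840486e4), (nat_lit 0)⟩) (BT.leaf ⟨(nat_lit 3), (nat_lit 9), (nat_lit 9), (nat_lit 0x123b9541049eaa428012060840486e4), (nat_lit 0x1b527a2f4639b93fa17950f9d35a6f5), (nat_lit 0)⟩)) (BT.node (nat_lit 2439) (BT.leaf ⟨(nat_lit 3), (nat_lit 7), (nat_lit 9), (nat_lit 0x75e1e8fa7aa755b65a632a354e2e58), (nat_lit 0x4aef66f08ee74422104108015f3a5b), (nat_lit 0)⟩) (BT.leaf ⟨(nat_lit 3), (nat_lit 9), (nat_lit 7), (nat_lit 0x4aef66f08ee74422104108015f3a5b), (nat_lit 0x75e1e8fa7aa755b65a632a354e2e58), (nat_lit 0)⟩)))) (BT.node (nat_lit 2444) (BT.node (nat_lit 2442) (BT.node (nat_lit 2441) (BT.leaf ⟨(nat_lit 3), (nat_lit 7), (nat_lit 9), (nat_lit 0xf85b1ae37c5295f1ba3f20fad6660b), (nat_lit 0x1d45b62b9bfea66c1eca472aa62695a), (nat_lit 0)⟩)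 (BT.leaf ⟨(nat_lit 3), (nat_lit 9), (nat_lit 7), (nat_lit 0x1d45b62b9bfea66c1eca472aa62695a), (nat_lit 0xf85b1ae37c5295f1ba3f20fad6660b), (nat_lit 0)⟩)) (BT.node (nat_lit 2443) (BT.leaf ⟨(nat_lit 3), (nat_lit 7), (nat_lit 9), (nat_lit 0xbd20834613d0228065f80900a20600), (nat_lit 0x167989c9f91ce9313c9c9345da6f6c1), (nat_lit 0)⟩) (BT.leaf ⟨(nat_lit 3), (nat_lit 9), (nat_lit 7), (nat_lit 0x167989c9f91ce9313c9c9345da6f6c1), (nat_lit 0xbd20834613d0228065f80900a20600), (nat_lit 0)⟩))) (BT.node (nat_lit 2446) (BT.node (nat_lit 2445) (BT.leaf ⟨(nat_lit 3), (nat_lit 9), (nat_lit 7), (nat_lit 0x39ab285f6e093e8ce2cd8296d3f9bc), (nat_lit 0x1d46f42d2f6f722f65eafd15a132cc7), (nat_lit 0)⟩) (BT.leaf ⟨(nat_lit 3), (nat_lit 7), (nat_lit 9), (nat_lit 0x1d46f42d2f6f722f65eafd15a132cc7), (nat_lit 0x39ab285f6e093e8ce2cd8296d3f9bc), (nat_lit 0)⟩)) (BT.node (nat_lit 2447)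 (BT.leaf ⟨(nat_lit 3), (nat_lit 9), (nat_lit 7), (nat_lit 0xfcd1b60bfc6b33c81e37c4f0cde3e7), (nat_lit 0x8079df47012979f101110200410c01), (nat_lit 0)⟩) (BT.leaf ⟨(nat_lit 3), (nat_lit 7), (nat_lit 9), (nat_lit 0x8079df47012979f101110200410c01), (nat_lit 0xfcd1b60bfc6b33c81e37c4f0cde3e7), (nat_lit 0)⟩))))) (BT.node (nat_lit 2456) (BT.node (nat_lit 2452) (BT.node (nat_lit 2450) (BT.node (nat_lit 2449) (BT.leaf ⟨(nat_lit 3), (nat_lit 9), (nat_lit 7), (nat_lit 0x27a0244068d8017a410baacea04073), (nat_lit 0xc00c050dc8040e2f9dbf0053ab13f), (nat_lit 0)⟩) (BT.leaf ⟨(nat_lit 3), (nat_lit 7), (nat_lit 9), (nat_lit 0xc00c050dc8040e2f9dbf0053ab13f), (nat_lit 0x27a0244068d8017a410baacea04073), (nat_lit 0)⟩)) (BT.node (nat_lit 2451) (BT.leaf ⟨(nat_lit 2), (nat_lit 5), (nat_lit 5), (nat_lit 0x4b638f8f576008816f64ba00f9c3e1), (nat_lit 0), (nat_lit 0)⟩) (BT.leaf ⟨(nat_lit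 3), (nat_lit 9), (nat_lit 7), (nat_lit 0x220051dd010ac64b208090fac066fc), (nat_lit 0x15a048088180200c070d901f19b1882), (nat_lit 0)⟩))) (BT.node (nat_lit 2454) (BT.node (nat_lit 2453) (BT.leaf ⟨(nat_lit 3), (nat_lit 7), (nat_lit 9), (nat_lit 0x15a048088180200c070d901f19b1882), (nat_lit 0x220051dd010ac64b208090fac066fc), (nat_lit 0)⟩) (BT.leaf ⟨(nat_lit 3), (nat_lit 7), (nat_lit 9), (nat_lit 0x480a756553e75080100a00608848e), (nat_lit 0xbe6d4048d6887cca940f9a90020440), (nat_lit 0)⟩)) (BT.node (nat_lit 2455) (BT.leaf ⟨(nat_lit 3), (nat_lit 9), (nat_lit 7), (nat_lit 0xbe6d4048d6887cca940f9a90020440), (nat_lit 0x480a756553e75080100a00608848e), (nat_lit 0)⟩) (BT.leaf ⟨(nat_lit 3), (nat_lit 7), (nat_lit 9), (nat_lit 0x1367951ce693cfb77e3a16f60f9d33a), (nat_lit 0x1e3c01a5d015271013e1804108115ea), (nat_lit 0)⟩)))) (BT.node (nat_lit 2460) (BT.node (nat_lit 2458)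 (BT.node (nat_lit 2457) (BT.leaf ⟨(nat_lit 3), (nat_lit 9), (nat_lit 7), (nat_lit 0x1e3c01a5d015271013e1804108115ea), (nat_lit 0x1367951ce693cfb77e3a16f60f9d33a), (nat_lit 0)⟩) (BT.leaf ⟨(nat_lit 3), (nat_lit 7), (nat_lit 9), (nat_lit 0x1e32f4881007d1c04ab80831c802821), (nat_lit 0x96d2fb8a4ae6f02fb70ba4b7f164ab), (nat_lit 0)⟩)) (BT.node (nat_lit 2459) (BT.leaf ⟨(nat_lit 3), (nat_lit 9), (nat_lit 7), (nat_lit 0x96d2fb8a4ae6f02fb70ba4b7f164ab), (nat_lit 0x1e32f4881007d1c04ab80831c802821), (nat_lit 0)⟩) (BT.leaf ⟨(nat_lit 3), (nat_lit 9), (nat_lit 7), (nat_lit 0x96d2785f4ae9fd2fa1fc59594732df), (nat_lit 0x1637c7f0d71b962e97ad7fdf3589d34), (nat_lit 0)⟩))) (BT.node (nat_lit 2462) (BT.node (nat_lit 2461) (BT.leaf ⟨(nat_lit 3), (nat_lit 7), (nat_lit 9), (nat_lit 0x1637c7f0d71b962e97ad7fdf3589d34), (nat_lit 0x96d2785f4ae9fd2fa1fc59594732df), (nat_lit 0)⟩)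 (BT.leaf ⟨(nat_lit 3), (nat_lit 9), (nat_lit 9), (nat_lit 0x1a89c6e58d1be33c7dd2e1b63589fcd), (nat_lit 0x1df4ad46ef21f8df14d97c2b32529e3), (nat_lit 0)⟩)) (BT.node (nat_lit 2463) (BT.leaf ⟨(nat_lit 3), (nat_lit 9), (nat_lit 9), (nat_lit 0x1df4ad46ef21f8df14d97c2b32529e3), (nat_lit 0x1a89c6e58d1be33c7dd2e1b63589fcd), (nat_lit 0)⟩) (BT.leaf ⟨(nat_lit 3), (nat_lit 9), (nat_lit 7), (nat_lit 0x1571b866972ccbd6652f05f31f51615), (nat_lit 0x1bd33a6d4dedad27a6e4df873b7ad17), (nat_lit 0)⟩)))))) (BT.node (nat_lit 2480) (BT.node (nat_lit 2472) (BT.node (nat_lit 2468) (BT.node (nat_lit 2466) (BT.node (nat_lit 2465) (BT.leaf ⟨(nat_lit 3), (nat_lit 7), (nat_lit 9), (nat_lit 0x1bd33a6d4dedad27a6e4df873b7ad17), (nat_lit 0x1571b866972ccbd6652f05f31f51615), (nat_lit 0)⟩) (BT.leaf ⟨(nat_lit 3), (nat_lit 4), (nat_lit 9), (nat_lit 0x13cf39b357fd18c39b498f7b2943d5c), (nat_lit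 0x1e4231c71d94cd5ff4723373ce19c53), (nat_lit 0)⟩)) (BT.node (nat_lit 2467) (BT.leaf ⟨(nat_lit 3), (nat_lit 9), (nat_lit 4), (nat_lit 0x1e4231c71d94cd5ff4723373ce19c53), (nat_lit 0x13cf39b357fd18c39b498f7b2943d5c), (nat_lit 0)⟩) (BT.leaf ⟨(nat_lit 2), (nat_lit 4), (nat_lit 4), (nat_lit 0x10000f3a040757c6880201002f425f), (nat_lit 0), (nat_lit 0)⟩))) (BT.node (nat_lit 2470) (BT.node (nat_lit 2469) (BT.leaf ⟨(nat_lit 3), (nat_lit 7), (nat_lit 9), (nat_lit 0x16a3a8decbd57e2e47e89d0996f019b), (nat_lit 0x19a56612f2de3e81790f24f4bd97db1), (nat_lit 0)⟩) (BT.leaf ⟨(nat_lit 3), (nat_lit 9), (nat_lit 7), (nat_lit 0x19a56612f2de3e81790f24f4bd97db1), (nat_lit 0x16a3a8decbd57e2e47e89d0996f019b), (nat_lit 0)⟩)) (BT.node (nat_lit 2471) (BT.leaf ⟨(nat_lit 3), (nat_lit 9), (nat_lit 9), (nat_lit 0x1de920195d690cc30040091f36d44de), (nat_lit 0x18e9dc9202053a017e466bf4006ae8d),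 (nat_lit 0)⟩) (BT.leaf ⟨(nat_lit 3), (nat_lit 3), (nat_lit 9), (nat_lit 0xe5873583562ee7657516d856b5ca39), (nat_lit 0x44127890eade74089c57e61420872a), (nat_lit 0)⟩)))) (BT.node (nat_lit 2476) (BT.node (nat_lit 2474) (BT.node (nat_lit 2473) (BT.leaf ⟨(nat_lit 3), (nat_lit 9), (nat_lit 3), (nat_lit 0x44127890eade74089c57e61420872a), (nat_lit 0xe5873583562ee7657516d856b5ca39), (nat_lit 0)⟩) (BT.leaf ⟨(nat_lit 3), (nat_lit 7), (nat_lit 9), (nat_lit 0x1040283f302404772210221ca80c463), (nat_lit 0x18ebdd72ae7760dd253ae64d27bd738), (nat_lit 0)⟩)) (BT.node (nat_lit 2475) (BT.leaf ⟨(nat_lit 3), (nat_lit 9), (nat_lit 7), (nat_lit 0x18ebdd72ae7760dd253ae64d27bd738), (nat_lit 0x1040283f302404772210221ca80c463), (nat_lit 0)⟩) (BT.leaf ⟨(nat_lit 3), (nat_lit 7), (nat_lit 9), (nat_lit 0x39b164ab4ba97d27adf0bf74bdbec1), (nat_lit 0x480a0188c64fd08030eadcaafc011), (nat_lit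 0)⟩))) (BT.node (nat_lit 2478) (BT.node (nat_lit 2477) (BT.leaf ⟨(nat_lit 3), (nat_lit 9), (nat_lit 7), (nat_lit 0x480a0188c64fd08030eadcaafc011), (nat_lit 0x39b164ab4ba97d27adf0bf74bdbec1), (nat_lit 0)⟩) (BT.leaf ⟨(nat_lit 3), (nat_lit 9), (nat_lit 7), (nat_lit 0xf8e4f0010807552ff3a0410015cde8), (nat_lit 0xe8e6cfe37e745cad3eb8dcb3252bc3), (nat_lit 0)⟩)) (BT.node (nat_lit 2479) (BT.leaf ⟨(nat_lit 3), (nat_lit 7), (nat_lit 9), (nat_lit 0xe8e6cfe37e745cad3eb8dcb3252bc3), (nat_lit 0xf8e4f0010807552ff3a0410015cde8), (nat_lit 0)⟩) (BT.leaf ⟨(nat_lit 3), (nat_lit 9), (nat_lit 3), (nat_lit 0x1cebbd2d2693cf83e565a75856c1b3a), (nat_lit 0x11cab9c7350f1ee29c633370cda4e2c), (nat_lit 0)⟩))))) (BT.node (nat_lit 2488) (BT.node (nat_lit 2484) (BT.node (nat_lit 2482) (BT.node (nat_lit 2481) (BT.leaf ⟨(nat_lit 3), (nat_lit 3), (nat_lit 9), (nat_lit 0x11cab9c7350f1ee29c633370cda4e2c),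 (nat_lit 0x1cebbd2d2693cf83e565a75856c1b3a), (nat_lit 0)⟩) (BT.leaf ⟨(nat_lit 3), (nat_lit 7), (nat_lit 9), (nat_lit 0xf550158d65ea0104210a8c90102673), (nat_lit 0x93ee925e4ba87d2be2c4b75952fadf), (nat_lit 0)⟩)) (BT.node (nat_lit 2483) (BT.leaf ⟨(nat_lit 3), (nat_lit 9), (nat_lit 7), (nat_lit 0x93ee925e4ba87d2be2c4b75952fadf), (nat_lit 0xf550158d65ea0104210a8c90102673), (nat_lit 0)⟩) (BT.leaf ⟨(nat_lit 3), (nat_lit 7), (nat_lit 9), (nat_lit 0x17e1575eaea2c72745ec4cb6a2f07e8), (nat_lit 0xe8fc846e94ab8df0bc3a2efadb19e3), (nat_lit 0)⟩))) (BT.node (nat_lit 2486) (BT.node (nat_lit 2485) (BT.leaf ⟨(nat_lit 3), (nat_lit 9), (nat_lit 7), (nat_lit 0xe8fc846e94ab8df0bc3a2efadb19e3), (nat_lit 0x17e1575eaea2c72745ec4cb6a2f07e8), (nat_lit 0)⟩) (BT.leaf ⟨(nat_lit 3), (nat_lit 7), (nat_lit 9), (nat_lit 0xe282fd196bf97eb2a1f4badc0de6c1), (nat_lit 0x354ea5d56d99611b6937aa71777c3d),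 (nat_lit 0)⟩)) (BT.node (nat_lit 2487) (BT.leaf ⟨(nat_lit 3), (nat_lit 9), (nat_lit 7), (nat_lit 0x354ea5d56d99611b6937aa71777c3d), (nat_lit 0xe282fd196bf97eb2a1f4badc0de6c1), (nat_lit 0)⟩) (BT.leaf ⟨(nat_lit 3), (nat_lit 9), (nat_lit 7), (nat_lit 0x9087fad97db538d0280c114c10bc3), (nat_lit 0x1200408a0e1beeb3a0c06c6a02b42df), (nat_lit 0)⟩)))) (BT.node (nat_lit 2492) (BT.node (nat_lit 2490) (BT.node (nat_lit 2489) (BT.leaf ⟨(nat_lit 3), (nat_lit 7), (nat_lit 9), (nat_lit 0x1200408a0e1beeb3a0c06c6a02b42df), (nat_lit 0x9087fad97db538d0280c114c10bc3), (nat_lit 0)⟩) (BT.leaf ⟨(nat_lit 3), (nat_lit 9), (nat_lit 7), (nat_lit 0x81078d25f278044007c71cc02010), (nat_lit 0x808210224ba408035eaf1e20801f38), (nat_lit 0)⟩)) (BT.node (nat_lit 2491) (BT.leaf ⟨(nat_lit 3), (nat_lit 7), (nat_lit 9), (nat_lit 0x808210224ba408035eaf1e20801f38), (nat_lit 0x81078d25f278044007c71cc02010),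 (nat_lit 0)⟩) (BT.leaf ⟨(nat_lit 3), (nat_lit 9), (nat_lit 7), (nat_lit 0x1d1a39c005720124f0014bfbd0ea808), (nat_lit 0x1e26370b7f9b74865d8d4cbeb7c6f0d), (nat_lit 0)⟩))) (BT.node (nat_lit 2494) (BT.node (nat_lit 2493) (BT.leaf ⟨(nat_lit 3), (nat_lit 7), (nat_lit 9), (nat_lit 0x1e26370b7f9b74865d8d4cbeb7c6f0d), (nat_lit 0x1d1a39c005720124f0014bfbd0ea808), (nat_lit 0)⟩) (BT.leaf ⟨(nat_lit 3), (nat_lit 9), (nat_lit 9), (nat_lit 0x820046fc8f6123a71ddf0a0a005732), (nat_lit 0x1c69690b7e54d279d61539dcfb1d07c), (nat_lit 0)⟩)) (BT.node (nat_lit 2495) (BT.leaf ⟨(nat_lit 3), (nat_lit 7), (nat_lit 9), (nat_lit 0x5bca00440901097cc339bc6550fda8), (nat_lit 0x95cf3ae8d27804040bd04bc10200), (nat_lit 0)⟩) (BT.leaf ⟨(nat_lit 3), (nat_lit 9), (nat_lit 7), (nat_lit 0x95cf3ae8d27804040bd04bc10200), (nat_lit 0x5bca00440901097cc339bc6550fda8), (nat_lit 0)⟩)))))))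
noncomputable def cP2432 : BT Pf := (BT.node (nat_lit 2464) (BT.node (nat_lit 2448) (BT.node (nat_lit 2440) (BT.node (nat_lit 2436) (BT.node (nat_lit 2434) (BT.node (nat_lit 2433) (BT.leaf (.rel (nat_lit 1748) (nat_lit 0) [(nat_lit 741), (nat_lit 293)] [⟨(nat_lit 2356), [(nat_lit 775)], [(nat_lit 928), (nat_lit 389)]⟩])) (BT.leaf (.inv (nat_lit 2432)))) (BT.node (nat_lit 2435) (BT.leaf (.rel (nat_lit 1764) (nat_lit 1) [(nat_lit 299), (nat_lit 563)] [⟨(nat_lit 2202), [(nat_lit 775)], [(nat_lit 690), (nat_lit 1091)]⟩])) (BT.leaf (.inv (nat_lit 2434))))) (BT.node (nat_lit 2438) (BT.node (nat_lit 2437) (BT.leaf (.rel (nat_lit 2326) (nat_lit 4) [(nat_lit 488), (nat_lit 586)] [⟨(nat_lit 1328), [], [(nat_lit 250)]⟩, ⟨(nat_lit 2263), [(nat_lit 775)], [(nat_lit 620), (nat_lit 1745)]⟩])) (BT.leaf (.inv (nat_lit 2436)))) (BT.node (nat_lit 2439) (BT.leaf (.rel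 (nat_lit 2374) (nat_lit 0) [(nat_lit 255), (nat_lit 956)] [⟨(nat_lit 1411), [(nat_lit 775)], [(nat_lit 462), (nat_lit 1369)]⟩])) (BT.leaf (.inv (nat_lit 2438)))))) (BT.node (nat_lit 2444) (BT.node (nat_lit 2442) (BT.node (nat_lit 2441) (BT.leaf (.rel (nat_lit 2203) (nat_lit 1) [(nat_lit 174), (nat_lit 460)] [⟨(nat_lit 1558), [(nat_lit 775)], [(nat_lit 467), (nat_lit 263)]⟩])) (BT.leaf (.inv (nat_lit 2440)))) (BT.node (nat_lit 2443) (BT.leaf (.rel (nat_lit 2283) (nat_lit 0) [(nat_lit 1032), (nat_lit 596)] [⟨(nat_lit 1040), [(nat_lit 863)], [(nat_lit 424), (nat_lit 586)]⟩])) (BT.leaf (.inv (nat_lit 2442))))) (BT.node (nat_lit 2446) (BT.node (nat_lit 2445) (BT.leaf (.rel (nat_lit 1011) (nat_lit 3) [(nat_lit 196), (nat_lit 222)] [⟨(nat_lit 388), [(nat_lit 437)], [(nat_lit 1235), (nat_lit 628)]⟩, ⟨(nat_lit 2273), [(nat_lit 750)], [(nat_lit 1437), (nat_lit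 533)]⟩])) (BT.leaf (.inv (nat_lit 2444)))) (BT.node (nat_lit 2447) (BT.leaf (.rel (nat_lit 1936) (nat_lit 0) [(nat_lit 1012), (nat_lit 1017)] [⟨(nat_lit 2409), [(nat_lit 1846)], [(nat_lit 468), (nat_lit 236)]⟩])) (BT.leaf (.inv (nat_lit 2446))))))) (BT.node (nat_lit 2456) (BT.node (nat_lit 2452) (BT.node (nat_lit 2450) (BT.node (nat_lit 2449) (BT.leaf (.rel (nat_lit 2027) (nat_lit 5) [(nat_lit 575), (nat_lit 559)] [⟨(nat_lit 2069), [(nat_lit 1922)], [(nat_lit 380), (nat_lit 556)]⟩, ⟨(nat_lit 2335), [], [(nat_lit 257), (nat_lit 289)]⟩])) (BT.leaf (.inv (nat_lit 2448)))) (BT.node (nat_lit 2451) (BT.leaf (.emul [(nat_lit 626), (nat_lit 654)])) (BT.leaf (.rel (nat_lit 1592) (nat_lit 1) [(nat_lit 461), (nat_lit 265)] [⟨(nat_lit 2229), [(nat_lit 2450)], [(nat_lit 1056), (nat_lit 1871)]⟩])))) (BT.node (nat_lit 2454) (BT.node (nat_lit 2453) (BT.leaf (.inv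 (nat_lit 2451))) (BT.leaf (.rel (nat_lit 2350) (nat_lit 0) [(nat_lit 416), (nat_lit 1204)] [⟨(nat_lit 2089), [(nat_lit 2259)], [(nat_lit 445), (nat_lit 646)]⟩]))) (BT.node (nat_lit 2455) (BT.leaf (.inv (nat_lit 2453))) (BT.leaf (.rel (nat_lit 2321) (nat_lit 2) [(nat_lit 827), (nat_lit 449)] [⟨(nat_lit 1993), [(nat_lit 2075)], [(nat_lit 942), (nat_lit 875)]⟩, ⟨(nat_lit 1880), [(nat_lit 1870)], [(nat_lit 406), (nat_lit 294)]⟩]))))) (BT.node (nat_lit 2460) (BT.node (nat_lit 2458) (BT.node (nat_lit 2457) (BT.leaf (.inv (nat_lit 2455))) (BT.leaf (.rel (nat_lit 2397) (nat_lit 1) [(nat_lit 195), (nat_lit 822)] [⟨(nat_lit 1569), [], [(nat_lit 829), (nat_lit 124)]⟩]))) (BT.node (nat_lit 2459) (BT.leaf (.inv (nat_lit 2457))) (BT.leaf (.rel (nat_lit 1271) (nat_lit 2) [(nat_lit 272), (nat_lit 88)] [⟨(nat_lit 1667), [], [(nat_lit 618), (nat_lit 1165)]⟩, ⟨(nat_lit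 2368), [(nat_lit 775)], [(nat_lit 1126), (nat_lit 504)]⟩])))) (BT.node (nat_lit 2462) (BT.node (nat_lit 2461) (BT.leaf (.inv (nat_lit 2459))) (BT.leaf (.rel (nat_lit 2296) (nat_lit 1) [(nat_lit 128), (nat_lit 627)] [⟨(nat_lit 2295), [], [(nat_lit 1126), (nat_lit 1141)]⟩]))) (BT.node (nat_lit 2463) (BT.leaf (.inv (nat_lit 2461))) (BT.leaf (.rel (nat_lit 1476) (nat_lit 3) [(nat_lit 569), (nat_lit 625)] [⟨(nat_lit 2398), [], [(nat_lit 1014), (nat_lit 169)]⟩, ⟨(nat_lit 2169), [], [(nat_lit 521), (nat_lit 712)]⟩]))))))) (BT.node (nat_lit 2480) (BT.node (nat_lit 2472) (BT.node (nat_lit 2468) (BT.node (nat_lit 2466) (BT.node (nat_lit 2465) (BT.leaf (.inv (nat_lit 2463))) (BT.leaf (.rel (nat_lit 2243) (nat_lit 3) [(nat_lit 1242), (nat_lit 627)] [⟨(nat_lit 904), [], [(nat_lit 197), (nat_lit 500)]⟩, ⟨(nat_lit 1621), [(nat_lit 935)], [(nat_lit 905), (nat_lit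 475)]⟩]))) (BT.node (nat_lit 2467) (BT.leaf (.inv (nat_lit 2465))) (BT.leaf (.emul [(nat_lit 564), (nat_lit 1402)])))) (BT.node (nat_lit 2470) (BT.node (nat_lit 2469) (BT.leaf (.rel (nat_lit 2248) (nat_lit 4) [(nat_lit 92), (nat_lit 1410)] [⟨(nat_lit 1260), [(nat_lit 935)], [(nat_lit 1087), (nat_lit 107)]⟩, ⟨(nat_lit 1301), [(nat_lit 2467)], [(nat_lit 675), (nat_lit 1140)]⟩])) (BT.leaf (.inv (nat_lit 2468)))) (BT.node (nat_lit 2471) (BT.leaf (.rel (nat_lit 2339) (nat_lit 3) [(nat_lit 911), (nat_lit 1605)] [⟨(nat_lit 1160), [(nat_lit 935)], [(nat_lit 774), (nat_lit 1849)]⟩, ⟨(nat_lit 2371), [], [(nat_lit 527), (nat_lit 972)]⟩])) (BT.leaf (.rel (nat_lit 2312) (nat_lit 0) [(nat_lit 403), (nat_lit 384)] [⟨(nat_lit 354), [(nat_lit 760)], [(nat_lit 257), (nat_lit 319)]⟩]))))) (BT.node (nat_lit 2476) (BT.node (nat_lit 2474) (BT.node (nat_lit 2473) (BT.leaf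 (.inv (nat_lit 2471))) (BT.leaf (.rel (nat_lit 2194) (nat_lit 0) [(nat_lit 197), (nat_lit 1018)] [⟨(nat_lit 1756), [(nat_lit 935)], [(nat_lit 695), (nat_lit 265)]⟩]))) (BT.node (nat_lit 2475) (BT.leaf (.inv (nat_lit 2473))) (BT.leaf (.rel (nat_lit 2377) (nat_lit 1) [(nat_lit 283), (nat_lit 372)] [⟨(nat_lit 1280), [(nat_lit 775)], [(nat_lit 239), (nat_lit 109)]⟩])))) (BT.node (nat_lit 2478) (BT.node (nat_lit 2477) (BT.leaf (.inv (nat_lit 2475))) (BT.leaf (.rel (nat_lit 1293) (nat_lit 0) [(nat_lit 257), (nat_lit 253)] [⟨(nat_lit 2231), [], [(nat_lit 43), (nat_lit 572)]⟩]))) (BT.node (nat_lit 2479) (BT.leaf (.inv (nat_lit 2477))) (BT.leaf (.rel (nat_lit 425) (nat_lit 3) [(nat_lit 523), (nat_lit 263)] [⟨(nat_lit 2037), [(nat_lit 437)], [(nat_lit 759), (nat_lit 279)]⟩, ⟨(nat_lit 2290), [(nat_lit 1922)], [(nat_lit 914), (nat_lit 898)]⟩])))))) (BT.node (nat_lit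 2488) (BT.node (nat_lit 2484) (BT.node (nat_lit 2482) (BT.node (nat_lit 2481) (BT.leaf (.inv (nat_lit 2479))) (BT.leaf (.rel (nat_lit 2377) (nat_lit 3) [(nat_lit 271), (nat_lit 110)] [⟨(nat_lit 1496), [(nat_lit 935)], [(nat_lit 167), (nat_lit 224)]⟩, ⟨(nat_lit 837), [], [(nat_lit 507), (nat_lit 880)]⟩]))) (BT.node (nat_lit 2483) (BT.leaf (.inv (nat_lit 2481))) (BT.leaf (.rel (nat_lit 2298) (nat_lit 5) [(nat_lit 282), (nat_lit 738)] [⟨(nat_lit 1294), [], [(nat_lit 943), (nat_lit 253)]⟩, ⟨(nat_lit 1519), [], [(nat_lit 450), (nat_lit 1329)]⟩])))) (BT.node (nat_lit 2486) (BT.node (nat_lit 2485) (BT.leaf (.inv (nat_lit 2483))) (BT.leaf (.rel (nat_lit 2421) (nat_lit 0) [(nat_lit 913), (nat_lit 868)] [⟨(nat_lit 1183), [(nat_lit 863)], [(nat_lit 544), (nat_lit 362)]⟩]))) (BT.node (nat_lit 2487) (BT.leaf (.inv (nat_lit 2485))) (BT.leaf (.rel (nat_lit 1676)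 (nat_lit 3) [(nat_lit 1041), (nat_lit 512)] [⟨(nat_lit 973), [(nat_lit 775)], [(nat_lit 404), (nat_lit 475)]⟩, ⟨(nat_lit 2453), [(nat_lit 775)], [(nat_lit 296), (nat_lit 798)]⟩]))))) (BT.node (nat_lit 2492) (BT.node (nat_lit 2490) (BT.node (nat_lit 2489) (BT.leaf (.inv (nat_lit 2487))) (BT.leaf (.rel (nat_lit 958) (nat_lit 4) [(nat_lit 356), (nat_lit 694)] [⟨(nat_lit 1799), [(nat_lit 775)], [(nat_lit 336), (nat_lit 125)]⟩, ⟨(nat_lit 2372), [], [(nat_lit 376), (nat_lit 1537)]⟩]))) (BT.node (nat_lit 2491) (BT.leaf (.inv (nat_lit 2489))) (BT.leaf (.rel (nat_lit 903) (nat_lit 2) [(nat_lit 695), (nat_lit 1025)] [⟨(nat_lit 1608), [(nat_lit 775)], [(nat_lit 469), (nat_lit 124)]⟩, ⟨(nat_lit 2420), [(nat_lit 679)], [(nat_lit 359), (nat_lit 190)]⟩])))) (BT.node (nat_lit 2494) (BT.node (nat_lit 2493) (BT.leaf (.inv (nat_lit 2491))) (BT.leaf (.rel (nat_lit 2388)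 (nat_lit 1) [(nat_lit 254), (nat_lit 163)] [⟨(nat_lit 2293), [(nat_lit 775)], [(nat_lit 292), (nat_lit 124)]⟩]))) (BT.node (nat_lit 2495) (BT.leaf (.rel (nat_lit 2345) (nat_lit 0) [(nat_lit 761), (nat_lit 362)] [⟨(nat_lit 1005), [(nat_lit 935)], [(nat_lit 787), (nat_lit 778)]⟩])) (BT.leaf (.inv (nat_lit 2494)))))))))
noncomputable def cF2496 : BT Fc := (BT.node (nat_lit 2528) (BT.node (nat_lit 2512) (BT.node (nat_lit 2504) (BT.node (nat_lit 2500) (BT.node (nat_lit 2498) (BT.node (nat_lit 2497) (BT.leaf ⟨(nat_lit 3), (nat_lit 9), (nat_lit 9), (nat_lit 0x191b49e69eadd1fa2519e0d7ffa13d8), (nat_lit 0x1fa1694e8bf0abbdb99bc176a2e4265), (nat_lit 0)⟩) (BT.leaf ⟨(nat_lit 3), (nat_lit 9), (nat_lit 9), (nat_lit 0x1fa1694e8bf0abbdb99bc176a2e4265), (nat_lit 0x191b49e69eadd1fa2519e0d7ffa13d8), (nat_lit 0)⟩)) (BT.node (nat_lit 2499) (BT.leaf ⟨(nat_lit 3), (nat_lit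 9), (nat_lit 9), (nat_lit 0x1cab9c5839b2ceb0ad3ac75deb9f73a), (nat_lit 0x1ae601480a5ecea045d580940200e00), (nat_lit 0)⟩) (BT.leaf ⟨(nat_lit 3), (nat_lit 9), (nat_lit 7), (nat_lit 0xe282fe5f5bf5953fcab4be3992f7b7), (nat_lit 0xa1e19b35d951c876c71f213ceb9c53), (nat_lit 0)⟩))) (BT.node (nat_lit 2502) (BT.node (nat_lit 2501) (BT.leaf ⟨(nat_lit 3), (nat_lit 7), (nat_lit 9), (nat_lit 0xa1e19b35d951c876c71f213ceb9c53), (nat_lit 0xe282fe5f5bf5953fcab4be3992f7b7), (nat_lit 0)⟩) (BT.leaf ⟨(nat_lit 3), (nat_lit 8), (nat_lit 9), (nat_lit 0x4808059ea00413fa1022118e98068d), (nat_lit 0x900600605f21402116ff9a112203a3), (nat_lit 0)⟩)) (BT.node (nat_lit 2503) (BT.leaf ⟨(nat_lit 3), (nat_lit 9), (nat_lit 8), (nat_lit 0x900600605f21402116ff9a112203a3), (nat_lit 0x4808059ea00413fa1022118e98068d), (nat_lit 0)⟩) (BT.leaf ⟨(nat_lit 3), (nat_lit 9), (nat_lit 9), (nat_lit 0xfadf9f902b5f8d71b637c48d9f0ca5),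 (nat_lit 0x1a4d9ab46e0d7fea30cb3641f3e374e), (nat_lit 0)⟩)))) (BT.node (nat_lit 2508) (BT.node (nat_lit 2506) (BT.node (nat_lit 2505) (BT.leaf ⟨(nat_lit 3), (nat_lit 9), (nat_lit 9), (nat_lit 0x1a4d9ab46e0d7fea30cb3641f3e374e), (nat_lit 0xfadf9f902b5f8d71b637c48d9f0ca5), (nat_lit 0)⟩) (BT.leaf ⟨(nat_lit 3), (nat_lit 9), (nat_lit 9), (nat_lit 0x1f8eead00c007a2106b9a5f00640410), (nat_lit 0x16a2fc2d2bd4c70bb56898f7a6f62ae), (nat_lit 0)⟩)) (BT.node (nat_lit 2507) (BT.leaf ⟨(nat_lit 3), (nat_lit 9), (nat_lit 7), (nat_lit 0x11b9f995afc6f0d663a3efb3651b1e3), (nat_lit 0x102039fe3d73802024018214bdc6c80), (nat_lit 0)⟩) (BT.leaf ⟨(nat_lit 3), (nat_lit 7), (nat_lit 9), (nat_lit 0x102039fe3d73802024018214bdc6c80), (nat_lit 0x11b9f995afc6f0d663a3efb3651b1e3), (nat_lit 0)⟩))) (BT.node (nat_lit 2510) (BT.node (nat_lit 2509) (BT.leaf ⟨(nat_lit 2), (nat_lit 4), (nat_lit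 4), (nat_lit 0x15cd801026be4108802f200b8c84140), (nat_lit 0), (nat_lit 0)⟩) (BT.leaf ⟨(nat_lit 2), (nat_lit 4), (nat_lit 4), (nat_lit 0x17ff8307ce8ecd68cd46c8c6cba2693), (nat_lit 0), (nat_lit 0)⟩)) (BT.node (nat_lit 2511) (BT.leaf ⟨(nat_lit 3), (nat_lit 7), (nat_lit 9), (nat_lit 0x1078504f3120207e308210022042180), (nat_lit 0x1cc8044083ba1237e00c05095c05088), (nat_lit 0)⟩) (BT.leaf ⟨(nat_lit 3), (nat_lit 9), (nat_lit 7), (nat_lit 0x1cc8044083ba1237e00c05095c05088), (nat_lit 0x1078504f3120207e308210022042180), (nat_lit 0)⟩))))) (BT.node (nat_lit 2520) (BT.node (nat_lit 2516) (BT.node (nat_lit 2514) (BT.node (nat_lit 2513) (BT.leaf ⟨(nat_lit 3), (nat_lit 8), (nat_lit 9), (nat_lit 0x14bd97927ab9f6dcb6156e04ac7d12f), (nat_lit 0x241548120317e08872a022fce08014), (nat_lit 0)⟩) (BT.leaf ⟨(nat_lit 3), (nat_lit 9), (nat_lit 8), (nat_lit 0x241548120317e08872a022fce08014),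 (nat_lit 0x14bd97927ab9f6dcb6156e04ac7d12f), (nat_lit 0)⟩)) (BT.node (nat_lit 2515) (BT.leaf ⟨(nat_lit 3), (nat_lit 9), (nat_lit 3), (nat_lit 0x127076c8e83d37b13e9e93f259d259e), (nat_lit 0x167b4682fc74b8c90102280c01af900), (nat_lit 0)⟩) (BT.leaf ⟨(nat_lit 3), (nat_lit 3), (nat_lit 9), (nat_lit 0x167b4682fc74b8c90102280c01af900), (nat_lit 0x127076c8e83d37b13e9e93f259d259e), (nat_lit 0)⟩))) (BT.node (nat_lit 2518) (BT.node (nat_lit 2517) (BT.leaf ⟨(nat_lit 3), (nat_lit 9), (nat_lit 9), (nat_lit 0x13645bad2c2a739a487cb07ceb9972a), (nat_lit 0xf0c1027f05009018021141eb487a99), (nat_lit 0)⟩) (BT.leaf ⟨(nat_lit 3), (nat_lit 9), (nat_lit 9), (nat_lit 0xf0c1027f05009018021141eb487a99), (nat_lit 0x13645bad2c2a739a487cb07ceb9972a), (nat_lit 0)⟩)) (BT.node (nat_lit 2519) (BT.leaf ⟨(nat_lit 3), (nat_lit 9), (nat_lit 7), (nat_lit 0x27a4e6c197c3b64fc9ea9737a4d176),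 (nat_lit 0x1bc35a44d638738d96f6df85e5356e4), (nat_lit 0)⟩) (BT.leaf ⟨(nat_lit 3), (nat_lit 7), (nat_lit 9), (nat_lit 0x1bc35a44d638738d96f6df85e5356e4), (nat_lit 0x27a4e6c197c3b64fc9ea9737a4d176), (nat_lit 0)⟩)))) (BT.node (nat_lit 2524) (BT.node (nat_lit 2522) (BT.node (nat_lit 2521) (BT.leaf ⟨(nat_lit 3), (nat_lit 7), (nat_lit 9), (nat_lit 0x8d87d1dddde75f49b8a32b52f2c1f5), (nat_lit 0x481879d121d589f81191caa428110), (nat_lit 0)⟩) (BT.leaf ⟨(nat_lit 3), (nat_lit 9), (nat_lit 7), (nat_lit 0x481879d121d589f81191caa428110), (nat_lit 0x8d87d1dddde75f49b8a32b52f2c1f5), (nat_lit 0)⟩)) (BT.node (nat_lit 2523) (BT.leaf ⟨(nat_lit 3), (nat_lit 9), (nat_lit 7), (nat_lit 0xcbd0085f404a02a36734808810269e), (nat_lit 0xc02841022751f1201bd20877ac9f), (nat_lit 0)⟩) (BT.leaf ⟨(nat_lit 3), (nat_lit 7), (nat_lit 9), (nat_lit 0xc02841022751f1201bd20877ac9f), (nat_lit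 0xcbd0085f404a02a36734808810269e), (nat_lit 0)⟩))) (BT.node (nat_lit 2526) (BT.node (nat_lit 2525) (BT.leaf ⟨(nat_lit 2), (nat_lit 8), (nat_lit 8), (nat_lit 0x74777f2187a554e2e933af756a59f5), (nat_lit 0), (nat_lit 0)⟩) (BT.leaf ⟨(nat_lit 3), (nat_lit 9), (nat_lit 8), (nat_lit 0x137a1d5573ce80080204097c203e3), (nat_lit 0x1d3be30cbc8dd13ab2aee85d1f83346), (nat_lit 0)⟩)) (BT.node (nat_lit 2527) (BT.leaf ⟨(nat_lit 3), (nat_lit 8), (nat_lit 9), (nat_lit 0x1d3be30cbc8dd13ab2aee85d1f83346), (nat_lit 0x137a1d5573ce80080204097c203e3), (nat_lit 0)⟩) (BT.leaf ⟨(nat_lit 3), (nat_lit 5), (nat_lit 9), (nat_lit 0x27a5f1769bd27189f7d93d25876c1e), (nat_lit 0xbca00d5240c0081573c8d8ea8035f), (nat_lit 0)⟩)))))) (BT.node (nat_lit 2544) (BT.node (nat_lit 2536) (BT.node (nat_lit 2532) (BT.node (nat_lit 2530) (BT.node (nat_lit 2529) (BT.leaf ⟨(nat_lit 3), (nat_lit 9), (nat_lit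 5), (nat_lit 0xbca00d5240c0081573c8d8ea8035f), (nat_lit 0x27a5f1769bd27189f7d93d25876c1e), (nat_lit 0)⟩) (BT.leaf ⟨(nat_lit 3), (nat_lit 7), (nat_lit 9), (nat_lit 0x1d099ad19e0dd9a52f467b06cbe3346), (nat_lit 0x9fd10028061c6810ed421e283d6dc8), (nat_lit 0)⟩)) (BT.node (nat_lit 2531) (BT.leaf ⟨(nat_lit 3), (nat_lit 9), (nat_lit 7), (nat_lit 0x9fd10028061c6810ed421e283d6dc8), (nat_lit 0x1d099ad19e0dd9a52f467b06cbe3346), (nat_lit 0)⟩) (BT.leaf ⟨(nat_lit 3), (nat_lit 7), (nat_lit 9), (nat_lit 0x100601408d732004f41068cbd210500), (nat_lit 0x756a59d71ab7547d36c38af5777e58), (nat_lit 0)⟩))) (BT.node (nat_lit 2534) (BT.node (nat_lit 2533) (BT.leaf ⟨(nat_lit 3), (nat_lit 9), (nat_lit 7), (nat_lit 0x756a59d71ab7547d36c38af5777e58), (nat_lit 0x100601408d732004f41068cbd210500), (nat_lit 0)⟩) (BT.leaf ⟨(nat_lit 3), (nat_lit 9), (nat_lit 7), (nat_lit 0x1bd75a31cdf9fd17a72139dbdb7a6d4),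 (nat_lit 0x1d13232ae7b1c1aa307ce8f7ff49ca5), (nat_lit 0)⟩)) (BT.node (nat_lit 2535) (BT.leaf ⟨(nat_lit 3), (nat_lit 7), (nat_lit 9), (nat_lit 0x1d13232ae7b1c1aa307ce8f7ff49ca5), (nat_lit 0x1bd75a31cdf9fd17a72139dbdb7a6d4), (nat_lit 0)⟩) (BT.leaf ⟨(nat_lit 3), (nat_lit 9), (nat_lit 9), (nat_lit 0x1fa2f619b2ec996f431cad07a2f52ae), (nat_lit 0xd8d1ce74900280c0081f7422060082), (nat_lit 0)⟩)))) (BT.node (nat_lit 2540) (BT.node (nat_lit 2538) (BT.node (nat_lit 2537) (BT.leaf ⟨(nat_lit 3), (nat_lit 9), (nat_lit 9), (nat_lit 0xd8d1ce74900280c0081f7422060082), (nat_lit 0x1fa2f619b2ec996f431cad07a2f52ae), (nat_lit 0)⟩) (BT.leaf ⟨(nat_lit 3), (nat_lit 9), (nat_lit 8), (nat_lit 0x66e39e2c50f6999abfef219ce394f3), (nat_lit 0x1edef51e8ea3fa0bb4e8c176a2e45e9), (nat_lit 0)⟩)) (BT.node (nat_lit 2539) (BT.leaf ⟨(nat_lit 3), (nat_lit 8), (nat_lit 9), (nat_lit 0x1edef51e8ea3fa0bb4e8c176a2e45e9),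 (nat_lit 0x66e39e2c50f6999abfef219ce394f3), (nat_lit 0)⟩) (BT.leaf ⟨(nat_lit 3), (nat_lit 7), (nat_lit 9), (nat_lit 0x1d1a0008004004001004de84bd5cde8), (nat_lit 0x8110085fc016345cfe84814eb4f300), (nat_lit 0)⟩))) (BT.node (nat_lit 2542) (BT.node (nat_lit 2541) (BT.leaf ⟨(nat_lit 3), (nat_lit 9), (nat_lit 7), (nat_lit 0x8110085fc016345cfe84814eb4f300), (nat_lit 0x1d1a0008004004001004de84bd5cde8), (nat_lit 0)⟩) (BT.leaf ⟨(nat_lit 3), (nat_lit 9), (nat_lit 7), (nat_lit 0xee75c95a576af6ff8b9b06be713f51), (nat_lit 0x93d6c530612f9e1a7f84008bb3220), (nat_lit 0)⟩)) (BT.node (nat_lit 2543) (BT.leaf ⟨(nat_lit 3), (nat_lit 7), (nat_lit 9), (nat_lit 0x93d6c530612f9e1a7f84008bb3220), (nat_lit 0xee75c95a576af6ff8b9b06be713f51), (nat_lit 0)⟩) (BT.leaf ⟨(nat_lit 3), (nat_lit 9), (nat_lit 9), (nat_lit 0x43d3fc20f5bd994c920786088185c8), (nat_lit 0x93f956e4eac8401801003004488050),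 (nat_lit 0)⟩))))) (BT.node (nat_lit 2552) (BT.node (nat_lit 2548) (BT.node (nat_lit 2546) (BT.node (nat_lit 2545) (BT.leaf ⟨(nat_lit 3), (nat_lit 9), (nat_lit 9), (nat_lit 0x93f956e4eac8401801003004488050), (nat_lit 0x43d3fc20f5bd994c920786088185c8), (nat_lit 0)⟩) (BT.leaf ⟨(nat_lit 3), (nat_lit 9), (nat_lit 7), (nat_lit 0x1bbdea9d1a97960e2b6c87b754fa9dd), (nat_lit 0x14eb8d732749ceb9507cacab4b77e3a), (nat_lit 0)⟩)) (BT.node (nat_lit 2547) (BT.leaf ⟨(nat_lit 3), (nat_lit 7), (nat_lit 9), (nat_lit 0x14eb8d732749ceb9507cacab4b77e3a), (nat_lit 0x1bbdea9d1a97960e2b6c87b754fa9dd), (nat_lit 0)⟩) (BT.leaf ⟨(nat_lit 3), (nat_lit 9), (nat_lit 7), (nat_lit 0x1cca04208bc0421f584856202814127), (nat_lit 0x9750ffb7ba417d2f5651cd97d3fa5f), (nat_lit 0)⟩))) (BT.node (nat_lit 2550) (BT.node (nat_lit 2549) (BT.leaf ⟨(nat_lit 3), (nat_lit 7), (nat_lit 9), (nat_lit 0x9750ffb7ba417d2f5651cd97d3fa5f),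 (nat_lit 0x1cca04208bc0421f584856202814127), (nat_lit 0)⟩) (BT.leaf ⟨(nat_lit 2), (nat_lit 9), (nat_lit 9), (nat_lit 0x27a4fb1383d37ad8c9c92d26a4769e), (nat_lit 0), (nat_lit 0)⟩)) (BT.node (nat_lit 2551) (BT.leaf ⟨(nat_lit 3), (nat_lit 9), (nat_lit 7), (nat_lit 0x23c692f002080012002011cc2049e), (nat_lit 0x1d1096ef6004028034027c3e3f9c471), (nat_lit 0)⟩) (BT.leaf ⟨(nat_lit 3), (nat_lit 7), (nat_lit 9), (nat_lit 0x1d1096ef6004028034027c3e3f9c471), (nat_lit 0x23c692f002080012002011cc2049e), (nat_lit 0)⟩)))) (BT.node (nat_lit 2556) (BT.node (nat_lit 2554) (BT.node (nat_lit 2553) (BT.leaf ⟨(nat_lit 3), (nat_lit 7), (nat_lit 9), (nat_lit 0x49eae66925e5bc7d12dfb731cd790f), (nat_lit 0x4ba63e69b624bc9690fa5e6bc17927), (nat_lit 0)⟩) (BT.leaf ⟨(nat_lit 3), (nat_lit 9), (nat_lit 7), (nat_lit 0x4ba63e69b624bc9690fa5e6bc17927), (nat_lit 0x49eae66925e5bc7d12dfb731cd790f),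 (nat_lit 0)⟩)) (BT.node (nat_lit 2555) (BT.leaf ⟨(nat_lit 3), (nat_lit 7), (nat_lit 9), (nat_lit 0x1e17c7d8de1ba37c679df12997e6fad), (nat_lit 0xae50078d020200eabe300410080020), (nat_lit 0)⟩) (BT.leaf ⟨(nat_lit 3), (nat_lit 9), (nat_lit 7), (nat_lit 0xae50078d020200eabe300410080020), (nat_lit 0x1e17c7d8de1ba37c679df12997e6fad), (nat_lit 0)⟩))) (BT.node (nat_lit 2558) (BT.node (nat_lit 2557) (BT.leaf ⟨(nat_lit 3), (nat_lit 8), (nat_lit 9), (nat_lit 0x751eab6c1f552cfa9d53bb698aac3d), (nat_lit 0x1d5809011bf1238e2814dc8fcc18090), (nat_lit 0)⟩) (BT.leaf ⟨(nat_lit 3), (nat_lit 9), (nat_lit 8), (nat_lit 0x1d5809011bf1238e2814dc8fcc18090), (nat_lit 0x751eab6c1f552cfa9d53bb698aac3d), (nat_lit 0)⟩)) (BT.node (nat_lit 2559) (BT.leaf ⟨(nat_lit 3), (nat_lit 7), (nat_lit 9), (nat_lit 0xfcfcec63e5444372090eac0c09f850), (nat_lit 0x1ae64065f800bd2014088207a19d09e),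 (nat_lit 0)⟩) (BT.leaf ⟨(nat_lit 3), (nat_lit 9), (nat_lit 7), (nat_lit 0x1ae64065f800bd2014088207a19d09e), (nat_lit 0xfcfcec63e5444372090eac0c09f850), (nat_lit 0)⟩)))))))
noncomputable def cP2496 : BT Pf := (BT.node (nat_lit 2528) (BT.node (nat_lit 2512) (BT.node (nat_lit 2504) (BT.node (nat_lit 2500) (BT.node (nat_lit 2498) (BT.node (nat_lit 2497) (BT.leaf (.rel (nat_lit 2469) (nat_lit 5) [(nat_lit 164), (nat_lit 162)] [⟨(nat_lit 1015), [], [(nat_lit 570), (nat_lit 593)]⟩, ⟨(nat_lit 2267), [(nat_lit 775)], [(nat_lit 482), (nat_lit 390)]⟩])) (BT.leaf (.inv (nat_lit 2496)))) (BT.node (nat_lit 2499) (BT.leaf (.rel (nat_lit 2194) (nat_lit 5) [(nat_lit 764), (nat_lit 108)] [⟨(nat_lit 1265), [(nat_lit 775)], [(nat_lit 239), (nat_lit 478)]⟩, ⟨(nat_lit 2328), [], [(nat_lit 544), (nat_lit 202)]⟩])) (BT.leaf (.rel (nat_lit 1048) (nat_lit 3) [(nat_lit 829),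 (nat_lit 90)] [⟨(nat_lit 1340), [(nat_lit 935)], [(nat_lit 1056), (nat_lit 662)]⟩, ⟨(nat_lit 2464), [(nat_lit 935)], [(nat_lit 957), (nat_lit 1226)]⟩])))) (BT.node (nat_lit 2502) (BT.node (nat_lit 2501) (BT.leaf (.inv (nat_lit 2499))) (BT.leaf (.rel (nat_lit 2168) (nat_lit 4) [(nat_lit 226), (nat_lit 264)] [⟨(nat_lit 448), [], [(nat_lit 285), (nat_lit 1133)]⟩, ⟨(nat_lit 1943), [(nat_lit 680)], [(nat_lit 538), (nat_lit 627)]⟩]))) (BT.node (nat_lit 2503) (BT.leaf (.inv (nat_lit 2501))) (BT.leaf (.rel (nat_lit 2209) (nat_lit 1) [(nat_lit 1092), (nat_lit 795)] [⟨(nat_lit 2380), [(nat_lit 443)], [(nat_lit 250), (nat_lit 1369)]⟩]))))) (BT.node (nat_lit 2508) (BT.node (nat_lit 2506) (BT.node (nat_lit 2505) (BT.leaf (.inv (nat_lit 2503))) (BT.leaf (.rel (nat_lit 2243) (nat_lit 3) [(nat_lit 153), (nat_lit 449)] [⟨(nat_lit 1690), [(nat_lit 775)], [(nat_lit 502),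 (nat_lit 581)]⟩, ⟨(nat_lit 2440), [(nat_lit 775)], [(nat_lit 905)]⟩]))) (BT.node (nat_lit 2507) (BT.leaf (.rel (nat_lit 1795) (nat_lit 3) [(nat_lit 902), (nat_lit 901)] [⟨(nat_lit 1528), [], [(nat_lit 321), (nat_lit 395)]⟩, ⟨(nat_lit 2199), [(nat_lit 935)], [(nat_lit 195), (nat_lit 142)]⟩])) (BT.leaf (.inv (nat_lit 2506))))) (BT.node (nat_lit 2510) (BT.node (nat_lit 2509) (BT.leaf (.emul [(nat_lit 552), (nat_lit 1277)])) (BT.leaf (.emul [(nat_lit 558), (nat_lit 2508)]))) (BT.node (nat_lit 2511) (BT.leaf (.rel (nat_lit 2216) (nat_lit 5) [(nat_lit 1242), (nat_lit 306)] [⟨(nat_lit 780), [(nat_lit 2509)], [(nat_lit 422), (nat_lit 248)]⟩, ⟨(nat_lit 1215), [], [(nat_lit 550), (nat_lit 874)]⟩])) (BT.leaf (.inv (nat_lit 2510))))))) (BT.node (nat_lit 2520) (BT.node (nat_lit 2516) (BT.node (nat_lit 2514) (BT.node (nat_lit 2513) (BT.leaf (.rel (nat_lit 2444)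 (nat_lit 5) [(nat_lit 689), (nat_lit 529)] [⟨(nat_lit 1178), [], [(nat_lit 520), (nat_lit 328)]⟩, ⟨(nat_lit 1950), [(nat_lit 775)], [(nat_lit 177), (nat_lit 172)]⟩])) (BT.leaf (.inv (nat_lit 2512)))) (BT.node (nat_lit 2515) (BT.leaf (.rel (nat_lit 820) (nat_lit 3) [(nat_lit 782), (nat_lit 1088)] [⟨(nat_lit 1105), [(nat_lit 775)], [(nat_lit 763), (nat_lit 162)]⟩, ⟨(nat_lit 2225), [], [(nat_lit 2061), (nat_lit 874)]⟩])) (BT.leaf (.inv (nat_lit 2514))))) (BT.node (nat_lit 2518) (BT.node (nat_lit 2517) (BT.leaf (.rel (nat_lit 2192) (nat_lit 5) [(nat_lit 321), (nat_lit 1)] [⟨(nat_lit 1762), [], [(nat_lit 391), (nat_lit 813)]⟩, ⟨(nat_lit 2267), [(nat_lit 775)], [(nat_lit 445), (nat_lit 557)]⟩])) (BT.leaf (.inv (nat_lit 2516)))) (BT.node (nat_lit 2519) (BT.leaf (.rel (nat_lit 1652) (nat_lit 1) [(nat_lit 2124), (nat_lit 1216)] [⟨(nat_lit 2222), [], [(nat_lit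 360), (nat_lit 627)]⟩])) (BT.leaf (.inv (nat_lit 2518)))))) (BT.node (nat_lit 2524) (BT.node (nat_lit 2522) (BT.node (nat_lit 2521) (BT.leaf (.rel (nat_lit 2332) (nat_lit 2) [(nat_lit 2061), (nat_lit 362)] [⟨(nat_lit 1641), [], [(nat_lit 446), (nat_lit 580)]⟩, ⟨(nat_lit 1252), [(nat_lit 935)], [(nat_lit 574), (nat_lit 532)]⟩])) (BT.leaf (.inv (nat_lit 2520)))) (BT.node (nat_lit 2523) (BT.leaf (.rel (nat_lit 966) (nat_lit 1) [(nat_lit 970), (nat_lit 1070)] [⟨(nat_lit 2313), [(nat_lit 1073)], [(nat_lit 256), (nat_lit 386)]⟩])) (BT.leaf (.inv (nat_lit 2522))))) (BT.node (nat_lit 2526) (BT.node (nat_lit 2525) (BT.leaf (.emul [(nat_lit 1870), (nat_lit 2376)])) (BT.leaf (.rel (nat_lit 2108) (nat_lit 0) [(nat_lit 764), (nat_lit 676)] [⟨(nat_lit 2288), [(nat_lit 2524)], [(nat_lit 255), (nat_lit 401)]⟩]))) (BT.node (nat_lit 2527) (BT.leaf (.inv (nat_lit 2525)))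 (BT.leaf (.rel (nat_lit 2253) (nat_lit 0) [(nat_lit 260), (nat_lit 1376)] [⟨(nat_lit 1096), [(nat_lit 775)], [(nat_lit 94), (nat_lit 1279)]⟩]))))))) (BT.node (nat_lit 2544) (BT.node (nat_lit 2536) (BT.node (nat_lit 2532) (BT.node (nat_lit 2530) (BT.node (nat_lit 2529) (BT.leaf (.inv (nat_lit 2527))) (BT.leaf (.rel (nat_lit 2337) (nat_lit 0) [(nat_lit 1012), (nat_lit 140)] [⟨(nat_lit 1675), [(nat_lit 775)], [(nat_lit 43), (nat_lit 125)]⟩]))) (BT.node (nat_lit 2531) (BT.leaf (.inv (nat_lit 2529))) (BT.leaf (.rel (nat_lit 2221) (nat_lit 4) [(nat_lit 428), (nat_lit 290)] [⟨(nat_lit 1400), [], [(nat_lit 1056), (nat_lit 559)]⟩, ⟨(nat_lit 1139), [(nat_lit 935)], [(nat_lit 167), (nat_lit 646)]⟩])))) (BT.node (nat_lit 2534) (BT.node (nat_lit 2533) (BT.leaf (.inv (nat_lit 2531))) (BT.leaf (.rel (nat_lit 2070) (nat_lit 4) [(nat_lit 447), (nat_lit 1223)] [⟨(nat_lit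 1861), [(nat_lit 2524)], [(nat_lit 990), (nat_lit 797)]⟩, ⟨(nat_lit 2201), [(nat_lit 935)], [(nat_lit 1056), (nat_lit 478)]⟩]))) (BT.node (nat_lit 2535) (BT.leaf (.inv (nat_lit 2533))) (BT.leaf (.rel (nat_lit 2434) (nat_lit 2) [(nat_lit 271), (nat_lit 109)] [⟨(nat_lit 1470), [(nat_lit 775)], [(nat_lit 284), (nat_lit 421)]⟩, ⟨(nat_lit 2336), [], [(nat_lit 256), (nat_lit 368)]⟩]))))) (BT.node (nat_lit 2540) (BT.node (nat_lit 2538) (BT.node (nat_lit 2537) (BT.leaf (.inv (nat_lit 2535))) (BT.leaf (.rel (nat_lit 2038) (nat_lit 2) [(nat_lit 774), (nat_lit 580)] [⟨(nat_lit 1667), [(nat_lit 935)], [(nat_lit 463), (nat_lit 293)]⟩, ⟨(nat_lit 2481), [(nat_lit 935)], [(nat_lit 726), (nat_lit 205)]⟩]))) (BT.node (nat_lit 2539) (BT.leaf (.inv (nat_lit 2537))) (BT.leaf (.rel (nat_lit 2277) (nat_lit 5) [(nat_lit 815), (nat_lit 956)] [⟨(nat_lit 2507), [(nat_lit 775)],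 [(nat_lit 423), (nat_lit 1375)]⟩, ⟨(nat_lit 2444), [(nat_lit 2311)], [(nat_lit 1308), (nat_lit 369)]⟩])))) (BT.node (nat_lit 2542) (BT.node (nat_lit 2541) (BT.leaf (.inv (nat_lit 2539))) (BT.leaf (.rel (nat_lit 1327) (nat_lit 1) [(nat_lit 832), (nat_lit 1036)] [⟨(nat_lit 2398), [(nat_lit 775)], [(nat_lit 358), (nat_lit 566)]⟩]))) (BT.node (nat_lit 2543) (BT.leaf (.inv (nat_lit 2541))) (BT.leaf (.rel (nat_lit 2389) (nat_lit 5) [(nat_lit 690), (nat_lit 497)] [⟨(nat_lit 1061), [(nat_lit 775)], [(nat_lit 164), (nat_lit 459)]⟩, ⟨(nat_lit 2445), [], [(nat_lit 695), (nat_lit 369)]⟩])))))) (BT.node (nat_lit 2552) (BT.node (nat_lit 2548) (BT.node (nat_lit 2546) (BT.node (nat_lit 2545) (BT.leaf (.inv (nat_lit 2543))) (BT.leaf (.rel (nat_lit 1479) (nat_lit 0) [(nat_lit 1600), (nat_lit 248)] [⟨(nat_lit 2336), [], [(nat_lit 360), (nat_lit 347)]⟩]))) (BT.node (nat_lit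 2547) (BT.leaf (.inv (nat_lit 2545))) (BT.leaf (.rel (nat_lit 1542) (nat_lit 1) [(nat_lit 825), (nat_lit 328)] [⟨(nat_lit 2383), [(nat_lit 935)], [(nat_lit 406), (nat_lit 877)]⟩])))) (BT.node (nat_lit 2550) (BT.node (nat_lit 2549) (BT.leaf (.inv (nat_lit 2547))) (BT.leaf (.emul [(nat_lit 2167), (nat_lit 2237)]))) (BT.node (nat_lit 2551) (BT.leaf (.rel (nat_lit 2353) (nat_lit 2) [(nat_lit 392), (nat_lit 162)] [⟨(nat_lit 2393), [(nat_lit 2549)], [(nat_lit 1174), (nat_lit 460)]⟩, ⟨(nat_lit 2516), [(nat_lit 2549)], [(nat_lit 1189), (nat_lit 874)]⟩])) (BT.leaf (.inv (nat_lit 2550)))))) (BT.node (nat_lit 2556) (BT.node (nat_lit 2554) (BT.node (nat_lit 2553) (BT.leaf (.rel (nat_lit 2207) (nat_lit 0) [(nat_lit 943), (nat_lit 109)] [⟨(nat_lit 1566), [(nat_lit 935)], [(nat_lit 734), (nat_lit 504)]⟩])) (BT.leaf (.inv (nat_lit 2552)))) (BT.node (nat_lit 2555)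 (BT.leaf (.rel (nat_lit 2544) (nat_lit 5) [(nat_lit 653), (nat_lit 478)] [⟨(nat_lit 2493), [(nat_lit 2549)], [(nat_lit 759), (nat_lit 89)]⟩, ⟨(nat_lit 2469), [(nat_lit 2413)], [(nat_lit 292), (nat_lit 389)]⟩])) (BT.leaf (.inv (nat_lit 2554))))) (BT.node (nat_lit 2558) (BT.node (nat_lit 2557) (BT.leaf (.rel (nat_lit 2194) (nat_lit 3) [(nat_lit 350), (nat_lit 1088)] [⟨(nat_lit 1742), [(nat_lit 775)], [(nat_lit 1004), (nat_lit 497)]⟩, ⟨(nat_lit 1955), [(nat_lit 935)], [(nat_lit 259), (nat_lit 1192)]⟩])) (BT.leaf (.inv (nat_lit 2556)))) (BT.node (nat_lit 2559) (BT.leaf (.rel (nat_lit 2360) (nat_lit 1) [(nat_lit 941), (nat_lit 270)] [⟨(nat_lit 2052), [(nat_lit 1883)], [(nat_lit 1337), (nat_lit 605)]⟩])) (BT.leaf (.inv (nat_lit 2558)))))))))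

end CF.Dce.J4
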