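import Cfsg.Agent.Dce.Defs

set_option autoImplicit false
set_option maxRecDepth 1000000
set_option maxHeartbeats 0
set_option Elab.async false

namespace CF.Dce.J4
open CF.Comp

noncomputable def cF2560 : BT Fc := (BT.node (nat_lit 2592) (BT.node (nat_lit 2576) (BT.node (nat_lit 2568) (BT.node (nat_lit 2564) (BT.node (nat_lit 2562) (BT.node (nat_lit 2561) (BT.leaf ⟨(nat_lit 3), (nat_lit 9), (nat_lit 7), (nat_lit 0x189fa88e6d72aa54c8b9562ae5dcc4d), (nat_lit 0x7140875602206154f9d0a17e1f9f2a), (nat_lit 0)⟩) (BT.leaf ⟨(nat_lit 3), (nat_lit 7), (nat_lit 9), (nat_lit 0x7140875602206154f9d0a17e1f9f2a), (nat_lit 0x189fa88e6d72aa54c8b9562ae5dcc4d), (nat_lit 0)⟩)) (BT.node (nat_lit 2563) (BT.leaf ⟨(nat_lit 3), (nat_lit 9), (nat_lit 7), (nat_lit 0x13797c995280113837cdef56a020c40), (nat_lit 0x1378b79950a0110247cd7461802021f), (nat_lit 0)⟩) (BT.leaf ⟨(nat_lit 3),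 (nat_lit 7), (nat_lit 9), (nat_lit 0x1378b79950a0110247cd7461802021f), (nat_lit 0x13797c995280113837cdef56a020c40), (nat_lit 0)⟩))) (BT.node (nat_lit 2566) (BT.node (nat_lit 2565) (BT.leaf ⟨(nat_lit 3), (nat_lit 9), (nat_lit 7), (nat_lit 0x10100020de8756f400802020239804), (nat_lit 0x357909d5baa75c7d1f587adb2a5e93), (nat_lit 0)⟩) (BT.leaf ⟨(nat_lit 3), (nat_lit 7), (nat_lit 9), (nat_lit 0x357909d5baa75c7d1f587adb2a5e93), (nat_lit 0x10100020de8756f400802020239804), (nat_lit 0)⟩)) (BT.node (nat_lit 2567) (BT.leaf ⟨(nat_lit 3), (nat_lit 9), (nat_lit 7), (nat_lit 0x1b06a5b13b3d26a4b0ed93c9a9ec48e), (nat_lit 0x1ce19d5c9e6cd63be2cce7699ff573), (nat_lit 0)⟩) (BT.leaf ⟨(nat_lit 3), (nat_lit 7), (nat_lit 9), (nat_lit 0x1ce19d5c9e6cd63be2cce7699ff573), (nat_lit 0x1b06a5b13b3d26a4b0ed93c9a9ec48e), (nat_lit 0)⟩)))) (BT.node (nat_lit 2572) (BT.node (nat_lit 2570)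 (BT.node (nat_lit 2569) (BT.leaf ⟨(nat_lit 3), (nat_lit 9), (nat_lit 8), (nat_lit 0x19d37a1b2deabd3fa44d50e73b7e6e4), (nat_lit 0x15cc76c71ce61cf164778e518d9abfe), (nat_lit 0)⟩) (BT.leaf ⟨(nat_lit 3), (nat_lit 8), (nat_lit 9), (nat_lit 0x15cc76c71ce61cf164778e518d9abfe), (nat_lit 0x19d37a1b2deabd3fa44d50e73b7e6e4), (nat_lit 0)⟩)) (BT.node (nat_lit 2571) (BT.leaf ⟨(nat_lit 3), (nat_lit 9), (nat_lit 7), (nat_lit 0x1f6f6a1cede9bf13567450e6c8bcaf4), (nat_lit 0x10237e02801482084088e65783c280c), (nat_lit 0)⟩) (BT.leaf ⟨(nat_lit 3), (nat_lit 7), (nat_lit 9), (nat_lit 0x10237e02801482084088e65783c280c), (nat_lit 0x1f6f6a1cede9bf13567450e6c8bcaf4), (nat_lit 0)⟩))) (BT.node (nat_lit 2574) (BT.node (nat_lit 2573) (BT.leaf ⟨(nat_lit 3), (nat_lit 9), (nat_lit 7), (nat_lit 0x4b800de98e42064f8034bc40500809), (nat_lit 0x4247030f3a4fc0889038aaa40924f), (nat_lit 0)⟩)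 (BT.leaf ⟨(nat_lit 3), (nat_lit 7), (nat_lit 9), (nat_lit 0x4247030f3a4fc0889038aaa40924f), (nat_lit 0x4b800de98e42064f8034bc40500809), (nat_lit 0)⟩)) (BT.node (nat_lit 2575) (BT.leaf ⟨(nat_lit 3), (nat_lit 9), (nat_lit 9), (nat_lit 0xbd719002206031d646210481dcff4), (nat_lit 0x1ced00881570979f1747043bd4089d4), (nat_lit 0)⟩) (BT.leaf ⟨(nat_lit 3), (nat_lit 9), (nat_lit 7), (nat_lit 0x18004f40068d202044106751032fd2f), (nat_lit 0x20140188100324b1270141239947b), (nat_lit 0)⟩))))) (BT.node (nat_lit 2584) (BT.node (nat_lit 2580) (BT.node (nat_lit 2578) (BT.node (nat_lit 2577) (BT.leaf ⟨(nat_lit 3), (nat_lit 7), (nat_lit 9), (nat_lit 0x20140188100324b1270141239947b), (nat_lit 0x18004f40068d202044106751032fd2f), (nat_lit 0)⟩) (BT.leaf ⟨(nat_lit 3), (nat_lit 9), (nat_lit 7), (nat_lit 0xffbcefcd627e275178f4cb962e970d), (nat_lit 0xac55dc4d1cdb2affaf9d72a6554ab8),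 (nat_lit 0)⟩)) (BT.node (nat_lit 2579) (BT.leaf ⟨(nat_lit 3), (nat_lit 7), (nat_lit 9), (nat_lit 0xac55dc4d1cdb2affaf9d72a6554ab8), (nat_lit 0xffbcefcd627e275178f4cb962e970d), (nat_lit 0)⟩) (BT.leaf ⟨(nat_lit 3), (nat_lit 9), (nat_lit 7), (nat_lit 0x4bd6602f24f857514c735ff6c9692e), (nat_lit 0x1bbceabd5a97c846add5cb0655c5693), (nat_lit 0)⟩))) (BT.node (nat_lit 2582) (BT.node (nat_lit 2581) (BT.leaf ⟨(nat_lit 3), (nat_lit 7), (nat_lit 9), (nat_lit 0x1bbceabd5a97c846add5cb0655c5693), (nat_lit 0x4bd6602f24f857514c735ff6c9692e), (nat_lit 0)⟩) (BT.leaf ⟨(nat_lit 3), (nat_lit 8), (nat_lit 9), (nat_lit 0x96e8ca7f5be87d2fcab1cdb042fb8a), (nat_lit 0x30021050e0dde8ca844d68102d4060), (nat_lit 0)⟩)) (BT.node (nat_lit 2583) (BT.leaf ⟨(nat_lit 3), (nat_lit 9), (nat_lit 8), (nat_lit 0x30021050e0dde8ca844d68102d4060), (nat_lit 0x96e8ca7f5be87d2fcab1cdb042fb8a), (nat_lit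 0)⟩) (BT.leaf ⟨(nat_lit 3), (nat_lit 7), (nat_lit 9), (nat_lit 0x127b139769343b44f77db3d6c5ec4de), (nat_lit 0x183d682004514c1871a0420a14c8a0), (nat_lit 0)⟩)))) (BT.node (nat_lit 2588) (BT.node (nat_lit 2586) (BT.node (nat_lit 2585) (BT.leaf ⟨(nat_lit 3), (nat_lit 9), (nat_lit 7), (nat_lit 0x183d682004514c1871a0420a14c8a0), (nat_lit 0x127b139769343b44f77db3d6c5ec4de), (nat_lit 0)⟩) (BT.leaf ⟨(nat_lit 3), (nat_lit 7), (nat_lit 9), (nat_lit 0x1b0476bd893552d35496b6327c4f49e), (nat_lit 0x1597dd71ac2a1f3bd738b0673b9f0b7), (nat_lit 0)⟩)) (BT.node (nat_lit 2587) (BT.leaf ⟨(nat_lit 3), (nat_lit 9), (nat_lit 7), (nat_lit 0x1597dd71ac2a1f3bd738b0673b9f0b7), (nat_lit 0x1b0476bd893552d35496b6327c4f49e), (nat_lit 0)⟩) (BT.leaf ⟨(nat_lit 3), (nat_lit 9), (nat_lit 9), (nat_lit 0x6f171be72b545ff1be2787df66cf90), (nat_lit 0x8e7a8e27773b295c2a9172aed5eeb9), (nat_lit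 0)⟩))) (BT.node (nat_lit 2590) (BT.node (nat_lit 2589) (BT.leaf ⟨(nat_lit 3), (nat_lit 9), (nat_lit 9), (nat_lit 0x8e7a8e27773b295c2a9172aed5eeb9), (nat_lit 0x6f171be72b545ff1be2787df66cf90), (nat_lit 0)⟩) (BT.leaf ⟨(nat_lit 3), (nat_lit 7), (nat_lit 9), (nat_lit 0x11cfc6a5f3aaae480746801bd002080), (nat_lit 0x1722747b7bd982ef52ae337d46d44c7), (nat_lit 0)⟩)) (BT.node (nat_lit 2591) (BT.leaf ⟨(nat_lit 3), (nat_lit 9), (nat_lit 7), (nat_lit 0x1722747b7bd982ef52ae337d46d44c7), (nat_lit 0x11cfc6a5f3aaae480746801bd002080), (nat_lit 0)⟩) (BT.leaf ⟨(nat_lit 3), (nat_lit 9), (nat_lit 7), (nat_lit 0x87c731bcc589fd6fd656e0d7ee905f), (nat_lit 0x4b481471015272f51d7044208216f6), (nat_lit 0)⟩)))))) (BT.node (nat_lit 2608) (BT.node (nat_lit 2600) (BT.node (nat_lit 2596) (BT.node (nat_lit 2594) (BT.node (nat_lit 2593) (BT.leaf ⟨(nat_lit 3), (nat_lit 7), (nat_lit 9),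 (nat_lit 0x4b481471015272f51d7044208216f6), (nat_lit 0x87c731bcc589fd6fd656e0d7ee905f), (nat_lit 0)⟩) (BT.leaf ⟨(nat_lit 3), (nat_lit 7), (nat_lit 9), (nat_lit 0x11b971cd92b4e8d6677d7c2fcdf3e0b), (nat_lit 0x6f2b28e649e9fe8cb704beb7d2f4ab), (nat_lit 0)⟩)) (BT.node (nat_lit 2595) (BT.leaf ⟨(nat_lit 3), (nat_lit 9), (nat_lit 7), (nat_lit 0x6f2b28e649e9fe8cb704beb7d2f4ab), (nat_lit 0x11b971cd92b4e8d6677d7c2fcdf3e0b), (nat_lit 0)⟩) (BT.leaf ⟨(nat_lit 3), (nat_lit 8), (nat_lit 9), (nat_lit 0xd8cde60b746f88ad3ebf20b8d1b3e7), (nat_lit 0xae7a349ef1b7a0010080811cc97880), (nat_lit 0)⟩))) (BT.node (nat_lit 2598) (BT.node (nat_lit 2597) (BT.leaf ⟨(nat_lit 3), (nat_lit 9), (nat_lit 8), (nat_lit 0xae7a349ef1b7a0010080811cc97880), (nat_lit 0xd8cde60b746f88ad3ebf20b8d1b3e7), (nat_lit 0)⟩) (BT.leaf ⟨(nat_lit 3), (nat_lit 9), (nat_lit 7), (nat_lit 0x137a20195083f375a14086687dd1f06),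 (nat_lit 0xa09071a8409fee4022ecca64107ad), (nat_lit 0)⟩)) (BT.node (nat_lit 2599) (BT.leaf ⟨(nat_lit 3), (nat_lit 7), (nat_lit 9), (nat_lit 0xa09071a8409fee4022ecca64107ad), (nat_lit 0x137a20195083f375a14086687dd1f06), (nat_lit 0)⟩) (BT.leaf ⟨(nat_lit 3), (nat_lit 9), (nat_lit 9), (nat_lit 0x11bb51179f1e2df2c38d7fde3189fcd), (nat_lit 0x12724fb13efae934f0ed97d89ea5c9e), (nat_lit 0)⟩)))) (BT.node (nat_lit 2604) (BT.node (nat_lit 2602) (BT.node (nat_lit 2601) (BT.leaf ⟨(nat_lit 3), (nat_lit 9), (nat_lit 9), (nat_lit 0xdc02fdd21cd465afa1f4bb8b3dbec1), (nat_lit 0x1c37c4d342f2995898cbcb1f37ceea2), (nat_lit 0)⟩) (BT.leaf ⟨(nat_lit 3), (nat_lit 9), (nat_lit 9), (nat_lit 0x1c37c4d342f2995898cbcb1f37ceea2), (nat_lit 0xdc02fdd21cd465afa1f4bb8b3dbec1), (nat_lit 0)⟩)) (BT.node (nat_lit 2603) (BT.leaf ⟨(nat_lit 3), (nat_lit 9), (nat_lit 7), (nat_lit 0x4ba9792d72c0bd6612798f571978fa),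 (nat_lit 0x206b41af1219d0427baf8d3ce0f480), (nat_lit 0)⟩) (BT.leaf ⟨(nat_lit 3), (nat_lit 7), (nat_lit 9), (nat_lit 0x206b41af1219d0427baf8d3ce0f480), (nat_lit 0x4ba9792d72c0bd6612798f571978fa), (nat_lit 0)⟩))) (BT.node (nat_lit 2606) (BT.node (nat_lit 2605) (BT.leaf ⟨(nat_lit 3), (nat_lit 9), (nat_lit 7), (nat_lit 0x1ced2f78c00a4b820c9f3a820600ab8), (nat_lit 0x7a263decbd57e0cdd68fd0c70bb43d), (nat_lit 0)⟩) (BT.leaf ⟨(nat_lit 3), (nat_lit 7), (nat_lit 9), (nat_lit 0x7a263decbd57e0cdd68fd0c70bb43d), (nat_lit 0x1ced2f78c00a4b820c9f3a820600ab8), (nat_lit 0)⟩)) (BT.node (nat_lit 2607) (BT.leaf ⟨(nat_lit 3), (nat_lit 7), (nat_lit 9), (nat_lit 0x996e44e8fd066d8e5f8bd2b4af04c7), (nat_lit 0x8e55cd83d94aa57c8e6773134ad36c), (nat_lit 0)⟩) (BT.leaf ⟨(nat_lit 3), (nat_lit 9), (nat_lit 7), (nat_lit 0x8e55cd83d94aa57c8e6773134ad36c), (nat_lit 0x996e44e8fd066d8e5f8bd2b4af04c7),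 (nat_lit 0)⟩))))) (BT.node (nat_lit 2616) (BT.node (nat_lit 2612) (BT.node (nat_lit 2610) (BT.node (nat_lit 2609) (BT.leaf ⟨(nat_lit 3), (nat_lit 7), (nat_lit 9), (nat_lit 0x32d32b8df182dee968dd44ff989f9d), (nat_lit 0xc72b4265b90b4a1edeabd3fa263976), (nat_lit 0)⟩) (BT.leaf ⟨(nat_lit 3), (nat_lit 9), (nat_lit 7), (nat_lit 0xc72b4265b90b4a1edeabd3fa263976), (nat_lit 0x32d32b8df182dee968dd44ff989f9d), (nat_lit 0)⟩)) (BT.node (nat_lit 2611) (BT.leaf ⟨(nat_lit 3), (nat_lit 9), (nat_lit 7), (nat_lit 0xee45ceb972d1354cab1577b2ac18e6), (nat_lit 0x1ce3919b66aff876c636930cf16473), (nat_lit 0)⟩) (BT.leaf ⟨(nat_lit 3), (nat_lit 7), (nat_lit 9), (nat_lit 0x1ce3919b66aff876c636930cf16473), (nat_lit 0xee45ceb972d1354cab1577b2ac18e6), (nat_lit 0)⟩))) (BT.node (nat_lit 2614) (BT.node (nat_lit 2613) (BT.leaf ⟨(nat_lit 3), (nat_lit 7), (nat_lit 9), (nat_lit 0x5bdcb4c71f40beae52f21e4bc9593f),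 (nat_lit 0xfcc18018e55040282a912004372463), (nat_lit 0)⟩) (BT.leaf ⟨(nat_lit 3), (nat_lit 9), (nat_lit 7), (nat_lit 0xfcc18018e55040282a912004372463), (nat_lit 0x5bdcb4c71f40beae52f21e4bc9593f), (nat_lit 0)⟩)) (BT.node (nat_lit 2615) (BT.leaf ⟨(nat_lit 3), (nat_lit 9), (nat_lit 9), (nat_lit 0x14ea0035717a7a3809023cec80841), (nat_lit 0x43e29a20786a64110200510801871a), (nat_lit 0)⟩) (BT.leaf ⟨(nat_lit 3), (nat_lit 9), (nat_lit 9), (nat_lit 0x43e29a20786a64110200510801871a), (nat_lit 0x14ea0035717a7a3809023cec80841), (nat_lit 0)⟩)))) (BT.node (nat_lit 2620) (BT.node (nat_lit 2618) (BT.node (nat_lit 2617) (BT.leaf ⟨(nat_lit 3), (nat_lit 9), (nat_lit 7), (nat_lit 0x197cde25b0bf46655a5d4bd8b1afb8a), (nat_lit 0x180202500bab0057a410800e3604073), (nat_lit 0)⟩) (BT.leaf ⟨(nat_lit 3), (nat_lit 7), (nat_lit 9), (nat_lit 0x180202500bab0057a410800e3604073), (nat_lit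 0x197cde25b0bf46655a5d4bd8b1afb8a), (nat_lit 0)⟩)) (BT.node (nat_lit 2619) (BT.leaf ⟨(nat_lit 3), (nat_lit 7), (nat_lit 9), (nat_lit 0x189e0f3a413d678bb31397d6c5ec49a), (nat_lit 0x1294ad46e7e7df4f1be2f20b33f1cd9), (nat_lit 0)⟩) (BT.leaf ⟨(nat_lit 3), (nat_lit 9), (nat_lit 7), (nat_lit 0x1294ad46e7e7df4f1be2f20b33f1cd9), (nat_lit 0x189e0f3a413d678bb31397d6c5ec49a), (nat_lit 0)⟩))) (BT.node (nat_lit 2622) (BT.node (nat_lit 2621) (BT.leaf ⟨(nat_lit 3), (nat_lit 7), (nat_lit 9), (nat_lit 0x15cdafe46d1a4008850028167980180), (nat_lit 0x10f51b1d438a357499d7e42e28aab6c), (nat_lit 0)⟩) (BT.leaf ⟨(nat_lit 3), (nat_lit 9), (nat_lit 7), (nat_lit 0x10f51b1d438a357499d7e42e28aab6c), (nat_lit 0x15cdafe46d1a4008850028167980180), (nat_lit 0)⟩)) (BT.node (nat_lit 2623) (BT.leaf ⟨(nat_lit 3), (nat_lit 7), (nat_lit 9), (nat_lit 0x17fd5eab15322e6c1d34c4fae4ad44d), (nat_lit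 0x4ac42477bd881002804019d0a0273e), (nat_lit 0)⟩) (BT.leaf ⟨(nat_lit 3), (nat_lit 9), (nat_lit 7), (nat_lit 0x4ac42477bd881002804019d0a0273e), (nat_lit 0x17fd5eab15322e6c1d34c4fae4ad44d), (nat_lit 0)⟩)))))))
noncomputable def cP2560 : BT Pf := (BT.node (nat_lit 2592) (BT.node (nat_lit 2576) (BT.node (nat_lit 2568) (BT.node (nat_lit 2564) (BT.node (nat_lit 2562) (BT.node (nat_lit 2561) (BT.leaf (.rel (nat_lit 1380) (nat_lit 5) [(nat_lit 151), (nat_lit 628)] [⟨(nat_lit 1077), [(nat_lit 775)], [(nat_lit 1235), (nat_lit 982)]⟩, ⟨(nat_lit 2438), [(nat_lit 935)], [(nat_lit 705), (nat_lit 580)]⟩])) (BT.leaf (.inv (nat_lit 2560)))) (BT.node (nat_lit 2563) (BT.leaf (.rel (nat_lit 1678) (nat_lit 4) [(nat_lit 1235), (nat_lit 740)] [⟨(nat_lit 1318), [], [(nat_lit 376), (nat_lit 1871)]⟩, ⟨(nat_lit 2460), [], [(nat_lit 513), (nat_lit 440)]⟩])) (BT.leaf (.inv (nat_lit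 2562))))) (BT.node (nat_lit 2566) (BT.node (nat_lit 2565) (BT.leaf (.rel (nat_lit 2064) (nat_lit 1) [(nat_lit 468), (nat_lit 401)] [⟨(nat_lit 2290), [(nat_lit 2210)], [(nat_lit 376), (nat_lit 628)]⟩])) (BT.leaf (.inv (nat_lit 2564)))) (BT.node (nat_lit 2567) (BT.leaf (.rel (nat_lit 1626) (nat_lit 0) [(nat_lit 349), (nat_lit 1009)] [⟨(nat_lit 2523), [(nat_lit 935)], [(nat_lit 1027), (nat_lit 478)]⟩])) (BT.leaf (.inv (nat_lit 2566)))))) (BT.node (nat_lit 2572) (BT.node (nat_lit 2570) (BT.node (nat_lit 2569) (BT.leaf (.rel (nat_lit 2074) (nat_lit 2) [(nat_lit 256), (nat_lit 1083)] [⟨(nat_lit 966), [(nat_lit 775)], [(nat_lit 468), (nat_lit 625)]⟩, ⟨(nat_lit 2313), [(nat_lit 938)], [(nat_lit 196), (nat_lit 795)]⟩])) (BT.leaf (.inv (nat_lit 2568)))) (BT.node (nat_lit 2571) (BT.leaf (.rel (nat_lit 1296) (nat_lit 5) [(nat_lit 467), (nat_lit 1025)] [⟨(nat_lit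 1380), [], [(nat_lit 1218), (nat_lit 1329)]⟩, ⟨(nat_lit 2340), [], [(nat_lit 492), (nat_lit 1043)]⟩])) (BT.leaf (.inv (nat_lit 2570))))) (BT.node (nat_lit 2574) (BT.node (nat_lit 2573) (BT.leaf (.rel (nat_lit 2352) (nat_lit 1) [(nat_lit 488), (nat_lit 206)] [⟨(nat_lit 2363), [(nat_lit 2167)], [(nat_lit 527), (nat_lit 1223)]⟩])) (BT.leaf (.inv (nat_lit 2572)))) (BT.node (nat_lit 2575) (BT.leaf (.rel (nat_lit 2518) (nat_lit 2) [(nat_lit 510), (nat_lit 1939)] [⟨(nat_lit 2343), [(nat_lit 775)], [(nat_lit 285), (nat_lit 269)]⟩, ⟨(nat_lit 2461), [(nat_lit 2237)], [(nat_lit 523), (nat_lit 421)]⟩])) (BT.leaf (.rel (nat_lit 1215) (nat_lit 4) [(nat_lit 695), (nat_lit 248)] [⟨(nat_lit 1772), [(nat_lit 775)], [(nat_lit 1201), (nat_lit 736)]⟩, ⟨(nat_lit 2368), [(nat_lit 775)], [(nat_lit 441), (nat_lit 459)]⟩])))))) (BT.node (nat_lit 2584) (BT.node (nat_lit 2580)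 (BT.node (nat_lit 2578) (BT.node (nat_lit 2577) (BT.leaf (.inv (nat_lit 2575))) (BT.leaf (.rel (nat_lit 1268) (nat_lit 5) [(nat_lit 280), (nat_lit 681)] [⟨(nat_lit 2085), [(nat_lit 775)], [(nat_lit 402), (nat_lit 191)]⟩, ⟨(nat_lit 2512), [(nat_lit 1846)], [(nat_lit 299), (nat_lit 506)]⟩]))) (BT.node (nat_lit 2579) (BT.leaf (.inv (nat_lit 2577))) (BT.leaf (.rel (nat_lit 1599) (nat_lit 0) [(nat_lit 763), (nat_lit 270)] [⟨(nat_lit 2322), [(nat_lit 775)], [(nat_lit 392), (nat_lit 361)]⟩])))) (BT.node (nat_lit 2582) (BT.node (nat_lit 2581) (BT.leaf (.inv (nat_lit 2579))) (BT.leaf (.rel (nat_lit 2265) (nat_lit 5) [(nat_lit 348), (nat_lit 495)] [⟨(nat_lit 1275), [(nat_lit 935)], [(nat_lit 94), (nat_lit 500)]⟩, ⟨(nat_lit 1989), [(nat_lit 775)], [(nat_lit 733), (nat_lit 566)]⟩]))) (BT.node (nat_lit 2583) (BT.leaf (.inv (nat_lit 2581))) (BT.leaf (.rel (nat_lit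 2296) (nat_lit 1) [(nat_lit 977), (nat_lit 379)] [⟨(nat_lit 1535), [(nat_lit 935)], [(nat_lit 193), (nat_lit 1478)]⟩]))))) (BT.node (nat_lit 2588) (BT.node (nat_lit 2586) (BT.node (nat_lit 2585) (BT.leaf (.inv (nat_lit 2583))) (BT.leaf (.rel (nat_lit 2270) (nat_lit 0) [(nat_lit 349), (nat_lit 1939)] [⟨(nat_lit 2028), [(nat_lit 1921)], [(nat_lit 521), (nat_lit 605)]⟩]))) (BT.node (nat_lit 2587) (BT.leaf (.inv (nat_lit 2585))) (BT.leaf (.rel (nat_lit 2355) (nat_lit 0) [(nat_lit 93), (nat_lit 248)] [⟨(nat_lit 2415), [(nat_lit 935)], [(nat_lit 352), (nat_lit 203)]⟩])))) (BT.node (nat_lit 2590) (BT.node (nat_lit 2589) (BT.leaf (.inv (nat_lit 2587))) (BT.leaf (.rel (nat_lit 2429) (nat_lit 5) [(nat_lit 463), (nat_lit 740)] [⟨(nat_lit 966), [(nat_lit 935)], [(nat_lit 764), (nat_lit 367)]⟩, ⟨(nat_lit 1030), [(nat_lit 650)], [(nat_lit 1195), (nat_lit 1009)]⟩])))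 (BT.node (nat_lit 2591) (BT.leaf (.inv (nat_lit 2589))) (BT.leaf (.rel (nat_lit 2183) (nat_lit 4) [(nat_lit 356), (nat_lit 1226)] [⟨(nat_lit 2214), [(nat_lit 2549)], [(nat_lit 493), (nat_lit 586)]⟩, ⟨(nat_lit 2478), [(nat_lit 935)], [(nat_lit 300), (nat_lit 1140)]⟩]))))))) (BT.node (nat_lit 2608) (BT.node (nat_lit 2600) (BT.node (nat_lit 2596) (BT.node (nat_lit 2594) (BT.node (nat_lit 2593) (BT.leaf (.inv (nat_lit 2591))) (BT.leaf (.rel (nat_lit 2253) (nat_lit 2) [(nat_lit 239), (nat_lit 124)] [⟨(nat_lit 1328), [(nat_lit 935)], [(nat_lit 463), (nat_lit 384)]⟩, ⟨(nat_lit 1451), [(nat_lit 935)], [(nat_lit 462), (nat_lit 248)]⟩]))) (BT.node (nat_lit 2595) (BT.leaf (.inv (nat_lit 2593))) (BT.leaf (.rel (nat_lit 2379) (nat_lit 1) [(nat_lit 433), (nat_lit 798)] [⟨(nat_lit 2107), [(nat_lit 1029)], [(nat_lit 1106), (nat_lit 795)]⟩])))) (BT.node (nat_lit 2598)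 (BT.node (nat_lit 2597) (BT.leaf (.inv (nat_lit 2595))) (BT.leaf (.rel (nat_lit 1751) (nat_lit 1) [(nat_lit 424), (nat_lit 368)] [⟨(nat_lit 2387), [(nat_lit 775)], [(nat_lit 474), (nat_lit 578)]⟩]))) (BT.node (nat_lit 2599) (BT.leaf (.inv (nat_lit 2597))) (BT.leaf (.rel (nat_lit 2572) (nat_lit 1) [(nat_lit 111), (nat_lit 401)] [⟨(nat_lit 2589), [(nat_lit 775)], [(nat_lit 359), (nat_lit 956)]⟩]))))) (BT.node (nat_lit 2604) (BT.node (nat_lit 2602) (BT.node (nat_lit 2601) (BT.leaf (.rel (nat_lit 2272) (nat_lit 4) [(nat_lit 1004), (nat_lit 1083)] [⟨(nat_lit 967), [(nat_lit 828)], [(nat_lit 240), (nat_lit 288)]⟩, ⟨(nat_lit 2180), [(nat_lit 775)], [(nat_lit 441), (nat_lit 252)]⟩])) (BT.leaf (.inv (nat_lit 2600)))) (BT.node (nat_lit 2603) (BT.leaf (.rel (nat_lit 2348) (nat_lit 5) [(nat_lit 296), (nat_lit 956)] [⟨(nat_lit 2451), [(nat_lit 2413)], [(nat_lit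 175), (nat_lit 738)]⟩, ⟨(nat_lit 2406), [], [(nat_lit 463), (nat_lit 711)]⟩])) (BT.leaf (.inv (nat_lit 2602))))) (BT.node (nat_lit 2606) (BT.node (nat_lit 2605) (BT.leaf (.rel (nat_lit 1761) (nat_lit 4) [(nat_lit 582), (nat_lit 738)] [⟨(nat_lit 1644), [(nat_lit 935)], [(nat_lit 467), (nat_lit 711)]⟩, ⟨(nat_lit 2548), [], [(nat_lit 544), (nat_lit 814)]⟩])) (BT.leaf (.inv (nat_lit 2604)))) (BT.node (nat_lit 2607) (BT.leaf (.rel (nat_lit 2586) (nat_lit 3) [(nat_lit 1195), (nat_lit 1583)] [⟨(nat_lit 1907), [], [(nat_lit 544), (nat_lit 891)]⟩, ⟨(nat_lit 2103), [(nat_lit 2376)], [(nat_lit 1032), (nat_lit 1410)]⟩])) (BT.leaf (.inv (nat_lit 2606))))))) (BT.node (nat_lit 2616) (BT.node (nat_lit 2612) (BT.node (nat_lit 2610) (BT.node (nat_lit 2609) (BT.leaf (.rel (nat_lit 2525) (nat_lit 3) [(nat_lit 726), (nat_lit 652)] [⟨(nat_lit 1969), [(nat_lit 2376)], [(nat_lit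 726), (nat_lit 263)]⟩, ⟨(nat_lit 1717), [(nat_lit 775)], [(nat_lit 178), (nat_lit 530)]⟩])) (BT.leaf (.inv (nat_lit 2608)))) (BT.node (nat_lit 2611) (BT.leaf (.rel (nat_lit 1810) (nat_lit 3) [(nat_lit 1014), (nat_lit 717)] [⟨(nat_lit 1159), [], [(nat_lit 763), (nat_lit 1226)]⟩, ⟨(nat_lit 2307), [], [(nat_lit 95), (nat_lit 140)]⟩])) (BT.leaf (.inv (nat_lit 2610))))) (BT.node (nat_lit 2614) (BT.node (nat_lit 2613) (BT.leaf (.rel (nat_lit 2495) (nat_lit 5) [(nat_lit 209), (nat_lit 891)] [⟨(nat_lit 1457), [], [(nat_lit 321), (nat_lit 294)]⟩, ⟨(nat_lit 1193), [(nat_lit 842)], [(nat_lit 538), (nat_lit 604)]⟩])) (BT.leaf (.inv (nat_lit 2612)))) (BT.node (nat_lit 2615) (BT.leaf (.rel (nat_lit 2495) (nat_lit 1) [(nat_lit 521), (nat_lit 573)] [⟨(nat_lit 2490), [(nat_lit 775)], [(nat_lit 93), (nat_lit 808)]⟩])) (BT.leaf (.inv (nat_lit 2614)))))) (BT.node (nat_lit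 2620) (BT.node (nat_lit 2618) (BT.node (nat_lit 2617) (BT.leaf (.rel (nat_lit 2032) (nat_lit 5) [(nat_lit 266), (nat_lit 367)] [⟨(nat_lit 2106), [(nat_lit 2075)], [(nat_lit 502), (nat_lit 578)]⟩, ⟨(nat_lit 2480), [(nat_lit 1037)], [(nat_lit 351), (nat_lit 1001)]⟩])) (BT.leaf (.inv (nat_lit 2616)))) (BT.node (nat_lit 2619) (BT.leaf (.rel (nat_lit 2292) (nat_lit 0) [(nat_lit 905), (nat_lit 294)] [⟨(nat_lit 1542), [], [(nat_lit 296), (nat_lit 289)]⟩])) (BT.leaf (.inv (nat_lit 2618))))) (BT.node (nat_lit 2622) (BT.node (nat_lit 2621) (BT.leaf (.rel (nat_lit 2391) (nat_lit 0) [(nat_lit 568), (nat_lit 1141)] [⟨(nat_lit 1405), [], [(nat_lit 782), (nat_lit 426)]⟩])) (BT.leaf (.inv (nat_lit 2620)))) (BT.node (nat_lit 2623) (BT.leaf (.rel (nat_lit 2330) (nat_lit 5) [(nat_lit 197), (nat_lit 269)] [⟨(nat_lit 1632), [(nat_lit 329)], [(nat_lit 175), (nat_lit 400)]⟩,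 ⟨(nat_lit 1773), [(nat_lit 935)], [(nat_lit 1032), (nat_lit 308)]⟩])) (BT.leaf (.inv (nat_lit 2622)))))))))
noncomputable def cF2624 : BT Fc := (BT.node (nat_lit 2656) (BT.node (nat_lit 2640) (BT.node (nat_lit 2632) (BT.node (nat_lit 2628) (BT.node (nat_lit 2626) (BT.node (nat_lit 2625) (BT.leaf ⟨(nat_lit 3), (nat_lit 9), (nat_lit 7), (nat_lit 0x100604440804ceb0009e71b203f1b46), (nat_lit 0x17a263b1c87a996f560bfd05da74568), (nat_lit 0)⟩) (BT.leaf ⟨(nat_lit 3), (nat_lit 7), (nat_lit 9), (nat_lit 0x17a263b1c87a996f560bfd05da74568), (nat_lit 0x100604440804ceb0009e71b203f1b46), (nat_lit 0)⟩)) (BT.node (nat_lit 2627) (BT.leaf ⟨(nat_lit 3), (nat_lit 9), (nat_lit 7), (nat_lit 0x1eb72c7cdf1f4d3cee8d197e31c6f89), (nat_lit 0x87d27a5f715edee925d6e06f12dd65), (nat_lit 0)⟩) (BT.leaf ⟨(nat_lit 3), (nat_lit 7), (nat_lit 9), (nat_lit 0x87d27a5f715edee925d6e06f12dd65),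 (nat_lit 0x1eb72c7cdf1f4d3cee8d197e31c6f89), (nat_lit 0)⟩))) (BT.node (nat_lit 2630) (BT.node (nat_lit 2629) (BT.leaf ⟨(nat_lit 3), (nat_lit 9), (nat_lit 5), (nat_lit 0x19ce19c71d9466e29cf3ae63b639349), (nat_lit 0x1401dcb5fb3d91a7410105e60090102), (nat_lit 0)⟩) (BT.leaf ⟨(nat_lit 3), (nat_lit 5), (nat_lit 9), (nat_lit 0x1401dcb5fb3d91a7410105e60090102), (nat_lit 0x19ce19c71d9466e29cf3ae63b639349), (nat_lit 0)⟩)) (BT.node (nat_lit 2631) (BT.leaf ⟨(nat_lit 3), (nat_lit 3), (nat_lit 9), (nat_lit 0x19d3724abfb7bc17a179fe9c877b1b2), (nat_lit 0x1d3ba2646d27d1c3e756ecc6caa32ae), (nat_lit 0)⟩) (BT.leaf ⟨(nat_lit 3), (nat_lit 9), (nat_lit 3), (nat_lit 0x1d3ba2646d27d1c3e756ecc6caa32ae), (nat_lit 0x19d3724abfb7bc17a179fe9c877b1b2), (nat_lit 0)⟩)))) (BT.node (nat_lit 2636) (BT.node (nat_lit 2634) (BT.node (nat_lit 2633) (BT.leaf ⟨(nat_lit 3), (nat_lit 9), (nat_lit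 7), (nat_lit 0xbe97fdbab84ae63db125a4bcd7927), (nat_lit 0x4b734b2fb6249cd78fa25d5709f96f), (nat_lit 0)⟩) (BT.leaf ⟨(nat_lit 3), (nat_lit 7), (nat_lit 9), (nat_lit 0x4b734b2fb6249cd78fa25d5709f96f), (nat_lit 0xbe97fdbab84ae63db125a4bcd7927), (nat_lit 0)⟩)) (BT.node (nat_lit 2635) (BT.leaf ⟨(nat_lit 3), (nat_lit 9), (nat_lit 9), (nat_lit 0x10130038d67427a01346a5ebd3f19e8), (nat_lit 0x804ea04110327c00ef54bc0479dab8), (nat_lit 0)⟩) (BT.leaf ⟨(nat_lit 3), (nat_lit 9), (nat_lit 9), (nat_lit 0x804ea04110327c00ef54bc0479dab8), (nat_lit 0x10130038d67427a01346a5ebd3f19e8), (nat_lit 0)⟩))) (BT.node (nat_lit 2638) (BT.node (nat_lit 2637) (BT.leaf ⟨(nat_lit 3), (nat_lit 9), (nat_lit 8), (nat_lit 0xb7e404f383c554421806c6a0386a39), (nat_lit 0x1367779ceacae931d7325a41f38d77a), (nat_lit 0)⟩) (BT.leaf ⟨(nat_lit 3), (nat_lit 8), (nat_lit 9), (nat_lit 0x1367779ceacae931d7325a41f38d77a),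 (nat_lit 0xb7e404f383c554421806c6a0386a39), (nat_lit 0)⟩)) (BT.node (nat_lit 2639) (BT.leaf ⟨(nat_lit 3), (nat_lit 9), (nat_lit 8), (nat_lit 0x113a11d1e7c017c4c77256090032bd), (nat_lit 0x14eb9d6159b360dd2738e7deeab2f7a), (nat_lit 0)⟩) (BT.leaf ⟨(nat_lit 3), (nat_lit 8), (nat_lit 9), (nat_lit 0x14eb9d6159b360dd2738e7deeab2f7a), (nat_lit 0x113a11d1e7c017c4c77256090032bd), (nat_lit 0)⟩))))) (BT.node (nat_lit 2648) (BT.node (nat_lit 2644) (BT.node (nat_lit 2642) (BT.node (nat_lit 2641) (BT.leaf ⟨(nat_lit 3), (nat_lit 9), (nat_lit 7), (nat_lit 0x1f18422809e75a11cc8012028044081), (nat_lit 0xbd226a6afe93d18e6f5ce9ad0d96f0), (nat_lit 0)⟩) (BT.leaf ⟨(nat_lit 3), (nat_lit 7), (nat_lit 9), (nat_lit 0xbd226a6afe93d18e6f5ce9ad0d96f0), (nat_lit 0x1f18422809e75a11cc8012028044081), (nat_lit 0)⟩)) (BT.node (nat_lit 2643) (BT.leaf ⟨(nat_lit 3), (nat_lit 9), (nat_lit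 9), (nat_lit 0x142fc4107e604448010030aa4881c5), (nat_lit 0x1f195774768d9a465dffa3391aa3693), (nat_lit 0)⟩) (BT.leaf ⟨(nat_lit 3), (nat_lit 9), (nat_lit 7), (nat_lit 0x1572d8d2f21ff6c9712dd440bd6616f), (nat_lit 0x152f2c5d5d268da1e9d53aee28cabd5), (nat_lit 0)⟩))) (BT.node (nat_lit 2646) (BT.node (nat_lit 2645) (BT.leaf ⟨(nat_lit 3), (nat_lit 7), (nat_lit 9), (nat_lit 0x152f2c5d5d268da1e9d53aee28cabd5), (nat_lit 0x1572d8d2f21ff6c9712dd440bd6616f), (nat_lit 0)⟩) (BT.leaf ⟨(nat_lit 3), (nat_lit 9), (nat_lit 7), (nat_lit 0x4bce8907e77e2086e45524ffab050), (nat_lit 0x19cd80200403fa1082087aa809101e3), (nat_lit 0)⟩)) (BT.node (nat_lit 2647) (BT.leaf ⟨(nat_lit 3), (nat_lit 7), (nat_lit 9), (nat_lit 0x19cd80200403fa1082087aa809101e3), (nat_lit 0x4bce8907e77e2086e45524ffab050), (nat_lit 0)⟩) (BT.leaf ⟨(nat_lit 3), (nat_lit 7), (nat_lit 9), (nat_lit 0x5dab443dfd13a2d42aec17782639e8),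 (nat_lit 0x11026f0420c1ad17c8c02df0cd0fda8), (nat_lit 0)⟩)))) (BT.node (nat_lit 2652) (BT.node (nat_lit 2650) (BT.node (nat_lit 2649) (BT.leaf ⟨(nat_lit 3), (nat_lit 9), (nat_lit 7), (nat_lit 0x11026f0420c1ad17c8c02df0cd0fda8), (nat_lit 0x5dab443dfd13a2d42aec17782639e8), (nat_lit 0)⟩) (BT.leaf ⟨(nat_lit 3), (nat_lit 9), (nat_lit 7), (nat_lit 0xa1f1643366b14eae7901db1cb65349), (nat_lit 0x14427428eeaf64d1d17ce8102225b), (nat_lit 0)⟩)) (BT.node (nat_lit 2651) (BT.leaf ⟨(nat_lit 3), (nat_lit 7), (nat_lit 9), (nat_lit 0x14427428eeaf64d1d17ce8102225b), (nat_lit 0xa1f1643366b14eae7901db1cb65349), (nat_lit 0)⟩) (BT.leaf ⟨(nat_lit 3), (nat_lit 9), (nat_lit 7), (nat_lit 0x18e8a0300300441af82f20241171bb9), (nat_lit 0x16c70a9af2563e81796f98f57351396), (nat_lit 0)⟩))) (BT.node (nat_lit 2654) (BT.node (nat_lit 2653) (BT.leaf ⟨(nat_lit 3), (nat_lit 7), (nat_lit 9),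 (nat_lit 0x16c70a9af2563e81796f98f57351396), (nat_lit 0x18e8a0300300441af82f20241171bb9), (nat_lit 0)⟩) (BT.leaf ⟨(nat_lit 3), (nat_lit 7), (nat_lit 9), (nat_lit 0xae50073ae8c4bc008107c697e39ef4), (nat_lit 0x1009a352f0e7006805d5c010004f408), (nat_lit 0)⟩)) (BT.node (nat_lit 2655) (BT.leaf ⟨(nat_lit 3), (nat_lit 9), (nat_lit 7), (nat_lit 0x1009a352f0e7006805d5c010004f408), (nat_lit 0xae50073ae8c4bc008107c697e39ef4), (nat_lit 0)⟩) (BT.leaf ⟨(nat_lit 2), (nat_lit 5), (nat_lit 5), (nat_lit 0xc4dec3a44d526a6f0ed97d25bbedb1), (nat_lit 0), (nat_lit 0)⟩)))))) (BT.node (nat_lit 2672) (BT.node (nat_lit 2664) (BT.node (nat_lit 2660) (BT.node (nat_lit 2658) (BT.node (nat_lit 2657) (BT.leaf ⟨(nat_lit 3), (nat_lit 5), (nat_lit 9), (nat_lit 0x211f3a0420926b9f1d100805002c04), (nat_lit 0xac6c1b6c7728e554b96d72ae71395a), (nat_lit 0)⟩) (BT.leaf ⟨(nat_lit 3), (nat_lit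 9), (nat_lit 5), (nat_lit 0xac6c1b6c7728e554b96d72ae71395a), (nat_lit 0x211f3a0420926b9f1d100805002c04), (nat_lit 0)⟩)) (BT.node (nat_lit 2659) (BT.leaf ⟨(nat_lit 3), (nat_lit 7), (nat_lit 9), (nat_lit 0x66efc5a8f6ffa274751ad1782e45e8), (nat_lit 0xd8dd1fe3598fad719bc7c2f89f9be7), (nat_lit 0)⟩) (BT.leaf ⟨(nat_lit 3), (nat_lit 9), (nat_lit 7), (nat_lit 0xd8dd1fe3598fad719bc7c2f89f9be7), (nat_lit 0x66efc5a8f6ffa274751ad1782e45e8), (nat_lit 0)⟩))) (BT.node (nat_lit 2662) (BT.node (nat_lit 2661) (BT.leaf ⟨(nat_lit 3), (nat_lit 9), (nat_lit 7), (nat_lit 0x1d18eaab9101279f18014004bef478d), (nat_lit 0xaf69a36c5f28e5cb5ff89aee473751), (nat_lit 0)⟩) (BT.leaf ⟨(nat_lit 3), (nat_lit 7), (nat_lit 9), (nat_lit 0xaf69a36c5f28e5cb5ff89aee473751), (nat_lit 0x1d18eaab9101279f18014004bef478d), (nat_lit 0)⟩)) (BT.node (nat_lit 2663) (BT.leaf ⟨(nat_lit 3), (nat_lit 9),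 (nat_lit 7), (nat_lit 0xef4c0100a007c60813a8f8804f47), (nat_lit 0xae17cd83173d4626a39572ac54cbb9), (nat_lit 0)⟩) (BT.leaf ⟨(nat_lit 3), (nat_lit 7), (nat_lit 9), (nat_lit 0xae17cd83173d4626a39572ac54cbb9), (nat_lit 0xef4c0100a007c60813a8f8804f47), (nat_lit 0)⟩)))) (BT.node (nat_lit 2668) (BT.node (nat_lit 2666) (BT.node (nat_lit 2665) (BT.leaf ⟨(nat_lit 3), (nat_lit 8), (nat_lit 9), (nat_lit 0x10ceae19b50effa29e739e7e4076d73), (nat_lit 0x4814c8223eb721e183005114c1071a), (nat_lit 0)⟩) (BT.leaf ⟨(nat_lit 3), (nat_lit 9), (nat_lit 8), (nat_lit 0x4814c8223eb721e183005114c1071a), (nat_lit 0x10ceae19b50effa29e739e7e4076d73), (nat_lit 0)⟩)) (BT.node (nat_lit 2667) (BT.leaf ⟨(nat_lit 3), (nat_lit 8), (nat_lit 9), (nat_lit 0x66ef45f84cbedf05da85a5fa21eb1c), (nat_lit 0x1b9127f9d91cfcc08a1027e71408756), (nat_lit 0)⟩) (BT.leaf ⟨(nat_lit 3), (nat_lit 9), (nat_lit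 8), (nat_lit 0x1b9127f9d91cfcc08a1027e71408756), (nat_lit 0x66ef45f84cbedf05da85a5fa21eb1c), (nat_lit 0)⟩))) (BT.node (nat_lit 2670) (BT.node (nat_lit 2669) (BT.leaf ⟨(nat_lit 3), (nat_lit 9), (nat_lit 8), (nat_lit 0xbd27a6b4e43bd28b9b2ce9f6d8e7f4), (nat_lit 0x163510201ce6cbd403d54814e85cd46), (nat_lit 0)⟩) (BT.leaf ⟨(nat_lit 3), (nat_lit 8), (nat_lit 9), (nat_lit 0x163510201ce6cbd403d54814e85cd46), (nat_lit 0xbd27a6b4e43bd28b9b2ce9f6d8e7f4), (nat_lit 0)⟩)) (BT.node (nat_lit 2671) (BT.leaf ⟨(nat_lit 3), (nat_lit 7), (nat_lit 9), (nat_lit 0x1cec01901402f8a0080593e97bc62b8), (nat_lit 0x182e1eb1cf6ffa2b45a8bd17e0f4265), (nat_lit 0)⟩) (BT.leaf ⟨(nat_lit 3), (nat_lit 9), (nat_lit 7), (nat_lit 0x182e1eb1cf6ffa2b45a8bd17e0f4265), (nat_lit 0x1cec01901402f8a0080593e97bc62b8), (nat_lit 0)⟩))))) (BT.node (nat_lit 2680) (BT.node (nat_lit 2676) (BT.node (nat_lit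 2674) (BT.node (nat_lit 2673) (BT.leaf ⟨(nat_lit 3), (nat_lit 7), (nat_lit 9), (nat_lit 0x1012407e38051020433a71b4004f1e8), (nat_lit 0x210404805006be0f5689e6b7cc0088), (nat_lit 0)⟩) (BT.leaf ⟨(nat_lit 3), (nat_lit 9), (nat_lit 7), (nat_lit 0x210404805006be0f5689e6b7cc0088), (nat_lit 0x1012407e38051020433a71b4004f1e8), (nat_lit 0)⟩)) (BT.node (nat_lit 2675) (BT.leaf ⟨(nat_lit 3), (nat_lit 7), (nat_lit 9), (nat_lit 0x1bd480c72e8fe3001841022f8900f3b), (nat_lit 0x12af5a179da9f6e269b2ce873943efc), (nat_lit 0)⟩) (BT.leaf ⟨(nat_lit 3), (nat_lit 9), (nat_lit 7), (nat_lit 0x12af5a179da9f6e269b2ce873943efc), (nat_lit 0x1bd480c72e8fe3001841022f8900f3b), (nat_lit 0)⟩))) (BT.node (nat_lit 2678) (BT.node (nat_lit 2677) (BT.leaf ⟨(nat_lit 3), (nat_lit 9), (nat_lit 9), (nat_lit 0xa1e396ca66b573167908f75ce31e73), (nat_lit 0x17d2d9bc4be93f608e6acb8b1b8519), (nat_lit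 0)⟩) (BT.leaf ⟨(nat_lit 3), (nat_lit 7), (nat_lit 9), (nat_lit 0x1d1ba734666b7fea34a5e8fa4fa27c6), (nat_lit 0xdc097d2f1f5a8887b2f24f6c6ae4c7), (nat_lit 0)⟩)) (BT.node (nat_lit 2679) (BT.leaf ⟨(nat_lit 3), (nat_lit 9), (nat_lit 7), (nat_lit 0xdc097d2f1f5a8887b2f24f6c6ae4c7), (nat_lit 0x1d1ba734666b7fea34a5e8fa4fa27c6), (nat_lit 0)⟩) (BT.leaf ⟨(nat_lit 3), (nat_lit 7), (nat_lit 9), (nat_lit 0xa0879f5532082104beecc8838d7ad), (nat_lit 0x1c37c6f8cf3a2dfd6b8df139623768d), (nat_lit 0)⟩)))) (BT.node (nat_lit 2684) (BT.node (nat_lit 2682) (BT.node (nat_lit 2681) (BT.leaf ⟨(nat_lit 3), (nat_lit 9), (nat_lit 7), (nat_lit 0x1c37c6f8cf3a2dfd6b8df139623768d), (nat_lit 0xa0879f5532082104beecc8838d7ad), (nat_lit 0)⟩) (BT.leaf ⟨(nat_lit 3), (nat_lit 9), (nat_lit 7), (nat_lit 0x8105ca08c01635405466008090005f), (nat_lit 0x1e75f9ee41204400a0128c6040e2f56), (nat_lit 0)⟩))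 (BT.node (nat_lit 2683) (BT.leaf ⟨(nat_lit 3), (nat_lit 7), (nat_lit 9), (nat_lit 0x1e75f9ee41204400a0128c6040e2f56), (nat_lit 0x8105ca08c01635405466008090005f), (nat_lit 0)⟩) (BT.leaf ⟨(nat_lit 3), (nat_lit 9), (nat_lit 9), (nat_lit 0x3b5ff453693e4231d5c8eea1e3deca), (nat_lit 0x5dbf45a85a531ef55e06395a2e419b), (nat_lit 0)⟩))) (BT.node (nat_lit 2686) (BT.node (nat_lit 2685) (BT.leaf ⟨(nat_lit 3), (nat_lit 7), (nat_lit 9), (nat_lit 0x6f2529e3786d8df1f7da2efafc8236), (nat_lit 0xe2b49e583ea354ee9d7baa655ea9d5), (nat_lit 0)⟩) (BT.leaf ⟨(nat_lit 3), (nat_lit 9), (nat_lit 7), (nat_lit 0xe2b49e583ea354ee9d7baa655ea9d5), (nat_lit 0x6f2529e3786d8df1f7da2efafc8236), (nat_lit 0)⟩)) (BT.node (nat_lit 2687) (BT.leaf ⟨(nat_lit 3), (nat_lit 7), (nat_lit 9), (nat_lit 0x1100240425f337be6c33080654a0060), (nat_lit 0x9969a38d8ddeb7c6f89cb1e16c6fcd), (nat_lit 0)⟩) (BT.leaf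 ⟨(nat_lit 3), (nat_lit 9), (nat_lit 7), (nat_lit 0x9969a38d8ddeb7c6f89cb1e16c6fcd), (nat_lit 0x1100240425f337be6c33080654a0060), (nat_lit 0)⟩)))))))
noncomputable def cP2624 : BT Pf := (BT.node (nat_lit 2656) (BT.node (nat_lit 2640) (BT.node (nat_lit 2632) (BT.node (nat_lit 2628) (BT.node (nat_lit 2626) (BT.node (nat_lit 2625) (BT.leaf (.rel (nat_lit 1366) (nat_lit 0) [(nat_lit 216), (nat_lit 142)] [⟨(nat_lit 2523), [(nat_lit 935)], [(nat_lit 582), (nat_lit 906)]⟩])) (BT.leaf (.inv (nat_lit 2624)))) (BT.node (nat_lit 2627) (BT.leaf (.rel (nat_lit 2593) (nat_lit 4) [(nat_lit 977), (nat_lit 290)] [⟨(nat_lit 2572), [], [(nat_lit 175), (nat_lit 386)]⟩, ⟨(nat_lit 2201), [], [(nat_lit 1032), (nat_lit 901)]⟩])) (BT.leaf (.inv (nat_lit 2626))))) (BT.node (nat_lit 2630) (BT.node (nat_lit 2629) (BT.leaf (.rel (nat_lit 843) (nat_lit 0) [(nat_lit 266), (nat_lit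 1369)] [⟨(nat_lit 2576), [(nat_lit 935)], [(nat_lit 503), (nat_lit 0)]⟩])) (BT.leaf (.inv (nat_lit 2628)))) (BT.node (nat_lit 2631) (BT.leaf (.rel (nat_lit 2499) (nat_lit 4) [(nat_lit 257), (nat_lit 497)] [⟨(nat_lit 2098), [(nat_lit 775)], [(nat_lit 422), (nat_lit 224)]⟩, ⟨(nat_lit 1942), [(nat_lit 2259)], [(nat_lit 784), (nat_lit 1226)]⟩])) (BT.leaf (.inv (nat_lit 2630)))))) (BT.node (nat_lit 2636) (BT.node (nat_lit 2634) (BT.node (nat_lit 2633) (BT.leaf (.rel (nat_lit 1252) (nat_lit 4) [(nat_lit 393), (nat_lit 1503)] [⟨(nat_lit 2241), [], [(nat_lit 175), (nat_lit 141)]⟩, ⟨(nat_lit 2535), [], [(nat_lit 523), (nat_lit 557)]⟩])) (BT.leaf (.inv (nat_lit 2632)))) (BT.node (nat_lit 2635) (BT.leaf (.rel (nat_lit 2405) (nat_lit 4) [(nat_lit 913), (nat_lit 141)] [⟨(nat_lit 2193), [(nat_lit 775)], [(nat_lit 786), (nat_lit 1083)]⟩, ⟨(nat_lit 2599), [(nat_lit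 2167)], [(nat_lit 360), (nat_lit 140)]⟩])) (BT.leaf (.inv (nat_lit 2634))))) (BT.node (nat_lit 2638) (BT.node (nat_lit 2637) (BT.leaf (.rel (nat_lit 1897) (nat_lit 5) [(nat_lit 763), (nat_lit 294)] [⟨(nat_lit 1505), [], [(nat_lit 280), (nat_lit 737)]⟩, ⟨(nat_lit 2372), [(nat_lit 935)], [(nat_lit 513), (nat_lit 605)]⟩])) (BT.leaf (.inv (nat_lit 2636)))) (BT.node (nat_lit 2639) (BT.leaf (.rel (nat_lit 2030) (nat_lit 2) [(nat_lit 1106), (nat_lit 204)] [⟨(nat_lit 2252), [(nat_lit 775)], [(nat_lit 194), (nat_lit 369)]⟩, ⟨(nat_lit 2496), [(nat_lit 2413)], [(nat_lit 284), (nat_lit 878)]⟩])) (BT.leaf (.inv (nat_lit 2638))))))) (BT.node (nat_lit 2648) (BT.node (nat_lit 2644) (BT.node (nat_lit 2642) (BT.node (nat_lit 2641) (BT.leaf (.rel (nat_lit 1859) (nat_lit 4) [(nat_lit 466), (nat_lit 385)] [⟨(nat_lit 2089), [(nat_lit 2259)], [(nat_lit 428), (nat_lit 604)]⟩,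 ⟨(nat_lit 2542), [], [(nat_lit 469), (nat_lit 252)]⟩])) (BT.leaf (.inv (nat_lit 2640)))) (BT.node (nat_lit 2643) (BT.leaf (.rel (nat_lit 2279) (nat_lit 2) [(nat_lit 300), (nat_lit 248)] [⟨(nat_lit 1787), [(nat_lit 775)], [(nat_lit 285), (nat_lit 681)]⟩, ⟨(nat_lit 2592), [(nat_lit 775)], [(nat_lit 840), (nat_lit 1)]⟩])) (BT.leaf (.rel (nat_lit 1712) (nat_lit 3) [(nat_lit 747), (nat_lit 248)] [⟨(nat_lit 1959), [(nat_lit 775)], [(nat_lit 461), (nat_lit 491)]⟩, ⟨(nat_lit 2637), [(nat_lit 2075)], [(nat_lit 900), (nat_lit 206)]⟩])))) (BT.node (nat_lit 2646) (BT.node (nat_lit 2645) (BT.leaf (.inv (nat_lit 2643))) (BT.leaf (.rel (nat_lit 1829) (nat_lit 5) [(nat_lit 1103), (nat_lit 868)] [⟨(nat_lit 2111), [(nat_lit 2223)], [(nat_lit 746), (nat_lit 190)]⟩, ⟨(nat_lit 2322), [], [(nat_lit 510), (nat_lit 127)]⟩]))) (BT.node (nat_lit 2647) (BT.leaf (.inv (nat_lit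 2645))) (BT.leaf (.rel (nat_lit 2574) (nat_lit 3) [(nat_lit 734), (nat_lit 529)] [⟨(nat_lit 2337), [(nat_lit 2311)], [(nat_lit 1600), (nat_lit 384)]⟩, ⟨(nat_lit 1659), [(nat_lit 775)], [(nat_lit 257), (nat_lit 808)]⟩]))))) (BT.node (nat_lit 2652) (BT.node (nat_lit 2650) (BT.node (nat_lit 2649) (BT.leaf (.inv (nat_lit 2647))) (BT.leaf (.rel (nat_lit 1431) (nat_lit 5) [(nat_lit 492), (nat_lit 506)] [⟨(nat_lit 1731), [(nat_lit 935)], [(nat_lit 1242), (nat_lit 202)]⟩, ⟨(nat_lit 2449), [(nat_lit 935)], [(nat_lit 416), (nat_lit 969)]⟩]))) (BT.node (nat_lit 2651) (BT.leaf (.inv (nat_lit 2649))) (BT.leaf (.rel (nat_lit 1293) (nat_lit 3) [(nat_lit 1004), (nat_lit 533)] [⟨(nat_lit 1296), [], [(nat_lit 883), (nat_lit 795)]⟩, ⟨(nat_lit 2500), [(nat_lit 775)], [(nat_lit 782), (nat_lit 1478)]⟩])))) (BT.node (nat_lit 2654) (BT.node (nat_lit 2653) (BT.leaf (.inv (nat_lit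 2651))) (BT.leaf (.rel (nat_lit 2187) (nat_lit 1) [(nat_lit 522), (nat_lit 880)] [⟨(nat_lit 1265), [(nat_lit 935)], [(nat_lit 902), (nat_lit 398)]⟩]))) (BT.node (nat_lit 2655) (BT.leaf (.inv (nat_lit 2653))) (BT.leaf (.emul [(nat_lit 645), (nat_lit 709)]))))))) (BT.node (nat_lit 2672) (BT.node (nat_lit 2664) (BT.node (nat_lit 2660) (BT.node (nat_lit 2658) (BT.node (nat_lit 2657) (BT.leaf (.rel (nat_lit 2228) (nat_lit 1) [(nat_lit 216), (nat_lit 319)] [⟨(nat_lit 768), [(nat_lit 2655)], [(nat_lit 43), (nat_lit 711)]⟩])) (BT.leaf (.inv (nat_lit 2656)))) (BT.node (nat_lit 2659) (BT.leaf (.rel (nat_lit 2388) (nat_lit 5) [(nat_lit 1004), (nat_lit 557)] [⟨(nat_lit 1673), [(nat_lit 935)], [(nat_lit 451), (nat_lit 740)]⟩, ⟨(nat_lit 1005), [(nat_lit 775)], [(nat_lit 1012), (nat_lit 449)]⟩])) (BT.leaf (.inv (nat_lit 2658))))) (BT.node (nat_lit 2662) (BT.node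 (nat_lit 2661) (BT.leaf (.rel (nat_lit 1802) (nat_lit 3) [(nat_lit 166), (nat_lit 396)] [⟨(nat_lit 1612), [], [(nat_lit 1201), (nat_lit 203)]⟩, ⟨(nat_lit 2276), [(nat_lit 775)], [(nat_lit 92), (nat_lit 710)]⟩])) (BT.leaf (.inv (nat_lit 2660)))) (BT.node (nat_lit 2663) (BT.leaf (.rel (nat_lit 1406) (nat_lit 0) [(nat_lit 450), (nat_lit 499)] [⟨(nat_lit 2641), [(nat_lit 935)], [(nat_lit 151), (nat_lit 163)]⟩])) (BT.leaf (.inv (nat_lit 2662)))))) (BT.node (nat_lit 2668) (BT.node (nat_lit 2666) (BT.node (nat_lit 2665) (BT.leaf (.rel (nat_lit 2325) (nat_lit 0) [(nat_lit 197), (nat_lit 384)] [⟨(nat_lit 1832), [(nat_lit 775)], [(nat_lit 905), (nat_lit 432)]⟩])) (BT.leaf (.inv (nat_lit 2664)))) (BT.node (nat_lit 2667) (BT.leaf (.rel (nat_lit 2188) (nat_lit 0) [(nat_lit 446), (nat_lit 141)] [⟨(nat_lit 2083), [], [(nat_lit 194), (nat_lit 1256)]⟩])) (BT.leaf (.inv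 (nat_lit 2666))))) (BT.node (nat_lit 2670) (BT.node (nat_lit 2669) (BT.leaf (.rel (nat_lit 2290) (nat_lit 5) [(nat_lit 789), (nat_lit 497)] [⟨(nat_lit 2472), [(nat_lit 2167)], [(nat_lit 387), (nat_lit 141)]⟩, ⟨(nat_lit 2217), [(nat_lit 860)], [(nat_lit 393), (nat_lit 477)]⟩])) (BT.leaf (.inv (nat_lit 2668)))) (BT.node (nat_lit 2671) (BT.leaf (.rel (nat_lit 2391) (nat_lit 5) [(nat_lit 786), (nat_lit 498)] [⟨(nat_lit 1675), [(nat_lit 775)], [(nat_lit 175), (nat_lit 455)]⟩, ⟨(nat_lit 1803), [(nat_lit 775)], [(nat_lit 696), (nat_lit 586)]⟩])) (BT.leaf (.inv (nat_lit 2670))))))) (BT.node (nat_lit 2680) (BT.node (nat_lit 2676) (BT.node (nat_lit 2674) (BT.node (nat_lit 2673) (BT.leaf (.rel (nat_lit 2209) (nat_lit 3) [(nat_lit 544), (nat_lit 1165)] [⟨(nat_lit 2166), [(nat_lit 444)], [(nat_lit 423), (nat_lit 1503)]⟩, ⟨(nat_lit 2248), [(nat_lit 2413)], [(nat_lit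 696), (nat_lit 1472)]⟩])) (BT.leaf (.inv (nat_lit 2672)))) (BT.node (nat_lit 2675) (BT.leaf (.rel (nat_lit 2397) (nat_lit 2) [(nat_lit 551), (nat_lit 974)] [⟨(nat_lit 1327), [(nat_lit 775)], [(nat_lit 281), (nat_lit 529)]⟩, ⟨(nat_lit 1268), [(nat_lit 935)], [(nat_lit 488), (nat_lit 625)]⟩])) (BT.leaf (.inv (nat_lit 2674))))) (BT.node (nat_lit 2678) (BT.node (nat_lit 2677) (BT.leaf (.rel (nat_lit 2370) (nat_lit 3) [(nat_lit 977), (nat_lit 814)] [⟨(nat_lit 890), [(nat_lit 935)], [(nat_lit 213)]⟩, ⟨(nat_lit 2172), [(nat_lit 444)], [(nat_lit 503), (nat_lit 294)]⟩])) (BT.leaf (.rel (nat_lit 2403) (nat_lit 2) [(nat_lit 977), (nat_lit 512)] [⟨(nat_lit 1873), [(nat_lit 1883)], [(nat_lit 445), (nat_lit 1329)]⟩, ⟨(nat_lit 1792), [], [(nat_lit 1337), (nat_lit 1204)]⟩]))) (BT.node (nat_lit 2679) (BT.leaf (.inv (nat_lit 2677))) (BT.leaf (.rel (nat_lit 2673) (nat_lit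 1) [(nat_lit 538), (nat_lit 559)] [⟨(nat_lit 1693), [(nat_lit 935)], [(nat_lit 429), (nat_lit 224)]⟩]))))) (BT.node (nat_lit 2684) (BT.node (nat_lit 2682) (BT.node (nat_lit 2681) (BT.leaf (.inv (nat_lit 2679))) (BT.leaf (.rel (nat_lit 1374) (nat_lit 5) [(nat_lit 508), (nat_lit 390)] [⟨(nat_lit 1743), [(nat_lit 775)], [(nat_lit 483), (nat_lit 1165)]⟩, ⟨(nat_lit 2440), [], [(nat_lit 675), (nat_lit 533)]⟩]))) (BT.node (nat_lit 2683) (BT.leaf (.inv (nat_lit 2681))) (BT.leaf (.rel (nat_lit 2248) (nat_lit 2) [(nat_lit 237), (nat_lit 1478)] [⟨(nat_lit 1685), [(nat_lit 935)], [(nat_lit 1103), (nat_lit 204)]⟩, ⟨(nat_lit 2565), [(nat_lit 775)], [(nat_lit 1218), (nat_lit 1036)]⟩])))) (BT.node (nat_lit 2686) (BT.node (nat_lit 2685) (BT.leaf (.rel (nat_lit 2394) (nat_lit 3) [(nat_lit 865), (nat_lit 1021)] [⟨(nat_lit 2676), [(nat_lit 2549)], [(nat_lit 227), (nat_lit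 465)]⟩, ⟨(nat_lit 2579), [(nat_lit 2549)], [(nat_lit 257), (nat_lit 206)]⟩])) (BT.leaf (.inv (nat_lit 2684)))) (BT.node (nat_lit 2687) (BT.leaf (.rel (nat_lit 2543) (nat_lit 1) [(nat_lit 763), (nat_lit 1537)] [⟨(nat_lit 2389), [(nat_lit 2549)], [(nat_lit 93), (nat_lit 109)]⟩])) (BT.leaf (.inv (nat_lit 2686)))))))))
noncomputable def cF2688 : BT Fc := (BT.node (nat_lit 2720) (BT.node (nat_lit 2704) (BT.node (nat_lit 2696) (BT.node (nat_lit 2692) (BT.node (nat_lit 2690) (BT.node (nat_lit 2689) (BT.leaf ⟨(nat_lit 3), (nat_lit 9), (nat_lit 9), (nat_lit 0x7507d5a67aa75f2c6933ba746a5b6c), (nat_lit 0x7506ab8a7aa75f90e9346cdb0fa9d1), (nat_lit 0)⟩) (BT.leaf ⟨(nat_lit 3), (nat_lit 9), (nat_lit 7), (nat_lit 0x47cec8e8c6050092a938a143ab010), (nat_lit 0x6108012060045f9f2aeac05028090), (nat_lit 0)⟩)) (BT.node (nat_lit 2691) (BT.leaf ⟨(nat_lit 3), (nat_lit 7), (nat_lit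 9), (nat_lit 0x6108012060045f9f2aeac05028090), (nat_lit 0x47cec8e8c6050092a938a143ab010), (nat_lit 0)⟩) (BT.leaf ⟨(nat_lit 3), (nat_lit 4), (nat_lit 9), (nat_lit 0x2e70053a441fa1081e30be80997d8d), (nat_lit 0x12017a6b9805802203468114bff19e8), (nat_lit 0)⟩))) (BT.node (nat_lit 2694) (BT.node (nat_lit 2693) (BT.leaf ⟨(nat_lit 3), (nat_lit 9), (nat_lit 4), (nat_lit 0x12017a6b9805802203468114bff19e8), (nat_lit 0x2e70053a441fa1081e30be80997d8d), (nat_lit 0)⟩) (BT.leaf ⟨(nat_lit 3), (nat_lit 9), (nat_lit 7), (nat_lit 0x40401821022204972b880280420809), (nat_lit 0x1017c848180e8cb799508850028433), (nat_lit 0)⟩)) (BT.node (nat_lit 2695) (BT.leaf ⟨(nat_lit 3), (nat_lit 7), (nat_lit 9), (nat_lit 0x1017c848180e8cb799508850028433), (nat_lit 0x40401821022204972b880280420809), (nat_lit 0)⟩) (BT.leaf ⟨(nat_lit 3), (nat_lit 9), (nat_lit 8), (nat_lit 0xf8bbeae37e7296373a36c7f8e6cbc3),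 (nat_lit 0x2df51265f1f963c2bfee1ba3465dd2), (nat_lit 0)⟩)))) (BT.node (nat_lit 2700) (BT.node (nat_lit 2698) (BT.node (nat_lit 2697) (BT.leaf ⟨(nat_lit 3), (nat_lit 8), (nat_lit 9), (nat_lit 0x2df51265f1f963c2bfee1ba3465dd2), (nat_lit 0xf8bbeae37e7296373a36c7f8e6cbc3), (nat_lit 0)⟩) (BT.leaf ⟨(nat_lit 3), (nat_lit 9), (nat_lit 7), (nat_lit 0xb8fc83c37cef8a373a3efa56bf1acc), (nat_lit 0x125b7e02809006204008563cc84400c), (nat_lit 0)⟩)) (BT.node (nat_lit 2699) (BT.leaf ⟨(nat_lit 3), (nat_lit 7), (nat_lit 9), (nat_lit 0x125b7e02809006204008563cc84400c), (nat_lit 0xb8fc83c37cef8a373a3efa56bf1acc), (nat_lit 0)⟩) (BT.leaf ⟨(nat_lit 3), (nat_lit 9), (nat_lit 7), (nat_lit 0x896f44085ce37b02257620803402), (nat_lit 0x97b60a7f4bf5942fcaba323996fb5f), (nat_lit 0)⟩))) (BT.node (nat_lit 2702) (BT.node (nat_lit 2701) (BT.leaf ⟨(nat_lit 3), (nat_lit 7), (nat_lit 9),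 (nat_lit 0x97b60a7f4bf5942fcaba323996fb5f), (nat_lit 0x896f44085ce37b02257620803402), (nat_lit 0)⟩) (BT.leaf ⟨(nat_lit 3), (nat_lit 9), (nat_lit 7), (nat_lit 0x4828110420aa49f9c5028041f9f56), (nat_lit 0xaa6ffabb5f256958d34772e59b6583), (nat_lit 0)⟩)) (BT.node (nat_lit 2703) (BT.leaf ⟨(nat_lit 3), (nat_lit 7), (nat_lit 9), (nat_lit 0xaa6ffabb5f256958d34772e59b6583), (nat_lit 0x4828110420aa49f9c5028041f9f56), (nat_lit 0)⟩) (BT.leaf ⟨(nat_lit 3), (nat_lit 9), (nat_lit 7), (nat_lit 0x1bd5f11d425cae24f8010421079da01), (nat_lit 0x1ccb9c53ae74e92b2d839b3cef0aad2), (nat_lit 0)⟩))))) (BT.node (nat_lit 2712) (BT.node (nat_lit 2708) (BT.node (nat_lit 2706) (BT.node (nat_lit 2705) (BT.leaf ⟨(nat_lit 3), (nat_lit 7), (nat_lit 9), (nat_lit 0x1ccb9c53ae74e92b2d839b3cef0aad2), (nat_lit 0x1bd5f11d425cae24f8010421079da01), (nat_lit 0)⟩) (BT.leaf ⟨(nat_lit 3), (nat_lit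 8), (nat_lit 9), (nat_lit 0xdb29a15a573ae713dff552ee45cc4d), (nat_lit 0x1bf37aed4ce91368bef6365c85351ce), (nat_lit 0)⟩)) (BT.node (nat_lit 2707) (BT.leaf ⟨(nat_lit 3), (nat_lit 9), (nat_lit 8), (nat_lit 0x1bf37aed4ce91368bef6365c85351ce), (nat_lit 0xdb29a15a573ae713dff552ee45cc4d), (nat_lit 0)⟩) (BT.leaf ⟨(nat_lit 3), (nat_lit 9), (nat_lit 8), (nat_lit 0xb8daf82fa00408c063a2104106ad9e), (nat_lit 0x1081e1828ecd2f89071a048880faa99), (nat_lit 0)⟩))) (BT.node (nat_lit 2710) (BT.node (nat_lit 2709) (BT.leaf ⟨(nat_lit 3), (nat_lit 8), (nat_lit 9), (nat_lit 0x1081e1828ecd2f89071a048880faa99), (nat_lit 0xb8daf82fa00408c063a2104106ad9e), (nat_lit 0)⟩) (BT.leaf ⟨(nat_lit 3), (nat_lit 3), (nat_lit 9), (nat_lit 0x15cc88500210d7f1d02f300483fa68d), (nat_lit 0x3ea6392f2de4b597b7025d4bc9fe15), (nat_lit 0)⟩)) (BT.node (nat_lit 2711) (BT.leaf ⟨(nat_lit 3), (nat_lit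 9), (nat_lit 3), (nat_lit 0x3ea6392f2de4b597b7025d4bc9fe15), (nat_lit 0x15cc88500210d7f1d02f300483fa68d), (nat_lit 0)⟩) (BT.leaf ⟨(nat_lit 3), (nat_lit 9), (nat_lit 9), (nat_lit 0x354a02e36beee484102c8dfd31d573), (nat_lit 0x1f34a004843e141d1840e0dad0300c0), (nat_lit 0)⟩)))) (BT.node (nat_lit 2716) (BT.node (nat_lit 2714) (BT.node (nat_lit 2713) (BT.leaf ⟨(nat_lit 3), (nat_lit 9), (nat_lit 7), (nat_lit 0x1570979af05fa8a9792d98ff6f348fa), (nat_lit 0x4bc1796f6e0e596632fb624ae63ea2), (nat_lit 0)⟩) (BT.leaf ⟨(nat_lit 3), (nat_lit 7), (nat_lit 9), (nat_lit 0x4bc1796f6e0e596632fb624ae63ea2), (nat_lit 0x1570979af05fa8a9792d98ff6f348fa), (nat_lit 0)⟩)) (BT.node (nat_lit 2715) (BT.leaf ⟨(nat_lit 3), (nat_lit 7), (nat_lit 9), (nat_lit 0x1519ea8b9501a78f1b2f4049027a7e8), (nat_lit 0x1eeb9c58339cb499d53aef4e91a4f3b), (nat_lit 0)⟩) (BT.leaf ⟨(nat_lit 3), (nat_lit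 9), (nat_lit 7), (nat_lit 0x1eeb9c58339cb499d53aef4e91a4f3b), (nat_lit 0x1519ea8b9501a78f1b2f4049027a7e8), (nat_lit 0)⟩))) (BT.node (nat_lit 2718) (BT.node (nat_lit 2717) (BT.leaf ⟨(nat_lit 3), (nat_lit 9), (nat_lit 7), (nat_lit 0x1421996f090100208449bce8cca8c0), (nat_lit 0xcea9d73ae77c685bf2ae65367bd2d2), (nat_lit 0)⟩) (BT.leaf ⟨(nat_lit 3), (nat_lit 7), (nat_lit 9), (nat_lit 0xcea9d73ae77c685bf2ae65367bd2d2), (nat_lit 0x1421996f090100208449bce8cca8c0), (nat_lit 0)⟩)) (BT.node (nat_lit 2719) (BT.leaf ⟨(nat_lit 3), (nat_lit 9), (nat_lit 7), (nat_lit 0x1d18205e8100ae4106f4e740210012f), (nat_lit 0x8e4d7d689e62006070d1022233a280), (nat_lit 0)⟩) (BT.leaf ⟨(nat_lit 3), (nat_lit 7), (nat_lit 9), (nat_lit 0x8e4d7d689e62006070d1022233a280), (nat_lit 0x1d18205e8100ae4106f4e740210012f), (nat_lit 0)⟩)))))) (BT.node (nat_lit 2736) (BT.node (nat_lit 2728) (BT.node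 (nat_lit 2724) (BT.node (nat_lit 2722) (BT.node (nat_lit 2721) (BT.leaf ⟨(nat_lit 3), (nat_lit 9), (nat_lit 3), (nat_lit 0x4bc97669b620bc9f92d256cbe638fa), (nat_lit 0x1cece76efb078579563a5a4d243e738), (nat_lit 0)⟩) (BT.leaf ⟨(nat_lit 3), (nat_lit 3), (nat_lit 9), (nat_lit 0x1cece76efb078579563a5a4d243e738), (nat_lit 0x4bc97669b620bc9f92d256cbe638fa), (nat_lit 0)⟩)) (BT.node (nat_lit 2723) (BT.leaf ⟨(nat_lit 3), (nat_lit 9), (nat_lit 9), (nat_lit 0x1d1fe31b2a8d91affbd8e88cd783746), (nat_lit 0x93db821fcbe95d3fcabd826f28c85f), (nat_lit 0)⟩) (BT.leaf ⟨(nat_lit 3), (nat_lit 9), (nat_lit 9), (nat_lit 0x93db821fcbe95d3fcabd826f28c85f), (nat_lit 0x1d1fe31b2a8d91affbd8e88cd783746), (nat_lit 0)⟩))) (BT.node (nat_lit 2726) (BT.node (nat_lit 2725) (BT.leaf ⟨(nat_lit 3), (nat_lit 5), (nat_lit 9), (nat_lit 0x1cea0012f00897c100017c610001746), (nat_lit 0x32c3e747e89c1ba73d8e8ccd7b32ae),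 (nat_lit 0)⟩) (BT.leaf ⟨(nat_lit 3), (nat_lit 9), (nat_lit 5), (nat_lit 0x32c3e747e89c1ba73d8e8ccd7b32ae), (nat_lit 0x1cea0012f00897c100017c610001746), (nat_lit 0)⟩)) (BT.node (nat_lit 2727) (BT.leaf ⟨(nat_lit 3), (nat_lit 7), (nat_lit 9), (nat_lit 0x131f0aea205f57297acc72c4b49713f), (nat_lit 0x4fc080900230401824f91caa7ab014), (nat_lit 0)⟩) (BT.leaf ⟨(nat_lit 3), (nat_lit 9), (nat_lit 7), (nat_lit 0x4fc080900230401824f91caa7ab014), (nat_lit 0x131f0aea205f57297acc72c4b49713f), (nat_lit 0)⟩)))) (BT.node (nat_lit 2732) (BT.node (nat_lit 2730) (BT.node (nat_lit 2729) (BT.leaf ⟨(nat_lit 3), (nat_lit 9), (nat_lit 7), (nat_lit 0x80ac6b2f9e89002f8b9a8c8218053a), (nat_lit 0x1c877799587a7472c0fa1aaf55c5693), (nat_lit 0)⟩) (BT.leaf ⟨(nat_lit 3), (nat_lit 7), (nat_lit 9), (nat_lit 0x1c877799587a7472c0fa1aaf55c5693), (nat_lit 0x80ac6b2f9e89002f8b9a8c8218053a),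 (nat_lit 0)⟩)) (BT.node (nat_lit 2731) (BT.leaf ⟨(nat_lit 3), (nat_lit 9), (nat_lit 7), (nat_lit 0x14671625d4bd97cde24f43fedd6fec1), (nat_lit 0x821eab00402801201e3ce617d40204), (nat_lit 0)⟩) (BT.leaf ⟨(nat_lit 3), (nat_lit 7), (nat_lit 9), (nat_lit 0x821eab00402801201e3ce617d40204), (nat_lit 0x14671625d4bd97cde24f43fedd6fec1), (nat_lit 0)⟩))) (BT.node (nat_lit 2734) (BT.node (nat_lit 2733) (BT.leaf ⟨(nat_lit 3), (nat_lit 4), (nat_lit 9), (nat_lit 0xce9a4eefc2b4ebdd73ec74e939c4d9), (nat_lit 0xae4978204bfce880400de804001080), (nat_lit 0)⟩) (BT.leaf ⟨(nat_lit 3), (nat_lit 9), (nat_lit 4), (nat_lit 0xae4978204bfce880400de804001080), (nat_lit 0xce9a4eefc2b4ebdd73ec74e939c4d9), (nat_lit 0)⟩)) (BT.node (nat_lit 2735) (BT.leaf ⟨(nat_lit 3), (nat_lit 9), (nat_lit 8), (nat_lit 0x1f34b7860b51ad021440180e8d20041), (nat_lit 0xc20c9f103e32396f58020852f747), (nat_lit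 0)⟩) (BT.leaf ⟨(nat_lit 3), (nat_lit 8), (nat_lit 9), (nat_lit 0xc20c9f103e32396f58020852f747), (nat_lit 0x1f34b7860b51ad021440180e8d20041), (nat_lit 0)⟩))))) (BT.node (nat_lit 2744) (BT.node (nat_lit 2740) (BT.node (nat_lit 2738) (BT.node (nat_lit 2737) (BT.leaf ⟨(nat_lit 3), (nat_lit 9), (nat_lit 9), (nat_lit 0xcbfede152df5709693f2563eb3492f), (nat_lit 0x182d329763373a2b45a8b91782fc31c), (nat_lit 0)⟩) (BT.leaf ⟨(nat_lit 3), (nat_lit 9), (nat_lit 9), (nat_lit 0x182d329763373a2b45a8b91782fc31c), (nat_lit 0xcbfede152df5709693f2563eb3492f), (nat_lit 0)⟩)) (BT.node (nat_lit 2739) (BT.leaf ⟨(nat_lit 3), (nat_lit 9), (nat_lit 7), (nat_lit 0xf8d2f801004ae7c6810040011005e8), (nat_lit 0x2dfc646ef3bf3746ea2f1232dff5d2), (nat_lit 0)⟩) (BT.leaf ⟨(nat_lit 3), (nat_lit 7), (nat_lit 9), (nat_lit 0x2dfc646ef3bf3746ea2f1232dff5d2), (nat_lit 0xf8d2f801004ae7c6810040011005e8),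 (nat_lit 0)⟩))) (BT.node (nat_lit 2742) (BT.node (nat_lit 2741) (BT.leaf ⟨(nat_lit 3), (nat_lit 7), (nat_lit 9), (nat_lit 0x43c104530c1b53b30280607d41171a), (nat_lit 0x750ee8fa3ea8db77f21baaf546a995), (nat_lit 0)⟩) (BT.leaf ⟨(nat_lit 3), (nat_lit 9), (nat_lit 7), (nat_lit 0x750ee8fa3ea8db77f21baaf546a995), (nat_lit 0x43c104530c1b53b30280607d41171a), (nat_lit 0)⟩)) (BT.node (nat_lit 2743) (BT.leaf ⟨(nat_lit 3), (nat_lit 9), (nat_lit 7), (nat_lit 0x5bc207065f21810fc4032b6a1d1c33), (nat_lit 0x97fa30200080095c9d50808039d3e3), (nat_lit 0)⟩) (BT.leaf ⟨(nat_lit 3), (nat_lit 7), (nat_lit 9), (nat_lit 0x97fa30200080095c9d50808039d3e3), (nat_lit 0x5bc207065f21810fc4032b6a1d1c33), (nat_lit 0)⟩)))) (BT.node (nat_lit 2748) (BT.node (nat_lit 2746) (BT.node (nat_lit 2745) (BT.leaf ⟨(nat_lit 2), (nat_lit 4), (nat_lit 4), (nat_lit 0x90219af9f9bc182177a0a0501d1848),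 (nat_lit 0), (nat_lit 0)⟩) (BT.leaf ⟨(nat_lit 3), (nat_lit 8), (nat_lit 9), (nat_lit 0x2dfc7f89d45e37d6b13ba54d3c2f8c), (nat_lit 0x8d9b1cd9a2ef89d1beb2b478df1bc3), (nat_lit 0)⟩)) (BT.node (nat_lit 2747) (BT.leaf ⟨(nat_lit 3), (nat_lit 9), (nat_lit 8), (nat_lit 0x8d9b1cd9a2ef89d1beb2b478df1bc3), (nat_lit 0x2dfc7f89d45e37d6b13ba54d3c2f8c), (nat_lit 0)⟩) (BT.leaf ⟨(nat_lit 3), (nat_lit 7), (nat_lit 9), (nat_lit 0xc4dd259eefaf6135627939b0647496), (nat_lit 0x43c9693f25c0bcd7b2fb62b32ae127), (nat_lit 0)⟩))) (BT.node (nat_lit 2750) (BT.node (nat_lit 2749) (BT.leaf ⟨(nat_lit 3), (nat_lit 9), (nat_lit 7), (nat_lit 0x43c9693f25c0bcd7b2fb62b32ae127), (nat_lit 0xc4dd259eefaf6135627939b0647496), (nat_lit 0)⟩) (BT.leaf ⟨(nat_lit 3), (nat_lit 9), (nat_lit 7), (nat_lit 0x107c6081e77d1d5c10140202400821), (nat_lit 0x994bcdd2197961c6f0da69eb45bf8f), (nat_lit 0)⟩)) (BT.node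 (nat_lit 2751) (BT.leaf ⟨(nat_lit 3), (nat_lit 7), (nat_lit 9), (nat_lit 0x994bcdd2197961c6f0da69eb45bf8f), (nat_lit 0x107c6081e77d1d5c10140202400821), (nat_lit 0)⟩) (BT.leaf ⟨(nat_lit 3), (nat_lit 8), (nat_lit 9), (nat_lit 0x714ca9d43a2e291b1d5d2775790e58), (nat_lit 0x127c40841f191cb7a9013a801410803), (nat_lit 0)⟩)))))))
noncomputable def cP2688 : BT Pf := (BT.node (nat_lit 2720) (BT.node (nat_lit 2704) (BT.node (nat_lit 2696) (BT.node (nat_lit 2692) (BT.node (nat_lit 2690) (BT.node (nat_lit 2689) (BT.leaf (.rel (nat_lit 2362) (nat_lit 2) [(nat_lit 675), (nat_lit 737)] [⟨(nat_lit 2631), [(nat_lit 2549)], [(nat_lit 93), (nat_lit 898)]⟩, ⟨(nat_lit 2313), [(nat_lit 828)], [(nat_lit 689), (nat_lit 460)]⟩])) (BT.leaf (.rel (nat_lit 1804) (nat_lit 2) [(nat_lit 261), (nat_lit 982)] [⟨(nat_lit 1770), [(nat_lit 935)], [(nat_lit 1013), (nat_lit 710)]⟩, ⟨(nat_lit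 2204), [(nat_lit 775)], [(nat_lit 151), (nat_lit 1605)]⟩]))) (BT.node (nat_lit 2691) (BT.leaf (.inv (nat_lit 2689))) (BT.leaf (.rel (nat_lit 2461) (nat_lit 3) [(nat_lit 153), (nat_lit 627)] [⟨(nat_lit 2654), [(nat_lit 2167)], [(nat_lit 391), (nat_lit 738)]⟩, ⟨(nat_lit 1220), [(nat_lit 935)], [(nat_lit 285), (nat_lit 586)]⟩])))) (BT.node (nat_lit 2694) (BT.node (nat_lit 2693) (BT.leaf (.inv (nat_lit 2691))) (BT.leaf (.rel (nat_lit 1613) (nat_lit 3) [(nat_lit 746), (nat_lit 559)] [⟨(nat_lit 1019), [], [(nat_lit 194), (nat_lit 738)]⟩, ⟨(nat_lit 2331), [(nat_lit 329)], [(nat_lit 826), (nat_lit 328)]⟩]))) (BT.node (nat_lit 2695) (BT.leaf (.inv (nat_lit 2693))) (BT.leaf (.rel (nat_lit 1905) (nat_lit 1) [(nat_lit 900), (nat_lit 694)] [⟨(nat_lit 2684), [(nat_lit 775)], [(nat_lit 1173), (nat_lit 1256)]⟩]))))) (BT.node (nat_lit 2700) (BT.node (nat_lit 2698)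 (BT.node (nat_lit 2697) (BT.leaf (.inv (nat_lit 2695))) (BT.leaf (.rel (nat_lit 1574) (nat_lit 2) [(nat_lit 422), (nat_lit 1101)] [⟨(nat_lit 2612), [(nat_lit 935)], [(nat_lit 1056), (nat_lit 248)]⟩, ⟨(nat_lit 2497), [(nat_lit 2549)], [(nat_lit 629), (nat_lit 1871)]⟩]))) (BT.node (nat_lit 2699) (BT.leaf (.inv (nat_lit 2697))) (BT.leaf (.rel (nat_lit 1422) (nat_lit 0) [(nat_lit 241), (nat_lit 525)] [⟨(nat_lit 2324), [(nat_lit 935)], [(nat_lit 350), (nat_lit 401)]⟩])))) (BT.node (nat_lit 2702) (BT.node (nat_lit 2701) (BT.leaf (.inv (nat_lit 2699))) (BT.leaf (.rel (nat_lit 1947) (nat_lit 1) [(nat_lit 192), (nat_lit 717)] [⟨(nat_lit 2639), [(nat_lit 1822)], [(nat_lit 335), (nat_lit 1223)]⟩]))) (BT.node (nat_lit 2703) (BT.leaf (.inv (nat_lit 2701))) (BT.leaf (.rel (nat_lit 1927) (nat_lit 5) [(nat_lit 1175), (nat_lit 1503)] [⟨(nat_lit 2069), [(nat_lit 2210)],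 [(nat_lit 359), (nat_lit 1226)]⟩, ⟨(nat_lit 2483), [(nat_lit 935)], [(nat_lit 428), (nat_lit 969)]⟩])))))) (BT.node (nat_lit 2712) (BT.node (nat_lit 2708) (BT.node (nat_lit 2706) (BT.node (nat_lit 2705) (BT.leaf (.inv (nat_lit 2703))) (BT.leaf (.rel (nat_lit 2351) (nat_lit 5) [(nat_lit 1141)] [⟨(nat_lit 978), [], [(nat_lit 153), (nat_lit 498)]⟩, ⟨(nat_lit 1919), [(nat_lit 322)], [(nat_lit 300), (nat_lit 785)]⟩]))) (BT.node (nat_lit 2707) (BT.leaf (.inv (nat_lit 2705))) (BT.leaf (.rel (nat_lit 2034) (nat_lit 1) [(nat_lit 483), (nat_lit 1123)] [⟨(nat_lit 2481), [(nat_lit 935)], [(nat_lit 470), (nat_lit 1109)]⟩])))) (BT.node (nat_lit 2710) (BT.node (nat_lit 2709) (BT.leaf (.inv (nat_lit 2707))) (BT.leaf (.rel (nat_lit 2439) (nat_lit 3) [(nat_lit 467), (nat_lit 566)] [⟨(nat_lit 1907), [], [(nat_lit 503), (nat_lit 814)]⟩, ⟨(nat_lit 1920), [(nat_lit 2376)],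 [(nat_lit 355), (nat_lit 1140)]⟩]))) (BT.node (nat_lit 2711) (BT.leaf (.inv (nat_lit 2709))) (BT.leaf (.rel (nat_lit 2334) (nat_lit 0) [(nat_lit 152), (nat_lit 593)] [⟨(nat_lit 2622), [], [(nat_lit 151), (nat_lit 736)]⟩]))))) (BT.node (nat_lit 2716) (BT.node (nat_lit 2714) (BT.node (nat_lit 2713) (BT.leaf (.rel (nat_lit 1062) (nat_lit 4) [(nat_lit 281), (nat_lit 247)] [⟨(nat_lit 2627), [(nat_lit 775)], [(nat_lit 629), (nat_lit 682)]⟩, ⟨(nat_lit 2504), [(nat_lit 2311)], [(nat_lit 1195), (nat_lit 1017)]⟩])) (BT.leaf (.inv (nat_lit 2712)))) (BT.node (nat_lit 2715) (BT.leaf (.rel (nat_lit 2443) (nat_lit 5) [(nat_lit 211), (nat_lit 1503)] [⟨(nat_lit 1753), [], [(nat_lit 175), (nat_lit 972)]⟩, ⟨(nat_lit 1272), [(nat_lit 775)], [(nat_lit 446), (nat_lit 294)]⟩])) (BT.leaf (.inv (nat_lit 2714))))) (BT.node (nat_lit 2718) (BT.node (nat_lit 2717) (BT.leaf (.rel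 (nat_lit 1243) (nat_lit 3) [(nat_lit 482), (nat_lit 880)] [⟨(nat_lit 1392), [], [(nat_lit 380), (nat_lit 320)]⟩, ⟨(nat_lit 2554), [(nat_lit 775)], [(nat_lit 523), (nat_lit 465)]⟩])) (BT.leaf (.inv (nat_lit 2716)))) (BT.node (nat_lit 2719) (BT.leaf (.rel (nat_lit 975) (nat_lit 1) [(nat_lit 469), (nat_lit 291)] [⟨(nat_lit 2629), [(nat_lit 708)], [(nat_lit 539), (nat_lit 294)]⟩])) (BT.leaf (.inv (nat_lit 2718)))))))) (BT.node (nat_lit 2736) (BT.node (nat_lit 2728) (BT.node (nat_lit 2724) (BT.node (nat_lit 2722) (BT.node (nat_lit 2721) (BT.leaf (.rel (nat_lit 1121) (nat_lit 1) [(nat_lit 167), (nat_lit 1605)] [⟨(nat_lit 2653), [(nat_lit 775)], [(nat_lit 227), (nat_lit 439)]⟩])) (BT.leaf (.inv (nat_lit 2720)))) (BT.node (nat_lit 2723) (BT.leaf (.rel (nat_lit 2544) (nat_lit 2) [(nat_lit 1308), (nat_lit 969)] [⟨(nat_lit 2678), [(nat_lit 2549)], [(nat_lit 355),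 (nat_lit 738)]⟩, ⟨(nat_lit 2694), [(nat_lit 775)], [(nat_lit 429), (nat_lit 533)]⟩])) (BT.leaf (.inv (nat_lit 2722))))) (BT.node (nat_lit 2726) (BT.node (nat_lit 2725) (BT.leaf (.rel (nat_lit 2168) (nat_lit 2) [(nat_lit 815), (nat_lit 1871)] [⟨(nat_lit 1632), [(nat_lit 1415)], [(nat_lit 1013), (nat_lit 584)]⟩, ⟨(nat_lit 1096), [(nat_lit 935)], [(nat_lit 567), (nat_lit 785)]⟩])) (BT.leaf (.inv (nat_lit 2724)))) (BT.node (nat_lit 2727) (BT.leaf (.rel (nat_lit 2675) (nat_lit 2) [(nat_lit 1189), (nat_lit 420)] [⟨(nat_lit 1553), [], [(nat_lit 631), (nat_lit 363)]⟩, ⟨(nat_lit 1418), [], [(nat_lit 292), (nat_lit 662)]⟩])) (BT.leaf (.inv (nat_lit 2726)))))) (BT.node (nat_lit 2732) (BT.node (nat_lit 2730) (BT.node (nat_lit 2729) (BT.leaf (.rel (nat_lit 1207) (nat_lit 5) [(nat_lit 883), (nat_lit 898)] [⟨(nat_lit 1495), [(nat_lit 935)], [(nat_lit 166), (nat_lit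 399)]⟩, ⟨(nat_lit 2372), [(nat_lit 775)], [(nat_lit 579), (nat_lit 170)]⟩])) (BT.leaf (.inv (nat_lit 2728)))) (BT.node (nat_lit 2731) (BT.leaf (.rel (nat_lit 1553) (nat_lit 5) [(nat_lit 832), (nat_lit 1348)] [⟨(nat_lit 844), [(nat_lit 775)], [(nat_lit 256), (nat_lit 1018)]⟩, ⟨(nat_lit 2190), [(nat_lit 881)], [(nat_lit 695), (nat_lit 278)]⟩])) (BT.leaf (.inv (nat_lit 2730))))) (BT.node (nat_lit 2734) (BT.node (nat_lit 2733) (BT.leaf (.rel (nat_lit 2543) (nat_lit 2) [(nat_lit 539), (nat_lit 512)] [⟨(nat_lit 2289), [], [(nat_lit 1292), (nat_lit 573)]⟩, ⟨(nat_lit 1913), [(nat_lit 2524)], [(nat_lit 653), (nat_lit 752)]⟩])) (BT.leaf (.inv (nat_lit 2732)))) (BT.node (nat_lit 2735) (BT.leaf (.rel (nat_lit 1974) (nat_lit 2) [(nat_lit 2061), (nat_lit 440)] [⟨(nat_lit 2042), [(nat_lit 935)], [(nat_lit 629), (nat_lit 1203)]⟩, ⟨(nat_lit 2639), [(nat_lit 2376)],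 [(nat_lit 1308), (nat_lit 162)]⟩])) (BT.leaf (.inv (nat_lit 2734))))))) (BT.node (nat_lit 2744) (BT.node (nat_lit 2740) (BT.node (nat_lit 2738) (BT.node (nat_lit 2737) (BT.leaf (.rel (nat_lit 2591) (nat_lit 1) [(nat_lit 176), (nat_lit 347)] [⟨(nat_lit 2333), [], [(nat_lit 177), (nat_lit 681)]⟩])) (BT.leaf (.inv (nat_lit 2736)))) (BT.node (nat_lit 2739) (BT.leaf (.rel (nat_lit 1271) (nat_lit 3) [(nat_lit 942), (nat_lit 293)] [⟨(nat_lit 1643), [], [(nat_lit 582), (nat_lit 578)]⟩, ⟨(nat_lit 2488), [], [(nat_lit 832), (nat_lit 264)]⟩])) (BT.leaf (.inv (nat_lit 2738))))) (BT.node (nat_lit 2742) (BT.node (nat_lit 2741) (BT.leaf (.rel (nat_lit 2499) (nat_lit 2) [(nat_lit 1014), (nat_lit 170)] [⟨(nat_lit 1923), [(nat_lit 775)], [(nat_lit 239), (nat_lit 269)]⟩, ⟨(nat_lit 1827), [(nat_lit 2357)], [(nat_lit 579), (nat_lit 530)]⟩])) (BT.leaf (.inv (nat_lit 2740))))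 (BT.node (nat_lit 2743) (BT.leaf (.rel (nat_lit 2098) (nat_lit 4) [(nat_lit 945), (nat_lit 525)] [⟨(nat_lit 2404), [(nat_lit 2181)], [(nat_lit 237), (nat_lit 972)]⟩, ⟨(nat_lit 2169), [(nat_lit 2237)], [(nat_lit 582), (nat_lit 202)]⟩])) (BT.leaf (.inv (nat_lit 2742)))))) (BT.node (nat_lit 2748) (BT.node (nat_lit 2746) (BT.node (nat_lit 2745) (BT.leaf (.emul [(nat_lit 552), (nat_lit 727)])) (BT.leaf (.rel (nat_lit 2165) (nat_lit 3) [(nat_lit 441), (nat_lit 1109)] [⟨(nat_lit 723), [(nat_lit 1093)], [(nat_lit 942), (nat_lit 684)]⟩, ⟨(nat_lit 1837), [(nat_lit 2744)], [(nat_lit 166), (nat_lit 891)]⟩]))) (BT.node (nat_lit 2747) (BT.leaf (.inv (nat_lit 2745))) (BT.leaf (.rel (nat_lit 2359) (nat_lit 3) [(nat_lit 462), (nat_lit 127)] [⟨(nat_lit 1401), [(nat_lit 935)], [(nat_lit 261), (nat_lit 270)]⟩, ⟨(nat_lit 1333), [], [(nat_lit 911), (nat_lit 291)]⟩]))))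 (BT.node (nat_lit 2750) (BT.node (nat_lit 2749) (BT.leaf (.inv (nat_lit 2747))) (BT.leaf (.rel (nat_lit 931) (nat_lit 0) [(nat_lit 915), (nat_lit 506)] [⟨(nat_lit 2172), [(nat_lit 817)], [(nat_lit 227), (nat_lit 572)]⟩]))) (BT.node (nat_lit 2751) (BT.leaf (.inv (nat_lit 2749))) (BT.leaf (.rel (nat_lit 2218) (nat_lit 3) [(nat_lit 575), (nat_lit 287)] [⟨(nat_lit 2480), [(nat_lit 1037)], [(nat_lit 174), (nat_lit 173)]⟩, ⟨(nat_lit 2734), [], [(nat_lit 381), (nat_lit 880)]⟩]))))))))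
noncomputable def cF2752 : BT Fc := (BT.node (nat_lit 2784) (BT.node (nat_lit 2768) (BT.node (nat_lit 2760) (BT.node (nat_lit 2756) (BT.node (nat_lit 2754) (BT.node (nat_lit 2753) (BT.leaf ⟨(nat_lit 3), (nat_lit 9), (nat_lit 8), (nat_lit 0x127c40841f191cb7a9013a801410803), (nat_lit 0x714ca9d43a2e291b1d5d2775790e58), (nat_lit 0)⟩) (BT.leaf ⟨(nat_lit 3), (nat_lit 7), (nat_lit 9), (nat_lit 0x1bd37b4ab9e9bc35a2f439c6cb7e6f5), (nat_lit 0xc14ca7f051c6810cbe21e091101f5), (nat_lit 0)⟩)) (BT.node (nat_lit 2755) (BT.leaf ⟨(nat_lit 3), (nat_lit 9), (nat_lit 7), (nat_lit 0xc14ca7f051c6810cbe21e091101f5), (nat_lit 0x1bd37b4ab9e9bc35a2f439c6cb7e6f5), (nat_lit 0)⟩) (BT.leaf ⟨(nat_lit 3), (nat_lit 8), (nat_lit 8), (nat_lit 0x1cf2fc10880bd3f1b46d727a210402), (nat_lit 0x17b002204019d08126f01091ddf3f89), (nat_lit 0)⟩))) (BT.node (nat_lit 2758) (BT.node (nat_lit 2757)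 (BT.leaf ⟨(nat_lit 3), (nat_lit 9), (nat_lit 9), (nat_lit 0x13cfdd70d1059d2b42801802211c890), (nat_lit 0x1d09a3746a8cf63a3f44d277fe8cfc6), (nat_lit 0)⟩) (BT.leaf ⟨(nat_lit 3), (nat_lit 9), (nat_lit 9), (nat_lit 0x1011f38061097b002a5b088747a16f0), (nat_lit 0x1005008011037a408a5edea02401f3b), (nat_lit 0)⟩)) (BT.node (nat_lit 2759) (BT.leaf ⟨(nat_lit 3), (nat_lit 9), (nat_lit 9), (nat_lit 0x11b8de2e394a569f13e77e6f0f05cd9), (nat_lit 0x200978407c7ce92f808201bd000de8), (nat_lit 0)⟩) (BT.leaf ⟨(nat_lit 3), (nat_lit 9), (nat_lit 9), (nat_lit 0x200978407c7ce92f808201bd000de8), (nat_lit 0x11b8de2e394a569f13e77e6f0f05cd9), (nat_lit 0)⟩)))) (BT.node (nat_lit 2764) (BT.node (nat_lit 2762) (BT.node (nat_lit 2761) (BT.leaf ⟨(nat_lit 3), (nat_lit 8), (nat_lit 9), (nat_lit 0x220eec0801495f7e5e0050033a7108), (nat_lit 0x19d37b6d44d52affa6f0e43bd57a6f4), (nat_lit 0)⟩)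 (BT.leaf ⟨(nat_lit 3), (nat_lit 9), (nat_lit 8), (nat_lit 0x19d37b6d44d52affa6f0e43bd57a6f4), (nat_lit 0x220eec0801495f7e5e0050033a7108), (nat_lit 0)⟩)) (BT.node (nat_lit 2763) (BT.leaf ⟨(nat_lit 3), (nat_lit 9), (nat_lit 8), (nat_lit 0x1cf39e2cd94a1e3d99bab8ffa79c77), (nat_lit 0x1e742848e7e718ce2890420060092a9), (nat_lit 0)⟩) (BT.leaf ⟨(nat_lit 3), (nat_lit 8), (nat_lit 9), (nat_lit 0x1e742848e7e718ce2890420060092a9), (nat_lit 0x1cf39e2cd94a1e3d99bab8ffa79c77), (nat_lit 0)⟩))) (BT.node (nat_lit 2766) (BT.node (nat_lit 2765) (BT.leaf ⟨(nat_lit 3), (nat_lit 7), (nat_lit 9), (nat_lit 0x8829d673d3c9030054660080997a01), (nat_lit 0x118d083f391c052087560604ff72010), (nat_lit 0)⟩) (BT.leaf ⟨(nat_lit 3), (nat_lit 9), (nat_lit 7), (nat_lit 0x118d083f391c052087560604ff72010), (nat_lit 0x8829d673d3c9030054660080997a01), (nat_lit 0)⟩)) (BT.node (nat_lit 2767)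 (BT.leaf ⟨(nat_lit 3), (nat_lit 7), (nat_lit 9), (nat_lit 0x12966cbe18dcf9cf1fe3598f0cad3eb), (nat_lit 0x1e423b8ed9e75cd9ada63379ce38c72), (nat_lit 0)⟩) (BT.leaf ⟨(nat_lit 3), (nat_lit 9), (nat_lit 7), (nat_lit 0x1e423b8ed9e75cd9ada63379ce38c72), (nat_lit 0x12966cbe18dcf9cf1fe3598f0cad3eb), (nat_lit 0)⟩))))) (BT.node (nat_lit 2776) (BT.node (nat_lit 2772) (BT.node (nat_lit 2770) (BT.node (nat_lit 2769) (BT.leaf ⟨(nat_lit 3), (nat_lit 9), (nat_lit 9), (nat_lit 0xb8c88102208355af90105f8e8c04e8), (nat_lit 0xf868b9e3f20fccad3c39b2fadb1e0b), (nat_lit 0)⟩) (BT.leaf ⟨(nat_lit 3), (nat_lit 9), (nat_lit 9), (nat_lit 0xf868b9e3f20fccad3c39b2fadb1e0b), (nat_lit 0xb8c88102208355af90105f8e8c04e8), (nat_lit 0)⟩)) (BT.node (nat_lit 2771) (BT.leaf ⟨(nat_lit 3), (nat_lit 8), (nat_lit 9), (nat_lit 0x978732df6be17e55a57aca976e925f), (nat_lit 0x1634f185f400881eae7317380100a08),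 (nat_lit 0)⟩) (BT.leaf ⟨(nat_lit 3), (nat_lit 9), (nat_lit 8), (nat_lit 0x1634f185f400881eae7317380100a08), (nat_lit 0x978732df6be17e55a57aca976e925f), (nat_lit 0)⟩))) (BT.node (nat_lit 2774) (BT.node (nat_lit 2773) (BT.leaf ⟨(nat_lit 2), (nat_lit 4), (nat_lit 4), (nat_lit 0x1013f1b8d803402041e8c00d1b2fc02), (nat_lit 0), (nat_lit 0)⟩) (BT.leaf ⟨(nat_lit 2), (nat_lit 4), (nat_lit 4), (nat_lit 0xfadf095aefa78e377e37c46f166790), (nat_lit 0), (nat_lit 0)⟩)) (BT.node (nat_lit 2775) (BT.leaf ⟨(nat_lit 3), (nat_lit 9), (nat_lit 3), (nat_lit 0x13d37b517df9b50e76e4deabd143ef4), (nat_lit 0xbe4ad23989a2e5dcab1a68399b62bd), (nat_lit 0)⟩) (BT.leaf ⟨(nat_lit 3), (nat_lit 3), (nat_lit 9), (nat_lit 0xbe4ad23989a2e5dcab1a68399b62bd), (nat_lit 0x13d37b517df9b50e76e4deabd143ef4), (nat_lit 0)⟩)))) (BT.node (nat_lit 2780) (BT.node (nat_lit 2778) (BT.node (nat_lit 2777)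 (BT.leaf ⟨(nat_lit 3), (nat_lit 9), (nat_lit 9), (nat_lit 0x11c876873ae71c6ae19bce7e41ff349), (nat_lit 0x4808210f3a14154c8eead7e0486e4), (nat_lit 0)⟩) (BT.leaf ⟨(nat_lit 3), (nat_lit 9), (nat_lit 9), (nat_lit 0x4808210f3a14154c8eead7e0486e4), (nat_lit 0x11c876873ae71c6ae19bce7e41ff349), (nat_lit 0)⟩)) (BT.node (nat_lit 2779) (BT.leaf ⟨(nat_lit 3), (nat_lit 9), (nat_lit 9), (nat_lit 0x12ad8e2f4deaa1e8bef0de9b53727db), (nat_lit 0xd7c84110202ee46ad00204c02b9940), (nat_lit 0)⟩) (BT.leaf ⟨(nat_lit 3), (nat_lit 7), (nat_lit 9), (nat_lit 0x14653fdd2acab7f2fec16e0974de4ab), (nat_lit 0xf0f05f90fc6569f5c6e5c745e6cbf3), (nat_lit 0)⟩))) (BT.node (nat_lit 2782) (BT.node (nat_lit 2781) (BT.leaf ⟨(nat_lit 3), (nat_lit 9), (nat_lit 7), (nat_lit 0xf0f05f90fc6569f5c6e5c745e6cbf3), (nat_lit 0x14653fdd2acab7f2fec16e0974de4ab), (nat_lit 0)⟩) (BT.leaf ⟨(nat_lit 3), (nat_lit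 9), (nat_lit 8), (nat_lit 0x17d2eadfacadc07365fc594650fdd2), (nat_lit 0x4b800be2402106f4c724bd004809d4), (nat_lit 0)⟩)) (BT.node (nat_lit 2783) (BT.leaf ⟨(nat_lit 3), (nat_lit 8), (nat_lit 9), (nat_lit 0x4b800be2402106f4c724bd004809d4), (nat_lit 0x17d2eadfacadc07365fc594650fdd2), (nat_lit 0)⟩) (BT.leaf ⟨(nat_lit 3), (nat_lit 7), (nat_lit 9), (nat_lit 0x1a4e8cf4ef8d7fc65f42a8d91a52f46), (nat_lit 0x1400913ff3a71554ee4220060185f8), (nat_lit 0)⟩)))))) (BT.node (nat_lit 2800) (BT.node (nat_lit 2792) (BT.node (nat_lit 2788) (BT.node (nat_lit 2786) (BT.node (nat_lit 2785) (BT.leaf ⟨(nat_lit 3), (nat_lit 9), (nat_lit 7), (nat_lit 0x1400913ff3a71554ee4220060185f8), (nat_lit 0x1a4e8cf4ef8d7fc65f42a8d91a52f46), (nat_lit 0)⟩) (BT.leaf ⟨(nat_lit 3), (nat_lit 7), (nat_lit 9), (nat_lit 0x20ab40885013ce40084472240c0155), (nat_lit 0x64f100e8c802f404010000bc6804), (nat_lit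 0)⟩)) (BT.node (nat_lit 2787) (BT.leaf ⟨(nat_lit 3), (nat_lit 9), (nat_lit 7), (nat_lit 0x64f100e8c802f404010000bc6804), (nat_lit 0x20ab40885013ce40084472240c0155), (nat_lit 0)⟩) (BT.leaf ⟨(nat_lit 3), (nat_lit 7), (nat_lit 9), (nat_lit 0x501204400a137820041d69f3430706), (nat_lit 0x197eeab8d8010404f4020e6d18f433a), (nat_lit 0)⟩))) (BT.node (nat_lit 2790) (BT.node (nat_lit 2789) (BT.leaf ⟨(nat_lit 3), (nat_lit 9), (nat_lit 7), (nat_lit 0x197eeab8d8010404f4020e6d18f433a), (nat_lit 0x501204400a137820041d69f3430706), (nat_lit 0)⟩) (BT.leaf ⟨(nat_lit 3), (nat_lit 9), (nat_lit 8), (nat_lit 0x93dc56c10bf8b12eb5f5bf2aeb2a5f), (nat_lit 0x191ab9b005c74008082fc753a06a904), (nat_lit 0)⟩)) (BT.node (nat_lit 2791) (BT.leaf ⟨(nat_lit 3), (nat_lit 8), (nat_lit 9), (nat_lit 0x191ab9b005c74008082fc753a06a904), (nat_lit 0x93dc56c10bf8b12eb5f5bf2aeb2a5f), (nat_lit 0)⟩)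 (BT.leaf ⟨(nat_lit 3), (nat_lit 9), (nat_lit 9), (nat_lit 0x403fa101c8c421af904220b8ecf140), (nat_lit 0xb4a6ce1539dbbdd2583e702df1d33a), (nat_lit 0)⟩)))) (BT.node (nat_lit 2796) (BT.node (nat_lit 2794) (BT.node (nat_lit 2793) (BT.leaf ⟨(nat_lit 3), (nat_lit 9), (nat_lit 9), (nat_lit 0x210442391802085070d5bed8c40fba), (nat_lit 0x1007c625ebd24b800809571d1c409d4), (nat_lit 0)⟩) (BT.leaf ⟨(nat_lit 3), (nat_lit 9), (nat_lit 8), (nat_lit 0xac6268e657160f5cf516d8ee55ceca), (nat_lit 0x1bc002c773a2f9c0325bf1326ba1004), (nat_lit 0)⟩)) (BT.node (nat_lit 2795) (BT.leaf ⟨(nat_lit 3), (nat_lit 8), (nat_lit 9), (nat_lit 0x1bc002c773a2f9c0325bf1326ba1004), (nat_lit 0xac6268e657160f5cf516d8ee55ceca), (nat_lit 0)⟩) (BT.leaf ⟨(nat_lit 3), (nat_lit 9), (nat_lit 7), (nat_lit 0x399b87b7ba49742fec15bf8b10fb5f), (nat_lit 0xf8df12368dd295f3cd92b4b8fc860b), (nat_lit 0)⟩)))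 (BT.node (nat_lit 2798) (BT.node (nat_lit 2797) (BT.leaf ⟨(nat_lit 3), (nat_lit 7), (nat_lit 9), (nat_lit 0xf8df12368dd295f3cd92b4b8fc860b), (nat_lit 0x399b87b7ba49742fec15bf8b10fb5f), (nat_lit 0)⟩) (BT.leaf ⟨(nat_lit 3), (nat_lit 7), (nat_lit 9), (nat_lit 0x13679573be35597dd63ab07cf83e77a), (nat_lit 0x97db821fba5b05affb74b72ac7324f), (nat_lit 0)⟩)) (BT.node (nat_lit 2799) (BT.leaf ⟨(nat_lit 3), (nat_lit 9), (nat_lit 7), (nat_lit 0x97db821fba5b05affb74b72ac7324f), (nat_lit 0x13679573be35597dd63ab07cf83e77a), (nat_lit 0)⟩) (BT.leaf ⟨(nat_lit 3), (nat_lit 9), (nat_lit 9), (nat_lit 0x1802c6fe8d3ca027a32f404900f18b9), (nat_lit 0x8e5b1c801219d0445682aa204d7880), (nat_lit 0)⟩))))) (BT.node (nat_lit 2808) (BT.node (nat_lit 2804) (BT.node (nat_lit 2802) (BT.node (nat_lit 2801) (BT.leaf ⟨(nat_lit 3), (nat_lit 9), (nat_lit 9), (nat_lit 0x8e5b1c801219d0445682aa204d7880),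 (nat_lit 0x1802c6fe8d3ca027a32f404900f18b9), (nat_lit 0)⟩) (BT.leaf ⟨(nat_lit 3), (nat_lit 9), (nat_lit 8), (nat_lit 0x103a302025f1cfc68025727550025f), (nat_lit 0x1365f5bc37c6e8cf1f902b4b8fbed17), (nat_lit 0)⟩)) (BT.node (nat_lit 2803) (BT.leaf ⟨(nat_lit 3), (nat_lit 8), (nat_lit 9), (nat_lit 0x1365f5bc37c6e8cf1f902b4b8fbed17), (nat_lit 0x103a302025f1cfc68025727550025f), (nat_lit 0)⟩) (BT.leaf ⟨(nat_lit 3), (nat_lit 8), (nat_lit 9), (nat_lit 0x1f36e979dd454d346f85cb1e305bb8d), (nat_lit 0x107b13ec113d23bbec9c4d45dacf3a4), (nat_lit 0)⟩))) (BT.node (nat_lit 2806) (BT.node (nat_lit 2805) (BT.leaf ⟨(nat_lit 3), (nat_lit 9), (nat_lit 8), (nat_lit 0x107b13ec113d23bbec9c4d45dacf3a4), (nat_lit 0x1f36e979dd454d346f85cb1e305bb8d), (nat_lit 0)⟩) (BT.leaf ⟨(nat_lit 3), (nat_lit 9), (nat_lit 9), (nat_lit 0x19a4976a2fb6dc2d896f2578569782f), (nat_lit 0x88503c3041b5010c53f5a0925f120),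 (nat_lit 0)⟩)) (BT.node (nat_lit 2807) (BT.leaf ⟨(nat_lit 3), (nat_lit 7), (nat_lit 9), (nat_lit 0xf569d1e34208810060040817d80201), (nat_lit 0x3e8d7927fb6e5ad8acc21fa899792b), (nat_lit 0)⟩) (BT.leaf ⟨(nat_lit 3), (nat_lit 9), (nat_lit 7), (nat_lit 0x3e8d7927fb6e5ad8acc21fa899792b), (nat_lit 0xf569d1e34208810060040817d80201), (nat_lit 0)⟩)))) (BT.node (nat_lit 2812) (BT.node (nat_lit 2810) (BT.node (nat_lit 2809) (BT.leaf ⟨(nat_lit 3), (nat_lit 7), (nat_lit 9), (nat_lit 0x16c64f48e9bc27a4e496d3db0476cbe), (nat_lit 0x19cd8032f405a7ac685f9e9fa29d204), (nat_lit 0)⟩) (BT.leaf ⟨(nat_lit 3), (nat_lit 9), (nat_lit 7), (nat_lit 0x19cd8032f405a7ac685f9e9fa29d204), (nat_lit 0x16c64f48e9bc27a4e496d3db0476cbe), (nat_lit 0)⟩)) (BT.node (nat_lit 2811) (BT.leaf ⟨(nat_lit 3), (nat_lit 7), (nat_lit 9), (nat_lit 0xf840900610497501042e70aefc7802), (nat_lit 0x15cc883b9300c006ae3ab3c421afae3),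 (nat_lit 0)⟩) (BT.leaf ⟨(nat_lit 3), (nat_lit 9), (nat_lit 7), (nat_lit 0x15cc883b9300c006ae3ab3c421afae3), (nat_lit 0xf840900610497501042e70aefc7802), (nat_lit 0)⟩))) (BT.node (nat_lit 2814) (BT.node (nat_lit 2813) (BT.leaf ⟨(nat_lit 3), (nat_lit 7), (nat_lit 9), (nat_lit 0x1b05ec3a4627a7a4fd9e1db52cbb496), (nat_lit 0x92f6104de0033a10058091dfc4a5b), (nat_lit 0)⟩) (BT.leaf ⟨(nat_lit 3), (nat_lit 9), (nat_lit 7), (nat_lit 0x92f6104de0033a10058091dfc4a5b), (nat_lit 0x1b05ec3a4627a7a4fd9e1db52cbb496), (nat_lit 0)⟩)) (BT.node (nat_lit 2815) (BT.leaf ⟨(nat_lit 3), (nat_lit 7), (nat_lit 9), (nat_lit 0x5daf54e8bd866ef4df8bd10f532f51), (nat_lit 0xb8ffa140221918904e8a01a36cf573), (nat_lit 0)⟩) (BT.leaf ⟨(nat_lit 3), (nat_lit 9), (nat_lit 7), (nat_lit 0xb8ffa140221918904e8a01a36cf573), (nat_lit 0x5daf54e8bd866ef4df8bd10f532f51), (nat_lit 0)⟩)))))))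
noncomputable def cP2752 : BT Pf := (BT.node (nat_lit 2784) (BT.node (nat_lit 2768) (BT.node (nat_lit 2760) (BT.node (nat_lit 2756) (BT.node (nat_lit 2754) (BT.node (nat_lit 2753) (BT.leaf (.inv (nat_lit 2751))) (BT.leaf (.rel (nat_lit 2601) (nat_lit 1) [(nat_lit 250), (nat_lit 717)] [⟨(nat_lit 2649), [(nat_lit 2549)], [(nat_lit 376), (nat_lit 91)]⟩]))) (BT.node (nat_lit 2755) (BT.leaf (.inv (nat_lit 2753))) (BT.leaf (.rel (nat_lit 1855) (nat_lit 3) [(nat_lit 871), (nat_lit 363)] [⟨(nat_lit 1806), [(nat_lit 935)], [(nat_lit 774), (nat_lit 1123)]⟩, ⟨(nat_lit 1885), [(nat_lit 775)], [(nat_lit 153), (nat_lit 249)]⟩])))) (BT.node (nat_lit 2758) (BT.node (nat_lit 2757) (BT.leaf (.rel (nat_lit 2754) (nat_lit 2) [(nat_lit 568), (nat_lit 814)] [⟨(nat_lit 1089), [(nat_lit 775)], [(nat_lit 237), (nat_lit 627)]⟩, ⟨(nat_lit 2267), [(nat_lit 935)], [(nat_lit 1189),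 (nat_lit 319)]⟩])) (BT.leaf (.rel (nat_lit 2616) (nat_lit 5) [(nat_lit 527), (nat_lit 90)] [⟨(nat_lit 1633), [], [(nat_lit 195), (nat_lit 533)]⟩, ⟨(nat_lit 2324), [(nat_lit 935)], [(nat_lit 177), (nat_lit 1043)]⟩]))) (BT.node (nat_lit 2759) (BT.leaf (.rel (nat_lit 2491) (nat_lit 0) [(nat_lit 483), (nat_lit 711)] [⟨(nat_lit 2611), [(nat_lit 935)], [(nat_lit 620), (nat_lit 291)]⟩])) (BT.leaf (.inv (nat_lit 2758)))))) (BT.node (nat_lit 2764) (BT.node (nat_lit 2762) (BT.node (nat_lit 2761) (BT.leaf (.rel (nat_lit 2429) (nat_lit 3) [(nat_lit 970), (nat_lit 778)] [⟨(nat_lit 1453), [(nat_lit 935)], [(nat_lit 871), (nat_lit 247)]⟩, ⟨(nat_lit 1826), [], [(nat_lit 175), (nat_lit 585)]⟩])) (BT.leaf (.inv (nat_lit 2760)))) (BT.node (nat_lit 2763) (BT.leaf (.rel (nat_lit 2113) (nat_lit 4) [(nat_lit 151), (nat_lit 0)] [⟨(nat_lit 2404), [(nat_lit 2524)], [(nat_lit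 902), (nat_lit 202)]⟩, ⟨(nat_lit 2615), [(nat_lit 2167)], [(nat_lit 283), (nat_lit 294)]⟩])) (BT.leaf (.inv (nat_lit 2762))))) (BT.node (nat_lit 2766) (BT.node (nat_lit 2765) (BT.leaf (.rel (nat_lit 2590) (nat_lit 0) [(nat_lit 510), (nat_lit 224)] [⟨(nat_lit 1627), [], [(nat_lit 653), (nat_lit 624)]⟩])) (BT.leaf (.inv (nat_lit 2764)))) (BT.node (nat_lit 2767) (BT.leaf (.rel (nat_lit 2640) (nat_lit 1) [(nat_lit 429), (nat_lit 110)] [⟨(nat_lit 1077), [(nat_lit 775)], [(nat_lit 261), (nat_lit 499)]⟩])) (BT.leaf (.inv (nat_lit 2766))))))) (BT.node (nat_lit 2776) (BT.node (nat_lit 2772) (BT.node (nat_lit 2770) (BT.node (nat_lit 2769) (BT.leaf (.rel (nat_lit 2441) (nat_lit 0) [(nat_lit 942), (nat_lit 525)] [⟨(nat_lit 2423), [(nat_lit 935)], [(nat_lit 526), (nat_lit 491)]⟩])) (BT.leaf (.inv (nat_lit 2768)))) (BT.node (nat_lit 2771) (BT.leaf (.rel (nat_lit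 2374) (nat_lit 1) [(nat_lit 629), (nat_lit 247)] [⟨(nat_lit 1950), [], [(nat_lit 260), (nat_lit 108)]⟩])) (BT.leaf (.inv (nat_lit 2770))))) (BT.node (nat_lit 2774) (BT.node (nat_lit 2773) (BT.leaf (.emul [(nat_lit 552), (nat_lit 1843)])) (BT.leaf (.emul [(nat_lit 552), (nat_lit 2772)]))) (BT.node (nat_lit 2775) (BT.leaf (.rel (nat_lit 2172) (nat_lit 3) [(nat_lit 990), (nat_lit 974)] [⟨(nat_lit 2466), [], [(nat_lit 474), (nat_lit 1018)]⟩, ⟨(nat_lit 2691), [(nat_lit 2773)], [(nat_lit 92), (nat_lit 532)]⟩])) (BT.leaf (.inv (nat_lit 2774)))))) (BT.node (nat_lit 2780) (BT.node (nat_lit 2778) (BT.node (nat_lit 2777) (BT.leaf (.rel (nat_lit 2253) (nat_lit 4) [(nat_lit 690), (nat_lit 700)] [⟨(nat_lit 1764), [], [(nat_lit 150), (nat_lit 512)]⟩, ⟨(nat_lit 2342), [(nat_lit 935)], [(nat_lit 241), (nat_lit 878)]⟩])) (BT.leaf (.inv (nat_lit 2776)))) (BT.node (nat_lit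 2779) (BT.leaf (.rel (nat_lit 2737) (nat_lit 1) [(nat_lit 695), (nat_lit 206)] [⟨(nat_lit 2600), [(nat_lit 2311)], [(nat_lit 466), (nat_lit 693)]⟩])) (BT.leaf (.rel (nat_lit 2685) (nat_lit 2) [(nat_lit 211), (nat_lit 1375)] [⟨(nat_lit 2534), [(nat_lit 775)], [(nat_lit 211), (nat_lit 572)]⟩, ⟨(nat_lit 2408), [(nat_lit 2549)], [(nat_lit 570), (nat_lit 399)]⟩])))) (BT.node (nat_lit 2782) (BT.node (nat_lit 2781) (BT.leaf (.inv (nat_lit 2779))) (BT.leaf (.rel (nat_lit 2151) (nat_lit 1) [(nat_lit 619), (nat_lit 426)] [⟨(nat_lit 2318), [(nat_lit 2210)], [(nat_lit 618), (nat_lit 556)]⟩]))) (BT.node (nat_lit 2783) (BT.leaf (.inv (nat_lit 2781))) (BT.leaf (.rel (nat_lit 2643) (nat_lit 4) [(nat_lit 1175), (nat_lit 1472)] [⟨(nat_lit 1202), [(nat_lit 775)], [(nat_lit 129), (nat_lit 125)]⟩, ⟨(nat_lit 1214), [(nat_lit 935)], [(nat_lit 283), (nat_lit 107)]⟩])))))))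 (BT.node (nat_lit 2800) (BT.node (nat_lit 2792) (BT.node (nat_lit 2788) (BT.node (nat_lit 2786) (BT.node (nat_lit 2785) (BT.leaf (.inv (nat_lit 2783))) (BT.leaf (.rel (nat_lit 2446) (nat_lit 1) [(nat_lit 783), (nat_lit 740)] [⟨(nat_lit 1197), [], [(nat_lit 991), (nat_lit 573)]⟩]))) (BT.node (nat_lit 2787) (BT.leaf (.inv (nat_lit 2785))) (BT.leaf (.rel (nat_lit 2683) (nat_lit 4) [(nat_lit 355), (nat_lit 557)] [⟨(nat_lit 2243), [(nat_lit 2237)], [(nat_lit 1437), (nat_lit 785)]⟩, ⟨(nat_lit 1716), [(nat_lit 775)], [(nat_lit 406), (nat_lit 107)]⟩])))) (BT.node (nat_lit 2790) (BT.node (nat_lit 2789) (BT.leaf (.inv (nat_lit 2787))) (BT.leaf (.rel (nat_lit 1928) (nat_lit 3) [(nat_lit 928), (nat_lit 868)] [⟨(nat_lit 1232), [(nat_lit 935)], [(nat_lit 957), (nat_lit 822)]⟩, ⟨(nat_lit 2275), [(nat_lit 935)], [(nat_lit 424), (nat_lit 449)]⟩]))) (BT.node (nat_lit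 2791) (BT.leaf (.inv (nat_lit 2789))) (BT.leaf (.rel (nat_lit 2220) (nat_lit 0) [(nat_lit 427), (nat_lit 822)] [⟨(nat_lit 2278), [(nat_lit 775)], [(nat_lit 295), (nat_lit 1376)]⟩]))))) (BT.node (nat_lit 2796) (BT.node (nat_lit 2794) (BT.node (nat_lit 2793) (BT.leaf (.rel (nat_lit 2631) (nat_lit 1) [(nat_lit 373), (nat_lit 1123)] [⟨(nat_lit 2282), [(nat_lit 456)], [(nat_lit 871), (nat_lit 868)]⟩])) (BT.leaf (.rel (nat_lit 2105) (nat_lit 5) [(nat_lit 350), (nat_lit 1376)] [⟨(nat_lit 2782), [(nat_lit 1922)], [(nat_lit 175), (nat_lit 797)]⟩, ⟨(nat_lit 2393), [(nat_lit 2237)], [(nat_lit 292), (nat_lit 1136)]⟩]))) (BT.node (nat_lit 2795) (BT.leaf (.inv (nat_lit 2793))) (BT.leaf (.rel (nat_lit 2047) (nat_lit 4) [(nat_lit 1337), (nat_lit 821)] [⟨(nat_lit 1830), [(nat_lit 2357)], [(nat_lit 689), (nat_lit 369)]⟩, ⟨(nat_lit 2416), [(nat_lit 935)], [(nat_lit 690),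 (nat_lit 578)]⟩])))) (BT.node (nat_lit 2798) (BT.node (nat_lit 2797) (BT.leaf (.inv (nat_lit 2795))) (BT.leaf (.rel (nat_lit 2553) (nat_lit 0) [(nat_lit 1102), (nat_lit 1083)] [⟨(nat_lit 1770), [(nat_lit 935)], [(nat_lit 394), (nat_lit 1369)]⟩]))) (BT.node (nat_lit 2799) (BT.leaf (.inv (nat_lit 2797))) (BT.leaf (.rel (nat_lit 2448) (nat_lit 3) [(nat_lit 462), (nat_lit 1226)] [⟨(nat_lit 1196), [(nat_lit 775)], [(nat_lit 943), (nat_lit 1070)]⟩, ⟨(nat_lit 2306), [(nat_lit 775)], [(nat_lit 470), (nat_lit 694)]⟩])))))) (BT.node (nat_lit 2808) (BT.node (nat_lit 2804) (BT.node (nat_lit 2802) (BT.node (nat_lit 2801) (BT.leaf (.inv (nat_lit 2799))) (BT.leaf (.rel (nat_lit 1904) (nat_lit 1) [(nat_lit 957), (nat_lit 1871)] [⟨(nat_lit 2576), [], [(nat_lit 1032), (nat_lit 1091)]⟩]))) (BT.node (nat_lit 2803) (BT.leaf (.inv (nat_lit 2801))) (BT.leaf (.rel (nat_lit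 2476) (nat_lit 4) [(nat_lit 746), (nat_lit 386)] [⟨(nat_lit 1739), [], [(nat_lit 953), (nat_lit 795)]⟩, ⟨(nat_lit 2123), [(nat_lit 935)], [(nat_lit 164), (nat_lit 163)]⟩])))) (BT.node (nat_lit 2806) (BT.node (nat_lit 2805) (BT.leaf (.inv (nat_lit 2803))) (BT.leaf (.rel (nat_lit 2537) (nat_lit 0) [(nat_lit 175), (nat_lit 597)] [⟨(nat_lit 2318), [(nat_lit 2181)], [(nat_lit 241), (nat_lit 605)]⟩]))) (BT.node (nat_lit 2807) (BT.leaf (.rel (nat_lit 2781) (nat_lit 1) [(nat_lit 237), (nat_lit 875)] [⟨(nat_lit 1928), [(nat_lit 1921)], [(nat_lit 380), (nat_lit 1223)]⟩])) (BT.leaf (.inv (nat_lit 2806)))))) (BT.node (nat_lit 2812) (BT.node (nat_lit 2810) (BT.node (nat_lit 2809) (BT.leaf (.rel (nat_lit 2579) (nat_lit 5) [(nat_lit 428), (nat_lit 386)] [⟨(nat_lit 2193), [(nat_lit 935)], [(nat_lit 508), (nat_lit 1375)]⟩, ⟨(nat_lit 2784), [(nat_lit 2237)], [(nat_lit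 259), (nat_lit 307)]⟩])) (BT.leaf (.inv (nat_lit 2808)))) (BT.node (nat_lit 2811) (BT.leaf (.rel (nat_lit 2657) (nat_lit 2) [(nat_lit 380), (nat_lit 1537)] [⟨(nat_lit 793), [(nat_lit 671)], [(nat_lit 300), (nat_lit 420)]⟩, ⟨(nat_lit 1481), [], [(nat_lit 487), (nat_lit 646)]⟩])) (BT.leaf (.inv (nat_lit 2810))))) (BT.node (nat_lit 2814) (BT.node (nat_lit 2813) (BT.leaf (.rel (nat_lit 2599) (nat_lit 4) [(nat_lit 522), (nat_lit 1083)] [⟨(nat_lit 2687), [], [(nat_lit 424), (nat_lit 738)]⟩, ⟨(nat_lit 1784), [(nat_lit 935)], [(nat_lit 871), (nat_lit 1165)]⟩])) (BT.leaf (.inv (nat_lit 2812)))) (BT.node (nat_lit 2815) (BT.leaf (.rel (nat_lit 2262) (nat_lit 4) [(nat_lit 631), (nat_lit 1478)] [⟨(nat_lit 1917), [(nat_lit 775)], [(nat_lit 970), (nat_lit 1376)]⟩, ⟨(nat_lit 1861), [(nat_lit 2259)], [(nat_lit 551), (nat_lit 1369)]⟩])) (BT.leaf (.inv (nat_lit 2814)))))))))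
noncomputable def cF2816 : BT Fc := (BT.node (nat_lit 2848) (BT.node (nat_lit 2832) (BT.node (nat_lit 2824) (BT.node (nat_lit 2820) (BT.node (nat_lit 2818) (BT.node (nat_lit 2817) (BT.leaf ⟨(nat_lit 3), (nat_lit 9), (nat_lit 7), (nat_lit 0x66e1e976b517a5575f8fd178305cc7), (nat_lit 0x5003789808af4125ec008f9d2df3e), (nat_lit 0)⟩) (BT.leaf ⟨(nat_lit 3), (nat_lit 7), (nat_lit 9), (nat_lit 0x5003789808af4125ec008f9d2df3e), (nat_lit 0x66e1e976b517a5575f8fd178305cc7), (nat_lit 0)⟩)) (BT.node (nat_lit 2819) (BT.leaf ⟨(nat_lit 3), (nat_lit 9), (nat_lit 7), (nat_lit 0x1fd31d646281a3481300b3c4048235f), (nat_lit 0x1d9ba3742a33f199ae46365d1e52bd8), (nat_lit 0)⟩) (BT.leaf ⟨(nat_lit 3), (nat_lit 7), (nat_lit 9), (nat_lit 0x1d9ba3742a33f199ae46365d1e52bd8), (nat_lit 0x1fd31d646281a3481300b3c4048235f), (nat_lit 0)⟩))) (BT.node (nat_lit 2822) (BT.node (nat_lit 2821)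 (BT.leaf ⟨(nat_lit 3), (nat_lit 7), (nat_lit 9), (nat_lit 0x18e85bb495a41f2c1f3ee774eb9c4d9), (nat_lit 0x1379d24beefb27c4f4964d523aa5c9c), (nat_lit 0)⟩) (BT.leaf ⟨(nat_lit 3), (nat_lit 9), (nat_lit 7), (nat_lit 0x1379d24beefb27c4f4964d523aa5c9c), (nat_lit 0x18e85bb495a41f2c1f3ee774eb9c4d9), (nat_lit 0)⟩)) (BT.node (nat_lit 2823) (BT.leaf ⟨(nat_lit 3), (nat_lit 8), (nat_lit 9), (nat_lit 0x207e30c01210791cadf1046bdb1fba), (nat_lit 0x49f511af65ff6c178faab96c4b792f), (nat_lit 0)⟩) (BT.leaf ⟨(nat_lit 3), (nat_lit 9), (nat_lit 8), (nat_lit 0x49f511af65ff6c178faab96c4b792f), (nat_lit 0x207e30c01210791cadf1046bdb1fba), (nat_lit 0)⟩)))) (BT.node (nat_lit 2828) (BT.node (nat_lit 2826) (BT.node (nat_lit 2825) (BT.leaf ⟨(nat_lit 3), (nat_lit 7), (nat_lit 9), (nat_lit 0x1d18978100057a00080800897f7a020), (nat_lit 0xfce0879d38a04428014024840182a9), (nat_lit 0)⟩)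 (BT.leaf ⟨(nat_lit 3), (nat_lit 9), (nat_lit 7), (nat_lit 0xfce0879d38a04428014024840182a9), (nat_lit 0x1d18978100057a00080800897f7a020), (nat_lit 0)⟩)) (BT.node (nat_lit 2827) (BT.leaf ⟨(nat_lit 3), (nat_lit 7), (nat_lit 9), (nat_lit 0xbe55cd34c4e56958eb91737fdb6396), (nat_lit 0x197e0038d802ce9a3402a5f802802f4), (nat_lit 0)⟩) (BT.leaf ⟨(nat_lit 3), (nat_lit 9), (nat_lit 7), (nat_lit 0x197e0038d802ce9a3402a5f802802f4), (nat_lit 0xbe55cd34c4e56958eb91737fdb6396), (nat_lit 0)⟩))) (BT.node (nat_lit 2830) (BT.node (nat_lit 2829) (BT.leaf ⟨(nat_lit 3), (nat_lit 7), (nat_lit 9), (nat_lit 0x637279d0220400a0508c6aa7ab72a), (nat_lit 0x204976f50070052f1d4012ae1f15e9), (nat_lit 0)⟩) (BT.leaf ⟨(nat_lit 3), (nat_lit 9), (nat_lit 7), (nat_lit 0x204976f50070052f1d4012ae1f15e9), (nat_lit 0x637279d0220400a0508c6aa7ab72a), (nat_lit 0)⟩)) (BT.node (nat_lit 2831) (BT.leaf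 ⟨(nat_lit 3), (nat_lit 7), (nat_lit 9), (nat_lit 0x97401abb00480a0149cdec20bc7f44), (nat_lit 0x8200647be65e16041dd7d7d3824008), (nat_lit 0)⟩) (BT.leaf ⟨(nat_lit 3), (nat_lit 9), (nat_lit 7), (nat_lit 0x8200647be65e16041dd7d7d3824008), (nat_lit 0x97401abb00480a0149cdec20bc7f44), (nat_lit 0)⟩))))) (BT.node (nat_lit 2840) (BT.node (nat_lit 2836) (BT.node (nat_lit 2834) (BT.node (nat_lit 2833) (BT.leaf ⟨(nat_lit 3), (nat_lit 9), (nat_lit 7), (nat_lit 0xf8c2025fe8cae4100808e7bd0979d5), (nat_lit 0xfaf996fc92c82093ab1bc003014257), (nat_lit 0)⟩) (BT.leaf ⟨(nat_lit 3), (nat_lit 7), (nat_lit 9), (nat_lit 0xfaf996fc92c82093ab1bc003014257), (nat_lit 0xf8c2025fe8cae4100808e7bd0979d5), (nat_lit 0)⟩)) (BT.node (nat_lit 2835) (BT.leaf ⟨(nat_lit 3), (nat_lit 9), (nat_lit 9), (nat_lit 0x355afd735c6420c063a281fd080e46), (nat_lit 0x19a5b812bfb64bdcb0fa65e4baae4c7), (nat_lit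 0)⟩) (BT.leaf ⟨(nat_lit 3), (nat_lit 9), (nat_lit 9), (nat_lit 0x19a5b812bfb64bdcb0fa65e4baae4c7), (nat_lit 0x355afd735c6420c063a281fd080e46), (nat_lit 0)⟩))) (BT.node (nat_lit 2838) (BT.node (nat_lit 2837) (BT.leaf ⟨(nat_lit 3), (nat_lit 9), (nat_lit 9), (nat_lit 0x1ce15da023af1c64e6f600404801902), (nat_lit 0x2440de93a800fa3ef54bd1c880ab8), (nat_lit 0)⟩) (BT.leaf ⟨(nat_lit 3), (nat_lit 9), (nat_lit 9), (nat_lit 0x2440de93a800fa3ef54bd1c880ab8), (nat_lit 0x1ce15da023af1c64e6f600404801902), (nat_lit 0)⟩)) (BT.node (nat_lit 2839) (BT.leaf ⟨(nat_lit 3), (nat_lit 7), (nat_lit 9), (nat_lit 0x152e4f313d82279d24be9bd07acf176), (nat_lit 0x1bdb5a1b250f3d28bef4da92afedff4), (nat_lit 0)⟩) (BT.leaf ⟨(nat_lit 3), (nat_lit 9), (nat_lit 7), (nat_lit 0x1bdb5a1b250f3d28bef4da92afedff4), (nat_lit 0x152e4f313d82279d24be9bd07acf176), (nat_lit 0)⟩)))) (BT.node (nat_lit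 2844) (BT.node (nat_lit 2842) (BT.node (nat_lit 2841) (BT.leaf ⟨(nat_lit 3), (nat_lit 7), (nat_lit 9), (nat_lit 0x17d2ed653789fdc525b6be97d2f370), (nat_lit 0xcbd00210fd13d1009e3404f5540600), (nat_lit 0)⟩) (BT.leaf ⟨(nat_lit 3), (nat_lit 9), (nat_lit 7), (nat_lit 0xcbd00210fd13d1009e3404f5540600), (nat_lit 0x17d2ed653789fdc525b6be97d2f370), (nat_lit 0)⟩)) (BT.node (nat_lit 2843) (BT.leaf ⟨(nat_lit 3), (nat_lit 9), (nat_lit 9), (nat_lit 0x1bc23b8443a3d08122bd00be2502004), (nat_lit 0xc00c04e8204481dcff4ae6354882e3), (nat_lit 0)⟩) (BT.leaf ⟨(nat_lit 3), (nat_lit 9), (nat_lit 7), (nat_lit 0x95ee938a956dc2b2a5d5be9ff2fa5f), (nat_lit 0x1007f1c003d0bd20840871b97c3989e), (nat_lit 0)⟩))) (BT.node (nat_lit 2846) (BT.node (nat_lit 2845) (BT.leaf ⟨(nat_lit 3), (nat_lit 7), (nat_lit 9), (nat_lit 0x1007f1c003d0bd20840871b97c3989e), (nat_lit 0x95ee938a956dc2b2a5d5be9ff2fa5f),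 (nat_lit 0)⟩) (BT.leaf ⟨(nat_lit 3), (nat_lit 9), (nat_lit 7), (nat_lit 0x75480400de8f8c20001005ce80425f), (nat_lit 0x1571b81af1f5856d893f21ee5997cc7), (nat_lit 0)⟩)) (BT.node (nat_lit 2847) (BT.leaf ⟨(nat_lit 3), (nat_lit 7), (nat_lit 9), (nat_lit 0x1571b81af1f5856d893f21ee5997cc7), (nat_lit 0x75480400de8f8c20001005ce80425f), (nat_lit 0)⟩) (BT.leaf ⟨(nat_lit 3), (nat_lit 8), (nat_lit 9), (nat_lit 0x11b9b1ba3786f8a6cbf394af9e8bacc), (nat_lit 0x1e42d3335ab9b2b39c77ae6d2679bfe), (nat_lit 0)⟩)))))) (BT.node (nat_lit 2864) (BT.node (nat_lit 2856) (BT.node (nat_lit 2852) (BT.node (nat_lit 2850) (BT.node (nat_lit 2849) (BT.leaf ⟨(nat_lit 3), (nat_lit 9), (nat_lit 8), (nat_lit 0x1e42d3335ab9b2b39c77ae6d2679bfe), (nat_lit 0x11b9b1ba3786f8a6cbf394af9e8bacc), (nat_lit 0)⟩) (BT.leaf ⟨(nat_lit 3), (nat_lit 9), (nat_lit 7), (nat_lit 0x3b7bec9a7b1b064b49f91d07a4f49c),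 (nat_lit 0x84100204fd19cec6b00c009005c85f), (nat_lit 0)⟩)) (BT.node (nat_lit 2851) (BT.leaf ⟨(nat_lit 3), (nat_lit 7), (nat_lit 9), (nat_lit 0x84100204fd19cec6b00c009005c85f), (nat_lit 0x3b7bec9a7b1b064b49f91d07a4f49c), (nat_lit 0)⟩) (BT.leaf ⟨(nat_lit 3), (nat_lit 9), (nat_lit 9), (nat_lit 0x8427a280c01a7a9d240b1a801eaa01), (nat_lit 0xa64903c3049080faf664fe08414020), (nat_lit 0)⟩))) (BT.node (nat_lit 2854) (BT.node (nat_lit 2853) (BT.leaf ⟨(nat_lit 3), (nat_lit 9), (nat_lit 9), (nat_lit 0xa64903c3049080faf664fe08414020), (nat_lit 0x8427a280c01a7a9d240b1a801eaa01), (nat_lit 0)⟩) (BT.leaf ⟨(nat_lit 3), (nat_lit 9), (nat_lit 3), (nat_lit 0x223dde024e823992570502224b018), (nat_lit 0x1bbc5bd3a9b2e930af3ae7dccb1d565), (nat_lit 0)⟩)) (BT.node (nat_lit 2855) (BT.leaf ⟨(nat_lit 3), (nat_lit 3), (nat_lit 9), (nat_lit 0x1bbc5bd3a9b2e930af3ae7dccb1d565), (nat_lit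 0x223dde024e823992570502224b018), (nat_lit 0)⟩) (BT.leaf ⟨(nat_lit 3), (nat_lit 9), (nat_lit 7), (nat_lit 0x484872a022040e2830dc97e1083f3), (nat_lit 0xaa55ca99b06ac69a3966d88e55c6b9), (nat_lit 0)⟩)))) (BT.node (nat_lit 2860) (BT.node (nat_lit 2858) (BT.node (nat_lit 2857) (BT.leaf ⟨(nat_lit 3), (nat_lit 7), (nat_lit 9), (nat_lit 0xaa55ca99b06ac69a3966d88e55c6b9), (nat_lit 0x484872a022040e2830dc97e1083f3), (nat_lit 0)⟩) (BT.leaf ⟨(nat_lit 3), (nat_lit 7), (nat_lit 9), (nat_lit 0x32fa75ffecc6cb23747d27d5ba307c), (nat_lit 0xd2f0417c402639401dea04402f3b), (nat_lit 0)⟩)) (BT.node (nat_lit 2859) (BT.leaf ⟨(nat_lit 3), (nat_lit 9), (nat_lit 7), (nat_lit 0xd2f0417c402639401dea04402f3b), (nat_lit 0x32fa75ffecc6cb23747d27d5ba307c), (nat_lit 0)⟩) (BT.leaf ⟨(nat_lit 3), (nat_lit 9), (nat_lit 7), (nat_lit 0x1a8bc638d2f3e7746bfeb1b4d3c7c6e), (nat_lit 0x807a3de9f19bd63900920201600c9f),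 (nat_lit 0)⟩))) (BT.node (nat_lit 2862) (BT.node (nat_lit 2861) (BT.leaf ⟨(nat_lit 3), (nat_lit 7), (nat_lit 9), (nat_lit 0x807a3de9f19bd63900920201600c9f), (nat_lit 0x1a8bc638d2f3e7746bfeb1b4d3c7c6e), (nat_lit 0)⟩) (BT.leaf ⟨(nat_lit 3), (nat_lit 9), (nat_lit 7), (nat_lit 0x191971901221fd27468db3c481af908), (nat_lit 0xc72b47b72ec997f45e9bf0aba7460b), (nat_lit 0)⟩)) (BT.node (nat_lit 2863) (BT.leaf ⟨(nat_lit 3), (nat_lit 7), (nat_lit 9), (nat_lit 0xc72b47b72ec997f45e9bf0aba7460b), (nat_lit 0x191971901221fd27468db3c481af908), (nat_lit 0)⟩) (BT.leaf ⟨(nat_lit 3), (nat_lit 9), (nat_lit 7), (nat_lit 0x1bc0120440080160210457a74403014), (nat_lit 0x20401f8cbd3d1e3925e00a00404be2), (nat_lit 0)⟩))))) (BT.node (nat_lit 2872) (BT.node (nat_lit 2868) (BT.node (nat_lit 2866) (BT.node (nat_lit 2865) (BT.leaf ⟨(nat_lit 3), (nat_lit 7), (nat_lit 9), (nat_lit 0x20401f8cbd3d1e3925e00a00404be2),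 (nat_lit 0x1bc0120440080160210457a74403014), (nat_lit 0)⟩) (BT.leaf ⟨(nat_lit 3), (nat_lit 9), (nat_lit 7), (nat_lit 0x1e3189e8df3be26e978dd45eb72c38d), (nat_lit 0x41001008e7e3420080e8c0064f020), (nat_lit 0)⟩)) (BT.node (nat_lit 2867) (BT.leaf ⟨(nat_lit 3), (nat_lit 7), (nat_lit 9), (nat_lit 0x41001008e7e3420080e8c0064f020), (nat_lit 0x1e3189e8df3be26e978dd45eb72c38d), (nat_lit 0)⟩) (BT.leaf ⟨(nat_lit 3), (nat_lit 9), (nat_lit 8), (nat_lit 0x73b782f49e86cb7e7f4de9f6e8bee4), (nat_lit 0x1d475cab11737fc7344d572ae313abb), (nat_lit 0)⟩))) (BT.node (nat_lit 2870) (BT.node (nat_lit 2869) (BT.leaf ⟨(nat_lit 3), (nat_lit 8), (nat_lit 9), (nat_lit 0x1d475cab11737fc7344d572ae313abb), (nat_lit 0x73b782f49e86cb7e7f4de9f6e8bee4), (nat_lit 0)⟩) (BT.leaf ⟨(nat_lit 3), (nat_lit 9), (nat_lit 8), (nat_lit 0x6004170d83ca01b18885bf3cfdd568), (nat_lit 0x15183e74255d91affca57b1d3b34f06),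 (nat_lit 0)⟩)) (BT.node (nat_lit 2871) (BT.leaf ⟨(nat_lit 3), (nat_lit 8), (nat_lit 9), (nat_lit 0x15183e74255d91affca57b1d3b34f06), (nat_lit 0x6004170d83ca01b18885bf3cfdd568), (nat_lit 0)⟩) (BT.leaf ⟨(nat_lit 3), (nat_lit 8), (nat_lit 9), (nat_lit 0xf840125d8e200c11202bd44b441102), (nat_lit 0x18020142068c7a2002f413d7562052f), (nat_lit 0)⟩)))) (BT.node (nat_lit 2876) (BT.node (nat_lit 2874) (BT.node (nat_lit 2873) (BT.leaf ⟨(nat_lit 3), (nat_lit 9), (nat_lit 8), (nat_lit 0x18020142068c7a2002f413d7562052f), (nat_lit 0xf840125d8e200c11202bd44b441102), (nat_lit 0)⟩) (BT.leaf ⟨(nat_lit 3), (nat_lit 9), (nat_lit 9), (nat_lit 0x12f810299e340936a10f0c00a1e18a0), (nat_lit 0xa1e8befc2f39d0e74ab89ac73781b2), (nat_lit 0)⟩)) (BT.node (nat_lit 2875) (BT.leaf ⟨(nat_lit 3), (nat_lit 9), (nat_lit 9), (nat_lit 0xa1e8befc2f39d0e74ab89ac73781b2), (nat_lit 0x12f810299e340936a10f0c00a1e18a0),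 (nat_lit 0)⟩) (BT.leaf ⟨(nat_lit 3), (nat_lit 7), (nat_lit 9), (nat_lit 0x106d47062de500287cdef411024060), (nat_lit 0x7777e3eb210ac64b00a4ae02104018), (nat_lit 0)⟩))) (BT.node (nat_lit 2878) (BT.node (nat_lit 2877) (BT.leaf ⟨(nat_lit 3), (nat_lit 9), (nat_lit 7), (nat_lit 0x7777e3eb210ac64b00a4ae02104018), (nat_lit 0x106d47062de500287cdef411024060), (nat_lit 0)⟩) (BT.leaf ⟨(nat_lit 3), (nat_lit 9), (nat_lit 9), (nat_lit 0x1297befe3598d8df0c6e7d6fccde236), (nat_lit 0x1d3bab693c8dd1b348cb365f1957346), (nat_lit 0)⟩)) (BT.node (nat_lit 2879) (BT.leaf ⟨(nat_lit 3), (nat_lit 9), (nat_lit 9), (nat_lit 0x1d3bab693c8dd1b348cb365f1957346), (nat_lit 0x1297befe3598d8df0c6e7d6fccde236), (nat_lit 0)⟩) (BT.leaf ⟨(nat_lit 3), (nat_lit 7), (nat_lit 9), (nat_lit 0x240d7955104d8cc00a0f75c34422df), (nat_lit 0x7140a2a9bf093e08463f3a4fc0c012), (nat_lit 0)⟩)))))))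
noncomputable def cP2816 : BT Pf := (BT.node (nat_lit 2848) (BT.node (nat_lit 2832) (BT.node (nat_lit 2824) (BT.node (nat_lit 2820) (BT.node (nat_lit 2818) (BT.node (nat_lit 2817) (BT.leaf (.rel (nat_lit 1488) (nat_lit 5) [(nat_lit 153)] [⟨(nat_lit 2764), [(nat_lit 935)], [(nat_lit 392), (nat_lit 529)]⟩, ⟨(nat_lit 2493), [(nat_lit 2237)], [(nat_lit 469), (nat_lit 459)]⟩])) (BT.leaf (.inv (nat_lit 2816)))) (BT.node (nat_lit 2819) (BT.leaf (.rel (nat_lit 1225) (nat_lit 4) [(nat_lit 474), (nat_lit 604)] [⟨(nat_lit 1933), [], [(nat_lit 176), (nat_lit 384)]⟩, ⟨(nat_lit 2320), [(nat_lit 2181)], [(nat_lit 423), (nat_lit 206)]⟩])) (BT.leaf (.inv (nat_lit 2818))))) (BT.node (nat_lit 2822) (BT.node (nat_lit 2821) (BT.leaf (.rel (nat_lit 2303) (nat_lit 5) [(nat_lit 380), (nat_lit 1018)] [⟨(nat_lit 2186), [(nat_lit 775)], [(nat_lit 902), (nat_lit 141)]⟩, ⟨(nat_lit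 2262), [(nat_lit 2167)], [(nat_lit 871), (nat_lit 91)]⟩])) (BT.leaf (.inv (nat_lit 2820)))) (BT.node (nat_lit 2823) (BT.leaf (.rel (nat_lit 2403) (nat_lit 5) [(nat_lit 1189), (nat_lit 533)] [⟨(nat_lit 2091), [(nat_lit 1883)], [(nat_lit 283), (nat_lit 110)]⟩, ⟨(nat_lit 1900), [(nat_lit 992)], [(nat_lit 462), (nat_lit 1141)]⟩])) (BT.leaf (.inv (nat_lit 2822)))))) (BT.node (nat_lit 2828) (BT.node (nat_lit 2826) (BT.node (nat_lit 2825) (BT.leaf (.rel (nat_lit 2182) (nat_lit 0) [(nat_lit 1014), (nat_lit 1226)] [⟨(nat_lit 1156), [], [(nat_lit 746), (nat_lit 778)]⟩])) (BT.leaf (.inv (nat_lit 2824)))) (BT.node (nat_lit 2827) (BT.leaf (.rel (nat_lit 2767) (nat_lit 2) [(nat_lit 787), (nat_lit 401)] [⟨(nat_lit 1662), [(nat_lit 935)], [(nat_lit 832), (nat_lit 390)]⟩, ⟨(nat_lit 965), [], [(nat_lit 153), (nat_lit 662)]⟩])) (BT.leaf (.inv (nat_lit 2826))))) (BT.node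 (nat_lit 2830) (BT.node (nat_lit 2829) (BT.leaf (.rel (nat_lit 2752) (nat_lit 4) [(nat_lit 630), (nat_lit 559)] [⟨(nat_lit 1962), [(nat_lit 1846)], [(nat_lit 212), (nat_lit 1070)]⟩, ⟨(nat_lit 1230), [(nat_lit 775)], [(nat_lit 416), (nat_lit 597)]⟩])) (BT.leaf (.inv (nat_lit 2828)))) (BT.node (nat_lit 2831) (BT.leaf (.rel (nat_lit 2296) (nat_lit 3) [(nat_lit 513), (nat_lit 1)] [⟨(nat_lit 1120), [(nat_lit 935)], [(nat_lit 945), (nat_lit 432)]⟩, ⟨(nat_lit 831), [(nat_lit 860)], [(nat_lit 763), (nat_lit 1133)]⟩])) (BT.leaf (.inv (nat_lit 2830))))))) (BT.node (nat_lit 2840) (BT.node (nat_lit 2836) (BT.node (nat_lit 2834) (BT.node (nat_lit 2833) (BT.leaf (.rel (nat_lit 2415) (nat_lit 3) [(nat_lit 570), (nat_lit 968)] [⟨(nat_lit 2784), [(nat_lit 2311)], [(nat_lit 193), (nat_lit 878)]⟩, ⟨(nat_lit 2750), [], [(nat_lit 1600), (nat_lit 475)]⟩])) (BT.leaf (.inv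 (nat_lit 2832)))) (BT.node (nat_lit 2835) (BT.leaf (.rel (nat_lit 2230) (nat_lit 3) [(nat_lit 825), (nat_lit 694)] [⟨(nat_lit 1078), [(nat_lit 935)], [(nat_lit 782), (nat_lit 1018)]⟩, ⟨(nat_lit 2392), [(nat_lit 935)], [(nat_lit 387), (nat_lit 88)]⟩])) (BT.leaf (.inv (nat_lit 2834))))) (BT.node (nat_lit 2838) (BT.node (nat_lit 2837) (BT.leaf (.rel (nat_lit 2385) (nat_lit 5) [(nat_lit 93), (nat_lit 279)] [⟨(nat_lit 2141), [(nat_lit 775)], [(nat_lit 865), (nat_lit 269)]⟩, ⟨(nat_lit 2794), [(nat_lit 2210)], [(nat_lit 840), (nat_lit 361)]⟩])) (BT.leaf (.inv (nat_lit 2836)))) (BT.node (nat_lit 2839) (BT.leaf (.rel (nat_lit 2689) (nat_lit 0) [(nat_lit 284), (nat_lit 684)] [⟨(nat_lit 1471), [(nat_lit 935)], [(nat_lit 492), (nat_lit 736)]⟩])) (BT.leaf (.inv (nat_lit 2838)))))) (BT.node (nat_lit 2844) (BT.node (nat_lit 2842) (BT.node (nat_lit 2841) (BT.leaf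 (.rel (nat_lit 2671) (nat_lit 1) [(nat_lit 696), (nat_lit 110)] [⟨(nat_lit 1076), [(nat_lit 935)], [(nat_lit 360), (nat_lit 880)]⟩])) (BT.leaf (.inv (nat_lit 2840)))) (BT.node (nat_lit 2843) (BT.leaf (.rel (nat_lit 2395) (nat_lit 1) [(nat_lit 95), (nat_lit 477)] [⟨(nat_lit 2460), [], [(nat_lit 953), (nat_lit 222)]⟩])) (BT.leaf (.rel (nat_lit 1312) (nat_lit 0) [(nat_lit 213), (nat_lit 396)] [⟨(nat_lit 2206), [(nat_lit 935)], [(nat_lit 1308), (nat_lit 533)]⟩])))) (BT.node (nat_lit 2846) (BT.node (nat_lit 2845) (BT.leaf (.inv (nat_lit 2843))) (BT.leaf (.rel (nat_lit 2299) (nat_lit 4) [(nat_lit 511), (nat_lit 982)] [⟨(nat_lit 2487), [(nat_lit 2237)], [(nat_lit 298), (nat_lit 203)]⟩, ⟨(nat_lit 2546), [(nat_lit 775)], [(nat_lit 551), (nat_lit 566)]⟩]))) (BT.node (nat_lit 2847) (BT.leaf (.inv (nat_lit 2845))) (BT.leaf (.rel (nat_lit 2695) (nat_lit 1) [(nat_lit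 945), (nat_lit 477)] [⟨(nat_lit 2150), [(nat_lit 2181)], [(nat_lit 406), (nat_lit 223)]⟩]))))))) (BT.node (nat_lit 2864) (BT.node (nat_lit 2856) (BT.node (nat_lit 2852) (BT.node (nat_lit 2850) (BT.node (nat_lit 2849) (BT.leaf (.inv (nat_lit 2847))) (BT.leaf (.rel (nat_lit 1955) (nat_lit 1) [(nat_lit 487), (nat_lit 169)] [⟨(nat_lit 2666), [(nat_lit 1922)], [(nat_lit 1218), (nat_lit 234)]⟩]))) (BT.node (nat_lit 2851) (BT.leaf (.inv (nat_lit 2849))) (BT.leaf (.rel (nat_lit 2214) (nat_lit 0) [(nat_lit 360), (nat_lit 248)] [⟨(nat_lit 2252), [], [(nat_lit 527), (nat_lit 421)]⟩])))) (BT.node (nat_lit 2854) (BT.node (nat_lit 2853) (BT.leaf (.inv (nat_lit 2851))) (BT.leaf (.rel (nat_lit 534) (nat_lit 2) [(nat_lit 283), (nat_lit 1053)] [⟨(nat_lit 2172), [(nat_lit 678)], [(nat_lit 510), (nat_lit 330)]⟩, ⟨(nat_lit 2635), [], [(nat_lit 282), (nat_lit 504)]⟩])))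 (BT.node (nat_lit 2855) (BT.leaf (.inv (nat_lit 2853))) (BT.leaf (.rel (nat_lit 2390) (nat_lit 2) [(nat_lit 1102), (nat_lit 1070)] [⟨(nat_lit 2476), [(nat_lit 2237)], [(nat_lit 551), (nat_lit 956)]⟩, ⟨(nat_lit 2189), [(nat_lit 935)], [(nat_lit 1174), (nat_lit 563)]⟩]))))) (BT.node (nat_lit 2860) (BT.node (nat_lit 2858) (BT.node (nat_lit 2857) (BT.leaf (.inv (nat_lit 2855))) (BT.leaf (.rel (nat_lit 2780) (nat_lit 0) [(nat_lit 746), (nat_lit 711)] [⟨(nat_lit 1732), [], [(nat_lit 358), (nat_lit 557)]⟩]))) (BT.node (nat_lit 2859) (BT.leaf (.inv (nat_lit 2857))) (BT.leaf (.rel (nat_lit 1998) (nat_lit 3) [(nat_lit 784), (nat_lit 752)] [⟨(nat_lit 2144), [(nat_lit 1846)], [(nat_lit 1174), (nat_lit 684)]⟩, ⟨(nat_lit 2255), [(nat_lit 767)], [(nat_lit 353), (nat_lit 822)]⟩])))) (BT.node (nat_lit 2862) (BT.node (nat_lit 2861) (BT.leaf (.inv (nat_lit 2859))) (BT.leaf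 (.rel (nat_lit 1743) (nat_lit 1) [(nat_lit 352), (nat_lit 1203)] [⟨(nat_lit 2368), [(nat_lit 775)], [(nat_lit 176), (nat_lit 1203)]⟩]))) (BT.node (nat_lit 2863) (BT.leaf (.inv (nat_lit 2861))) (BT.leaf (.rel (nat_lit 1263) (nat_lit 0) [(nat_lit 445), (nat_lit 110)] [⟨(nat_lit 2447), [], [(nat_lit 280), (nat_lit 1410)]⟩])))))) (BT.node (nat_lit 2872) (BT.node (nat_lit 2868) (BT.node (nat_lit 2866) (BT.node (nat_lit 2865) (BT.leaf (.inv (nat_lit 2863))) (BT.leaf (.rel (nat_lit 1795) (nat_lit 0) [(nat_lit 945), (nat_lit 1583)] [⟨(nat_lit 2743), [(nat_lit 935)], [(nat_lit 128), (nat_lit 361)]⟩]))) (BT.node (nat_lit 2867) (BT.leaf (.inv (nat_lit 2865))) (BT.leaf (.rel (nat_lit 1937) (nat_lit 3) [(nat_lit 175), (nat_lit 265)] [⟨(nat_lit 976), [(nat_lit 1817)], [(nat_lit 260), (nat_lit 472)]⟩, ⟨(nat_lit 2731), [(nat_lit 775)], [(nat_lit 296), (nat_lit 533)]⟩]))))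 (BT.node (nat_lit 2870) (BT.node (nat_lit 2869) (BT.leaf (.inv (nat_lit 2867))) (BT.leaf (.rel (nat_lit 2024) (nat_lit 0) [(nat_lit 1087), (nat_lit 1478)] [⟨(nat_lit 2611), [(nat_lit 775)], [(nat_lit 985)]⟩]))) (BT.node (nat_lit 2871) (BT.leaf (.inv (nat_lit 2869))) (BT.leaf (.rel (nat_lit 2798) (nat_lit 4) [(nat_lit 483), (nat_lit 585)] [⟨(nat_lit 1804), [(nat_lit 935)], [(nat_lit 1174), (nat_lit 375)]⟩, ⟨(nat_lit 2131), [], [(nat_lit 175), (nat_lit 125)]⟩]))))) (BT.node (nat_lit 2876) (BT.node (nat_lit 2874) (BT.node (nat_lit 2873) (BT.leaf (.inv (nat_lit 2871))) (BT.leaf (.rel (nat_lit 2502) (nat_lit 3) [(nat_lit 255), (nat_lit 1583)] [⟨(nat_lit 2074), [(nat_lit 2210)], [(nat_lit 513), (nat_lit 389)]⟩, ⟨(nat_lit 2679), [], [(nat_lit 165), (nat_lit 293)]⟩]))) (BT.node (nat_lit 2875) (BT.leaf (.inv (nat_lit 2873))) (BT.leaf (.rel (nat_lit 2811) (nat_lit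 4) [(nat_lit 1218), (nat_lit 438)] [⟨(nat_lit 1816), [(nat_lit 935)], [(nat_lit 352), (nat_lit 740)]⟩, ⟨(nat_lit 1747), [], [(nat_lit 466), (nat_lit 126)]⟩])))) (BT.node (nat_lit 2878) (BT.node (nat_lit 2877) (BT.leaf (.inv (nat_lit 2875))) (BT.leaf (.rel (nat_lit 2270) (nat_lit 5) [(nat_lit 213), (nat_lit 1123)] [⟨(nat_lit 2071), [(nat_lit 2075)], [(nat_lit 283), (nat_lit 499)]⟩, ⟨(nat_lit 2682), [(nat_lit 935)], [(nat_lit 207), (nat_lit 289)]⟩]))) (BT.node (nat_lit 2879) (BT.leaf (.inv (nat_lit 2877))) (BT.leaf (.rel (nat_lit 2834) (nat_lit 2) [(nat_lit 629), (nat_lit 399)] [⟨(nat_lit 2484), [], [(nat_lit 215), (nat_lit 396)]⟩, ⟨(nat_lit 1354), [(nat_lit 935)], [(nat_lit 484), (nat_lit 171)]⟩]))))))))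
noncomputable def cF2880 : BT Fc := (BT.node (nat_lit 2912) (BT.node (nat_lit 2896) (BT.node (nat_lit 2888) (BT.node (nat_lit 2884) (BT.node (nat_lit 2882) (BT.node (nat_lit 2881) (BT.leaf ⟨(nat_lit 3), (nat_lit 9), (nat_lit 7), (nat_lit 0x7140a2a9bf093e08463f3a4fc0c012), (nat_lit 0x240d7955104d8cc00a0f75c34422df), (nat_lit 0)⟩) (BT.leaf ⟨(nat_lit 3), (nat_lit 9), (nat_lit 8), (nat_lit 0x16a21ece8bd17a58e176f6e66ee41e8), (nat_lit 0x1ad0bcef0dea9aa7a517fe9134e7287), (nat_lit 0)⟩)) (BT.node (nat_lit 2883) (BT.leaf ⟨(nat_lit 3), (nat_lit 8), (nat_lit 9), (nat_lit 0x1ad0bcef0dea9aa7a517fe9134e7287), (nat_lit 0x16a21ece8bd17a58e176f6e66ee41e8), (nat_lit 0)⟩) (BT.leaf ⟨(nat_lit 3), (nat_lit 8), (nat_lit 9), (nat_lit 0x1f1b86b63f759d2b441e1033cc400c0), (nat_lit 0xaef5ce2757abe558a9972d4d3a8d83), (nat_lit 0)⟩))) (BT.node (nat_lit 2886) (BT.node (nat_lit 2885)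 (BT.leaf ⟨(nat_lit 3), (nat_lit 9), (nat_lit 8), (nat_lit 0xaef5ce2757abe558a9972d4d3a8d83), (nat_lit 0x1f1b86b63f759d2b441e1033cc400c0), (nat_lit 0)⟩) (BT.leaf ⟨(nat_lit 3), (nat_lit 9), (nat_lit 9), (nat_lit 0x480180214ffd99e1822da88801271a), (nat_lit 0x1bdba2738bd51c52ebe14041095d902), (nat_lit 0)⟩)) (BT.node (nat_lit 2887) (BT.leaf ⟨(nat_lit 3), (nat_lit 9), (nat_lit 9), (nat_lit 0x1bdba2738bd51c52ebe14041095d902), (nat_lit 0x480180214ffd99e1822da88801271a), (nat_lit 0)⟩) (BT.leaf ⟨(nat_lit 3), (nat_lit 9), (nat_lit 7), (nat_lit 0x1203e3090e1a3016f8a0104200d7b63), (nat_lit 0xdc2d8e6998f8549fd2ffb64b566396), (nat_lit 0)⟩)))) (BT.node (nat_lit 2892) (BT.node (nat_lit 2890) (BT.node (nat_lit 2889) (BT.leaf ⟨(nat_lit 3), (nat_lit 7), (nat_lit 9), (nat_lit 0xdc2d8e6998f8549fd2ffb64b566396), (nat_lit 0x1203e3090e1a3016f8a0104200d7b63), (nat_lit 0)⟩)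 (BT.leaf ⟨(nat_lit 3), (nat_lit 7), (nat_lit 9), (nat_lit 0x1803f42104815182fb00ce7a7910280), (nat_lit 0x1e377a12f4be20020001bd0f8fa3002), (nat_lit 0)⟩)) (BT.node (nat_lit 2891) (BT.leaf ⟨(nat_lit 3), (nat_lit 9), (nat_lit 7), (nat_lit 0x1e377a12f4be20020001bd0f8fa3002), (nat_lit 0x1803f42104815182fb00ce7a7910280), (nat_lit 0)⟩) (BT.leaf ⟨(nat_lit 3), (nat_lit 9), (nat_lit 8), (nat_lit 0x8042fbd5600883002409e881197a08), (nat_lit 0x10ced3473c5914ccd8736939cd9ac77), (nat_lit 0)⟩))) (BT.node (nat_lit 2894) (BT.node (nat_lit 2893) (BT.leaf ⟨(nat_lit 3), (nat_lit 8), (nat_lit 9), (nat_lit 0x10ced3473c5914ccd8736939cd9ac77), (nat_lit 0x8042fbd5600883002409e881197a08), (nat_lit 0)⟩) (BT.leaf ⟨(nat_lit 3), (nat_lit 9), (nat_lit 9), (nat_lit 0x3016ff0df8c22040239102a03dd155), (nat_lit 0x191a52f06e8dd13a17c668c32dec747), (nat_lit 0)⟩)) (BT.node (nat_lit 2895)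 (BT.leaf ⟨(nat_lit 3), (nat_lit 9), (nat_lit 7), (nat_lit 0x1bd408ab83a897800f8ce8ef880492e), (nat_lit 0x800010087c727808400e7410010746), (nat_lit 0)⟩) (BT.leaf ⟨(nat_lit 3), (nat_lit 7), (nat_lit 9), (nat_lit 0x800010087c727808400e7410010746), (nat_lit 0x1bd408ab83a897800f8ce8ef880492e), (nat_lit 0)⟩))))) (BT.node (nat_lit 2904) (BT.node (nat_lit 2900) (BT.node (nat_lit 2898) (BT.node (nat_lit 2897) (BT.leaf ⟨(nat_lit 3), (nat_lit 9), (nat_lit 9), (nat_lit 0x2015c801e8d7a1006f425f1cdf1820), (nat_lit 0x601afce8fe835480646ae64068059e), (nat_lit 0)⟩) (BT.leaf ⟨(nat_lit 3), (nat_lit 9), (nat_lit 9), (nat_lit 0x601afce8fe835480646ae64068059e), (nat_lit 0x2015c801e8d7a1006f425f1cdf1820), (nat_lit 0)⟩)) (BT.node (nat_lit 2899) (BT.leaf ⟨(nat_lit 3), (nat_lit 9), (nat_lit 7), (nat_lit 0x15723beca8f63b7c84728c78b229c73), (nat_lit 0x4000212f0111cd2f801bd0757c6880),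 (nat_lit 0)⟩) (BT.leaf ⟨(nat_lit 3), (nat_lit 7), (nat_lit 9), (nat_lit 0x4000212f0111cd2f801bd0757c6880), (nat_lit 0x15723beca8f63b7c84728c78b229c73), (nat_lit 0)⟩))) (BT.node (nat_lit 2902) (BT.node (nat_lit 2901) (BT.leaf ⟨(nat_lit 3), (nat_lit 9), (nat_lit 9), (nat_lit 0x1720fac20787d993fc53e35b5087a20), (nat_lit 0x160cad2bdea389f652b8472db1cb2f9), (nat_lit 0)⟩) (BT.leaf ⟨(nat_lit 3), (nat_lit 9), (nat_lit 9), (nat_lit 0x160cad2bdea389f652b8472db1cb2f9), (nat_lit 0x1720fac20787d993fc53e35b5087a20), (nat_lit 0)⟩)) (BT.node (nat_lit 2903) (BT.leaf ⟨(nat_lit 3), (nat_lit 9), (nat_lit 9), (nat_lit 0x8082f8b9a8cc027a3d54114e920210), (nat_lit 0xfcf9524f8200502813fbf1d5808830), (nat_lit 0)⟩) (BT.leaf ⟨(nat_lit 3), (nat_lit 9), (nat_lit 9), (nat_lit 0xfcf9524f8200502813fbf1d5808830), (nat_lit 0x8082f8b9a8cc027a3d54114e920210), (nat_lit 0)⟩)))) (BT.node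 (nat_lit 2908) (BT.node (nat_lit 2906) (BT.node (nat_lit 2905) (BT.leaf ⟨(nat_lit 3), (nat_lit 9), (nat_lit 9), (nat_lit 0xa1eb9b497fd9ce29e2c8e71df65472), (nat_lit 0x1e31f173bdeb7a4108113a80155c472), (nat_lit 0)⟩) (BT.leaf ⟨(nat_lit 3), (nat_lit 9), (nat_lit 9), (nat_lit 0xfcd663e23c6f9fbebebc16f0dd1d17), (nat_lit 0x127f13d4b7b1239353a4b3c27bbedb1), (nat_lit 0)⟩)) (BT.node (nat_lit 2907) (BT.leaf ⟨(nat_lit 3), (nat_lit 9), (nat_lit 7), (nat_lit 0x93d68218a60a05010f97c9fd4cf1a), (nat_lit 0x11dd9ac53ab91c5a4da6ce71cdff287), (nat_lit 0)⟩) (BT.leaf ⟨(nat_lit 3), (nat_lit 7), (nat_lit 9), (nat_lit 0x11dd9ac53ab91c5a4da6ce71cdff287), (nat_lit 0x93d68218a60a05010f97c9fd4cf1a), (nat_lit 0)⟩))) (BT.node (nat_lit 2910) (BT.node (nat_lit 2909) (BT.leaf ⟨(nat_lit 3), (nat_lit 7), (nat_lit 9), (nat_lit 0x73a7a721fb72af7e1b2a2fbc35a26a), (nat_lit 0xaee4e4710064b7a225d10480bc7902),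 (nat_lit 0)⟩) (BT.leaf ⟨(nat_lit 3), (nat_lit 9), (nat_lit 7), (nat_lit 0xaee4e4710064b7a225d10480bc7902), (nat_lit 0x73a7a721fb72af7e1b2a2fbc35a26a), (nat_lit 0)⟩)) (BT.node (nat_lit 2911) (BT.leaf ⟨(nat_lit 3), (nat_lit 7), (nat_lit 9), (nat_lit 0x189e4b54b9bdb064fc1e93567bbecbe), (nat_lit 0x20a38c02938028093e1004aed016f6), (nat_lit 0)⟩) (BT.leaf ⟨(nat_lit 3), (nat_lit 9), (nat_lit 7), (nat_lit 0x20a38c02938028093e1004aed016f6), (nat_lit 0x189e4b54b9bdb064fc1e93567bbecbe), (nat_lit 0)⟩)))))) (BT.node (nat_lit 2928) (BT.node (nat_lit 2920) (BT.node (nat_lit 2916) (BT.node (nat_lit 2914) (BT.node (nat_lit 2913) (BT.leaf ⟨(nat_lit 3), (nat_lit 9), (nat_lit 9), (nat_lit 0x897c738002012fab9bd127820020), (nat_lit 0xe939f73ba741f31d0b79b2b4b8d72a), (nat_lit 0)⟩) (BT.leaf ⟨(nat_lit 3), (nat_lit 9), (nat_lit 9), (nat_lit 0xe939f73ba741f31d0b79b2b4b8d72a),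 (nat_lit 0x897c738002012fab9bd127820020), (nat_lit 0)⟩)) (BT.node (nat_lit 2915) (BT.leaf ⟨(nat_lit 3), (nat_lit 9), (nat_lit 9), (nat_lit 0xee571d73208500814e8d1ac0323180), (nat_lit 0x1eea6cf2aacbc6b9d2d2ddf4e83e583), (nat_lit 0)⟩) (BT.leaf ⟨(nat_lit 3), (nat_lit 9), (nat_lit 9), (nat_lit 0x1edff45c8ea37a4f42d298f780bb5ea), (nat_lit 0x1782f4aae98ec70bb43dfd1722f41e8), (nat_lit 0)⟩))) (BT.node (nat_lit 2918) (BT.node (nat_lit 2917) (BT.leaf ⟨(nat_lit 3), (nat_lit 9), (nat_lit 9), (nat_lit 0x1782f4aae98ec70bb43dfd1722f41e8), (nat_lit 0x1edff45c8ea37a4f42d298f780bb5ea), (nat_lit 0)⟩) (BT.leaf ⟨(nat_lit 3), (nat_lit 9), (nat_lit 7), (nat_lit 0x5bccaf0643e10b5a0601810ce20140), (nat_lit 0x7508088125dd1c20ef593e02410805), (nat_lit 0)⟩)) (BT.node (nat_lit 2919) (BT.leaf ⟨(nat_lit 3), (nat_lit 7), (nat_lit 9), (nat_lit 0x7508088125dd1c20ef593e02410805), (nat_lit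 0x5bccaf0643e10b5a0601810ce20140), (nat_lit 0)⟩) (BT.leaf ⟨(nat_lit 3), (nat_lit 7), (nat_lit 9), (nat_lit 0x4fcd7e1598e5bc8792ed44dc095acc), (nat_lit 0x1963c2f0df19e345bf9db1a5e7c4a65), (nat_lit 0)⟩)))) (BT.node (nat_lit 2924) (BT.node (nat_lit 2922) (BT.node (nat_lit 2921) (BT.leaf ⟨(nat_lit 3), (nat_lit 9), (nat_lit 7), (nat_lit 0x1963c2f0df19e345bf9db1a5e7c4a65), (nat_lit 0x4fcd7e1598e5bc8792ed44dc095acc), (nat_lit 0)⟩) (BT.leaf ⟨(nat_lit 3), (nat_lit 9), (nat_lit 8), (nat_lit 0xb7f3a180103202b42802aa210d7888), (nat_lit 0x126a6f59e7489a8bb0edd8327f4f4be), (nat_lit 0)⟩)) (BT.node (nat_lit 2923) (BT.leaf ⟨(nat_lit 3), (nat_lit 8), (nat_lit 9), (nat_lit 0x126a6f59e7489a8bb0edd8327f4f4be), (nat_lit 0xb7f3a180103202b42802aa210d7888), (nat_lit 0)⟩) (BT.leaf ⟨(nat_lit 3), (nat_lit 9), (nat_lit 9), (nat_lit 0x2e626ab177389dcb2b8572af4732a9), (nat_lit 0x1a4caa8faddfc86d31d17aa7d6ea9c5),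 (nat_lit 0)⟩))) (BT.node (nat_lit 2926) (BT.node (nat_lit 2925) (BT.leaf ⟨(nat_lit 3), (nat_lit 9), (nat_lit 9), (nat_lit 0x1a8b86fadb1a996e938d7fde1637179), (nat_lit 0x1d3b49e4636551afff46e8ecd557519), (nat_lit 0)⟩) (BT.leaf ⟨(nat_lit 3), (nat_lit 9), (nat_lit 9), (nat_lit 0x1d3b49e4636551afff46e8ecd557519), (nat_lit 0x1a8b86fadb1a996e938d7fde1637179), (nat_lit 0)⟩)) (BT.node (nat_lit 2927) (BT.leaf ⟨(nat_lit 3), (nat_lit 9), (nat_lit 5), (nat_lit 0x49c7d12b35f85697cc721fa88977db), (nat_lit 0x8d86a9c5b4ce28eec3dbaa7572c3d5), (nat_lit 0)⟩) (BT.leaf ⟨(nat_lit 3), (nat_lit 5), (nat_lit 9), (nat_lit 0x8d86a9c5b4ce28eec3dbaa7572c3d5), (nat_lit 0x49c7d12b35f85697cc721fa88977db), (nat_lit 0)⟩))))) (BT.node (nat_lit 2936) (BT.node (nat_lit 2932) (BT.node (nat_lit 2930) (BT.node (nat_lit 2929) (BT.leaf ⟨(nat_lit 3), (nat_lit 9), (nat_lit 8), (nat_lit 0x11c6ae45366a3b5ff4f38e666c39f90),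 (nat_lit 0x1295a3756bff467a374eecdf18d9744), (nat_lit 0)⟩) (BT.leaf ⟨(nat_lit 3), (nat_lit 8), (nat_lit 9), (nat_lit 0x1295a3756bff467a374eecdf18d9744), (nat_lit 0x11c6ae45366a3b5ff4f38e666c39f90), (nat_lit 0)⟩)) (BT.node (nat_lit 2931) (BT.leaf ⟨(nat_lit 3), (nat_lit 9), (nat_lit 9), (nat_lit 0x1e77c6f8c197e27e6fad71be15ff5d2), (nat_lit 0x744eab6cd26714fa9952aa775c55a6), (nat_lit 0)⟩) (BT.leaf ⟨(nat_lit 2), (nat_lit 5), (nat_lit 5), (nat_lit 0x8da8bbe194af89f195a5c66f3befe3), (nat_lit 0), (nat_lit 0)⟩))) (BT.node (nat_lit 2934) (BT.node (nat_lit 2933) (BT.leaf ⟨(nat_lit 2), (nat_lit 5), (nat_lit 5), (nat_lit 0x12fae471a0607d4300a00430809027f), (nat_lit 0), (nat_lit 0)⟩) (BT.leaf ⟨(nat_lit 2), (nat_lit 5), (nat_lit 5), (nat_lit 0x413a1006de1268024773a296c02c04), (nat_lit 0), (nat_lit 0)⟩)) (BT.node (nat_lit 2935) (BT.leaf ⟨(nat_lit 3), (nat_lit 7),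 (nat_lit 9), (nat_lit 0x79d881043d1df16f500b27c08a01), (nat_lit 0x1bda4e01200602b9c04200497481006), (nat_lit 0)⟩) (BT.leaf ⟨(nat_lit 3), (nat_lit 9), (nat_lit 7), (nat_lit 0x1bda4e01200602b9c04200497481006), (nat_lit 0x79d881043d1df16f500b27c08a01), (nat_lit 0)⟩)))) (BT.node (nat_lit 2940) (BT.node (nat_lit 2938) (BT.node (nat_lit 2937) (BT.leaf ⟨(nat_lit 3), (nat_lit 9), (nat_lit 7), (nat_lit 0x1fd180120210440a002fd1aee571ce8), (nat_lit 0xd7d3fa5fd8296d2be5f43f467db8e6), (nat_lit 0)⟩) (BT.leaf ⟨(nat_lit 3), (nat_lit 7), (nat_lit 9), (nat_lit 0xd7d3fa5fd8296d2be5f43f467db8e6), (nat_lit 0x1fd180120210440a002fd1aee571ce8), (nat_lit 0)⟩)) (BT.node (nat_lit 2939) (BT.leaf ⟨(nat_lit 3), (nat_lit 9), (nat_lit 7), (nat_lit 0x200011d54bfe36f420025eae639c9e), (nat_lit 0x4772010f3bca927df80a07140948e), (nat_lit 0)⟩) (BT.leaf ⟨(nat_lit 3), (nat_lit 7), (nat_lit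 9), (nat_lit 0x4772010f3bca927df80a07140948e), (nat_lit 0x200011d54bfe36f420025eae639c9e), (nat_lit 0)⟩))) (BT.node (nat_lit 2942) (BT.node (nat_lit 2941) (BT.leaf ⟨(nat_lit 3), (nat_lit 9), (nat_lit 9), (nat_lit 0x1ad0281959bc107e6ba30805bd0f8c0), (nat_lit 0x1bd52f003042ae3c60810024bb9dc72), (nat_lit 0)⟩) (BT.leaf ⟨(nat_lit 3), (nat_lit 9), (nat_lit 9), (nat_lit 0x131ed45e82ecaba1ede9ea382ef57b7), (nat_lit 0x1df571c6e59982fc81e3746fcff195a), (nat_lit 0)⟩)) (BT.node (nat_lit 2943) (BT.leaf ⟨(nat_lit 3), (nat_lit 9), (nat_lit 7), (nat_lit 0x1fa1202809e980101208d3d518f1a00), (nat_lit 0x2408ab8103cee39201f1801480841), (nat_lit 0)⟩) (BT.leaf ⟨(nat_lit 3), (nat_lit 7), (nat_lit 9), (nat_lit 0x2408ab8103cee39201f1801480841), (nat_lit 0x1fa1202809e980101208d3d518f1a00), (nat_lit 0)⟩)))))))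
noncomputable def cP2880 : BT Pf := (BT.node (nat_lit 2912) (BT.node (nat_lit 2896) (BT.node (nat_lit 2888) (BT.node (nat_lit 2884) (BT.node (nat_lit 2882) (BT.node (nat_lit 2881) (BT.leaf (.inv (nat_lit 2879))) (BT.leaf (.rel (nat_lit 2122) (nat_lit 3) [(nat_lit 815), (nat_lit 898)] [⟨(nat_lit 973), [(nat_lit 775)], [(nat_lit 1218), (nat_lit 795)]⟩, ⟨(nat_lit 2830), [(nat_lit 935)], [(nat_lit 196), (nat_lit 190)]⟩]))) (BT.node (nat_lit 2883) (BT.leaf (.inv (nat_lit 2881))) (BT.leaf (.rel (nat_lit 2649) (nat_lit 0) [(nat_lit 393), (nat_lit 486)] [⟨(nat_lit 2098), [], [(nat_lit 267), (nat_lit 363)]⟩])))) (BT.node (nat_lit 2886) (BT.node (nat_lit 2885) (BT.leaf (.inv (nat_lit 2883))) (BT.leaf (.rel (nat_lit 2200) (nat_lit 3) [(nat_lit 360), (nat_lit 279)] [⟨(nat_lit 2478), [(nat_lit 775)], [(nat_lit 151), (nat_lit 294)]⟩, ⟨(nat_lit 2535), [(nat_lit 2237)],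 [(nat_lit 484), (nat_lit 555)]⟩]))) (BT.node (nat_lit 2887) (BT.leaf (.inv (nat_lit 2885))) (BT.leaf (.rel (nat_lit 1611) (nat_lit 5) [(nat_lit 957), (nat_lit 265)] [⟨(nat_lit 2095), [(nat_lit 935)], [(nat_lit 1041), (nat_lit 426)]⟩, ⟨(nat_lit 2794), [(nat_lit 1921)], [(nat_lit 905), (nat_lit 712)]⟩]))))) (BT.node (nat_lit 2892) (BT.node (nat_lit 2890) (BT.node (nat_lit 2889) (BT.leaf (.inv (nat_lit 2887))) (BT.leaf (.rel (nat_lit 2615) (nat_lit 4) [(nat_lit 451), (nat_lit 596)] [⟨(nat_lit 2728), [(nat_lit 2413)], [(nat_lit 503), (nat_lit 320)]⟩, ⟨(nat_lit 1723), [], [(nat_lit 273), (nat_lit 898)]⟩]))) (BT.node (nat_lit 2891) (BT.leaf (.inv (nat_lit 2889))) (BT.leaf (.rel (nat_lit 2147) (nat_lit 3) [(nat_lit 393), (nat_lit 1100)] [⟨(nat_lit 1853), [(nat_lit 2075)], [(nat_lit 152), (nat_lit 265)]⟩, ⟨(nat_lit 2375), [], [(nat_lit 503), (nat_lit 651)]⟩]))))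 (BT.node (nat_lit 2894) (BT.node (nat_lit 2893) (BT.leaf (.inv (nat_lit 2891))) (BT.leaf (.rel (nat_lit 2443) (nat_lit 5) [(nat_lit 194), (nat_lit 1348)] [⟨(nat_lit 1761), [], [(nat_lit 474), (nat_lit 319)]⟩, ⟨(nat_lit 2213), [(nat_lit 935)], [(nat_lit 208), (nat_lit 1503)]⟩]))) (BT.node (nat_lit 2895) (BT.leaf (.rel (nat_lit 1700) (nat_lit 0) [(nat_lit 394), (nat_lit 109)] [⟨(nat_lit 2327), [(nat_lit 775)], [(nat_lit 192), (nat_lit 974)]⟩])) (BT.leaf (.inv (nat_lit 2894))))))) (BT.node (nat_lit 2904) (BT.node (nat_lit 2900) (BT.node (nat_lit 2898) (BT.node (nat_lit 2897) (BT.leaf (.rel (nat_lit 2699) (nat_lit 3) [(nat_lit 392), (nat_lit 491)] [⟨(nat_lit 960), [(nat_lit 935)], [(nat_lit 582), (nat_lit 1745)]⟩, ⟨(nat_lit 2396), [], [(nat_lit 240), (nat_lit 270)]⟩])) (BT.leaf (.inv (nat_lit 2896)))) (BT.node (nat_lit 2899) (BT.leaf (.rel (nat_lit 1628)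 (nat_lit 1) [(nat_lit 391), (nat_lit 172)] [⟨(nat_lit 2433), [(nat_lit 775)], [(nat_lit 1092), (nat_lit 752)]⟩])) (BT.leaf (.inv (nat_lit 2898))))) (BT.node (nat_lit 2902) (BT.node (nat_lit 2901) (BT.leaf (.rel (nat_lit 2535) (nat_lit 4) [(nat_lit 567), (nat_lit 1203)] [⟨(nat_lit 2890), [(nat_lit 2311)], [(nat_lit 631), (nat_lit 426)]⟩, ⟨(nat_lit 2400), [(nat_lit 775)], [(nat_lit 695), (nat_lit 1216)]⟩])) (BT.leaf (.inv (nat_lit 2900)))) (BT.node (nat_lit 2903) (BT.leaf (.rel (nat_lit 2716) (nat_lit 0) [(nat_lit 1600), (nat_lit 525)] [⟨(nat_lit 2267), [], [(nat_lit 953), (nat_lit 126)]⟩])) (BT.leaf (.inv (nat_lit 2902)))))) (BT.node (nat_lit 2908) (BT.node (nat_lit 2906) (BT.node (nat_lit 2905) (BT.leaf (.rel (nat_lit 2874) (nat_lit 0) [(nat_lit 544), (nat_lit 204)] [⟨(nat_lit 2873), [(nat_lit 2549)], [(nat_lit 782), (nat_lit 398)]⟩])) (BT.leaf (.rel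 (nat_lit 2315) (nat_lit 1) [(nat_lit 195), (nat_lit 1101)] [⟨(nat_lit 2857), [(nat_lit 935)], [(nat_lit 153), (nat_lit 1369)]⟩]))) (BT.node (nat_lit 2907) (BT.leaf (.rel (nat_lit 1542) (nat_lit 0) [(nat_lit 484), (nat_lit 91)] [⟨(nat_lit 2612), [], [(nat_lit 905), (nat_lit 107)]⟩])) (BT.leaf (.inv (nat_lit 2906))))) (BT.node (nat_lit 2910) (BT.node (nat_lit 2909) (BT.leaf (.rel (nat_lit 2374) (nat_lit 0) [(nat_lit 550), (nat_lit 223)] [⟨(nat_lit 1382), [], [(nat_lit 493), (nat_lit 1605)]⟩])) (BT.leaf (.inv (nat_lit 2908)))) (BT.node (nat_lit 2911) (BT.leaf (.rel (nat_lit 2890) (nat_lit 0) [(nat_lit 1103), (nat_lit 864)] [⟨(nat_lit 1307), [(nat_lit 775)], [(nat_lit 356), (nat_lit 1203)]⟩])) (BT.leaf (.inv (nat_lit 2910)))))))) (BT.node (nat_lit 2928) (BT.node (nat_lit 2920) (BT.node (nat_lit 2916) (BT.node (nat_lit 2914) (BT.node (nat_lit 2913) (BT.leaf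 (.rel (nat_lit 2489) (nat_lit 4) [(nat_lit 404), (nat_lit 401)] [⟨(nat_lit 1352), [], [(nat_lit 941), (nat_lit 676)]⟩, ⟨(nat_lit 2787), [], [(nat_lit 774), (nat_lit 426)]⟩])) (BT.leaf (.inv (nat_lit 2912)))) (BT.node (nat_lit 2915) (BT.leaf (.rel (nat_lit 2897) (nat_lit 4) [(nat_lit 209), (nat_lit 253)] [⟨(nat_lit 2248), [(nat_lit 2549)], [(nat_lit 914), (nat_lit 892)]⟩, ⟨(nat_lit 2641), [], [(nat_lit 213), (nat_lit 813)]⟩])) (BT.leaf (.rel (nat_lit 2525) (nat_lit 1) [(nat_lit 445), (nat_lit 401)] [⟨(nat_lit 2770), [(nat_lit 1822)], [(nat_lit 255), (nat_lit 580)]⟩])))) (BT.node (nat_lit 2918) (BT.node (nat_lit 2917) (BT.leaf (.inv (nat_lit 2915))) (BT.leaf (.rel (nat_lit 1626) (nat_lit 3) [(nat_lit 943), (nat_lit 573)] [⟨(nat_lit 912), [(nat_lit 775)], [(nat_lit 450), (nat_lit 874)]⟩, ⟨(nat_lit 2457), [(nat_lit 775)], [(nat_lit 943), (nat_lit 1043)]⟩])))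 (BT.node (nat_lit 2919) (BT.leaf (.inv (nat_lit 2917))) (BT.leaf (.rel (nat_lit 2301) (nat_lit 4) [(nat_lit 321), (nat_lit 169)] [⟨(nat_lit 1270), [], [(nat_lit 1014), (nat_lit 738)]⟩, ⟨(nat_lit 1716), [(nat_lit 775)], [(nat_lit 527), (nat_lit 142)]⟩]))))) (BT.node (nat_lit 2924) (BT.node (nat_lit 2922) (BT.node (nat_lit 2921) (BT.leaf (.inv (nat_lit 2919))) (BT.leaf (.rel (nat_lit 1958) (nat_lit 2) [(nat_lit 942), (nat_lit 512)] [⟨(nat_lit 1228), [(nat_lit 935)], [(nat_lit 257), (nat_lit 248)]⟩, ⟨(nat_lit 2380), [(nat_lit 528)], [(nat_lit 213), (nat_lit 864)]⟩]))) (BT.node (nat_lit 2923) (BT.leaf (.inv (nat_lit 2921))) (BT.leaf (.rel (nat_lit 2748) (nat_lit 3) [(nat_lit 467), (nat_lit 1503)] [⟨(nat_lit 1326), [(nat_lit 775)], [(nat_lit 298), (nat_lit 472)]⟩, ⟨(nat_lit 2603), [(nat_lit 775)], [(nat_lit 381), (nat_lit 624)]⟩])))) (BT.node (nat_lit 2926)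 (BT.node (nat_lit 2925) (BT.leaf (.rel (nat_lit 2894) (nat_lit 5) [(nat_lit 93), (nat_lit 252)] [⟨(nat_lit 1898), [(nat_lit 935)], [(nat_lit 1218), (nat_lit 367)]⟩, ⟨(nat_lit 2174), [(nat_lit 1822)], [(nat_lit 470), (nat_lit 1472)]⟩])) (BT.leaf (.inv (nat_lit 2924)))) (BT.node (nat_lit 2927) (BT.leaf (.rel (nat_lit 976) (nat_lit 0) [(nat_lit 97), (nat_lit 386)] [⟨(nat_lit 2787), [(nat_lit 935)], [(nat_lit 953), (nat_lit 711)]⟩])) (BT.leaf (.inv (nat_lit 2926))))))) (BT.node (nat_lit 2936) (BT.node (nat_lit 2932) (BT.node (nat_lit 2930) (BT.node (nat_lit 2929) (BT.leaf (.rel (nat_lit 2760) (nat_lit 5) [(nat_lit 2061), (nat_lit 762)] [⟨(nat_lit 2559), [(nat_lit 2237)], [(nat_lit 527), (nat_lit 401)]⟩, ⟨(nat_lit 2269), [], [(nat_lit 463), (nat_lit 289)]⟩])) (BT.leaf (.inv (nat_lit 2928)))) (BT.node (nat_lit 2931) (BT.leaf (.rel (nat_lit 2845) (nat_lit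 4) [(nat_lit 193), (nat_lit 604)] [⟨(nat_lit 1297), [], [(nat_lit 943), (nat_lit 956)]⟩, ⟨(nat_lit 2180), [], [(nat_lit 829), (nat_lit 306)]⟩])) (BT.leaf (.emul [(nat_lit 645), (nat_lit 626)])))) (BT.node (nat_lit 2934) (BT.node (nat_lit 2933) (BT.leaf (.emul [(nat_lit 645), (nat_lit 2931)])) (BT.leaf (.emul [(nat_lit 645), (nat_lit 2932)]))) (BT.node (nat_lit 2935) (BT.leaf (.rel (nat_lit 2725) (nat_lit 0) [(nat_lit 427), (nat_lit 361)] [⟨(nat_lit 858), [(nat_lit 2933)], [(nat_lit 618), (nat_lit 891)]⟩])) (BT.leaf (.inv (nat_lit 2934)))))) (BT.node (nat_lit 2940) (BT.node (nat_lit 2938) (BT.node (nat_lit 2937) (BT.leaf (.rel (nat_lit 866) (nat_lit 5) [(nat_lit 241), (nat_lit 478)] [⟨(nat_lit 1866), [(nat_lit 1128)], [(nat_lit 214), (nat_lit 0)]⟩, ⟨(nat_lit 2526), [(nat_lit 2181)], [(nat_lit 402), (nat_lit 109)]⟩])) (BT.leaf (.inv (nat_lit 2936))))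 (BT.node (nat_lit 2939) (BT.leaf (.rel (nat_lit 1362) (nat_lit 3) [(nat_lit 473), (nat_lit 1018)] [⟨(nat_lit 1477), [(nat_lit 935)], [(nat_lit 734), (nat_lit 530)]⟩, ⟨(nat_lit 2565), [], [(nat_lit 538), (nat_lit 90)]⟩])) (BT.leaf (.inv (nat_lit 2938))))) (BT.node (nat_lit 2942) (BT.node (nat_lit 2941) (BT.leaf (.rel (nat_lit 2514) (nat_lit 4) [(nat_lit 175), (nat_lit 319)] [⟨(nat_lit 2480), [(nat_lit 678)], [(nat_lit 1087), (nat_lit 604)]⟩, ⟨(nat_lit 2893), [(nat_lit 2167)], [(nat_lit 774), (nat_lit 1203)]⟩])) (BT.leaf (.rel (nat_lit 2728) (nat_lit 0) [(nat_lit 364), (nat_lit 1021)] [⟨(nat_lit 2603), [], [(nat_lit 786), (nat_lit 563)]⟩]))) (BT.node (nat_lit 2943) (BT.leaf (.rel (nat_lit 1630) (nat_lit 2) [(nat_lit 260), (nat_lit 555)] [⟨(nat_lit 1810), [(nat_lit 935)], [(nat_lit 484), (nat_lit 279)]⟩, ⟨(nat_lit 2677), [(nat_lit 935)], [(nat_lit 953),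 (nat_lit 421)]⟩])) (BT.leaf (.inv (nat_lit 2942)))))))))
noncomputable def cF2944 : BT Fc := (BT.node (nat_lit 2976) (BT.node (nat_lit 2960) (BT.node (nat_lit 2952) (BT.node (nat_lit 2948) (BT.node (nat_lit 2946) (BT.node (nat_lit 2945) (BT.leaf ⟨(nat_lit 3), (nat_lit 9), (nat_lit 7), (nat_lit 0x15192058d401fa10132f7aa78f000b9), (nat_lit 0x78cde15a786e8e6cbebfc6d8d1b4a5), (nat_lit 0)⟩) (BT.leaf ⟨(nat_lit 3), (nat_lit 7), (nat_lit 9), (nat_lit 0x78cde15a786e8e6cbebfc6d8d1b4a5), (nat_lit 0x15192058d401fa10132f7aa78f000b9), (nat_lit 0)⟩)) (BT.node (nat_lit 2947) (BT.leaf ⟨(nat_lit 3), (nat_lit 9), (nat_lit 9), (nat_lit 0x1df64d49ed8325b4f54b91c5da5f09e), (nat_lit 0x11ba9a58df122df46fadf3a32cbcb8d), (nat_lit 0)⟩) (BT.leaf ⟨(nat_lit 3), (nat_lit 7), (nat_lit 9), (nat_lit 0x1699ff3498e71ca29b358ef18c398ed), (nat_lit 0x1378602f90a0500b7841f9b10022240), (nat_lit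 0)⟩))) (BT.node (nat_lit 2950) (BT.node (nat_lit 2949) (BT.leaf ⟨(nat_lit 3), (nat_lit 9), (nat_lit 7), (nat_lit 0x1378602f90a0500b7841f9b10022240), (nat_lit 0x1699ff3498e71ca29b358ef18c398ed), (nat_lit 0)⟩) (BT.leaf ⟨(nat_lit 3), (nat_lit 9), (nat_lit 7), (nat_lit 0xd7c90573c8cee67410220367882500), (nat_lit 0x75c09102014aef9c78f8e208801c9c), (nat_lit 0)⟩)) (BT.node (nat_lit 2951) (BT.leaf ⟨(nat_lit 3), (nat_lit 7), (nat_lit 9), (nat_lit 0x75c09102014aef9c78f8e208801c9c), (nat_lit 0xd7c90573c8cee67410220367882500), (nat_lit 0)⟩) (BT.leaf ⟨(nat_lit 3), (nat_lit 7), (nat_lit 9), (nat_lit 0x11c5ff433f215cda4e2c3371ca3bc63), (nat_lit 0x100697b3a820bd35cc0068d40204440), (nat_lit 0)⟩)))) (BT.node (nat_lit 2956) (BT.node (nat_lit 2954) (BT.node (nat_lit 2953) (BT.leaf ⟨(nat_lit 3), (nat_lit 9), (nat_lit 7), (nat_lit 0x100697b3a820bd35cc0068d40204440), (nat_lit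 0x11c5ff433f215cda4e2c3371ca3bc63), (nat_lit 0)⟩) (BT.leaf ⟨(nat_lit 3), (nat_lit 8), (nat_lit 9), (nat_lit 0x1d4705de8bd55a263ad2bc16a2f4df8), (nat_lit 0x1c6bdd73ee718ea6cf3b0f94eb9d2d2), (nat_lit 0)⟩)) (BT.node (nat_lit 2955) (BT.leaf ⟨(nat_lit 3), (nat_lit 9), (nat_lit 8), (nat_lit 0x1c6bdd73ee718ea6cf3b0f94eb9d2d2), (nat_lit 0x1d4705de8bd55a263ad2bc16a2f4df8), (nat_lit 0)⟩) (BT.leaf ⟨(nat_lit 3), (nat_lit 7), (nat_lit 9), (nat_lit 0x842fc2a982024247110f3bb93ab018), (nat_lit 0x16a305ce8638abbf45f85a57a6f643d), (nat_lit 0)⟩))) (BT.node (nat_lit 2958) (BT.node (nat_lit 2957) (BT.leaf ⟨(nat_lit 3), (nat_lit 9), (nat_lit 7), (nat_lit 0x16a305ce8638abbf45f85a57a6f643d), (nat_lit 0x842fc2a982024247110f3bb93ab018), (nat_lit 0)⟩) (BT.leaf ⟨(nat_lit 3), (nat_lit 8), (nat_lit 9), (nat_lit 0x191ba3f4e19751bb3669e8d7ffa2693), (nat_lit 0x1e17c68b7f199635138df9affae968d),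 (nat_lit 0)⟩)) (BT.node (nat_lit 2959) (BT.leaf ⟨(nat_lit 3), (nat_lit 9), (nat_lit 8), (nat_lit 0x1e17c68b7f199635138df9affae968d), (nat_lit 0x191ba3f4e19751bb3669e8d7ffa2693), (nat_lit 0)⟩) (BT.leaf ⟨(nat_lit 3), (nat_lit 9), (nat_lit 9), (nat_lit 0x1bc3a1404018af402904088018425ec), (nat_lit 0x3095c04de0af4029d1008090423e7), (nat_lit 0)⟩))))) (BT.node (nat_lit 2968) (BT.node (nat_lit 2964) (BT.node (nat_lit 2962) (BT.node (nat_lit 2961) (BT.leaf ⟨(nat_lit 3), (nat_lit 8), (nat_lit 9), (nat_lit 0x1755c6fe3801202201e88054be0809e), (nat_lit 0x1f3bd73ec75366c1b49e358559d7ba), (nat_lit 0)⟩) (BT.leaf ⟨(nat_lit 3), (nat_lit 9), (nat_lit 8), (nat_lit 0x1f3bd73ec75366c1b49e358559d7ba), (nat_lit 0x1755c6fe3801202201e88054be0809e), (nat_lit 0)⟩)) (BT.node (nat_lit 2963) (BT.leaf ⟨(nat_lit 3), (nat_lit 7), (nat_lit 9), (nat_lit 0x73bdd583e35365a4eefc2bcab9f0b7),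 (nat_lit 0xbd37e1ce9579d35a6f06386ca7a6d4), (nat_lit 0)⟩) (BT.leaf ⟨(nat_lit 3), (nat_lit 9), (nat_lit 7), (nat_lit 0xbd37e1ce9579d35a6f06386ca7a6d4), (nat_lit 0x73bdd583e35365a4eefc2bcab9f0b7), (nat_lit 0)⟩))) (BT.node (nat_lit 2966) (BT.node (nat_lit 2965) (BT.leaf ⟨(nat_lit 3), (nat_lit 9), (nat_lit 9), (nat_lit 0x9010c2053314ee4220ecc43f6a1f5), (nat_lit 0x213e34f3102601b1d68f7422040082), (nat_lit 0)⟩) (BT.leaf ⟨(nat_lit 2), (nat_lit 5), (nat_lit 5), (nat_lit 0xc4cbc8b7197963c7bfef19e1746dd2), (nat_lit 0), (nat_lit 0)⟩)) (BT.node (nat_lit 2967) (BT.leaf ⟨(nat_lit 3), (nat_lit 9), (nat_lit 8), (nat_lit 0x4b4053e1e71bd8010064051c42178f), (nat_lit 0x1bbdea9d53ba714eb9f53a835749da6), (nat_lit 0)⟩) (BT.leaf ⟨(nat_lit 3), (nat_lit 8), (nat_lit 9), (nat_lit 0x1bbdea9d53ba714eb9f53a835749da6), (nat_lit 0x4b4053e1e71bd8010064051c42178f), (nat_lit 0)⟩))))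 (BT.node (nat_lit 2972) (BT.node (nat_lit 2970) (BT.node (nat_lit 2969) (BT.leaf ⟨(nat_lit 3), (nat_lit 9), (nat_lit 9), (nat_lit 0xae1cb58357bd475cabb2b48e5b66ca), (nat_lit 0xb7cc00a09e6a004870d83c8e7e3084), (nat_lit 0)⟩) (BT.leaf ⟨(nat_lit 3), (nat_lit 7), (nat_lit 9), (nat_lit 0x12af60a5b6e18b0de38a49f97d0ffb7), (nat_lit 0xaf4063e710805002005e7c813a15ec), (nat_lit 0)⟩)) (BT.node (nat_lit 2971) (BT.leaf ⟨(nat_lit 3), (nat_lit 9), (nat_lit 7), (nat_lit 0xaf4063e710805002005e7c813a15ec), (nat_lit 0x12af60a5b6e18b0de38a49f97d0ffb7), (nat_lit 0)⟩) (BT.leaf ⟨(nat_lit 3), (nat_lit 7), (nat_lit 9), (nat_lit 0x1c84aaa367aadb0ea8d53bb962a59d7), (nat_lit 0x1a79ec49a93925876c8eb3d27a4f89e), (nat_lit 0)⟩))) (BT.node (nat_lit 2974) (BT.node (nat_lit 2973) (BT.leaf ⟨(nat_lit 3), (nat_lit 9), (nat_lit 7), (nat_lit 0x1a79ec49a93925876c8eb3d27a4f89e), (nat_lit 0x1c84aaa367aadb0ea8d53bb962a59d7),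 (nat_lit 0)⟩) (BT.leaf ⟨(nat_lit 3), (nat_lit 9), (nat_lit 9), (nat_lit 0x8827a200501519201e3ce62e50269e), (nat_lit 0x10791c8c0110280420809e75a140180), (nat_lit 0)⟩)) (BT.node (nat_lit 2975) (BT.leaf ⟨(nat_lit 3), (nat_lit 9), (nat_lit 9), (nat_lit 0x10791c8c0110280420809e75a140180), (nat_lit 0x8827a200501519201e3ce62e50269e), (nat_lit 0)⟩) (BT.leaf ⟨(nat_lit 3), (nat_lit 7), (nat_lit 9), (nat_lit 0x11c8cdc71867e423db35ab91df164f3), (nat_lit 0x600d7d685be55440fba901078447c6), (nat_lit 0)⟩)))))) (BT.node (nat_lit 2992) (BT.node (nat_lit 2984) (BT.node (nat_lit 2980) (BT.node (nat_lit 2978) (BT.node (nat_lit 2977) (BT.leaf ⟨(nat_lit 3), (nat_lit 9), (nat_lit 7), (nat_lit 0x600d7d685be55440fba901078447c6), (nat_lit 0x11c8cdc71867e423db35ab91df164f3), (nat_lit 0)⟩) (BT.leaf ⟨(nat_lit 3), (nat_lit 7), (nat_lit 9), (nat_lit 0xdb0e88d532a7511b1f5dde3eb49c3d),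 (nat_lit 0xb483e7ba693c699d77aa7560c5bf2a), (nat_lit 0)⟩)) (BT.node (nat_lit 2979) (BT.leaf ⟨(nat_lit 3), (nat_lit 9), (nat_lit 7), (nat_lit 0xb483e7ba693c699d77aa7560c5bf2a), (nat_lit 0xdb0e88d532a7511b1f5dde3eb49c3d), (nat_lit 0)⟩) (BT.leaf ⟨(nat_lit 3), (nat_lit 9), (nat_lit 9), (nat_lit 0x1295f19e3786f9dd1beb37936705be2), (nat_lit 0x4012f820e8cae420004003bd39d12f), (nat_lit 0)⟩))) (BT.node (nat_lit 2982) (BT.node (nat_lit 2981) (BT.leaf ⟨(nat_lit 3), (nat_lit 9), (nat_lit 9), (nat_lit 0x4012f820e8cae420004003bd39d12f), (nat_lit 0x1295f19e3786f9dd1beb37936705be2), (nat_lit 0)⟩) (BT.leaf ⟨(nat_lit 3), (nat_lit 8), (nat_lit 9), (nat_lit 0x17a95dc9c044008ebef610410bc7a02), (nat_lit 0x1eb7c6534f1bc3465c6e4cae372c5d2), (nat_lit 0)⟩)) (BT.node (nat_lit 2983) (BT.leaf ⟨(nat_lit 3), (nat_lit 9), (nat_lit 8), (nat_lit 0x1eb7c6534f1bc3465c6e4cae372c5d2),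 (nat_lit 0x17a95dc9c044008ebef610410bc7a02), (nat_lit 0)⟩) (BT.leaf ⟨(nat_lit 3), (nat_lit 9), (nat_lit 9), (nat_lit 0x1078aacf31048e6b4088f74a0040c80), (nat_lit 0x122205a8e0c111d18502809026f195), (nat_lit 0)⟩)))) (BT.node (nat_lit 2988) (BT.node (nat_lit 2986) (BT.node (nat_lit 2985) (BT.leaf ⟨(nat_lit 3), (nat_lit 9), (nat_lit 7), (nat_lit 0xb7fdbd194fe976e921f3798b32fb5f), (nat_lit 0x3b638b358e71ca31bfe9e79cccdeca), (nat_lit 0)⟩) (BT.leaf ⟨(nat_lit 3), (nat_lit 7), (nat_lit 9), (nat_lit 0x3b638b358e71ca31bfe9e79cccdeca), (nat_lit 0xb7fdbd194fe976e921f3798b32fb5f), (nat_lit 0)⟩)) (BT.node (nat_lit 2987) (BT.leaf ⟨(nat_lit 3), (nat_lit 9), (nat_lit 9), (nat_lit 0x1bf004785018420938887d70223da08), (nat_lit 0x654602400821826f5a8ef4103837cd), (nat_lit 0)⟩) (BT.leaf ⟨(nat_lit 3), (nat_lit 9), (nat_lit 9), (nat_lit 0x654602400821826f5a8ef4103837cd), (nat_lit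 0x1bf004785018420938887d70223da08), (nat_lit 0)⟩))) (BT.node (nat_lit 2990) (BT.node (nat_lit 2989) (BT.leaf ⟨(nat_lit 3), (nat_lit 9), (nat_lit 9), (nat_lit 0x2799088018faceea5701406024028), (nat_lit 0xceb9972a693dea9d5830f9eea6cf1a), (nat_lit 0)⟩) (BT.leaf ⟨(nat_lit 3), (nat_lit 9), (nat_lit 9), (nat_lit 0xb326cbe77d656a3760ba2fdf4f1be3), (nat_lit 0x1b28ad3965522e5b6627d737fddcab8), (nat_lit 0)⟩)) (BT.node (nat_lit 2991) (BT.leaf ⟨(nat_lit 3), (nat_lit 9), (nat_lit 9), (nat_lit 0x1b28ad3965522e5b6627d737fddcab8), (nat_lit 0xb326cbe77d656a3760ba2fdf4f1be3), (nat_lit 0)⟩) (BT.leaf ⟨(nat_lit 3), (nat_lit 7), (nat_lit 9), (nat_lit 0x716fc090061b91f991002204927810), (nat_lit 0xd8e6cacc2b48d971c6e7c66f1f5f90), (nat_lit 0)⟩))))) (BT.node (nat_lit 3000) (BT.node (nat_lit 2996) (BT.node (nat_lit 2994) (BT.node (nat_lit 2993) (BT.leaf ⟨(nat_lit 3), (nat_lit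 9), (nat_lit 7), (nat_lit 0xd8e6cacc2b48d971c6e7c66f1f5f90), (nat_lit 0x716fc090061b91f991002204927810), (nat_lit 0)⟩) (BT.leaf ⟨(nat_lit 3), (nat_lit 7), (nat_lit 9), (nat_lit 0x654a00480c010020a40747ad0b7842), (nat_lit 0x18002fa0165e84100673a75634f1a80), (nat_lit 0)⟩)) (BT.node (nat_lit 2995) (BT.leaf ⟨(nat_lit 3), (nat_lit 9), (nat_lit 7), (nat_lit 0x18002fa0165e84100673a75634f1a80), (nat_lit 0x654a00480c010020a40747ad0b7842), (nat_lit 0)⟩) (BT.leaf ⟨(nat_lit 3), (nat_lit 9), (nat_lit 7), (nat_lit 0x1edd2f2df4ae97760a5b3797482fb70), (nat_lit 0x50222bd00c210959d1208033c4be7), (nat_lit 0)⟩))) (BT.node (nat_lit 2998) (BT.node (nat_lit 2997) (BT.leaf ⟨(nat_lit 3), (nat_lit 7), (nat_lit 9), (nat_lit 0x50222bd00c210959d1208033c4be7), (nat_lit 0x1edd2f2df4ae97760a5b3797482fb70), (nat_lit 0)⟩) (BT.leaf ⟨(nat_lit 3), (nat_lit 9), (nat_lit 7), (nat_lit 0x11cccdda6ae7571ff287ce63b59af90),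 (nat_lit 0x126af63e702874406204de001ba1004), (nat_lit 0)⟩)) (BT.node (nat_lit 2999) (BT.leaf ⟨(nat_lit 3), (nat_lit 7), (nat_lit 9), (nat_lit 0x126af63e702874406204de001ba1004), (nat_lit 0x11cccdda6ae7571ff287ce63b59af90), (nat_lit 0)⟩) (BT.leaf ⟨(nat_lit 2), (nat_lit 2), (nat_lit 2), (nat_lit 0x1ca81824f0a08423181282005154811), (nat_lit 0), (nat_lit 0)⟩)))) (BT.node (nat_lit 3004) (BT.node (nat_lit 3002) (BT.node (nat_lit 3001) (BT.leaf ⟨(nat_lit 2), (nat_lit 2), (nat_lit 2), (nat_lit 0x4be4f20001097fc6ab9de97a001746), (nat_lit 0), (nat_lit 0)⟩) (BT.leaf ⟨(nat_lit 3), (nat_lit 9), (nat_lit 9), (nat_lit 0x1e329a179f3a99786e58f1ba8865bfe), (nat_lit 0x8037a08025fcea399d54bfd1a00002), (nat_lit 0)⟩)) (BT.node (nat_lit 3003) (BT.leaf ⟨(nat_lit 3), (nat_lit 9), (nat_lit 9), (nat_lit 0x8037a08025fcea399d54bfd1a00002), (nat_lit 0x1e329a179f3a99786e58f1ba8865bfe),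 (nat_lit 0)⟩) (BT.leaf ⟨(nat_lit 3), (nat_lit 9), (nat_lit 9), (nat_lit 0x7441225b57b1dfa16f0409e240a004), (nat_lit 0x12792ff3a04100004040002ae7a33e3), (nat_lit 0)⟩))) (BT.node (nat_lit 3006) (BT.node (nat_lit 3005) (BT.leaf ⟨(nat_lit 3), (nat_lit 9), (nat_lit 9), (nat_lit 0x12792ff3a04100004040002ae7a33e3), (nat_lit 0x7441225b57b1dfa16f0409e240a004), (nat_lit 0)⟩) (BT.leaf ⟨(nat_lit 3), (nat_lit 9), (nat_lit 9), (nat_lit 0x123989a6ac4f07a6f49693f26acf69e), (nat_lit 0xf8a377907cf45fbebeb94b82d71b63), (nat_lit 0)⟩)) (BT.node (nat_lit 3007) (BT.leaf ⟨(nat_lit 3), (nat_lit 7), (nat_lit 9), (nat_lit 0x10809002205e3c1100ae71bd803402), (nat_lit 0xf8bbebe174745df5cd95986f0f1bc3), (nat_lit 0)⟩) (BT.leaf ⟨(nat_lit 3), (nat_lit 9), (nat_lit 7), (nat_lit 0xf8bbebe174745df5cd95986f0f1bc3), (nat_lit 0x10809002205e3c1100ae71bd803402), (nat_lit 0)⟩)))))))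
noncomputable def cP2944 : BT Pf := (BT.node (nat_lit 2976) (BT.node (nat_lit 2960) (BT.node (nat_lit 2952) (BT.node (nat_lit 2948) (BT.node (nat_lit 2946) (BT.node (nat_lit 2945) (BT.leaf (.rel (nat_lit 1950) (nat_lit 3) [(nat_lit 526), (nat_lit 1123)] [⟨(nat_lit 1884), [(nat_lit 2357)], [(nat_lit 482), (nat_lit 818)]⟩, ⟨(nat_lit 2796), [], [(nat_lit 355), (nat_lit 751)]⟩])) (BT.leaf (.inv (nat_lit 2944)))) (BT.node (nat_lit 2947) (BT.leaf (.rel (nat_lit 2861) (nat_lit 0) [(nat_lit 741), (nat_lit 556)] [⟨(nat_lit 2442), [(nat_lit 775)], [(nat_lit 815), (nat_lit 1140)]⟩])) (BT.leaf (.rel (nat_lit 2765) (nat_lit 0) [(nat_lit 461), (nat_lit 818)] [⟨(nat_lit 1275), [(nat_lit 775)], [(nat_lit 905), (nat_lit 1100)]⟩])))) (BT.node (nat_lit 2950) (BT.node (nat_lit 2949) (BT.leaf (.inv (nat_lit 2947))) (BT.leaf (.rel (nat_lit 1452) (nat_lit 2) [(nat_lit 470),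 (nat_lit 472)] [⟨(nat_lit 2123), [(nat_lit 775)], [(nat_lit 271), (nat_lit 431)]⟩, ⟨(nat_lit 2288), [(nat_lit 1883)], [(nat_lit 380), (nat_lit 1849)]⟩]))) (BT.node (nat_lit 2951) (BT.leaf (.inv (nat_lit 2949))) (BT.leaf (.rel (nat_lit 2588) (nat_lit 2) [(nat_lit 321), (nat_lit 1369)] [⟨(nat_lit 2432), [(nat_lit 2311)], [(nat_lit 266), (nat_lit 386)]⟩, ⟨(nat_lit 1783), [], [(nat_lit 463), (nat_lit 293)]⟩]))))) (BT.node (nat_lit 2956) (BT.node (nat_lit 2954) (BT.node (nat_lit 2953) (BT.leaf (.inv (nat_lit 2951))) (BT.leaf (.rel (nat_lit 2948) (nat_lit 0) [(nat_lit 97), (nat_lit 0)] [⟨(nat_lit 2096), [], [(nat_lit 488), (nat_lit 1376)]⟩]))) (BT.node (nat_lit 2955) (BT.leaf (.inv (nat_lit 2953))) (BT.leaf (.rel (nat_lit 2298) (nat_lit 3) [(nat_lit 568), (nat_lit 263)] [⟨(nat_lit 1655), [], [(nat_lit 271), (nat_lit 1133)]⟩, ⟨(nat_lit 1274), [(nat_lit 935)],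 [(nat_lit 467), (nat_lit 224)]⟩])))) (BT.node (nat_lit 2958) (BT.node (nat_lit 2957) (BT.leaf (.inv (nat_lit 2955))) (BT.leaf (.rel (nat_lit 2203) (nat_lit 5) [(nat_lit 1257), (nat_lit 140)] [⟨(nat_lit 2468), [], [(nat_lit 151), (nat_lit 1204)]⟩, ⟨(nat_lit 2636), [(nat_lit 2311)], [(nat_lit 207), (nat_lit 1204)]⟩]))) (BT.node (nat_lit 2959) (BT.leaf (.inv (nat_lit 2957))) (BT.leaf (.rel (nat_lit 2944) (nat_lit 2) [(nat_lit 990), (nat_lit 1091)] [⟨(nat_lit 1447), [(nat_lit 935)], [(nat_lit 508), (nat_lit 880)]⟩, ⟨(nat_lit 2945), [(nat_lit 935)], [(nat_lit 381), (nat_lit 140)]⟩])))))) (BT.node (nat_lit 2968) (BT.node (nat_lit 2964) (BT.node (nat_lit 2962) (BT.node (nat_lit 2961) (BT.leaf (.rel (nat_lit 2858) (nat_lit 3) [(nat_lit 2061), (nat_lit 586)] [⟨(nat_lit 1291), [], [(nat_lit 208), (nat_lit 465)]⟩, ⟨(nat_lit 2095), [(nat_lit 775)], [(nat_lit 214),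 (nat_lit 868)]⟩])) (BT.leaf (.inv (nat_lit 2960)))) (BT.node (nat_lit 2963) (BT.leaf (.rel (nat_lit 2643) (nat_lit 3) [(nat_lit 282), (nat_lit 500)] [⟨(nat_lit 1298), [(nat_lit 935)], [(nat_lit 1189), (nat_lit 1204)]⟩, ⟨(nat_lit 1270), [(nat_lit 935)], [(nat_lit 763), (nat_lit 1583)]⟩])) (BT.leaf (.inv (nat_lit 2962))))) (BT.node (nat_lit 2966) (BT.node (nat_lit 2965) (BT.leaf (.rel (nat_lit 2807) (nat_lit 5) [(nat_lit 216), (nat_lit 532)] [⟨(nat_lit 1207), [(nat_lit 775)], [(nat_lit 178), (nat_lit 557)]⟩, ⟨(nat_lit 2810), [(nat_lit 935)], [(nat_lit 153), (nat_lit 1053)]⟩])) (BT.leaf (.emul [(nat_lit 626), (nat_lit 692)]))) (BT.node (nat_lit 2967) (BT.leaf (.rel (nat_lit 1937) (nat_lit 4) [(nat_lit 215), (nat_lit 821)] [⟨(nat_lit 1938), [(nat_lit 2965)], [(nat_lit 298), (nat_lit 89)]⟩, ⟨(nat_lit 2745), [(nat_lit 2357)], [(nat_lit 733), (nat_lit 330)]⟩]))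 (BT.leaf (.inv (nat_lit 2966)))))) (BT.node (nat_lit 2972) (BT.node (nat_lit 2970) (BT.node (nat_lit 2969) (BT.leaf (.rel (nat_lit 2207) (nat_lit 1) [(nat_lit 467), (nat_lit 1211)] [⟨(nat_lit 2306), [(nat_lit 775)], [(nat_lit 942), (nat_lit 1165)]⟩])) (BT.leaf (.rel (nat_lit 2207) (nat_lit 1) [(nat_lit 1174), (nat_lit 223)] [⟨(nat_lit 1206), [(nat_lit 935)], [(nat_lit 295), (nat_lit 898)]⟩]))) (BT.node (nat_lit 2971) (BT.leaf (.inv (nat_lit 2969))) (BT.leaf (.rel (nat_lit 2728) (nat_lit 5) [(nat_lit 508), (nat_lit 234)] [⟨(nat_lit 1112), [(nat_lit 775)], [(nat_lit 746), (nat_lit 1537)]⟩, ⟨(nat_lit 1601), [(nat_lit 775)], [(nat_lit 734), (nat_lit 459)]⟩])))) (BT.node (nat_lit 2974) (BT.node (nat_lit 2973) (BT.leaf (.inv (nat_lit 2971))) (BT.leaf (.rel (nat_lit 2319) (nat_lit 3) [(nat_lit 284), (nat_lit 559)] [⟨(nat_lit 2802), [(nat_lit 2210)], [(nat_lit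 618), (nat_lit 109)]⟩, ⟨(nat_lit 2924), [], [(nat_lit 675), (nat_lit 506)]⟩]))) (BT.node (nat_lit 2975) (BT.leaf (.inv (nat_lit 2973))) (BT.leaf (.rel (nat_lit 2417) (nat_lit 0) [(nat_lit 1308), (nat_lit 88)] [⟨(nat_lit 1015), [(nat_lit 935)], [(nat_lit 510), (nat_lit 205)]⟩]))))))) (BT.node (nat_lit 2992) (BT.node (nat_lit 2984) (BT.node (nat_lit 2980) (BT.node (nat_lit 2978) (BT.node (nat_lit 2977) (BT.leaf (.inv (nat_lit 2975))) (BT.leaf (.rel (nat_lit 2403) (nat_lit 4) [(nat_lit 786), (nat_lit 499)] [⟨(nat_lit 1964), [(nat_lit 2258)], [(nat_lit 865), (nat_lit 390)]⟩, ⟨(nat_lit 1532), [], [(nat_lit 129), (nat_lit 203)]⟩]))) (BT.node (nat_lit 2979) (BT.leaf (.inv (nat_lit 2977))) (BT.leaf (.rel (nat_lit 2706) (nat_lit 0) [(nat_lit 359), (nat_lit 1583)] [⟨(nat_lit 2404), [(nat_lit 1846)], [(nat_lit 1026), (nat_lit 475)]⟩])))) (BT.node (nat_lit 2982)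 (BT.node (nat_lit 2981) (BT.leaf (.inv (nat_lit 2979))) (BT.leaf (.rel (nat_lit 2486) (nat_lit 5) [(nat_lit 696), (nat_lit 628)] [⟨(nat_lit 2939), [(nat_lit 775)], [(nat_lit 351), (nat_lit 563)]⟩, ⟨(nat_lit 2848), [(nat_lit 2311)], [(nat_lit 905), (nat_lit 868)]⟩]))) (BT.node (nat_lit 2983) (BT.leaf (.inv (nat_lit 2981))) (BT.leaf (.rel (nat_lit 2165) (nat_lit 3) [(nat_lit 461), (nat_lit 1369)] [⟨(nat_lit 769), [(nat_lit 1115)], [(nat_lit 239), (nat_lit 652)]⟩, ⟨(nat_lit 2950), [(nat_lit 775)], [(nat_lit 905), (nat_lit 557)]⟩]))))) (BT.node (nat_lit 2988) (BT.node (nat_lit 2986) (BT.node (nat_lit 2985) (BT.leaf (.rel (nat_lit 1769) (nat_lit 4) [(nat_lit 422), (nat_lit 1410)] [⟨(nat_lit 1213), [(nat_lit 935)], [(nat_lit 152), (nat_lit 395)]⟩, ⟨(nat_lit 2333), [], [(nat_lit 178), (nat_lit 1503)]⟩])) (BT.leaf (.inv (nat_lit 2984)))) (BT.node (nat_lit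 2987) (BT.leaf (.rel (nat_lit 2657) (nat_lit 1) [(nat_lit 840), (nat_lit 330)] [⟨(nat_lit 2656), [(nat_lit 893)], [(nat_lit 445), (nat_lit 395)]⟩])) (BT.leaf (.inv (nat_lit 2986))))) (BT.node (nat_lit 2990) (BT.node (nat_lit 2989) (BT.leaf (.rel (nat_lit 2594) (nat_lit 2) [(nat_lit 567), (nat_lit 367)] [⟨(nat_lit 2195), [(nat_lit 935)], [(nat_lit 280), (nat_lit 972)]⟩, ⟨(nat_lit 2517), [(nat_lit 2237)], [(nat_lit 227), (nat_lit 512)]⟩])) (BT.leaf (.rel (nat_lit 2572) (nat_lit 1) [(nat_lit 865), (nat_lit 141)] [⟨(nat_lit 2252), [], [(nat_lit 582), (nat_lit 497)]⟩]))) (BT.node (nat_lit 2991) (BT.leaf (.inv (nat_lit 2989))) (BT.leaf (.rel (nat_lit 2623) (nat_lit 0) [(nat_lit 905), (nat_lit 203)] [⟨(nat_lit 1698), [(nat_lit 935)], [(nat_lit 272), (nat_lit 563)]⟩])))))) (BT.node (nat_lit 3000) (BT.node (nat_lit 2996) (BT.node (nat_lit 2994) (BT.node (nat_lit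 2993) (BT.leaf (.inv (nat_lit 2991))) (BT.leaf (.rel (nat_lit 2712) (nat_lit 2) [(nat_lit 447), (nat_lit 1053)] [⟨(nat_lit 2611), [(nat_lit 935)], [(nat_lit 336), (nat_lit 557)]⟩, ⟨(nat_lit 2220), [(nat_lit 2549)], [(nat_lit 1600), (nat_lit 906)]⟩]))) (BT.node (nat_lit 2995) (BT.leaf (.inv (nat_lit 2993))) (BT.leaf (.rel (nat_lit 2554) (nat_lit 2) [(nat_lit 94), (nat_lit 1329)] [⟨(nat_lit 2294), [(nat_lit 2311)], [(nat_lit 1027), (nat_lit 573)]⟩, ⟨(nat_lit 2672), [(nat_lit 935)], [(nat_lit 373), (nat_lit 822)]⟩])))) (BT.node (nat_lit 2998) (BT.node (nat_lit 2997) (BT.leaf (.inv (nat_lit 2995))) (BT.leaf (.rel (nat_lit 2418) (nat_lit 1) [(nat_lit 913), (nat_lit 1053)] [⟨(nat_lit 2544), [(nat_lit 2549)], [(nat_lit 176), (nat_lit 1017)]⟩]))) (BT.node (nat_lit 2999) (BT.leaf (.inv (nat_lit 2997))) (BT.leaf (.emul [(nat_lit 143), (nat_lit 210)]))))) (BT.node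 (nat_lit 3004) (BT.node (nat_lit 3002) (BT.node (nat_lit 3001) (BT.leaf (.emul [(nat_lit 131), (nat_lit 2999)])) (BT.leaf (.rel (nat_lit 2165) (nat_lit 2) [(nat_lit 283), (nat_lit 880)] [⟨(nat_lit 1111), [(nat_lit 238), (nat_lit 3000)], [(nat_lit 1308), (nat_lit 1036)]⟩, ⟨(nat_lit 2955), [(nat_lit 935)], [(nat_lit 450), (nat_lit 308)]⟩]))) (BT.node (nat_lit 3003) (BT.leaf (.inv (nat_lit 3001))) (BT.leaf (.rel (nat_lit 2591) (nat_lit 4) [(nat_lit 129), (nat_lit 652)] [⟨(nat_lit 2340), [(nat_lit 775)], [(nat_lit 468), (nat_lit 556)]⟩, ⟨(nat_lit 2394), [], [(nat_lit 1106), (nat_lit 390)]⟩])))) (BT.node (nat_lit 3006) (BT.node (nat_lit 3005) (BT.leaf (.inv (nat_lit 3003))) (BT.leaf (.rel (nat_lit 2240) (nat_lit 5) [(nat_lit 840), (nat_lit 1211)] [⟨(nat_lit 1158), [], [(nat_lit 358), (nat_lit 813)]⟩, ⟨(nat_lit 2199), [], [(nat_lit 953), (nat_lit 171)]⟩])))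 (BT.node (nat_lit 3007) (BT.leaf (.rel (nat_lit 2272) (nat_lit 4) [(nat_lit 215), (nat_lit 529)] [⟨(nat_lit 2273), [(nat_lit 1029)], [(nat_lit 212), (nat_lit 191)]⟩, ⟨(nat_lit 2274), [], [(nat_lit 466), (nat_lit 88)]⟩])) (BT.leaf (.inv (nat_lit 3006)))))))))
noncomputable def cF3008 : BT Fc := (BT.node (nat_lit 3040) (BT.node (nat_lit 3024) (BT.node (nat_lit 3016) (BT.node (nat_lit 3012) (BT.node (nat_lit 3010) (BT.node (nat_lit 3009) (BT.leaf ⟨(nat_lit 3), (nat_lit 9), (nat_lit 7), (nat_lit 0x1d1900008bd07544025f7c727800ef4), (nat_lit 0xe934f49e93f2726f26a93427aa5db1), (nat_lit 0)⟩) (BT.leaf ⟨(nat_lit 3), (nat_lit 7), (nat_lit 9), (nat_lit 0xe934f49e93f2726f26a93427aa5db1), (nat_lit 0x1d1900008bd07544025f7c727800ef4), (nat_lit 0)⟩)) (BT.node (nat_lit 3011) (BT.leaf ⟨(nat_lit 3), (nat_lit 8), (nat_lit 9), (nat_lit 0x182efc2d2b517b21e976ad1782f51e8),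 (nat_lit 0xe92d8c9c93ddf64d4be9bdb047689e), (nat_lit 0)⟩) (BT.leaf ⟨(nat_lit 3), (nat_lit 9), (nat_lit 8), (nat_lit 0xe92d8c9c93ddf64d4be9bdb047689e), (nat_lit 0x182efc2d2b517b21e976ad1782f51e8), (nat_lit 0)⟩))) (BT.node (nat_lit 3014) (BT.node (nat_lit 3013) (BT.leaf ⟨(nat_lit 3), (nat_lit 7), (nat_lit 9), (nat_lit 0x300a0062081137878910801502477), (nat_lit 0xbe55c8b9552a66ffabd57760f5cf51), (nat_lit 0)⟩) (BT.leaf ⟨(nat_lit 3), (nat_lit 9), (nat_lit 7), (nat_lit 0xbe55c8b9552a66ffabd57760f5cf51), (nat_lit 0x300a0062081137878910801502477), (nat_lit 0)⟩)) (BT.node (nat_lit 3015) (BT.leaf ⟨(nat_lit 3), (nat_lit 9), (nat_lit 9), (nat_lit 0x774ea1f53a2655b65d51aa7551b0fa), (nat_lit 0xac47344dd94a655eeb9552ae6c1a39), (nat_lit 0)⟩) (BT.leaf ⟨(nat_lit 3), (nat_lit 9), (nat_lit 7), (nat_lit 0x1217cc33d69f37834de48010030195), (nat_lit 0x1bbdea9553aa7447d1d43ae714ee995),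 (nat_lit 0)⟩)))) (BT.node (nat_lit 3020) (BT.node (nat_lit 3018) (BT.node (nat_lit 3017) (BT.leaf ⟨(nat_lit 3), (nat_lit 7), (nat_lit 9), (nat_lit 0x1bbdea9553aa7447d1d43ae714ee995), (nat_lit 0x1217cc33d69f37834de48010030195), (nat_lit 0)⟩) (BT.leaf ⟨(nat_lit 3), (nat_lit 9), (nat_lit 7), (nat_lit 0x71527812060041f981142014247410), (nat_lit 0x9aa0f4be91d37ad89767b167aa5c9c), (nat_lit 0)⟩)) (BT.node (nat_lit 3019) (BT.leaf ⟨(nat_lit 3), (nat_lit 7), (nat_lit 9), (nat_lit 0x9aa0f4be91d37ad89767b167aa5c9c), (nat_lit 0x71527812060041f981142014247410), (nat_lit 0)⟩) (BT.leaf ⟨(nat_lit 3), (nat_lit 7), (nat_lit 9), (nat_lit 0x1e41d1ca559982df995a7c46f11b3e7), (nat_lit 0x125b13db17489aa4f6c19352faa589e), (nat_lit 0)⟩))) (BT.node (nat_lit 3022) (BT.node (nat_lit 3021) (BT.leaf ⟨(nat_lit 3), (nat_lit 9), (nat_lit 7), (nat_lit 0x125b13db17489aa4f6c19352faa589e),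 (nat_lit 0x1e41d1ca559982df995a7c46f11b3e7), (nat_lit 0)⟩) (BT.leaf ⟨(nat_lit 3), (nat_lit 9), (nat_lit 7), (nat_lit 0x1519207e84053d1eaa014008829d32f), (nat_lit 0x11dc225ec049e279f742018f9c95814), (nat_lit 0)⟩)) (BT.node (nat_lit 3023) (BT.leaf ⟨(nat_lit 3), (nat_lit 7), (nat_lit 9), (nat_lit 0x11dc225ec049e279f742018f9c95814), (nat_lit 0x1519207e84053d1eaa014008829d32f), (nat_lit 0)⟩) (BT.leaf ⟨(nat_lit 3), (nat_lit 9), (nat_lit 9), (nat_lit 0xe286a9d5a96776eaeef87a555eab6c), (nat_lit 0x104a06b48661817cc4043e123e6995), (nat_lit 0)⟩))))) (BT.node (nat_lit 3032) (BT.node (nat_lit 3028) (BT.node (nat_lit 3026) (BT.node (nat_lit 3025) (BT.leaf ⟨(nat_lit 3), (nat_lit 9), (nat_lit 9), (nat_lit 0x104a06b48661817cc4043e123e6995), (nat_lit 0xe286a9d5a96776eaeef87a555eab6c), (nat_lit 0)⟩) (BT.leaf ⟨(nat_lit 3), (nat_lit 9), (nat_lit 9), (nat_lit 0x1e3c092020069755d802bd5ce096f44),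 (nat_lit 0x12093f850500240c2b1210030eef4e), (nat_lit 0)⟩)) (BT.node (nat_lit 3027) (BT.leaf ⟨(nat_lit 3), (nat_lit 9), (nat_lit 9), (nat_lit 0x12093f850500240c2b1210030eef4e), (nat_lit 0x1e3c092020069755d802bd5ce096f44), (nat_lit 0)⟩) (BT.leaf ⟨(nat_lit 3), (nat_lit 9), (nat_lit 9), (nat_lit 0x71647410bf04fc88090020063ab24f), (nat_lit 0xdb14ceb95771355c5ffd94af473239), (nat_lit 0)⟩))) (BT.node (nat_lit 3030) (BT.node (nat_lit 3029) (BT.leaf ⟨(nat_lit 3), (nat_lit 7), (nat_lit 9), (nat_lit 0x40bc7f443af7a8210061050081149c), (nat_lit 0xf0c1476624008487a20da80c25f453), (nat_lit 0)⟩) (BT.leaf ⟨(nat_lit 3), (nat_lit 9), (nat_lit 7), (nat_lit 0xf0c1476624008487a20da80c25f453), (nat_lit 0x40bc7f443af7a8210061050081149c), (nat_lit 0)⟩)) (BT.node (nat_lit 3031) (BT.leaf ⟨(nat_lit 3), (nat_lit 9), (nat_lit 9), (nat_lit 0x13ccc07c61810791ce74e1b5a050080), (nat_lit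 0xbd390a87d693d3ed9ce6399d255a6a), (nat_lit 0)⟩) (BT.leaf ⟨(nat_lit 3), (nat_lit 9), (nat_lit 9), (nat_lit 0xbd390a87d693d3ed9ce6399d255a6a), (nat_lit 0x13ccc07c61810791ce74e1b5a050080), (nat_lit 0)⟩)))) (BT.node (nat_lit 3036) (BT.node (nat_lit 3034) (BT.node (nat_lit 3033) (BT.leaf ⟨(nat_lit 3), (nat_lit 9), (nat_lit 9), (nat_lit 0x118d5493f02884127f56dc871608050), (nat_lit 0x1cca6cd657482df0af3a5a5ce31d7ba), (nat_lit 0)⟩) (BT.leaf ⟨(nat_lit 3), (nat_lit 9), (nat_lit 7), (nat_lit 0x1d451cabd6d8be713eb91ccaa69a2bb), (nat_lit 0x1cf902404bd80508249ae844ac02abd), (nat_lit 0)⟩)) (BT.node (nat_lit 3035) (BT.leaf ⟨(nat_lit 3), (nat_lit 7), (nat_lit 9), (nat_lit 0x1cf902404bd80508249ae844ac02abd), (nat_lit 0x1d451cabd6d8be713eb91ccaa69a2bb), (nat_lit 0)⟩) (BT.leaf ⟨(nat_lit 3), (nat_lit 8), (nat_lit 9), (nat_lit 0x4bfc6ef43aa201002b993dd1a39a5f), (nat_lit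 0xbd1c6d0067427a0048088197f5c873), (nat_lit 0)⟩))) (BT.node (nat_lit 3038) (BT.node (nat_lit 3037) (BT.leaf ⟨(nat_lit 3), (nat_lit 9), (nat_lit 8), (nat_lit 0xbd1c6d0067427a0048088197f5c873), (nat_lit 0x4bfc6ef43aa201002b993dd1a39a5f), (nat_lit 0)⟩) (BT.leaf ⟨(nat_lit 3), (nat_lit 9), (nat_lit 9), (nat_lit 0x242fc01038a8409fbf391c04b95030), (nat_lit 0x4bb5116fcd243d97fdba5f6c49693f), (nat_lit 0)⟩)) (BT.node (nat_lit 3039) (BT.leaf ⟨(nat_lit 3), (nat_lit 9), (nat_lit 9), (nat_lit 0x4bb5116fcd243d97fdba5f6c49693f), (nat_lit 0x242fc01038a8409fbf391c04b95030), (nat_lit 0)⟩) (BT.leaf ⟨(nat_lit 3), (nat_lit 9), (nat_lit 8), (nat_lit 0xfadf3ae3a2ef85e195a46de40f19bc), (nat_lit 0x9fcde25ec592ad0fa5b1ccd7db8257), (nat_lit 0)⟩)))))) (BT.node (nat_lit 3056) (BT.node (nat_lit 3048) (BT.node (nat_lit 3044) (BT.node (nat_lit 3042) (BT.node (nat_lit 3041) (BT.leaf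 ⟨(nat_lit 3), (nat_lit 8), (nat_lit 9), (nat_lit 0x9fcde25ec592ad0fa5b1ccd7db8257), (nat_lit 0xfadf3ae3a2ef85e195a46de40f19bc), (nat_lit 0)⟩) (BT.leaf ⟨(nat_lit 3), (nat_lit 7), (nat_lit 9), (nat_lit 0xceb995655a5ce39dcd9749ceb0aeef), (nat_lit 0x17aaf4fe8ad1782f6751b9182cf44e8), (nat_lit 0)⟩)) (BT.node (nat_lit 3043) (BT.leaf ⟨(nat_lit 3), (nat_lit 9), (nat_lit 7), (nat_lit 0x17aaf4fe8ad1782f6751b9182cf44e8), (nat_lit 0xceb995655a5ce39dcd9749ceb0aeef), (nat_lit 0)⟩) (BT.leaf ⟨(nat_lit 3), (nat_lit 7), (nat_lit 9), (nat_lit 0x1f6f7e674d69c877817950e73a559b2), (nat_lit 0x1b5030220b9008487f66044a653fbc3), (nat_lit 0)⟩))) (BT.node (nat_lit 3046) (BT.node (nat_lit 3045) (BT.leaf ⟨(nat_lit 3), (nat_lit 9), (nat_lit 7), (nat_lit 0x1b5030220b9008487f66044a653fbc3), (nat_lit 0x1f6f7e674d69c877817950e73a559b2), (nat_lit 0)⟩) (BT.leaf ⟨(nat_lit 3), (nat_lit 9),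 (nat_lit 9), (nat_lit 0x2836a028040480307ad84088087f66), (nat_lit 0x1010f8481805bdd185048010bbd195), (nat_lit 0)⟩)) (BT.node (nat_lit 3047) (BT.leaf ⟨(nat_lit 3), (nat_lit 9), (nat_lit 7), (nat_lit 0x1571ff62c8a71c543b35b4d1ee3bd73), (nat_lit 0x4b9f12b810210404a014bc01410f47), (nat_lit 0)⟩) (BT.leaf ⟨(nat_lit 3), (nat_lit 7), (nat_lit 9), (nat_lit 0x4b9f12b810210404a014bc01410f47), (nat_lit 0x1571ff62c8a71c543b35b4d1ee3bd73), (nat_lit 0)⟩)))) (BT.node (nat_lit 3052) (BT.node (nat_lit 3050) (BT.node (nat_lit 3049) (BT.leaf ⟨(nat_lit 3), (nat_lit 9), (nat_lit 9), (nat_lit 0x1078500811802024008450055441090), (nat_lit 0x901eae00d3ccbd014f43c74e94005f), (nat_lit 0)⟩) (BT.leaf ⟨(nat_lit 3), (nat_lit 5), (nat_lit 9), (nat_lit 0x18b2ae43350e1ce38bfe1dbe4229eca), (nat_lit 0x1df6373e1fc6fccf1b63746569f3e0b), (nat_lit 0)⟩)) (BT.node (nat_lit 3051) (BT.leaf ⟨(nat_lit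 3), (nat_lit 9), (nat_lit 5), (nat_lit 0x1df6373e1fc6fccf1b63746569f3e0b), (nat_lit 0x18b2ae43350e1ce38bfe1dbe4229eca), (nat_lit 0)⟩) (BT.leaf ⟨(nat_lit 3), (nat_lit 7), (nat_lit 9), (nat_lit 0x11cb65335ae73cc39b4950f1c629e73), (nat_lit 0xb4932f51bd5fa263df855d0f4cd976), (nat_lit 0)⟩))) (BT.node (nat_lit 3054) (BT.node (nat_lit 3053) (BT.leaf ⟨(nat_lit 3), (nat_lit 9), (nat_lit 7), (nat_lit 0xb4932f51bd5fa263df855d0f4cd976), (nat_lit 0x11cb65335ae73cc39b4950f1c629e73), (nat_lit 0)⟩) (BT.leaf ⟨(nat_lit 3), (nat_lit 7), (nat_lit 9), (nat_lit 0x145f05ba394afade1f906c6f8e3777d), (nat_lit 0x100600402cbf0824038d8101ce206b9), (nat_lit 0)⟩)) (BT.node (nat_lit 3055) (BT.leaf ⟨(nat_lit 3), (nat_lit 9), (nat_lit 7), (nat_lit 0x100600402cbf0824038d8101ce206b9), (nat_lit 0x145f05ba394afade1f906c6f8e3777d), (nat_lit 0)⟩) (BT.leaf ⟨(nat_lit 3), (nat_lit 4), (nat_lit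 9), (nat_lit 0x7397a44dda93d37b6e4e43fd37826a), (nat_lit 0xfcdd1be16c66f1f1f907c545de195a), (nat_lit 0)⟩))))) (BT.node (nat_lit 3064) (BT.node (nat_lit 3060) (BT.node (nat_lit 3058) (BT.node (nat_lit 3057) (BT.leaf ⟨(nat_lit 3), (nat_lit 9), (nat_lit 4), (nat_lit 0xfcdd1be16c66f1f1f907c545de195a), (nat_lit 0x7397a44dda93d37b6e4e43fd37826a), (nat_lit 0)⟩) (BT.leaf ⟨(nat_lit 3), (nat_lit 9), (nat_lit 7), (nat_lit 0x1b933a44ddf92af7af216385e7edeb4), (nat_lit 0x17a3dbcc7bd87a2f07e84cb722f4e0b), (nat_lit 0)⟩)) (BT.node (nat_lit 3059) (BT.leaf ⟨(nat_lit 3), (nat_lit 7), (nat_lit 9), (nat_lit 0x17a3dbcc7bd87a2f07e84cb722f4e0b), (nat_lit 0x1b933a44ddf92af7af216385e7edeb4), (nat_lit 0)⟩) (BT.leaf ⟨(nat_lit 3), (nat_lit 7), (nat_lit 9), (nat_lit 0x5691cabd72c2e6c1dffc4ea669a44d), (nat_lit 0xffb46f0d8dc32fc6e582f3e3c5bdd2), (nat_lit 0)⟩))) (BT.node (nat_lit 3062)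 (BT.node (nat_lit 3061) (BT.leaf ⟨(nat_lit 3), (nat_lit 9), (nat_lit 7), (nat_lit 0xffb46f0d8dc32fc6e582f3e3c5bdd2), (nat_lit 0x5691cabd72c2e6c1dffc4ea669a44d), (nat_lit 0)⟩) (BT.leaf ⟨(nat_lit 3), (nat_lit 9), (nat_lit 9), (nat_lit 0xe585cab81cca67a8dff5734d1dcab1), (nat_lit 0x61042b1011023990098f6031f5848), (nat_lit 0)⟩)) (BT.node (nat_lit 3063) (BT.leaf ⟨(nat_lit 3), (nat_lit 9), (nat_lit 9), (nat_lit 0x61042b1011023990098f6031f5848), (nat_lit 0xe585cab81cca67a8dff5734d1dcab1), (nat_lit 0)⟩) (BT.leaf ⟨(nat_lit 3), (nat_lit 9), (nat_lit 7), (nat_lit 0x8e4d7cf35bf07be3280180241b1882), (nat_lit 0x6f26cbc346cf85b1f9094ae8e8b95a), (nat_lit 0)⟩)))) (BT.node (nat_lit 3068) (BT.node (nat_lit 3066) (BT.node (nat_lit 3065) (BT.leaf ⟨(nat_lit 3), (nat_lit 7), (nat_lit 9), (nat_lit 0x6f26cbc346cf85b1f9094ae8e8b95a), (nat_lit 0x8e4d7cf35bf07be3280180241b1882),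 (nat_lit 0)⟩) (BT.leaf ⟨(nat_lit 3), (nat_lit 9), (nat_lit 9), (nat_lit 0xaed5895a89aaf45ceb9ea2db15c299), (nat_lit 0x18b2b9c7b9e6a1e398738c71de39790), (nat_lit 0)⟩)) (BT.node (nat_lit 3067) (BT.leaf ⟨(nat_lit 3), (nat_lit 9), (nat_lit 9), (nat_lit 0x18b2b9c7b9e6a1e398738c71de39790), (nat_lit 0xaed5895a89aaf45ceb9ea2db15c299), (nat_lit 0)⟩) (BT.leaf ⟨(nat_lit 3), (nat_lit 9), (nat_lit 9), (nat_lit 0x14219af90c087c2477a8805bed4195), (nat_lit 0x1cab9c73ac75de8e73497494e96973b), (nat_lit 0)⟩))) (BT.node (nat_lit 3070) (BT.node (nat_lit 3069) (BT.leaf ⟨(nat_lit 3), (nat_lit 9), (nat_lit 9), (nat_lit 0x1cab9c73ac75de8e73497494e96973b), (nat_lit 0x14219af90c087c2477a8805bed4195), (nat_lit 0)⟩) (BT.leaf ⟨(nat_lit 3), (nat_lit 9), (nat_lit 9), (nat_lit 0x8420be2203bd497003e8f006f4811), (nat_lit 0xee713ab1533136c1abb573b2ba8aa9), (nat_lit 0)⟩)) (BT.node (nat_lit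 3071) (BT.leaf ⟨(nat_lit 3), (nat_lit 9), (nat_lit 9), (nat_lit 0x17d046006002e540240a8c805eaa10), (nat_lit 0x27a39d48e57a5f12b893e00d2f6f5), (nat_lit 0)⟩) (BT.leaf ⟨(nat_lit 3), (nat_lit 9), (nat_lit 9), (nat_lit 0x27a39d48e57a5f12b893e00d2f6f5), (nat_lit 0x17d046006002e540240a8c805eaa10), (nat_lit 0)⟩)))))))
noncomputable def cP3008 : BT Pf := (BT.node (nat_lit 3040) (BT.node (nat_lit 3024) (BT.node (nat_lit 3016) (BT.node (nat_lit 3012) (BT.node (nat_lit 3010) (BT.node (nat_lit 3009) (BT.leaf (.rel (nat_lit 1208) (nat_lit 0) [(nat_lit 211), (nat_lit 431)] [⟨(nat_lit 2433), [(nat_lit 775)], [(nat_lit 258), (nat_lit 556)]⟩])) (BT.leaf (.inv (nat_lit 3008)))) (BT.node (nat_lit 3011) (BT.leaf (.rel (nat_lit 2995) (nat_lit 2) [(nat_lit 510), (nat_lit 651)] [⟨(nat_lit 1731), [(nat_lit 775)], [(nat_lit 570), (nat_lit 495)]⟩, ⟨(nat_lit 2020), [], [(nat_lit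 207), (nat_lit 968)]⟩])) (BT.leaf (.inv (nat_lit 3010))))) (BT.node (nat_lit 3014) (BT.node (nat_lit 3013) (BT.leaf (.rel (nat_lit 2209) (nat_lit 2) [(nat_lit 786), (nat_lit 399)] [⟨(nat_lit 2380), [(nat_lit 444)], [(nat_lit 707), (nat_lit 778)]⟩, ⟨(nat_lit 2298), [(nat_lit 2549)], [(nat_lit 300), (nat_lit 475)]⟩])) (BT.leaf (.inv (nat_lit 3012)))) (BT.node (nat_lit 3015) (BT.leaf (.rel (nat_lit 2893) (nat_lit 0) [(nat_lit 582), (nat_lit 290)] [⟨(nat_lit 2930), [(nat_lit 2237)], [(nat_lit 550), (nat_lit 234)]⟩])) (BT.leaf (.rel (nat_lit 1660) (nat_lit 0) [(nat_lit 445), (nat_lit 460)] [⟨(nat_lit 2598), [], [(nat_lit 493), (nat_lit 662)]⟩]))))) (BT.node (nat_lit 3020) (BT.node (nat_lit 3018) (BT.node (nat_lit 3017) (BT.leaf (.inv (nat_lit 3015))) (BT.leaf (.rel (nat_lit 1726) (nat_lit 0) [(nat_lit 283), (nat_lit 253)] [⟨(nat_lit 2670), [], [(nat_lit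 942), (nat_lit 224)]⟩]))) (BT.node (nat_lit 3019) (BT.leaf (.inv (nat_lit 3017))) (BT.leaf (.rel (nat_lit 2212) (nat_lit 2) [(nat_lit 167), (nat_lit 533)] [⟨(nat_lit 2430), [(nat_lit 775)], [(nat_lit 2061), (nat_lit 140)]⟩, ⟨(nat_lit 2298), [(nat_lit 2237)], [(nat_lit 441), (nat_lit 1133)]⟩])))) (BT.node (nat_lit 3022) (BT.node (nat_lit 3021) (BT.leaf (.inv (nat_lit 3019))) (BT.leaf (.rel (nat_lit 2424) (nat_lit 3) [(nat_lit 569), (nat_lit 109)] [⟨(nat_lit 2446), [(nat_lit 2549)], [(nat_lit 285), (nat_lit 1226)]⟩, ⟨(nat_lit 2764), [(nat_lit 935)], [(nat_lit 482), (nat_lit 389)]⟩]))) (BT.node (nat_lit 3023) (BT.leaf (.inv (nat_lit 3021))) (BT.leaf (.rel (nat_lit 2902) (nat_lit 4) [(nat_lit 568), (nat_lit 1478)] [⟨(nat_lit 3015), [(nat_lit 2237)], [(nat_lit 358), (nat_lit 372)]⟩, ⟨(nat_lit 2743), [(nat_lit 935)], [(nat_lit 129), (nat_lit 605)]⟩]))))))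 (BT.node (nat_lit 3032) (BT.node (nat_lit 3028) (BT.node (nat_lit 3026) (BT.node (nat_lit 3025) (BT.leaf (.inv (nat_lit 3023))) (BT.leaf (.rel (nat_lit 2728) (nat_lit 1) [(nat_lit 1337), (nat_lit 798)] [⟨(nat_lit 2663), [(nat_lit 935)], [(nat_lit 178), (nat_lit 1211)]⟩]))) (BT.node (nat_lit 3027) (BT.leaf (.inv (nat_lit 3025))) (BT.leaf (.rel (nat_lit 2645) (nat_lit 3) [(nat_lit 1004), (nat_lit 1036)] [⟨(nat_lit 1113), [(nat_lit 775)], [(nat_lit 215), (nat_lit 190)]⟩, ⟨(nat_lit 2438), [], [(nat_lit 502), (nat_lit 868)]⟩])))) (BT.node (nat_lit 3030) (BT.node (nat_lit 3029) (BT.leaf (.rel (nat_lit 2680) (nat_lit 4) [(nat_lit 695), (nat_lit 870)] [⟨(nat_lit 1353), [(nat_lit 775)], [(nat_lit 508), (nat_lit 269)]⟩, ⟨(nat_lit 1303), [(nat_lit 775)], [(nat_lit 522), (nat_lit 982)]⟩])) (BT.leaf (.inv (nat_lit 3028)))) (BT.node (nat_lit 3031) (BT.leaf (.rel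 (nat_lit 2742) (nat_lit 1) [(nat_lit 587), (nat_lit 580)] [⟨(nat_lit 2633), [(nat_lit 935)], [(nat_lit 1308), (nat_lit 1070)]⟩])) (BT.leaf (.inv (nat_lit 3030)))))) (BT.node (nat_lit 3036) (BT.node (nat_lit 3034) (BT.node (nat_lit 3033) (BT.leaf (.rel (nat_lit 2671) (nat_lit 5) [(nat_lit 526), (nat_lit 596)] [⟨(nat_lit 1753), [(nat_lit 935)], [(nat_lit 502), (nat_lit 700)]⟩, ⟨(nat_lit 2378), [(nat_lit 775)], [(nat_lit 827), (nat_lit 253)]⟩])) (BT.leaf (.rel (nat_lit 2077) (nat_lit 3) [(nat_lit 469), (nat_lit 1410)] [⟨(nat_lit 1858), [(nat_lit 2259)], [(nat_lit 467), (nat_lit 906)]⟩, ⟨(nat_lit 2246), [], [(nat_lit 178), (nat_lit 438)]⟩]))) (BT.node (nat_lit 3035) (BT.leaf (.inv (nat_lit 3033))) (BT.leaf (.rel (nat_lit 2194) (nat_lit 2) [(nat_lit 520), (nat_lit 584)] [⟨(nat_lit 2907), [(nat_lit 775)], [(nat_lit 747), (nat_lit 1141)]⟩, ⟨(nat_lit 2513),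 [(nat_lit 2237)], [(nat_lit 470), (nat_lit 308)]⟩])))) (BT.node (nat_lit 3038) (BT.node (nat_lit 3037) (BT.leaf (.inv (nat_lit 3035))) (BT.leaf (.rel (nat_lit 2616) (nat_lit 3) [(nat_lit 281), (nat_lit 556)] [⟨(nat_lit 1079), [(nat_lit 775)], [(nat_lit 299), (nat_lit 421)]⟩, ⟨(nat_lit 2241), [(nat_lit 775)], [(nat_lit 521), (nat_lit 974)]⟩]))) (BT.node (nat_lit 3039) (BT.leaf (.inv (nat_lit 3037))) (BT.leaf (.rel (nat_lit 2664) (nat_lit 0) [(nat_lit 787), (nat_lit 693)] [⟨(nat_lit 2470), [], [(nat_lit 434), (nat_lit 835)]⟩]))))))) (BT.node (nat_lit 3056) (BT.node (nat_lit 3048) (BT.node (nat_lit 3044) (BT.node (nat_lit 3042) (BT.node (nat_lit 3041) (BT.leaf (.inv (nat_lit 3039))) (BT.leaf (.rel (nat_lit 2221) (nat_lit 5) [(nat_lit 130), (nat_lit 868)] [⟨(nat_lit 1976), [(nat_lit 935)], [(nat_lit 356), (nat_lit 762)]⟩, ⟨(nat_lit 1980), [(nat_lit 2357)],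 [(nat_lit 373), (nat_lit 126)]⟩]))) (BT.node (nat_lit 3043) (BT.leaf (.inv (nat_lit 3041))) (BT.leaf (.rel (nat_lit 2397) (nat_lit 1) [(nat_lit 502), (nat_lit 778)] [⟨(nat_lit 960), [(nat_lit 775)], [(nat_lit 551), (nat_lit 460)]⟩])))) (BT.node (nat_lit 3046) (BT.node (nat_lit 3045) (BT.leaf (.inv (nat_lit 3043))) (BT.leaf (.rel (nat_lit 2254) (nat_lit 4) [(nat_lit 469), (nat_lit 700)] [⟨(nat_lit 1086), [(nat_lit 1008)], [(nat_lit 1337), (nat_lit 1211)]⟩, ⟨(nat_lit 2241), [], [(nat_lit 507), (nat_lit 252)]⟩]))) (BT.node (nat_lit 3047) (BT.leaf (.rel (nat_lit 1670) (nat_lit 2) [(nat_lit 19)] [⟨(nat_lit 1982), [(nat_lit 935)], [(nat_lit 513), (nat_lit 475)]⟩, ⟨(nat_lit 2569), [(nat_lit 1883)], [(nat_lit 1103), (nat_lit 171)]⟩])) (BT.leaf (.inv (nat_lit 3046)))))) (BT.node (nat_lit 3052) (BT.node (nat_lit 3050) (BT.node (nat_lit 3049) (BT.leaf (.rel (nat_lit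 2564) (nat_lit 5) [(nat_lit 355), (nat_lit 1745)] [⟨(nat_lit 2653), [], [(nat_lit 94), (nat_lit 1204)]⟩, ⟨(nat_lit 2896), [(nat_lit 2311)], [(nat_lit 587), (nat_lit 596)]⟩])) (BT.leaf (.rel (nat_lit 2695) (nat_lit 3) [(nat_lit 746), (nat_lit 235)] [⟨(nat_lit 1992), [(nat_lit 1921)], [(nat_lit 373), (nat_lit 170)]⟩, ⟨(nat_lit 2054), [(nat_lit 2075)], [(nat_lit 193), (nat_lit 320)]⟩]))) (BT.node (nat_lit 3051) (BT.leaf (.inv (nat_lit 3049))) (BT.leaf (.rel (nat_lit 2651) (nat_lit 2) [(nat_lit 774), (nat_lit 249)] [⟨(nat_lit 1854), [(nat_lit 775)], [(nat_lit 376), (nat_lit 785)]⟩, ⟨(nat_lit 1864), [(nat_lit 1870)], [(nat_lit 215), (nat_lit 891)]⟩])))) (BT.node (nat_lit 3054) (BT.node (nat_lit 3053) (BT.leaf (.inv (nat_lit 3051))) (BT.leaf (.rel (nat_lit 2513) (nat_lit 2) [(nat_lit 1106), (nat_lit 555)] [⟨(nat_lit 2048), [(nat_lit 1921)], [(nat_lit 280),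 (nat_lit 1101)]⟩, ⟨(nat_lit 1356), [(nat_lit 935)], [(nat_lit 285), (nat_lit 500)]⟩]))) (BT.node (nat_lit 3055) (BT.leaf (.inv (nat_lit 3053))) (BT.leaf (.rel (nat_lit 2518) (nat_lit 4) [(nat_lit 673), (nat_lit 1)] [⟨(nat_lit 1156), [(nat_lit 775)], [(nat_lit 733), (nat_lit 1478)]⟩, ⟨(nat_lit 1260), [(nat_lit 775)], [(nat_lit 196), (nat_lit 1001)]⟩])))))) (BT.node (nat_lit 3064) (BT.node (nat_lit 3060) (BT.node (nat_lit 3058) (BT.node (nat_lit 3057) (BT.leaf (.inv (nat_lit 3055))) (BT.leaf (.rel (nat_lit 1676) (nat_lit 1) [(nat_lit 914), (nat_lit 985)] [⟨(nat_lit 2850), [], [(nat_lit 1195), (nat_lit 361)]⟩]))) (BT.node (nat_lit 3059) (BT.leaf (.inv (nat_lit 3057))) (BT.leaf (.rel (nat_lit 2762) (nat_lit 5) [(nat_lit 427), (nat_lit 1053)] [⟨(nat_lit 1888), [(nat_lit 2210)], [(nat_lit 447), (nat_lit 1369)]⟩, ⟨(nat_lit 1579), [], [(nat_lit 255), (nat_lit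 465)]⟩])))) (BT.node (nat_lit 3062) (BT.node (nat_lit 3061) (BT.leaf (.inv (nat_lit 3059))) (BT.leaf (.rel (nat_lit 2804) (nat_lit 1) [(nat_lit 832), (nat_lit 891)] [⟨(nat_lit 2404), [(nat_lit 2357)], [(nat_lit 300), (nat_lit 651)]⟩]))) (BT.node (nat_lit 3063) (BT.leaf (.inv (nat_lit 3061))) (BT.leaf (.rel (nat_lit 1350) (nat_lit 5) [(nat_lit 215), (nat_lit 110)] [⟨(nat_lit 971), [(nat_lit 935)], [(nat_lit 567), (nat_lit 202)]⟩, ⟨(nat_lit 2366), [(nat_lit 935)], [(nat_lit 1437), (nat_lit 868)]⟩]))))) (BT.node (nat_lit 3068) (BT.node (nat_lit 3066) (BT.node (nat_lit 3065) (BT.leaf (.inv (nat_lit 3063))) (BT.leaf (.rel (nat_lit 2495) (nat_lit 5) [(nat_lit 176), (nat_lit 1017)] [⟨(nat_lit 2552), [], [(nat_lit 404), (nat_lit 1018)]⟩, ⟨(nat_lit 2363), [(nat_lit 2311)], [(nat_lit 707), (nat_lit 556)]⟩]))) (BT.node (nat_lit 3067) (BT.leaf (.inv (nat_lit 3065)))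 (BT.leaf (.rel (nat_lit 2597) (nat_lit 5) [(nat_lit 468), (nat_lit 278)] [⟨(nat_lit 1480), [(nat_lit 775)], [(nat_lit 1235), (nat_lit 1088)]⟩, ⟨(nat_lit 2646), [(nat_lit 935)], [(nat_lit 653), (nat_lit 736)]⟩])))) (BT.node (nat_lit 3070) (BT.node (nat_lit 3069) (BT.leaf (.inv (nat_lit 3067))) (BT.leaf (.rel (nat_lit 2613) (nat_lit 1) [(nat_lit 237), (nat_lit 426)] [⟨(nat_lit 2539), [(nat_lit 775)], [(nat_lit 1041), (nat_lit 248)]⟩]))) (BT.node (nat_lit 3071) (BT.leaf (.rel (nat_lit 2385) (nat_lit 5) [(nat_lit 587), (nat_lit 880)] [⟨(nat_lit 1372), [], [(nat_lit 787), (nat_lit 628)]⟩, ⟨(nat_lit 2860), [], [(nat_lit 434), (nat_lit 814)]⟩])) (BT.leaf (.inv (nat_lit 3070)))))))))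
noncomputable def cF3072 : BT Fc := (BT.node (nat_lit 3104) (BT.node (nat_lit 3088) (BT.node (nat_lit 3080) (BT.node (nat_lit 3076) (BT.node (nat_lit 3074) (BT.node (nat_lit 3073) (BT.leaf ⟨(nat_lit 3), (nat_lit 9), (nat_lit 7), (nat_lit 0x800084735724bc40004e74008043e3), (nat_lit 0x1825f028f5bc68505c84fe481e1824), (nat_lit 0)⟩) (BT.leaf ⟨(nat_lit 3), (nat_lit 7), (nat_lit 9), (nat_lit 0x1825f028f5bc68505c84fe481e1824), (nat_lit 0x800084735724bc40004e74008043e3), (nat_lit 0)⟩)) (BT.node (nat_lit 3075) (BT.leaf ⟨(nat_lit 3), (nat_lit 9), (nat_lit 7), (nat_lit 0x3b639b350e7b2ab9c7b8e3570cda87), (nat_lit 0x1d46d42d287ac72f619bbc15a3dbde8), (nat_lit 0)⟩) (BT.leaf ⟨(nat_lit 3), (nat_lit 7), (nat_lit 9), (nat_lit 0x1d46d42d287ac72f619bbc15a3dbde8), (nat_lit 0x3b639b350e7b2ab9c7b8e3570cda87), (nat_lit 0)⟩))) (BT.node (nat_lit 3078) (BT.node (nat_lit 3077)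 (BT.leaf ⟨(nat_lit 3), (nat_lit 7), (nat_lit 9), (nat_lit 0xae3a8b6cb0656a26a395f37fc5ceb9), (nat_lit 0xf892f0415717a63940110280497011), (nat_lit 0)⟩) (BT.leaf ⟨(nat_lit 3), (nat_lit 9), (nat_lit 7), (nat_lit 0xf892f0415717a63940110280497011), (nat_lit 0xae3a8b6cb0656a26a395f37fc5ceb9), (nat_lit 0)⟩)) (BT.node (nat_lit 3079) (BT.leaf ⟨(nat_lit 3), (nat_lit 9), (nat_lit 7), (nat_lit 0x6bf0a96f25d4bc95fdb25a3e817b70), (nat_lit 0x1002084208887c6077a5f36a0a0706), (nat_lit 0)⟩) (BT.leaf ⟨(nat_lit 3), (nat_lit 7), (nat_lit 9), (nat_lit 0x1002084208887c6077a5f36a0a0706), (nat_lit 0x6bf0a96f25d4bc95fdb25a3e817b70), (nat_lit 0)⟩)))) (BT.node (nat_lit 3084) (BT.node (nat_lit 3082) (BT.node (nat_lit 3081) (BT.leaf ⟨(nat_lit 3), (nat_lit 9), (nat_lit 7), (nat_lit 0x191b831b2a8df1a52f66e85d1d9abd8), (nat_lit 0x28229fad0484803022021e9fc10822), (nat_lit 0)⟩) (BT.leaf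 ⟨(nat_lit 3), (nat_lit 7), (nat_lit 9), (nat_lit 0x28229fad0484803022021e9fc10822), (nat_lit 0x191b831b2a8df1a52f66e85d1d9abd8), (nat_lit 0)⟩)) (BT.node (nat_lit 3083) (BT.leaf ⟨(nat_lit 3), (nat_lit 7), (nat_lit 9), (nat_lit 0x3997ca99d72e5ba8e275737fec1d34), (nat_lit 0x422cf3005c60bc88573202ee680140), (nat_lit 0)⟩) (BT.leaf ⟨(nat_lit 3), (nat_lit 9), (nat_lit 7), (nat_lit 0x422cf3005c60bc88573202ee680140), (nat_lit 0x3997ca99d72e5ba8e275737fec1d34), (nat_lit 0)⟩))) (BT.node (nat_lit 3086) (BT.node (nat_lit 3085) (BT.leaf ⟨(nat_lit 3), (nat_lit 9), (nat_lit 9), (nat_lit 0x1d4554dff5762e75cabdb07b291cb6c), (nat_lit 0x6cba33467b1467e374494a32f83546), (nat_lit 0)⟩) (BT.leaf ⟨(nat_lit 3), (nat_lit 9), (nat_lit 9), (nat_lit 0x6cba33467b1467e374494a32f83546), (nat_lit 0x1d4554dff5762e75cabdb07b291cb6c), (nat_lit 0)⟩)) (BT.node (nat_lit 3087) (BT.leaf ⟨(nat_lit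 3), (nat_lit 9), (nat_lit 7), (nat_lit 0x1a4fa7747c8cf61577c6365d0aa3519), (nat_lit 0x14bf5cc40805755c6c200e67a20465f), (nat_lit 0)⟩) (BT.leaf ⟨(nat_lit 3), (nat_lit 7), (nat_lit 9), (nat_lit 0x14bf5cc40805755c6c200e67a20465f), (nat_lit 0x1a4fa7747c8cf61577c6365d0aa3519), (nat_lit 0)⟩))))) (BT.node (nat_lit 3096) (BT.node (nat_lit 3092) (BT.node (nat_lit 3090) (BT.node (nat_lit 3089) (BT.leaf ⟨(nat_lit 3), (nat_lit 7), (nat_lit 9), (nat_lit 0x140601405f21002143309065420c40), (nat_lit 0x15cc88101601fd3469209d0401dc8d5), (nat_lit 0)⟩) (BT.leaf ⟨(nat_lit 3), (nat_lit 9), (nat_lit 7), (nat_lit 0x15cc88101601fd3469209d0401dc8d5), (nat_lit 0x140601405f21002143309065420c40), (nat_lit 0)⟩)) (BT.node (nat_lit 3091) (BT.leaf ⟨(nat_lit 3), (nat_lit 9), (nat_lit 7), (nat_lit 0x1012eab465e9004f4400cbf4be8009e), (nat_lit 0xb4b956ef7494eab28b70f87399d63a), (nat_lit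 0)⟩) (BT.leaf ⟨(nat_lit 3), (nat_lit 7), (nat_lit 9), (nat_lit 0xb4b956ef7494eab28b70f87399d63a), (nat_lit 0x1012eab465e9004f4400cbf4be8009e), (nat_lit 0)⟩))) (BT.node (nat_lit 3094) (BT.node (nat_lit 3093) (BT.leaf ⟨(nat_lit 3), (nat_lit 7), (nat_lit 9), (nat_lit 0x79d010004082001d58e6f8c80200), (nat_lit 0x27a97e00881402107e30e70220065f), (nat_lit 0)⟩) (BT.leaf ⟨(nat_lit 3), (nat_lit 9), (nat_lit 7), (nat_lit 0x27a97e00881402107e30e70220065f), (nat_lit 0x79d010004082001d58e6f8c80200), (nat_lit 0)⟩)) (BT.node (nat_lit 3095) (BT.leaf ⟨(nat_lit 3), (nat_lit 7), (nat_lit 9), (nat_lit 0x78d402100bf9cd023d565e80300201), (nat_lit 0x157238c726935ce3bbfef201cf39da6), (nat_lit 0)⟩) (BT.leaf ⟨(nat_lit 3), (nat_lit 9), (nat_lit 7), (nat_lit 0x157238c726935ce3bbfef201cf39da6), (nat_lit 0x78d402100bf9cd023d565e80300201), (nat_lit 0)⟩)))) (BT.node (nat_lit 3100)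 (BT.node (nat_lit 3098) (BT.node (nat_lit 3097) (BT.leaf ⟨(nat_lit 3), (nat_lit 9), (nat_lit 9), (nat_lit 0x2093f8592dd39589dddf978204028), (nat_lit 0x152eeae583aee286a9f5b4c8d8ca955), (nat_lit 0)⟩) (BT.leaf ⟨(nat_lit 3), (nat_lit 9), (nat_lit 9), (nat_lit 0x152eeae583aee286a9f5b4c8d8ca955), (nat_lit 0x2093f8592dd39589dddf978204028), (nat_lit 0)⟩)) (BT.node (nat_lit 3099) (BT.leaf ⟨(nat_lit 3), (nat_lit 9), (nat_lit 9), (nat_lit 0x1e3100f3b00327c048810431c92f011), (nat_lit 0x1e75080180204439541027e93e31811), (nat_lit 0)⟩) (BT.leaf ⟨(nat_lit 3), (nat_lit 7), (nat_lit 9), (nat_lit 0x105008210031c801f8c0229795c101), (nat_lit 0x480fabc30420c010024e3418210299), (nat_lit 0)⟩))) (BT.node (nat_lit 3102) (BT.node (nat_lit 3101) (BT.leaf ⟨(nat_lit 3), (nat_lit 9), (nat_lit 7), (nat_lit 0x480fabc30420c010024e3418210299), (nat_lit 0x105008210031c801f8c0229795c101),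 (nat_lit 0)⟩) (BT.leaf ⟨(nat_lit 3), (nat_lit 9), (nat_lit 9), (nat_lit 0xd24cd873b4cffab9d5c8e4cd543c33), (nat_lit 0x152cfa9d57abc84aae5838ba4d1b43d), (nat_lit 0)⟩)) (BT.node (nat_lit 3103) (BT.leaf ⟨(nat_lit 3), (nat_lit 9), (nat_lit 7), (nat_lit 0xf551b1953ae717909dd1aa555c51f5), (nat_lit 0x49d97cc76e1a8ad8d2fc2a4b4b7fdb), (nat_lit 0)⟩) (BT.leaf ⟨(nat_lit 3), (nat_lit 7), (nat_lit 9), (nat_lit 0x49d97cc76e1a8ad8d2fc2a4b4b7fdb), (nat_lit 0xf551b1953ae717909dd1aa555c51f5), (nat_lit 0)⟩)))))) (BT.node (nat_lit 3120) (BT.node (nat_lit 3112) (BT.node (nat_lit 3108) (BT.node (nat_lit 3106) (BT.node (nat_lit 3105) (BT.leaf ⟨(nat_lit 3), (nat_lit 9), (nat_lit 8), (nat_lit 0x1d08421d1e7d1dc82006089e26f66f0), (nat_lit 0x1a79102006018010420417351bf4240), (nat_lit 0)⟩) (BT.leaf ⟨(nat_lit 3), (nat_lit 8), (nat_lit 9), (nat_lit 0x1a79102006018010420417351bf4240),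 (nat_lit 0x1d08421d1e7d1dc82006089e26f66f0), (nat_lit 0)⟩)) (BT.node (nat_lit 3107) (BT.leaf ⟨(nat_lit 3), (nat_lit 9), (nat_lit 9), (nat_lit 0x1008055ea00601821002104aec81744), (nat_lit 0x4fc975b16e131c87e695985bc9382f), (nat_lit 0)⟩) (BT.leaf ⟨(nat_lit 3), (nat_lit 9), (nat_lit 9), (nat_lit 0x96d2eb704af5968ce2c6be97a55a7f), (nat_lit 0x50034047ce4ace8ef0f13d081273e), (nat_lit 0)⟩))) (BT.node (nat_lit 3110) (BT.node (nat_lit 3109) (BT.leaf ⟨(nat_lit 3), (nat_lit 9), (nat_lit 9), (nat_lit 0x50034047ce4ace8ef0f13d081273e), (nat_lit 0x96d2eb704af5968ce2c6be97a55a7f), (nat_lit 0)⟩) (BT.leaf ⟨(nat_lit 3), (nat_lit 7), (nat_lit 9), (nat_lit 0x8b7b7443af7a8090428e2aee4e102), (nat_lit 0xd199d400841ae604073baa27b2faf4), (nat_lit 0)⟩)) (BT.node (nat_lit 3111) (BT.leaf ⟨(nat_lit 3), (nat_lit 9), (nat_lit 7), (nat_lit 0xd199d400841ae604073baa27b2faf4), (nat_lit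 0x8b7b7443af7a8090428e2aee4e102), (nat_lit 0)⟩) (BT.leaf ⟨(nat_lit 3), (nat_lit 9), (nat_lit 9), (nat_lit 0x1078502df1802404218035e20a79f0d), (nat_lit 0x1079400901813ce401802aa2816ffba), (nat_lit 0)⟩)))) (BT.node (nat_lit 3116) (BT.node (nat_lit 3114) (BT.node (nat_lit 3113) (BT.leaf ⟨(nat_lit 3), (nat_lit 7), (nat_lit 9), (nat_lit 0x131feddb1256b32ae52fd4449f3492e), (nat_lit 0x22399408f0bbf093de092c820042b1), (nat_lit 0)⟩) (BT.leaf ⟨(nat_lit 3), (nat_lit 9), (nat_lit 7), (nat_lit 0x22399408f0bbf093de092c820042b1), (nat_lit 0x131feddb1256b32ae52fd4449f3492e), (nat_lit 0)⟩)) (BT.node (nat_lit 3115) (BT.leaf ⟨(nat_lit 3), (nat_lit 7), (nat_lit 9), (nat_lit 0x40283f38c68420813f221b9008814), (nat_lit 0x7539d821002f892f2b808200c9778c), (nat_lit 0)⟩) (BT.leaf ⟨(nat_lit 3), (nat_lit 9), (nat_lit 7), (nat_lit 0x7539d821002f892f2b808200c9778c), (nat_lit 0x40283f38c68420813f221b9008814),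 (nat_lit 0)⟩))) (BT.node (nat_lit 3118) (BT.node (nat_lit 3117) (BT.leaf ⟨(nat_lit 3), (nat_lit 7), (nat_lit 9), (nat_lit 0x20097f46de97a0203e393c40000ab9), (nat_lit 0x148080357100410f8c4020477a92e), (nat_lit 0)⟩) (BT.leaf ⟨(nat_lit 3), (nat_lit 9), (nat_lit 7), (nat_lit 0x148080357100410f8c4020477a92e), (nat_lit 0x20097f46de97a0203e393c40000ab9), (nat_lit 0)⟩)) (BT.node (nat_lit 3119) (BT.leaf ⟨(nat_lit 3), (nat_lit 9), (nat_lit 9), (nat_lit 0xa1f7ad17ce8bd37e721639bd0e76b4), (nat_lit 0xcd6394338e35cf160ed8f73cd43c73), (nat_lit 0)⟩) (BT.leaf ⟨(nat_lit 3), (nat_lit 9), (nat_lit 9), (nat_lit 0xcd6394338e35cf160ed8f73cd43c73), (nat_lit 0xa1f7ad17ce8bd37e721639bd0e76b4), (nat_lit 0)⟩))))) (BT.node (nat_lit 3128) (BT.node (nat_lit 3124) (BT.node (nat_lit 3122) (BT.node (nat_lit 3121) (BT.leaf ⟨(nat_lit 3), (nat_lit 9), (nat_lit 9), (nat_lit 0x1ad17cf06f9a87e200410c050028195),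 (nat_lit 0x1f169349e715966cf2ac2b8eb9df3e), (nat_lit 0)⟩) (BT.leaf ⟨(nat_lit 3), (nat_lit 9), (nat_lit 9), (nat_lit 0x192d844009e240a024de17b39f005), (nat_lit 0x1c1a19eb44813797c848880180b7842), (nat_lit 0)⟩)) (BT.node (nat_lit 3123) (BT.leaf ⟨(nat_lit 3), (nat_lit 9), (nat_lit 9), (nat_lit 0x1963c6f858dde769a31316ee37e6e8d), (nat_lit 0x8827a58d4055185c85f421a7940600), (nat_lit 0)⟩) (BT.leaf ⟨(nat_lit 3), (nat_lit 9), (nat_lit 9), (nat_lit 0x8827a58d4055185c85f421a7940600), (nat_lit 0x1963c6f858dde769a31316ee37e6e8d), (nat_lit 0)⟩))) (BT.node (nat_lit 3126) (BT.node (nat_lit 3125) (BT.leaf ⟨(nat_lit 3), (nat_lit 9), (nat_lit 8), (nat_lit 0x1962ea9dd3ea747908fa2ab69aa5e93), (nat_lit 0x14eb00202ce7fa1042000be2e597a20), (nat_lit 0)⟩) (BT.leaf ⟨(nat_lit 3), (nat_lit 8), (nat_lit 9), (nat_lit 0x14eb00202ce7fa1042000be2e597a20), (nat_lit 0x1962ea9dd3ea747908fa2ab69aa5e93),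 (nat_lit 0)⟩)) (BT.node (nat_lit 3127) (BT.leaf ⟨(nat_lit 3), (nat_lit 9), (nat_lit 9), (nat_lit 0x1ae7a8af96d8ae4732b1d9589e9a239), (nat_lit 0x1c69e18202400911003097deb53fa99), (nat_lit 0)⟩) (BT.leaf ⟨(nat_lit 3), (nat_lit 9), (nat_lit 9), (nat_lit 0x1c69e18202400911003097deb53fa99), (nat_lit 0x1ae7a8af96d8ae4732b1d9589e9a239), (nat_lit 0)⟩)))) (BT.node (nat_lit 3132) (BT.node (nat_lit 3130) (BT.node (nat_lit 3129) (BT.leaf ⟨(nat_lit 3), (nat_lit 8), (nat_lit 9), (nat_lit 0x1bbf9c63a7495979dcd9e747383e73e), (nat_lit 0x1d1f34bd8a8d919a351994acd7a7746), (nat_lit 0)⟩) (BT.leaf ⟨(nat_lit 3), (nat_lit 9), (nat_lit 8), (nat_lit 0x1d1f34bd8a8d919a351994acd7a7746), (nat_lit 0x1bbf9c63a7495979dcd9e747383e73e), (nat_lit 0)⟩)) (BT.node (nat_lit 3131) (BT.leaf ⟨(nat_lit 3), (nat_lit 9), (nat_lit 8), (nat_lit 0xf0f8d0600420a0fac530412f887824), (nat_lit 0x17aaf07b75a57b2d431c4cb3a3a8e0b),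 (nat_lit 0)⟩) (BT.leaf ⟨(nat_lit 3), (nat_lit 8), (nat_lit 9), (nat_lit 0x17aaf07b75a57b2d431c4cb3a3a8e0b), (nat_lit 0xf0f8d0600420a0fac530412f887824), (nat_lit 0)⟩))) (BT.node (nat_lit 3134) (BT.node (nat_lit 3133) (BT.leaf ⟨(nat_lit 3), (nat_lit 9), (nat_lit 9), (nat_lit 0x17fd1ca9989b4d1dcab16d9d46c1eb9), (nat_lit 0x6566f041b501022021fe0dad219940), (nat_lit 0)⟩) (BT.leaf ⟨(nat_lit 3), (nat_lit 9), (nat_lit 9), (nat_lit 0xaf50273e2577b02249a2080912d805), (nat_lit 0x3b6473137496c6a5cde97d27b60e9e), (nat_lit 0)⟩)) (BT.node (nat_lit 3135) (BT.leaf ⟨(nat_lit 3), (nat_lit 9), (nat_lit 9), (nat_lit 0x2af07853bb1ec14732411d39f5808), (nat_lit 0x8237e008e9d1ec93f32014775f5f85), (nat_lit 0)⟩) (BT.leaf ⟨(nat_lit 3), (nat_lit 9), (nat_lit 9), (nat_lit 0x151900d8dd3cf55084f4ce6c002fa08), (nat_lit 0x48346ff41ab679afbb930040017904), (nat_lit 0)⟩)))))))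
noncomputable def cP3072 : BT Pf := (BT.node (nat_lit 3104) (BT.node (nat_lit 3088) (BT.node (nat_lit 3080) (BT.node (nat_lit 3076) (BT.node (nat_lit 3074) (BT.node (nat_lit 3073) (BT.leaf (.rel (nat_lit 1789) (nat_lit 2) [(nat_lit 266), (nat_lit 1091)] [⟨(nat_lit 1071), [(nat_lit 935)], [(nat_lit 582), (nat_lit 808)]⟩, ⟨(nat_lit 3012), [(nat_lit 775)], [(nat_lit 1027), (nat_lit 606)]⟩])) (BT.leaf (.inv (nat_lit 3072)))) (BT.node (nat_lit 3075) (BT.leaf (.rel (nat_lit 1074) (nat_lit 5) [(nat_lit 469), (nat_lit 1123)] [⟨(nat_lit 1196), [(nat_lit 775)], [(nat_lit 19), (nat_lit 717)]⟩, ⟨(nat_lit 2193), [(nat_lit 775)], [(nat_lit 164), (nat_lit 1583)]⟩])) (BT.leaf (.inv (nat_lit 3074))))) (BT.node (nat_lit 3078) (BT.node (nat_lit 3077) (BT.leaf (.rel (nat_lit 2662) (nat_lit 5) [(nat_lit 734), (nat_lit 572)] [⟨(nat_lit 2806), [(nat_lit 775)], [(nat_lit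 284), (nat_lit 875)]⟩, ⟨(nat_lit 2784), [(nat_lit 2237)], [(nat_lit 493), (nat_lit 740)]⟩])) (BT.leaf (.inv (nat_lit 3076)))) (BT.node (nat_lit 3079) (BT.leaf (.rel (nat_lit 965) (nat_lit 3) [(nat_lit 153), (nat_lit 1017)] [⟨(nat_lit 1799), [(nat_lit 775)], [(nat_lit 192), (nat_lit 375)]⟩, ⟨(nat_lit 2580), [(nat_lit 775)], [(nat_lit 1308), (nat_lit 777)]⟩])) (BT.leaf (.inv (nat_lit 3078)))))) (BT.node (nat_lit 3084) (BT.node (nat_lit 3082) (BT.node (nat_lit 3081) (BT.leaf (.rel (nat_lit 2796) (nat_lit 3) [(nat_lit 461), (nat_lit 506)] [⟨(nat_lit 2887), [(nat_lit 2549)], [(nat_lit 130), (nat_lit 936)]⟩, ⟨(nat_lit 3022), [(nat_lit 935)], [(nat_lit 402), (nat_lit 597)]⟩])) (BT.leaf (.inv (nat_lit 3080)))) (BT.node (nat_lit 3083) (BT.leaf (.rel (nat_lit 2712) (nat_lit 3) [(nat_lit 469), (nat_lit 89)] [⟨(nat_lit 1016), [], [(nat_lit 360), (nat_lit 334)]⟩,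 ⟨(nat_lit 1523), [(nat_lit 935)], [(nat_lit 153), (nat_lit 108)]⟩])) (BT.leaf (.inv (nat_lit 3082))))) (BT.node (nat_lit 3086) (BT.node (nat_lit 3085) (BT.leaf (.rel (nat_lit 2994) (nat_lit 1) [(nat_lit 176), (nat_lit 320)] [⟨(nat_lit 2342), [(nat_lit 935)], [(nat_lit 152), (nat_lit 555)]⟩])) (BT.leaf (.inv (nat_lit 3084)))) (BT.node (nat_lit 3087) (BT.leaf (.rel (nat_lit 1215) (nat_lit 4) [(nat_lit 1087), (nat_lit 1133)] [⟨(nat_lit 2026), [(nat_lit 775)], [(nat_lit 474), (nat_lit 597)]⟩, ⟨(nat_lit 2512), [(nat_lit 2524)], [(nat_lit 568), (nat_lit 625)]⟩])) (BT.leaf (.inv (nat_lit 3086))))))) (BT.node (nat_lit 3096) (BT.node (nat_lit 3092) (BT.node (nat_lit 3090) (BT.node (nat_lit 3089) (BT.leaf (.rel (nat_lit 2678) (nat_lit 3) [(nat_lit 784), (nat_lit 956)] [⟨(nat_lit 1698), [(nat_lit 935)], [(nat_lit 351), (nat_lit 1478)]⟩, ⟨(nat_lit 1601), [(nat_lit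 775)], [(nat_lit 175), (nat_lit 385)]⟩])) (BT.leaf (.inv (nat_lit 3088)))) (BT.node (nat_lit 3091) (BT.leaf (.rel (nat_lit 1427) (nat_lit 3) [(nat_lit 579), (nat_lit 173)] [⟨(nat_lit 1797), [(nat_lit 775)], [(nat_lit 424), (nat_lit 982)]⟩, ⟨(nat_lit 2293), [(nat_lit 775)], [(nat_lit 539), (nat_lit 808)]⟩])) (BT.leaf (.inv (nat_lit 3090))))) (BT.node (nat_lit 3094) (BT.node (nat_lit 3093) (BT.leaf (.rel (nat_lit 2570) (nat_lit 5) [(nat_lit 281), (nat_lit 1109)] [⟨(nat_lit 1744), [], [(nat_lit 194), (nat_lit 236)]⟩, ⟨(nat_lit 1701), [(nat_lit 935)], [(nat_lit 503), (nat_lit 109)]⟩])) (BT.leaf (.inv (nat_lit 3092)))) (BT.node (nat_lit 3095) (BT.leaf (.rel (nat_lit 2334) (nat_lit 0) [(nat_lit 128), (nat_lit 1088)] [⟨(nat_lit 1205), [(nat_lit 775)], [(nat_lit 747), (nat_lit 717)]⟩])) (BT.leaf (.inv (nat_lit 3094)))))) (BT.node (nat_lit 3100) (BT.node (nat_lit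 3098) (BT.node (nat_lit 3097) (BT.leaf (.rel (nat_lit 2978) (nat_lit 3) [(nat_lit 462), (nat_lit 369)] [⟨(nat_lit 1251), [], [(nat_lit 241), (nat_lit 1088)]⟩, ⟨(nat_lit 2531), [], [(nat_lit 1126), (nat_lit 190)]⟩])) (BT.leaf (.inv (nat_lit 3096)))) (BT.node (nat_lit 3099) (BT.leaf (.rel (nat_lit 2466) (nat_lit 1) [(nat_lit 734), (nat_lit 141)] [⟨(nat_lit 2465), [(nat_lit 838)], [(nat_lit 865), (nat_lit 1025)]⟩])) (BT.leaf (.rel (nat_lit 2673) (nat_lit 1) [(nat_lit 511), (nat_lit 808)] [⟨(nat_lit 1047), [(nat_lit 775)], [(nat_lit 450), (nat_lit 785)]⟩])))) (BT.node (nat_lit 3102) (BT.node (nat_lit 3101) (BT.leaf (.inv (nat_lit 3099))) (BT.leaf (.rel (nat_lit 2989) (nat_lit 2) [(nat_lit 1242), (nat_lit 736)] [⟨(nat_lit 3046), [], [(nat_lit 267), (nat_lit 624)]⟩, ⟨(nat_lit 2263), [(nat_lit 775)], [(nat_lit 321), (nat_lit 736)]⟩]))) (BT.node (nat_lit 3103)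 (BT.leaf (.rel (nat_lit 1541) (nat_lit 2) [(nat_lit 507), (nat_lit 580)] [⟨(nat_lit 2416), [(nat_lit 775)], [(nat_lit 941), (nat_lit 1939)]⟩, ⟨(nat_lit 2614), [(nat_lit 2549)], [(nat_lit 335), (nat_lit 736)]⟩])) (BT.leaf (.inv (nat_lit 3102)))))))) (BT.node (nat_lit 3120) (BT.node (nat_lit 3112) (BT.node (nat_lit 3108) (BT.node (nat_lit 3106) (BT.node (nat_lit 3105) (BT.leaf (.rel (nat_lit 2106) (nat_lit 4) [(nat_lit 167), (nat_lit 778)] [⟨(nat_lit 617), [(nat_lit 329)], [(nat_lit 943), (nat_lit 400)]⟩, ⟨(nat_lit 2190), [(nat_lit 1966)], [(nat_lit 197), (nat_lit 140)]⟩])) (BT.leaf (.inv (nat_lit 3104)))) (BT.node (nat_lit 3107) (BT.leaf (.rel (nat_lit 2734) (nat_lit 4) [(nat_lit 284), (nat_lit 596)] [⟨(nat_lit 2770), [(nat_lit 2357)], [(nat_lit 93), (nat_lit 936)]⟩, ⟨(nat_lit 2915), [(nat_lit 2167)], [(nat_lit 416), (nat_lit 205)]⟩])) (BT.leaf (.rel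 (nat_lit 2648) (nat_lit 3) [(nat_lit 447), (nat_lit 652)] [⟨(nat_lit 1553), [(nat_lit 775)], [(nat_lit 570), (nat_lit 578)]⟩, ⟨(nat_lit 2475), [(nat_lit 775)], [(nat_lit 428), (nat_lit 107)]⟩])))) (BT.node (nat_lit 3110) (BT.node (nat_lit 3109) (BT.leaf (.inv (nat_lit 3107))) (BT.leaf (.rel (nat_lit 2983) (nat_lit 1) [(nat_lit 761), (nat_lit 578)] [⟨(nat_lit 2818), [(nat_lit 2413)], [(nat_lit 2124), (nat_lit 891)]⟩]))) (BT.node (nat_lit 3111) (BT.leaf (.inv (nat_lit 3109))) (BT.leaf (.rel (nat_lit 2701) (nat_lit 1) [(nat_lit 111), (nat_lit 455)] [⟨(nat_lit 2231), [(nat_lit 775)], [(nat_lit 618), (nat_lit 486)]⟩]))))) (BT.node (nat_lit 3116) (BT.node (nat_lit 3114) (BT.node (nat_lit 3113) (BT.leaf (.rel (nat_lit 2405) (nat_lit 2) [(nat_lit 95), (nat_lit 491)] [⟨(nat_lit 1527), [(nat_lit 935)], [(nat_lit 653), (nat_lit 308)]⟩, ⟨(nat_lit 1559), [(nat_lit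 935)], [(nat_lit 349), (nat_lit 249)]⟩])) (BT.leaf (.inv (nat_lit 3112)))) (BT.node (nat_lit 3115) (BT.leaf (.rel (nat_lit 2600) (nat_lit 0) [(nat_lit 260), (nat_lit 985)] [⟨(nat_lit 2861), [(nat_lit 2167)], [(nat_lit 1092), (nat_lit 372)]⟩])) (BT.leaf (.inv (nat_lit 3114))))) (BT.node (nat_lit 3118) (BT.node (nat_lit 3117) (BT.leaf (.rel (nat_lit 2373) (nat_lit 0) [(nat_lit 741), (nat_lit 557)] [⟨(nat_lit 1157), [(nat_lit 775)], [(nat_lit 523), (nat_lit 662)]⟩])) (BT.leaf (.inv (nat_lit 3116)))) (BT.node (nat_lit 3119) (BT.leaf (.rel (nat_lit 2995) (nat_lit 4) [(nat_lit 197), (nat_lit 740)] [⟨(nat_lit 1145), [(nat_lit 775)], [(nat_lit 257), (nat_lit 367)]⟩, ⟨(nat_lit 2589), [], [(nat_lit 295), (nat_lit 247)]⟩])) (BT.leaf (.inv (nat_lit 3118))))))) (BT.node (nat_lit 3128) (BT.node (nat_lit 3124) (BT.node (nat_lit 3122) (BT.node (nat_lit 3121) (BT.leaf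 (.rel (nat_lit 3023) (nat_lit 4) [(nat_lit 321), (nat_lit 578)] [⟨(nat_lit 2602), [(nat_lit 2311)], [(nat_lit 544), (nat_lit 171)]⟩, ⟨(nat_lit 2551), [(nat_lit 775)], [(nat_lit 689), (nat_lit 1165)]⟩])) (BT.leaf (.rel (nat_lit 2173) (nat_lit 4) [(nat_lit 212), (nat_lit 585)] [⟨(nat_lit 2113), [(nat_lit 1870)], [(nat_lit 1012), (nat_lit 465)]⟩, ⟨(nat_lit 2922), [(nat_lit 2376)], [(nat_lit 1242), (nat_lit 870)]⟩]))) (BT.node (nat_lit 3123) (BT.leaf (.rel (nat_lit 3117) (nat_lit 2) [(nat_lit 467), (nat_lit 253)] [⟨(nat_lit 2356), [(nat_lit 775)], [(nat_lit 815), (nat_lit 700)]⟩, ⟨(nat_lit 3067), [(nat_lit 2413)], [(nat_lit 991), (nat_lit 472)]⟩])) (BT.leaf (.inv (nat_lit 3122))))) (BT.node (nat_lit 3126) (BT.node (nat_lit 3125) (BT.leaf (.rel (nat_lit 2071) (nat_lit 0) [(nat_lit 335), (nat_lit 1100)] [⟨(nat_lit 2919), [(nat_lit 935)], [(nat_lit 226),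 (nat_lit 625)]⟩])) (BT.leaf (.inv (nat_lit 3124)))) (BT.node (nat_lit 3127) (BT.leaf (.rel (nat_lit 2976) (nat_lit 5) [(nat_lit 195), (nat_lit 247)] [⟨(nat_lit 1540), [(nat_lit 935)], [(nat_lit 782), (nat_lit 1009)]⟩, ⟨(nat_lit 2838), [], [(nat_lit 212), (nat_lit 624)]⟩])) (BT.leaf (.inv (nat_lit 3126)))))) (BT.node (nat_lit 3132) (BT.node (nat_lit 3130) (BT.node (nat_lit 3129) (BT.leaf (.rel (nat_lit 3115) (nat_lit 0) [(nat_lit 174), (nat_lit 751)] [⟨(nat_lit 2072), [(nat_lit 935)], [(nat_lit 1162), (nat_lit 1376)]⟩])) (BT.leaf (.inv (nat_lit 3128)))) (BT.node (nat_lit 3131) (BT.leaf (.rel (nat_lit 2755) (nat_lit 4) [(nat_lit 527), (nat_lit 431)] [⟨(nat_lit 1953), [(nat_lit 1822)], [(nat_lit 483), (nat_lit 108)]⟩, ⟨(nat_lit 2412), [(nat_lit 935)], [(nat_lit 402), (nat_lit 459)]⟩])) (BT.leaf (.inv (nat_lit 3130))))) (BT.node (nat_lit 3134) (BT.node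 (nat_lit 3133) (BT.leaf (.rel (nat_lit 2711) (nat_lit 3) [(nat_lit 468), (nat_lit 802)] [⟨(nat_lit 2194), [(nat_lit 2413)], [(nat_lit 567), (nat_lit 206)]⟩, ⟨(nat_lit 2276), [], [(nat_lit 942), (nat_lit 88)]⟩])) (BT.leaf (.rel (nat_lit 2966) (nat_lit 2) [(nat_lit 261), (nat_lit 191)] [⟨(nat_lit 2132), [(nat_lit 2259)], [(nat_lit 1162), (nat_lit 127)]⟩, ⟨(nat_lit 2275), [], [(nat_lit 196), (nat_lit 1376)]⟩]))) (BT.node (nat_lit 3135) (BT.leaf (.rel (nat_lit 2253) (nat_lit 3) [(nat_lit 250), (nat_lit 504)] [⟨(nat_lit 2101), [(nat_lit 935)], [(nat_lit 1103), (nat_lit 778)]⟩, ⟨(nat_lit 2365), [(nat_lit 2223)], [(nat_lit 129), (nat_lit 191)]⟩])) (BT.leaf (.rel (nat_lit 2722) (nat_lit 4) [(nat_lit 266), (nat_lit 736)] [⟨(nat_lit 2200), [], [(nat_lit 520), (nat_lit 875)]⟩, ⟨(nat_lit 2383), [(nat_lit 775)], [(nat_lit 357), (nat_lit 169)]⟩]))))))))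
noncomputable def cF3136 : BT Fc := (BT.node (nat_lit 3168) (BT.node (nat_lit 3152) (BT.node (nat_lit 3144) (BT.node (nat_lit 3140) (BT.node (nat_lit 3138) (BT.node (nat_lit 3137) (BT.leaf ⟨(nat_lit 3), (nat_lit 9), (nat_lit 9), (nat_lit 0xb7d2fa5bcbf8b0734ab49fb04de25d), (nat_lit 0x169b2c36c715bbf908faa96655eae93), (nat_lit 0)⟩) (BT.leaf ⟨(nat_lit 3), (nat_lit 3), (nat_lit 9), (nat_lit 0x1d454cecac4fae4ad2b81ccbe55ed83), (nat_lit 0x15723bf908e70ce31c71692ff8cde2c), (nat_lit 0)⟩)) (BT.node (nat_lit 3139) (BT.leaf ⟨(nat_lit 3), (nat_lit 9), (nat_lit 3), (nat_lit 0x15723bf908e70ce31c71692ff8cde2c), (nat_lit 0x1d454cecac4fae4ad2b81ccbe55ed83), (nat_lit 0)⟩) (BT.leaf ⟨(nat_lit 3), (nat_lit 9), (nat_lit 9), (nat_lit 0x8810058d402c0197a04a74820f1e00), (nat_lit 0xd259ac7bd951c6d30edab91c839c73), (nat_lit 0)⟩))) (BT.node (nat_lit 3142) (BT.node (nat_lit 3141)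 (BT.leaf ⟨(nat_lit 3), (nat_lit 9), (nat_lit 9), (nat_lit 0x1ee96fc1e10430240080f8c6bc424f3), (nat_lit 0x15956fec14ba6f31625fa329fd2f65f), (nat_lit 0)⟩) (BT.leaf ⟨(nat_lit 3), (nat_lit 7), (nat_lit 9), (nat_lit 0x1960caf21baa7547d0d5dde752d33d5), (nat_lit 0xb4b8d33ae541f31d615e7dcca6ceef), (nat_lit 0)⟩)) (BT.node (nat_lit 3143) (BT.leaf ⟨(nat_lit 3), (nat_lit 9), (nat_lit 7), (nat_lit 0xb4b8d33ae541f31d615e7dcca6ceef), (nat_lit 0x1960caf21baa7547d0d5dde752d33d5), (nat_lit 0)⟩) (BT.leaf ⟨(nat_lit 3), (nat_lit 9), (nat_lit 9), (nat_lit 0x126acf77d97ce9076b1313c5db60e9e), (nat_lit 0x1ce37b0220051c4415ea01440a4e2bb), (nat_lit 0)⟩)))) (BT.node (nat_lit 3148) (BT.node (nat_lit 3146) (BT.node (nat_lit 3145) (BT.leaf ⟨(nat_lit 3), (nat_lit 9), (nat_lit 9), (nat_lit 0x1ce37b0220051c4415ea01440a4e2bb), (nat_lit 0x126acf77d97ce9076b1313c5db60e9e), (nat_lit 0)⟩)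 (BT.leaf ⟨(nat_lit 3), (nat_lit 9), (nat_lit 9), (nat_lit 0x200106f4003002f473a0211ce4f3e3), (nat_lit 0x110021140088301d1a405f287fe6da8), (nat_lit 0)⟩)) (BT.node (nat_lit 3147) (BT.leaf ⟨(nat_lit 3), (nat_lit 9), (nat_lit 9), (nat_lit 0x15969d7ba69273b9f615e35cab9df38), (nat_lit 0x137be6f7ad6830120060746106d416f), (nat_lit 0)⟩) (BT.leaf ⟨(nat_lit 3), (nat_lit 9), (nat_lit 9), (nat_lit 0x137be6f7ad6830120060746106d416f), (nat_lit 0x15969d7ba69273b9f615e35cab9df38), (nat_lit 0)⟩))) (BT.node (nat_lit 3150) (BT.node (nat_lit 3149) (BT.leaf ⟨(nat_lit 3), (nat_lit 9), (nat_lit 7), (nat_lit 0x1402201e8901006eac00fc7043002f4), (nat_lit 0x1cfab2e15e65cef77e3aef473b9c2d2), (nat_lit 0)⟩) (BT.leaf ⟨(nat_lit 3), (nat_lit 7), (nat_lit 9), (nat_lit 0x1cfab2e15e65cef77e3aef473b9c2d2), (nat_lit 0x1402201e8901006eac00fc7043002f4), (nat_lit 0)⟩)) (BT.node (nat_lit 3151)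 (BT.leaf ⟨(nat_lit 3), (nat_lit 8), (nat_lit 9), (nat_lit 0x1006044203d12019d404c0197d7a09e), (nat_lit 0x716eaf21ddf52dc543db4c75cfa8fa), (nat_lit 0)⟩) (BT.leaf ⟨(nat_lit 3), (nat_lit 9), (nat_lit 8), (nat_lit 0x716eaf21ddf52dc543db4c75cfa8fa), (nat_lit 0x1006044203d12019d404c0197d7a09e), (nat_lit 0)⟩))))) (BT.node (nat_lit 3160) (BT.node (nat_lit 3156) (BT.node (nat_lit 3154) (BT.node (nat_lit 3153) (BT.leaf ⟨(nat_lit 3), (nat_lit 9), (nat_lit 9), (nat_lit 0x1365d233a0f95956973be342dfbd615), (nat_lit 0xb8c84573c8c60274110240354a002f), (nat_lit 0)⟩) (BT.leaf ⟨(nat_lit 3), (nat_lit 9), (nat_lit 9), (nat_lit 0x1b5010f1a4407d4113c31409fee4120), (nat_lit 0x1d9810f1a3ea883d69200489fc103c3), (nat_lit 0)⟩)) (BT.node (nat_lit 3155) (BT.leaf ⟨(nat_lit 3), (nat_lit 9), (nat_lit 9), (nat_lit 0x100125f400ae48012f7c62002073a), (nat_lit 0xa1f7b44d9e92af6a26ad699d28befc),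 (nat_lit 0)⟩) (BT.leaf ⟨(nat_lit 3), (nat_lit 9), (nat_lit 9), (nat_lit 0x1bd6f4901007005f125e00a4bb9dc72), (nat_lit 0xaec7353489bae51cab157aa67650b9), (nat_lit 0)⟩))) (BT.node (nat_lit 3158) (BT.node (nat_lit 3157) (BT.leaf ⟨(nat_lit 3), (nat_lit 9), (nat_lit 9), (nat_lit 0x1ce096c9c006109f0a0200d7a8ebf44), (nat_lit 0x1d3bb33d866bc1a52d4668cabb49f44), (nat_lit 0)⟩) (BT.leaf ⟨(nat_lit 3), (nat_lit 8), (nat_lit 8), (nat_lit 0x1a37c6534d44e3786fad4cac4cbcc6e), (nat_lit 0x1e17cef89d45749ff7adf1e2dcbcc6e), (nat_lit 0)⟩)) (BT.node (nat_lit 3159) (BT.leaf ⟨(nat_lit 3), (nat_lit 9), (nat_lit 9), (nat_lit 0xfac04efc3ba02814408bc049c2400c), (nat_lit 0xe2b1627f379b052785f6e14672fa5b), (nat_lit 0)⟩) (BT.leaf ⟨(nat_lit 3), (nat_lit 9), (nat_lit 9), (nat_lit 0x11cc40200008f8f9d001bd04020025f), (nat_lit 0xffb86d8dba5a8bd6b8d4cbf37c6789), (nat_lit 0)⟩)))) (BT.node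 (nat_lit 3164) (BT.node (nat_lit 3162) (BT.node (nat_lit 3161) (BT.leaf ⟨(nat_lit 3), (nat_lit 9), (nat_lit 9), (nat_lit 0x1139f01425601378084f12093a15ec), (nat_lit 0x1367c83e1efad8d719bc7e6fadf1ba3), (nat_lit 0)⟩) (BT.leaf ⟨(nat_lit 3), (nat_lit 9), (nat_lit 9), (nat_lit 0x17b01225b208110420044080337849a), (nat_lit 0x1edd3fa5b6be95f2fa5f4ba87e55ec1), (nat_lit 0)⟩)) (BT.node (nat_lit 3163) (BT.leaf ⟨(nat_lit 3), (nat_lit 9), (nat_lit 7), (nat_lit 0x1eeab4363ce821040082472280aa9af), (nat_lit 0x408806462033a2802e3d1a4231d140), (nat_lit 0)⟩) (BT.leaf ⟨(nat_lit 3), (nat_lit 7), (nat_lit 9), (nat_lit 0x408806462033a2802e3d1a4231d140), (nat_lit 0x1eeab4363ce821040082472280aa9af), (nat_lit 0)⟩))) (BT.node (nat_lit 3166) (BT.node (nat_lit 3165) (BT.leaf ⟨(nat_lit 3), (nat_lit 9), (nat_lit 9), (nat_lit 0x17b2f55f83d16a2f47e8c173a2e45e9), (nat_lit 0x601af940221fd2741025c6356cf300),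 (nat_lit 0)⟩) (BT.leaf ⟨(nat_lit 3), (nat_lit 9), (nat_lit 9), (nat_lit 0x601af940221fd2741025c6356cf300), (nat_lit 0x17b2f55f83d16a2f47e8c173a2e45e9), (nat_lit 0)⟩)) (BT.node (nat_lit 3167) (BT.leaf ⟨(nat_lit 3), (nat_lit 9), (nat_lit 9), (nat_lit 0x3b6cf49c2ec9abbeb1391d27e5f496), (nat_lit 0x1080305c8045b538d2200480865f10f), (nat_lit 0)⟩) (BT.leaf ⟨(nat_lit 3), (nat_lit 9), (nat_lit 9), (nat_lit 0x6bc480821002233a363472280aafba), (nat_lit 0x3e91b1953ab52eeaeef3a2557499dd), (nat_lit 0)⟩)))))) (BT.node (nat_lit 3184) (BT.node (nat_lit 3176) (BT.node (nat_lit 3172) (BT.node (nat_lit 3170) (BT.node (nat_lit 3169) (BT.leaf ⟨(nat_lit 3), (nat_lit 9), (nat_lit 9), (nat_lit 0x13669d3a439dccac1b49675ceab2f3e), (nat_lit 0x1854e7732a74e93dd72ae77ceb9f565), (nat_lit 0)⟩) (BT.leaf ⟨(nat_lit 3), (nat_lit 9), (nat_lit 9), (nat_lit 0x1088125de88f840180a57601896ef6),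 (nat_lit 0xfacee80ce9c120840280120624b732), (nat_lit 0)⟩)) (BT.node (nat_lit 3171) (BT.leaf ⟨(nat_lit 3), (nat_lit 9), (nat_lit 9), (nat_lit 0x12af609bcc5817d27a574b6979c5519), (nat_lit 0xc4cbb48ed8352e4b69e93f269d259e), (nat_lit 0)⟩) (BT.leaf ⟨(nat_lit 3), (nat_lit 9), (nat_lit 9), (nat_lit 0x1d083e766f8d297a31b268d7ffa274e), (nat_lit 0x1e2751785e1ba36c6f8f71b4d0bcfad), (nat_lit 0)⟩))) (BT.node (nat_lit 3174) (BT.node (nat_lit 3173) (BT.leaf ⟨(nat_lit 3), (nat_lit 9), (nat_lit 9), (nat_lit 0x1d1df100501200e395e9e77e3100c9f), (nat_lit 0x1a4d1b6581f569aeac3d32a715ea9dd), (nat_lit 0)⟩) (BT.leaf ⟨(nat_lit 3), (nat_lit 9), (nat_lit 9), (nat_lit 0x78f4f3d5420cbd046734022e69d600), (nat_lit 0x1102085d58087a17a33a71a1ce4065f), (nat_lit 0)⟩)) (BT.node (nat_lit 3175) (BT.leaf ⟨(nat_lit 3), (nat_lit 9), (nat_lit 9), (nat_lit 0x17d10202411636a30b9d3c8127a53a),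 (nat_lit 0xe286ae933bb0f4ebb6c1f4744eaeef), (nat_lit 0)⟩) (BT.leaf ⟨(nat_lit 3), (nat_lit 5), (nat_lit 5), (nat_lit 0x1b297cb6cb0789d54d341ccaed4cab8), (nat_lit 0x48346910fe8ee580108b3d400820d5), (nat_lit 0)⟩)))) (BT.node (nat_lit 3180) (BT.node (nat_lit 3178) (BT.node (nat_lit 3177) (BT.leaf ⟨(nat_lit 3), (nat_lit 3), (nat_lit 10), (nat_lit 0x4b77b74420404b9c00608475df080a), (nat_lit 0x1001001001001001001001001001001), (nat_lit 0)⟩) (BT.leaf ⟨(nat_lit 2), (nat_lit 10), (nat_lit 10), (nat_lit 0xff865f85e1bf363779dd1be24bcd34), (nat_lit 0), (nat_lit 0)⟩)) (BT.node (nat_lit 3179) (BT.leaf ⟨(nat_lit 3), (nat_lit 10), (nat_lit 3), (nat_lit 0x1001001001001001001001001001001), (nat_lit 0x4b77b74420404b9c00608475df080a), (nat_lit 0)⟩) (BT.leaf ⟨(nat_lit 2), (nat_lit 10), (nat_lit 10), (nat_lit 0x17fc65ca5f8dc1ba7756ecdd0b49b35), (nat_lit 0), (nat_lit 0)⟩)))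 (BT.node (nat_lit 3182) (BT.node (nat_lit 3181) (BT.leaf ⟨(nat_lit 3), (nat_lit 10), (nat_lit 7), (nat_lit 0x18e9a4f3a0f9cf8e7615e77ce3956ef), (nat_lit 0x1d5a08110f3a0c127ee4e54140e2818), (nat_lit 0)⟩) (BT.leaf ⟨(nat_lit 3), (nat_lit 7), (nat_lit 10), (nat_lit 0x1d5a08110f3a0c127ee4e54140e2818), (nat_lit 0x18e9a4f3a0f9cf8e7615e77ce3956ef), (nat_lit 0)⟩)) (BT.node (nat_lit 3183) (BT.leaf ⟨(nat_lit 3), (nat_lit 9), (nat_lit 10), (nat_lit 0x12af7b1cedf99d3eda87a2e5e5356f5), (nat_lit 0x1d9ba27477b0abb34f4ee84d1b235ff), (nat_lit 0)⟩) (BT.leaf ⟨(nat_lit 3), (nat_lit 10), (nat_lit 9), (nat_lit 0x1d9ba27477b0abb34f4ee84d1b235ff), (nat_lit 0x12af7b1cedf99d3eda87a2e5e5356f5), (nat_lit 0)⟩))))) (BT.node (nat_lit 3192) (BT.node (nat_lit 3188) (BT.node (nat_lit 3186) (BT.node (nat_lit 3185) (BT.leaf ⟨(nat_lit 3), (nat_lit 10), (nat_lit 7), (nat_lit 0xf85010428e240af578f80400c41006),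 (nat_lit 0x1e3e4e00a40440af5744084aec11003), (nat_lit 0)⟩) (BT.leaf ⟨(nat_lit 3), (nat_lit 7), (nat_lit 10), (nat_lit 0x1e3e4e00a40440af5744084aec11003), (nat_lit 0xf85010428e240af578f80400c41006), (nat_lit 0)⟩)) (BT.node (nat_lit 3187) (BT.leaf ⟨(nat_lit 3), (nat_lit 7), (nat_lit 10), (nat_lit 0x17b0f44c7b51d4674568bd05d98e5c8), (nat_lit 0x78fbe9bc7c2e8fc83e28dd295f3fe3), (nat_lit 0)⟩) (BT.leaf ⟨(nat_lit 3), (nat_lit 10), (nat_lit 7), (nat_lit 0x78fbe9bc7c2e8fc83e28dd295f3fe3), (nat_lit 0x17b0f44c7b51d4674568bd05d98e5c8), (nat_lit 0)⟩))) (BT.node (nat_lit 3190) (BT.node (nat_lit 3189) (BT.leaf ⟨(nat_lit 3), (nat_lit 3), (nat_lit 10), (nat_lit 0x17a90104280527001022f1fd1001882), (nat_lit 0x75ceeda6cb0754e29f56d90f4e8a36), (nat_lit 0)⟩) (BT.leaf ⟨(nat_lit 3), (nat_lit 10), (nat_lit 3), (nat_lit 0x75ceeda6cb0754e29f56d90f4e8a36), (nat_lit 0x17a90104280527001022f1fd1001882),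 (nat_lit 0)⟩)) (BT.node (nat_lit 3191) (BT.leaf ⟨(nat_lit 3), (nat_lit 3), (nat_lit 10), (nat_lit 0x17a90104280527001022f1fd1001882), (nat_lit 0x75ceeda6cb0754e29f56d90f4e8a36), (nat_lit 0)⟩) (BT.leaf ⟨(nat_lit 2), (nat_lit 10), (nat_lit 10), (nat_lit 0x1eb6e42200c00c14c824ecc28090420), (nat_lit 0), (nat_lit 0)⟩)))) (BT.node (nat_lit 3196) (BT.node (nat_lit 3194) (BT.node (nat_lit 3193) (BT.leaf ⟨(nat_lit 3), (nat_lit 7), (nat_lit 10), (nat_lit 0xd7c84102208c0090500fe8400c0646), (nat_lit 0xbd2eab3a802e362009e80500297c08), (nat_lit 0)⟩) (BT.leaf ⟨(nat_lit 3), (nat_lit 10), (nat_lit 7), (nat_lit 0xbd2eab3a802e362009e80500297c08), (nat_lit 0xd7c84102208c0090500fe8400c0646), (nat_lit 0)⟩)) (BT.node (nat_lit 3195) (BT.leaf ⟨(nat_lit 3), (nat_lit 7), (nat_lit 10), (nat_lit 0xd7c84102208c0090500fe8400c0646), (nat_lit 0xbd2eab3a802e362009e80500297c08), (nat_lit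 0)⟩) (BT.leaf ⟨(nat_lit 2), (nat_lit 10), (nat_lit 10), (nat_lit 0x1022802f4a5f0420033a8412035c873), (nat_lit 0), (nat_lit 0)⟩))) (BT.node (nat_lit 3198) (BT.node (nat_lit 3197) (BT.leaf ⟨(nat_lit 3), (nat_lit 9), (nat_lit 10), (nat_lit 0xc4e9a3fecb11b865f85b1ba345bf0d), (nat_lit 0x127313e9e93c9aa5f77d92cc4ed8c9a), (nat_lit 0)⟩) (BT.leaf ⟨(nat_lit 3), (nat_lit 10), (nat_lit 9), (nat_lit 0x127313e9e93c9aa5f77d92cc4ed8c9a), (nat_lit 0xc4e9a3fecb11b865f85b1ba345bf0d), (nat_lit 0)⟩)) (BT.node (nat_lit 3199) (BT.leaf ⟨(nat_lit 3), (nat_lit 8), (nat_lit 10), (nat_lit 0xb7d278e6a3297e55a5d4bcd7f60dd2), (nat_lit 0x49e97cc727f573511af1f443c9692b), (nat_lit 0)⟩) (BT.leaf ⟨(nat_lit 3), (nat_lit 10), (nat_lit 8), (nat_lit 0x49e97cc727f573511af1f443c9692b), (nat_lit 0xb7d278e6a3297e55a5d4bcd7f60dd2), (nat_lit 0)⟩)))))))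
noncomputable def cP3136 : BT Pf := (BT.node (nat_lit 3168) (BT.node (nat_lit 3152) (BT.node (nat_lit 3144) (BT.node (nat_lit 3140) (BT.node (nat_lit 3138) (BT.node (nat_lit 3137) (BT.leaf (.rel (nat_lit 2182) (nat_lit 0) [(nat_lit 913), (nat_lit 710)] [⟨(nat_lit 2641), [(nat_lit 935)], [(nat_lit 212), (nat_lit 681)]⟩])) (BT.leaf (.rel (nat_lit 2788) (nat_lit 3) [(nat_lit 1308), (nat_lit 1472)] [⟨(nat_lit 1474), [(nat_lit 775)], [(nat_lit 826), (nat_lit 333)]⟩, ⟨(nat_lit 1052), [(nat_lit 935)], [(nat_lit 915), (nat_lit 1537)]⟩]))) (BT.node (nat_lit 3139) (BT.leaf (.inv (nat_lit 3137))) (BT.leaf (.rel (nat_lit 2873) (nat_lit 4) [(nat_lit 336), (nat_lit 205)] [⟨(nat_lit 2518), [(nat_lit 2413)], [(nat_lit 150), (nat_lit 1001)]⟩, ⟨(nat_lit 2625), [(nat_lit 935)], [(nat_lit 544), (nat_lit 279)]⟩])))) (BT.node (nat_lit 3142) (BT.node (nat_lit 3141) (BT.leaf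 (.rel (nat_lit 2715) (nat_lit 3) [(nat_lit 321), (nat_lit 1204)] [⟨(nat_lit 2576), [], [(nat_lit 282), (nat_lit 293)]⟩, ⟨(nat_lit 3071), [], [(nat_lit 447), (nat_lit 347)]⟩])) (BT.leaf (.rel (nat_lit 3084) (nat_lit 0) [(nat_lit 387), (nat_lit 172)] [⟨(nat_lit 2369), [(nat_lit 2413)], [(nat_lit 152), (nat_lit 438)]⟩]))) (BT.node (nat_lit 3143) (BT.leaf (.inv (nat_lit 3141))) (BT.leaf (.rel (nat_lit 2403) (nat_lit 3) [(nat_lit 1014), (nat_lit 874)] [⟨(nat_lit 2871), [(nat_lit 2258)], [(nat_lit 675), (nat_lit 628)]⟩, ⟨(nat_lit 2987), [(nat_lit 2167)], [(nat_lit 508), (nat_lit 109)]⟩]))))) (BT.node (nat_lit 3148) (BT.node (nat_lit 3146) (BT.node (nat_lit 3145) (BT.leaf (.inv (nat_lit 3143))) (BT.leaf (.rel (nat_lit 2912) (nat_lit 4) [(nat_lit 763), (nat_lit 802)] [⟨(nat_lit 3020), [(nat_lit 2549)], [(nat_lit 1201), (nat_lit 533)]⟩, ⟨(nat_lit 2455), [(nat_lit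 775)], [(nat_lit 299), (nat_lit 1018)]⟩]))) (BT.node (nat_lit 3147) (BT.leaf (.rel (nat_lit 2600) (nat_lit 2) [(nat_lit 267), (nat_lit 234)] [⟨(nat_lit 3113), [(nat_lit 2311)], [(nat_lit 295), (nat_lit 532)]⟩, ⟨(nat_lit 3019), [(nat_lit 935)], [(nat_lit 1195), (nat_lit 460)]⟩])) (BT.leaf (.inv (nat_lit 3146))))) (BT.node (nat_lit 3150) (BT.node (nat_lit 3149) (BT.leaf (.rel (nat_lit 2141) (nat_lit 5) [(nat_lit 473), (nat_lit 864)] [⟨(nat_lit 2048), [(nat_lit 1822)], [(nat_lit 1257), (nat_lit 290)]⟩, ⟨(nat_lit 2824), [], [(nat_lit 261), (nat_lit 814)]⟩])) (BT.leaf (.inv (nat_lit 3148)))) (BT.node (nat_lit 3151) (BT.leaf (.rel (nat_lit 2309) (nat_lit 5) [(nat_lit 784), (nat_lit 605)] [⟨(nat_lit 1125), [(nat_lit 935)], [(nat_lit 392), (nat_lit 202)]⟩, ⟨(nat_lit 2062), [(nat_lit 775)], [(nat_lit 284), (nat_lit 586)]⟩])) (BT.leaf (.inv (nat_lit 3150)))))))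 (BT.node (nat_lit 3160) (BT.node (nat_lit 3156) (BT.node (nat_lit 3154) (BT.node (nat_lit 3153) (BT.leaf (.rel (nat_lit 2513) (nat_lit 0) [(nat_lit 381), (nat_lit 109)] [⟨(nat_lit 2512), [(nat_lit 2181)], [(nat_lit 380), (nat_lit 1279)]⟩])) (BT.leaf (.rel (nat_lit 2557) (nat_lit 1) [(nat_lit 282), (nat_lit 248)] [⟨(nat_lit 2556), [(nat_lit 2210)], [(nat_lit 618), (nat_lit 738)]⟩]))) (BT.node (nat_lit 3155) (BT.leaf (.rel (nat_lit 2989) (nat_lit 0) [(nat_lit 380), (nat_lit 1329)] [⟨(nat_lit 3122), [], [(nat_lit 825), (nat_lit 1)]⟩])) (BT.leaf (.rel (nat_lit 2834) (nat_lit 5) [(nat_lit 358), (nat_lit 875)] [⟨(nat_lit 2737), [(nat_lit 2237)], [(nat_lit 1092), (nat_lit 265)]⟩, ⟨(nat_lit 2923), [(nat_lit 2549)], [(nat_lit 177), (nat_lit 1376)]⟩])))) (BT.node (nat_lit 3158) (BT.node (nat_lit 3157) (BT.leaf (.rel (nat_lit 2570) (nat_lit 1) [(nat_lit 97),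 (nat_lit 532)] [⟨(nat_lit 2327), [(nat_lit 775)], [(nat_lit 1027), (nat_lit 584)]⟩])) (BT.leaf (.rel (nat_lit 1857) (nat_lit 0) [(nat_lit 786), (nat_lit 500)] [⟨(nat_lit 1857), [(nat_lit 1846)], [(nat_lit 575), (nat_lit 438)]⟩]))) (BT.node (nat_lit 3159) (BT.leaf (.rel (nat_lit 2591) (nat_lit 5) [(nat_lit 266), (nat_lit 1088)] [⟨(nat_lit 1766), [], [(nat_lit 364), (nat_lit 288)]⟩, ⟨(nat_lit 2684), [(nat_lit 935)], [(nat_lit 376), (nat_lit 712)]⟩])) (BT.leaf (.rel (nat_lit 2660) (nat_lit 1) [(nat_lit 292), (nat_lit 974)] [⟨(nat_lit 2820), [(nat_lit 775)], [(nat_lit 226), (nat_lit 279)]⟩]))))) (BT.node (nat_lit 3164) (BT.node (nat_lit 3162) (BT.node (nat_lit 3161) (BT.leaf (.rel (nat_lit 2391) (nat_lit 1) [(nat_lit 527), (nat_lit 224)] [⟨(nat_lit 2603), [(nat_lit 775)], [(nat_lit 1175), (nat_lit 368)]⟩])) (BT.leaf (.rel (nat_lit 2379) (nat_lit 0) [(nat_lit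 832), (nat_lit 171)] [⟨(nat_lit 2380), [(nat_lit 859)], [(nat_lit 429), (nat_lit 785)]⟩]))) (BT.node (nat_lit 3163) (BT.leaf (.rel (nat_lit 2342) (nat_lit 1) [(nat_lit 871), (nat_lit 795)] [⟨(nat_lit 2688), [(nat_lit 2311)], [(nat_lit 550), (nat_lit 822)]⟩])) (BT.leaf (.inv (nat_lit 3162))))) (BT.node (nat_lit 3166) (BT.node (nat_lit 3165) (BT.leaf (.rel (nat_lit 2185) (nat_lit 1) [(nat_lit 351), (nat_lit 662)] [⟨(nat_lit 3081), [], [(nat_lit 508), (nat_lit 191)]⟩])) (BT.leaf (.inv (nat_lit 3164)))) (BT.node (nat_lit 3167) (BT.leaf (.rel (nat_lit 2736) (nat_lit 4) [(nat_lit 474), (nat_lit 870)] [⟨(nat_lit 3013), [(nat_lit 2311)], [(nat_lit 150), (nat_lit 126)]⟩, ⟨(nat_lit 3073), [], [(nat_lit 630), (nat_lit 891)]⟩])) (BT.leaf (.rel (nat_lit 2443) (nat_lit 2) [(nat_lit 239), (nat_lit 89)] [⟨(nat_lit 1317), [(nat_lit 935)], [(nat_lit 883), (nat_lit 490)]⟩,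 ⟨(nat_lit 2449), [], [(nat_lit 520), (nat_lit 864)]⟩]))))))) (BT.node (nat_lit 3184) (BT.node (nat_lit 3176) (BT.node (nat_lit 3172) (BT.node (nat_lit 3170) (BT.node (nat_lit 3169) (BT.leaf (.rel (nat_lit 2218) (nat_lit 1) [(nat_lit 95), (nat_lit 901)] [⟨(nat_lit 2217), [(nat_lit 927)], [(nat_lit 150), (nat_lit 525)]⟩])) (BT.leaf (.rel (nat_lit 2289) (nat_lit 3) [(nat_lit 349), (nat_lit 294)] [⟨(nat_lit 1980), [(nat_lit 1846)], [(nat_lit 177), (nat_lit 330)]⟩, ⟨(nat_lit 2674), [], [(nat_lit 484), (nat_lit 566)]⟩]))) (BT.node (nat_lit 3171) (BT.leaf (.rel (nat_lit 2804) (nat_lit 0) [(nat_lit 260), (nat_lit 204)] [⟨(nat_lit 2953), [(nat_lit 1921)], [(nat_lit 1004), (nat_lit 395)]⟩])) (BT.leaf (.rel (nat_lit 3153) (nat_lit 4) [(nat_lit 733), (nat_lit 557)] [⟨(nat_lit 3101), [(nat_lit 2167)], [(nat_lit 763), (nat_lit 868)]⟩, ⟨(nat_lit 3153), [(nat_lit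 2413)], [(nat_lit 832), (nat_lit 1021)]⟩])))) (BT.node (nat_lit 3174) (BT.node (nat_lit 3173) (BT.leaf (.rel (nat_lit 2516) (nat_lit 2) [(nat_lit 216), (nat_lit 818)] [⟨(nat_lit 3160), [(nat_lit 2549)], [(nat_lit 774), (nat_lit 874)]⟩, ⟨(nat_lit 3062), [(nat_lit 2311)], [(nat_lit 364), (nat_lit 606)]⟩])) (BT.leaf (.rel (nat_lit 2671) (nat_lit 0) [(nat_lit 428), (nat_lit 1021)] [⟨(nat_lit 2249), [(nat_lit 775)], [(nat_lit 434), (nat_lit 1109)]⟩]))) (BT.node (nat_lit 3175) (BT.leaf (.rel (nat_lit 2799) (nat_lit 5) [(nat_lit 164), (nat_lit 752)] [⟨(nat_lit 3167), [], [(nat_lit 461), (nat_lit 1017)]⟩, ⟨(nat_lit 2800), [(nat_lit 2237)], [(nat_lit 551), (nat_lit 1256)]⟩])) (BT.leaf (.rel (nat_lit 1458) (nat_lit 3) [(nat_lit 784), (nat_lit 864)] [⟨(nat_lit 1119), [(nat_lit 935)], [(nat_lit 905), (nat_lit 1133)]⟩, ⟨(nat_lit 857), [(nat_lit 935)], [(nat_lit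 507), (nat_lit 682)]⟩]))))) (BT.node (nat_lit 3180) (BT.node (nat_lit 3178) (BT.node (nat_lit 3177) (BT.leaf (.dfn [(nat_lit 1), (nat_lit 3), (nat_lit 1), (nat_lit 3), (nat_lit 1), (nat_lit 3), (nat_lit 1), (nat_lit 3), (nat_lit 1), (nat_lit 4), (nat_lit 1), (nat_lit 3), (nat_lit 1), (nat_lit 3)])) (BT.leaf (.cmp (nat_lit 3176) ⟨(nat_lit 3176), [(nat_lit 703)], [(nat_lit 746), (nat_lit 684)]⟩))) (BT.node (nat_lit 3179) (BT.leaf (.inv (nat_lit 3176))) (BT.leaf (.cmp (nat_lit 3176) ⟨(nat_lit 3176), [(nat_lit 1008)], [(nat_lit 211), (nat_lit 306)]⟩)))) (BT.node (nat_lit 3182) (BT.node (nat_lit 3181) (BT.leaf (.rel (nat_lit 2183) (nat_lit 2) [(nat_lit 298), (nat_lit 1)] [⟨(nat_lit 2209), [(nat_lit 2237)], [(nat_lit 193), (nat_lit 269)]⟩, ⟨(nat_lit 3176), [(nat_lit 926)], [(nat_lit 357), (nat_lit 694)]⟩])) (BT.leaf (.inv (nat_lit 3180)))) (BT.node (nat_lit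 3183) (BT.leaf (.rel (nat_lit 3180) (nat_lit 3) [(nat_lit 403), (nat_lit 252)] [⟨(nat_lit 1384), [], [(nat_lit 404), (nat_lit 330)]⟩, ⟨(nat_lit 2971), [], [(nat_lit 629), (nat_lit 1939)]⟩])) (BT.leaf (.inv (nat_lit 3182))))))) (BT.node (nat_lit 3192) (BT.node (nat_lit 3188) (BT.node (nat_lit 3186) (BT.node (nat_lit 3185) (BT.leaf (.rel (nat_lit 2115) (nat_lit 5) [(nat_lit 130), (nat_lit 460)] [⟨(nat_lit 2349), [(nat_lit 1922)], [(nat_lit 1056), (nat_lit 398)]⟩, ⟨(nat_lit 3182), [(nat_lit 2167)], [(nat_lit 832), (nat_lit 439)]⟩])) (BT.leaf (.inv (nat_lit 3184)))) (BT.node (nat_lit 3187) (BT.leaf (.rel (nat_lit 3183) (nat_lit 0) [(nat_lit 416), (nat_lit 717)] [⟨(nat_lit 2949), [], [(nat_lit 789), (nat_lit 289)]⟩])) (BT.leaf (.inv (nat_lit 3186))))) (BT.node (nat_lit 3190) (BT.node (nat_lit 3189) (BT.leaf (.rel (nat_lit 3180) (nat_lit 5) [(nat_lit 473),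 (nat_lit 347)] [⟨(nat_lit 1545), [(nat_lit 935)], [(nat_lit 914), (nat_lit 584)]⟩, ⟨(nat_lit 993), [], [(nat_lit 1337), (nat_lit 203)]⟩])) (BT.leaf (.inv (nat_lit 3188)))) (BT.node (nat_lit 3191) (BT.leaf (.inv (nat_lit 3189))) (BT.leaf (.cmp (nat_lit 3190) ⟨(nat_lit 3176), [(nat_lit 456)], [(nat_lit 129), (nat_lit 252)]⟩))))) (BT.node (nat_lit 3196) (BT.node (nat_lit 3194) (BT.node (nat_lit 3193) (BT.leaf (.rel (nat_lit 3187) (nat_lit 0) [(nat_lit 759), (nat_lit 385)] [⟨(nat_lit 1570), [], [(nat_lit 1103), (nat_lit 906)]⟩])) (BT.leaf (.inv (nat_lit 3192)))) (BT.node (nat_lit 3195) (BT.leaf (.inv (nat_lit 3193))) (BT.leaf (.cmp (nat_lit 3194) ⟨(nat_lit 3181), [], [(nat_lit 707), (nat_lit 892)]⟩)))) (BT.node (nat_lit 3198) (BT.node (nat_lit 3197) (BT.leaf (.rel (nat_lit 3178) (nat_lit 3) [(nat_lit 783), (nat_lit 472)] [⟨(nat_lit 981), [(nat_lit 860)],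 [(nat_lit 273), (nat_lit 795)]⟩, ⟨(nat_lit 3088), [], [(nat_lit 239), (nat_lit 835)]⟩])) (BT.leaf (.inv (nat_lit 3196)))) (BT.node (nat_lit 3199) (BT.leaf (.rel (nat_lit 3187) (nat_lit 3) [(nat_lit 527), (nat_lit 142)] [⟨(nat_lit 2684), [(nat_lit 775)], [(nat_lit 373), (nat_lit 798)]⟩, ⟨(nat_lit 2291), [(nat_lit 2167)], [(nat_lit 257), (nat_lit 892)]⟩])) (BT.leaf (.inv (nat_lit 3198)))))))))
noncomputable def cF3200 : BT Fc := (BT.node (nat_lit 3232) (BT.node (nat_lit 3216) (BT.node (nat_lit 3208) (BT.node (nat_lit 3204) (BT.node (nat_lit 3202) (BT.node (nat_lit 3201) (BT.leaf ⟨(nat_lit 3), (nat_lit 10), (nat_lit 5), (nat_lit 0x9fc30120041081e183097c09010fad), (nat_lit 0xa033a180109c34447c61023011c9af), (nat_lit 0)⟩) (BT.leaf ⟨(nat_lit 3), (nat_lit 5), (nat_lit 10), (nat_lit 0xa033a180109c34447c61023011c9af), (nat_lit 0x9fc30120041081e183097c09010fad),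 (nat_lit 0)⟩)) (BT.node (nat_lit 3203) (BT.leaf ⟨(nat_lit 3), (nat_lit 8), (nat_lit 10), (nat_lit 0x1b05d248e9bc9a8bb41e62789c76c9f), (nat_lit 0x714182a9eac04108090e541437213f), (nat_lit 0)⟩) (BT.leaf ⟨(nat_lit 3), (nat_lit 10), (nat_lit 8), (nat_lit 0x714182a9eac04108090e541437213f), (nat_lit 0x1b05d248e9bc9a8bb41e62789c76c9f), (nat_lit 0)⟩))) (BT.node (nat_lit 3206) (BT.node (nat_lit 3205) (BT.leaf ⟨(nat_lit 3), (nat_lit 9), (nat_lit 9), (nat_lit 0x1d1df1081dea9795c73b3a880639101), (nat_lit 0x1fd017d00c8cee5719102004089059e), (nat_lit 0)⟩) (BT.leaf ⟨(nat_lit 3), (nat_lit 10), (nat_lit 3), (nat_lit 0x481803b99d191817d73220d7e8063a), (nat_lit 0x6be9792e65f9a663acc05fa89b812b), (nat_lit 0)⟩)) (BT.node (nat_lit 3207) (BT.leaf ⟨(nat_lit 3), (nat_lit 3), (nat_lit 10), (nat_lit 0x6be9792e65f9a663acc05fa89b812b), (nat_lit 0x481803b99d191817d73220d7e8063a),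 (nat_lit 0)⟩) (BT.leaf ⟨(nat_lit 3), (nat_lit 10), (nat_lit 10), (nat_lit 0x15cd9ac77ab90ce3da870e769876eca), (nat_lit 0x107840081140d8fdd1555bf9d0c0090), (nat_lit 0)⟩)))) (BT.node (nat_lit 3212) (BT.node (nat_lit 3210) (BT.node (nat_lit 3209) (BT.leaf ⟨(nat_lit 3), (nat_lit 10), (nat_lit 10), (nat_lit 0x1bd0082008e7d192ff8d93c00420400), (nat_lit 0x80908200ce76342fd464808074f600), (nat_lit 0)⟩) (BT.leaf ⟨(nat_lit 3), (nat_lit 10), (nat_lit 5), (nat_lit 0xf63ab346e9d2978369366a6cbe3747), (nat_lit 0x1d1cd97c655c32fa174466af62a3669), (nat_lit 0)⟩)) (BT.node (nat_lit 3211) (BT.leaf ⟨(nat_lit 3), (nat_lit 5), (nat_lit 10), (nat_lit 0x1d1cd97c655c32fa174466af62a3669), (nat_lit 0xf63ab346e9d2978369366a6cbe3747), (nat_lit 0)⟩) (BT.leaf ⟨(nat_lit 2), (nat_lit 5), (nat_lit 5), (nat_lit 0x8db90995d27960eada63a23e8fadd5), (nat_lit 0), (nat_lit 0)⟩))) (BT.node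 (nat_lit 3214) (BT.node (nat_lit 3213) (BT.leaf ⟨(nat_lit 3), (nat_lit 8), (nat_lit 10), (nat_lit 0x9ff60fb7714b7f163704af74b2fa1f), (nat_lit 0x80508220480cbf003d54113d3f458d), (nat_lit 0)⟩) (BT.leaf ⟨(nat_lit 3), (nat_lit 10), (nat_lit 8), (nat_lit 0x80508220480cbf003d54113d3f458d), (nat_lit 0x9ff60fb7714b7f163704af74b2fa1f), (nat_lit 0)⟩)) (BT.node (nat_lit 3215) (BT.leaf ⟨(nat_lit 3), (nat_lit 3), (nat_lit 11), (nat_lit 0x4b900c01dea978ea2b80224063978c), (nat_lit 0x1001001001001001001001001001001), (nat_lit 0)⟩) (BT.leaf ⟨(nat_lit 2), (nat_lit 11), (nat_lit 11), (nat_lit 0x1d461ece8bd96a26399b5a55a2f57b7), (nat_lit 0), (nat_lit 0)⟩))))) (BT.node (nat_lit 3224) (BT.node (nat_lit 3220) (BT.node (nat_lit 3218) (BT.node (nat_lit 3217) (BT.leaf ⟨(nat_lit 3), (nat_lit 11), (nat_lit 3), (nat_lit 0x1001001001001001001001001001001), (nat_lit 0x4b900c01dea978ea2b80224063978c),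 (nat_lit 0)⟩) (BT.leaf ⟨(nat_lit 3), (nat_lit 9), (nat_lit 11), (nat_lit 0xc25f1f504443c507ad0517213fa99), (nat_lit 0x97716257a3296e55b5f4bedc2e905f), (nat_lit 0)⟩)) (BT.node (nat_lit 3219) (BT.leaf ⟨(nat_lit 3), (nat_lit 11), (nat_lit 9), (nat_lit 0x97716257a3296e55b5f4bedc2e905f), (nat_lit 0xc25f1f504443c507ad0517213fa99), (nat_lit 0)⟩) (BT.leaf ⟨(nat_lit 3), (nat_lit 7), (nat_lit 11), (nat_lit 0x5695c2a96d8ac54cab9b0639ba8abd), (nat_lit 0x1af512d10408b7b0037c2aecebf44), (nat_lit 0)⟩))) (BT.node (nat_lit 3222) (BT.node (nat_lit 3221) (BT.leaf ⟨(nat_lit 3), (nat_lit 11), (nat_lit 7), (nat_lit 0x1af512d10408b7b0037c2aecebf44), (nat_lit 0x5695c2a96d8ac54cab9b0639ba8abd), (nat_lit 0)⟩) (BT.leaf ⟨(nat_lit 3), (nat_lit 11), (nat_lit 9), (nat_lit 0x20420a01f19d1f7a811043cec02809), (nat_lit 0x1d58080300280448872a8c7e749f812), (nat_lit 0)⟩)) (BT.node (nat_lit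 3223) (BT.leaf ⟨(nat_lit 3), (nat_lit 9), (nat_lit 11), (nat_lit 0x1d58080300280448872a8c7e749f812), (nat_lit 0x20420a01f19d1f7a811043cec02809), (nat_lit 0)⟩) (BT.leaf ⟨(nat_lit 2), (nat_lit 11), (nat_lit 11), (nat_lit 0x10000082010010080746bd11cc01200), (nat_lit 0), (nat_lit 0)⟩)))) (BT.node (nat_lit 3228) (BT.node (nat_lit 3226) (BT.node (nat_lit 3225) (BT.leaf ⟨(nat_lit 3), (nat_lit 9), (nat_lit 11), (nat_lit 0xbffa64621040971940a015cc8235f), (nat_lit 0x7d7778d53a2554eb9c5baa750ee995), (nat_lit 0)⟩) (BT.leaf ⟨(nat_lit 3), (nat_lit 11), (nat_lit 9), (nat_lit 0x7d7778d53a2554eb9c5baa750ee995), (nat_lit 0xbffa64621040971940a015cc8235f), (nat_lit 0)⟩)) (BT.node (nat_lit 3227) (BT.leaf ⟨(nat_lit 3), (nat_lit 11), (nat_lit 9), (nat_lit 0x1eeb8d33a69360e6cd3addfcfb9963a), (nat_lit 0x1cefbd4d9e65c68e772aa742dc3e583), (nat_lit 0)⟩) (BT.leaf ⟨(nat_lit 3),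 (nat_lit 9), (nat_lit 11), (nat_lit 0x1cefbd4d9e65c68e772aa742dc3e583), (nat_lit 0x1eeb8d33a69360e6cd3addfcfb9963a), (nat_lit 0)⟩))) (BT.node (nat_lit 3230) (BT.node (nat_lit 3229) (BT.leaf ⟨(nat_lit 3), (nat_lit 9), (nat_lit 11), (nat_lit 0x6cb7a6e450f1358e721ce89ab7e1ce), (nat_lit 0x5e786bfecb0c4fc6d8df19e77c4c6e), (nat_lit 0)⟩) (BT.leaf ⟨(nat_lit 3), (nat_lit 11), (nat_lit 9), (nat_lit 0x5e786bfecb0c4fc6d8df19e77c4c6e), (nat_lit 0x6cb7a6e450f1358e721ce89ab7e1ce), (nat_lit 0)⟩)) (BT.node (nat_lit 3231) (BT.leaf ⟨(nat_lit 3), (nat_lit 11), (nat_lit 9), (nat_lit 0x1f8e6cbe37e656bbec6e7c478de1acc), (nat_lit 0x125a6f49f934c4cbb41e4d589f4f49e), (nat_lit 0)⟩) (BT.leaf ⟨(nat_lit 3), (nat_lit 9), (nat_lit 11), (nat_lit 0x125a6f49f934c4cbb41e4d589f4f49e), (nat_lit 0x1f8e6cbe37e656bbec6e7c478de1acc), (nat_lit 0)⟩)))))) (BT.node (nat_lit 3248) (BT.node (nat_lit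 3240) (BT.node (nat_lit 3236) (BT.node (nat_lit 3234) (BT.node (nat_lit 3233) (BT.leaf ⟨(nat_lit 3), (nat_lit 7), (nat_lit 11), (nat_lit 0x1ce1016f6938aec057448040884125d), (nat_lit 0x6bf0a92bfb64b893ea2cd35716610f), (nat_lit 0)⟩) (BT.leaf ⟨(nat_lit 3), (nat_lit 11), (nat_lit 7), (nat_lit 0x6bf0a92bfb64b893ea2cd35716610f), (nat_lit 0x1ce1016f6938aec057448040884125d), (nat_lit 0)⟩)) (BT.node (nat_lit 3235) (BT.leaf ⟨(nat_lit 3), (nat_lit 11), (nat_lit 8), (nat_lit 0x15cd801082214008268d2813a3232e3), (nat_lit 0x20401f47e7675004de904300500841), (nat_lit 0)⟩) (BT.leaf ⟨(nat_lit 3), (nat_lit 8), (nat_lit 11), (nat_lit 0x20401f47e7675004de904300500841), (nat_lit 0x15cd801082214008268d2813a3232e3), (nat_lit 0)⟩))) (BT.node (nat_lit 3238) (BT.node (nat_lit 3237) (BT.leaf ⟨(nat_lit 3), (nat_lit 11), (nat_lit 9), (nat_lit 0x1756a5f213ae754aa9c546c775c56ef),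 (nat_lit 0xcbf00673172a029d220400812a31e3), (nat_lit 0)⟩) (BT.leaf ⟨(nat_lit 3), (nat_lit 9), (nat_lit 11), (nat_lit 0xcbf00673172a029d220400812a31e3), (nat_lit 0x1756a5f213ae754aa9c546c775c56ef), (nat_lit 0)⟩)) (BT.node (nat_lit 3239) (BT.leaf ⟨(nat_lit 3), (nat_lit 11), (nat_lit 7), (nat_lit 0x4bc879af25a3eb34d2f256e5966370), (nat_lit 0x1eeb1d6efa755956977a0f9cfac19ce), (nat_lit 0)⟩) (BT.leaf ⟨(nat_lit 3), (nat_lit 7), (nat_lit 11), (nat_lit 0x1eeb1d6efa755956977a0f9cfac19ce), (nat_lit 0x4bc879af25a3eb34d2f256e5966370), (nat_lit 0)⟩)))) (BT.node (nat_lit 3244) (BT.node (nat_lit 3242) (BT.node (nat_lit 3241) (BT.leaf ⟨(nat_lit 3), (nat_lit 11), (nat_lit 9), (nat_lit 0xcbc17db125d4bc7d7dbd444bc9392d), (nat_lit 0x2bc78824bbd139c47157600801c02), (nat_lit 0)⟩) (BT.leaf ⟨(nat_lit 3), (nat_lit 9), (nat_lit 11), (nat_lit 0x2bc78824bbd139c47157600801c02),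 (nat_lit 0xcbc17db125d4bc7d7dbd444bc9392d), (nat_lit 0)⟩)) (BT.node (nat_lit 3243) (BT.leaf ⟨(nat_lit 3), (nat_lit 11), (nat_lit 9), (nat_lit 0x1c6b0aba4b07de85bf3a39dccb1d6ef), (nat_lit 0x17810478501525806127df8020441dd), (nat_lit 0)⟩) (BT.leaf ⟨(nat_lit 3), (nat_lit 9), (nat_lit 11), (nat_lit 0x17810478501525806127df8020441dd), (nat_lit 0x1c6b0aba4b07de85bf3a39dccb1d6ef), (nat_lit 0)⟩))) (BT.node (nat_lit 3246) (BT.node (nat_lit 3245) (BT.leaf ⟨(nat_lit 3), (nat_lit 9), (nat_lit 11), (nat_lit 0x1f6d8e6f5da9c8626ef64d5bc28b9b2), (nat_lit 0xcd439cf38f7e42393fec59699a4c33), (nat_lit 0)⟩) (BT.leaf ⟨(nat_lit 3), (nat_lit 11), (nat_lit 9), (nat_lit 0xcd439cf38f7e42393fec59699a4c33), (nat_lit 0x1f6d8e6f5da9c8626ef64d5bc28b9b2), (nat_lit 0)⟩)) (BT.node (nat_lit 3247) (BT.leaf ⟨(nat_lit 3), (nat_lit 11), (nat_lit 7), (nat_lit 0x7a200408bab0099d65f901f8e00c10),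 (nat_lit 0x100b2f89e810bd19d600d721ce20401), (nat_lit 0)⟩) (BT.leaf ⟨(nat_lit 3), (nat_lit 7), (nat_lit 11), (nat_lit 0x100b2f89e810bd19d600d721ce20401), (nat_lit 0x7a200408bab0099d65f901f8e00c10), (nat_lit 0)⟩))))) (BT.node (nat_lit 3256) (BT.node (nat_lit 3252) (BT.node (nat_lit 3250) (BT.node (nat_lit 3249) (BT.leaf ⟨(nat_lit 3), (nat_lit 7), (nat_lit 11), (nat_lit 0xb7f868812aa2114008835ed8f3a239), (nat_lit 0x1e4239a8766b18eb9d5c6923b638c53), (nat_lit 0)⟩) (BT.leaf ⟨(nat_lit 3), (nat_lit 11), (nat_lit 7), (nat_lit 0x1e4239a8766b18eb9d5c6923b638c53), (nat_lit 0xb7f868812aa2114008835ed8f3a239), (nat_lit 0)⟩)) (BT.node (nat_lit 3251) (BT.leaf ⟨(nat_lit 3), (nat_lit 11), (nat_lit 7), (nat_lit 0x220c00c05bfc35402391413ccaafc6), (nat_lit 0x1c37cebfeb1be3c65f8c16f963c6f85), (nat_lit 0)⟩) (BT.leaf ⟨(nat_lit 3), (nat_lit 7), (nat_lit 11), (nat_lit 0x1c37cebfeb1be3c65f8c16f963c6f85),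 (nat_lit 0x220c00c05bfc35402391413ccaafc6), (nat_lit 0)⟩))) (BT.node (nat_lit 3254) (BT.node (nat_lit 3253) (BT.leaf ⟨(nat_lit 3), (nat_lit 11), (nat_lit 7), (nat_lit 0x10084f38d841012204108114019d6b9), (nat_lit 0x420c0102a013a1af82f208442b9900), (nat_lit 0)⟩) (BT.leaf ⟨(nat_lit 3), (nat_lit 7), (nat_lit 11), (nat_lit 0x420c0102a013a1af82f208442b9900), (nat_lit 0x10084f38d841012204108114019d6b9), (nat_lit 0)⟩)) (BT.node (nat_lit 3255) (BT.leaf ⟨(nat_lit 3), (nat_lit 11), (nat_lit 7), (nat_lit 0x1de8212f974687e1996f091378a06b4), (nat_lit 0x882e42990c1c6a104be7860913fed4), (nat_lit 0)⟩) (BT.leaf ⟨(nat_lit 3), (nat_lit 7), (nat_lit 11), (nat_lit 0x882e42990c1c6a104be7860913fed4), (nat_lit 0x1de8212f974687e1996f091378a06b4), (nat_lit 0)⟩)))) (BT.node (nat_lit 3260) (BT.node (nat_lit 3258) (BT.node (nat_lit 3257) (BT.leaf ⟨(nat_lit 3), (nat_lit 11), (nat_lit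 8), (nat_lit 0x1639401f180464fef50822052f001), (nat_lit 0x1d1e3978ce7697840821803bd408de9), (nat_lit 0)⟩) (BT.leaf ⟨(nat_lit 3), (nat_lit 8), (nat_lit 11), (nat_lit 0x1d1e3978ce7697840821803bd408de9), (nat_lit 0x1639401f180464fef50822052f001), (nat_lit 0)⟩)) (BT.node (nat_lit 3259) (BT.leaf ⟨(nat_lit 3), (nat_lit 11), (nat_lit 7), (nat_lit 0x118ce2818021b91278301204fefc410), (nat_lit 0x200978042000824f40040004239ab9), (nat_lit 0)⟩) (BT.leaf ⟨(nat_lit 3), (nat_lit 7), (nat_lit 11), (nat_lit 0x200978042000824f40040004239ab9), (nat_lit 0x118ce2818021b91278301204fefc410), (nat_lit 0)⟩))) (BT.node (nat_lit 3262) (BT.node (nat_lit 3261) (BT.leaf ⟨(nat_lit 3), (nat_lit 7), (nat_lit 11), (nat_lit 0x1f1957669bffd3aa34a5d261f19af47), (nat_lit 0x5dab4265bd5fa1694c7b91780cdce8), (nat_lit 0)⟩) (BT.leaf ⟨(nat_lit 3), (nat_lit 11), (nat_lit 7), (nat_lit 0x5dab4265bd5fa1694c7b91780cdce8),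 (nat_lit 0x1f1957669bffd3aa34a5d261f19af47), (nat_lit 0)⟩)) (BT.node (nat_lit 3263) (BT.leaf ⟨(nat_lit 3), (nat_lit 11), (nat_lit 7), (nat_lit 0xf551032f50151904201172c034f200), (nat_lit 0x1b912785027e0c2319c5eac049f9890), (nat_lit 0)⟩) (BT.leaf ⟨(nat_lit 3), (nat_lit 7), (nat_lit 11), (nat_lit 0x1b912785027e0c2319c5eac049f9890), (nat_lit 0xf551032f50151904201172c034f200), (nat_lit 0)⟩)))))))
noncomputable def cP3200 : BT Pf := (BT.node (nat_lit 3232) (BT.node (nat_lit 3216) (BT.node (nat_lit 3208) (BT.node (nat_lit 3204) (BT.node (nat_lit 3202) (BT.node (nat_lit 3201) (BT.leaf (.rel (nat_lit 768) (nat_lit 4) [(nat_lit 403), (nat_lit 126)] [⟨(nat_lit 1446), [(nat_lit 1306)], [(nat_lit 129), (nat_lit 190)]⟩, ⟨(nat_lit 3181), [(nat_lit 775)], [(nat_lit 825), (nat_lit 110)]⟩])) (BT.leaf (.inv (nat_lit 3200)))) (BT.node (nat_lit 3203) (BT.leaf (.rel (nat_lit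 3183) (nat_lit 4) [(nat_lit 445), (nat_lit 506)] [⟨(nat_lit 2461), [(nat_lit 2311)], [(nat_lit 726), (nat_lit 693)]⟩, ⟨(nat_lit 2667), [], [(nat_lit 579), (nat_lit 203)]⟩])) (BT.leaf (.inv (nat_lit 3202))))) (BT.node (nat_lit 3206) (BT.node (nat_lit 3205) (BT.leaf (.rel (nat_lit 3166) (nat_lit 0) [(nat_lit 673), (nat_lit 968)] [⟨(nat_lit 2498), [(nat_lit 2311)], [(nat_lit 129), (nat_lit 1348)]⟩])) (BT.leaf (.rel (nat_lit 999) (nat_lit 3) [(nat_lit 271), (nat_lit 506)] [⟨(nat_lit 1539), [], [(nat_lit 653), (nat_lit 712)]⟩, ⟨(nat_lit 3186), [], [(nat_lit 151), (nat_lit 222)]⟩]))) (BT.node (nat_lit 3207) (BT.leaf (.inv (nat_lit 3205))) (BT.leaf (.rel (nat_lit 3203) (nat_lit 1) [(nat_lit 299), (nat_lit 559)] [⟨(nat_lit 3202), [(nat_lit 1822)], [(nat_lit 579), (nat_lit 1256)]⟩]))))) (BT.node (nat_lit 3212) (BT.node (nat_lit 3210) (BT.node (nat_lit 3209)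 (BT.leaf (.rel (nat_lit 3184) (nat_lit 3) [(nat_lit 177), (nat_lit 969)] [⟨(nat_lit 1560), [], [(nat_lit 503), (nat_lit 89)]⟩, ⟨(nat_lit 3185), [], [(nat_lit 782), (nat_lit 557)]⟩])) (BT.leaf (.rel (nat_lit 2927) (nat_lit 2) [(nat_lit 629), (nat_lit 628)] [⟨(nat_lit 2898), [], [(nat_lit 298), (nat_lit 652)]⟩, ⟨(nat_lit 3181), [(nat_lit 935)], [(nat_lit 942), (nat_lit 401)]⟩]))) (BT.node (nat_lit 3211) (BT.leaf (.inv (nat_lit 3209))) (BT.leaf (.emul [(nat_lit 626), (nat_lit 715)])))) (BT.node (nat_lit 3214) (BT.node (nat_lit 3213) (BT.leaf (.rel (nat_lit 3209) (nat_lit 4) [(nat_lit 239), (nat_lit 475)] [⟨(nat_lit 2629), [(nat_lit 3211)], [(nat_lit 406), (nat_lit 821)]⟩, ⟨(nat_lit 2582), [(nat_lit 2413)], [(nat_lit 433), (nat_lit 625)]⟩])) (BT.leaf (.inv (nat_lit 3212)))) (BT.node (nat_lit 3215) (BT.leaf (.dfn [(nat_lit 3), (nat_lit 1), (nat_lit 4),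 (nat_lit 1), (nat_lit 4), (nat_lit 1), (nat_lit 4), (nat_lit 1), (nat_lit 4), (nat_lit 1), (nat_lit 3)])) (BT.leaf (.cmp (nat_lit 3214) ⟨(nat_lit 3214), [(nat_lit 927)], [(nat_lit 97), (nat_lit 506)]⟩)))))) (BT.node (nat_lit 3224) (BT.node (nat_lit 3220) (BT.node (nat_lit 3218) (BT.node (nat_lit 3217) (BT.leaf (.inv (nat_lit 3214))) (BT.leaf (.rel (nat_lit 3216) (nat_lit 2) [(nat_lit 825), (nat_lit 624)] [⟨(nat_lit 994), [(nat_lit 938)], [(nat_lit 619), (nat_lit 1348)]⟩, ⟨(nat_lit 2580), [], [(nat_lit 162)]⟩]))) (BT.node (nat_lit 3219) (BT.leaf (.inv (nat_lit 3217))) (BT.leaf (.rel (nat_lit 3218) (nat_lit 4) [(nat_lit 257), (nat_lit 906)] [⟨(nat_lit 2916), [(nat_lit 2237)], [(nat_lit 915), (nat_lit 0)]⟩, ⟨(nat_lit 2818), [], [(nat_lit 1102), (nat_lit 330)]⟩])))) (BT.node (nat_lit 3222) (BT.node (nat_lit 3221) (BT.leaf (.inv (nat_lit 3219))) (BT.leaf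 (.rel (nat_lit 2706) (nat_lit 2) [(nat_lit 1026), (nat_lit 431)] [⟨(nat_lit 1977), [(nat_lit 1822)], [(nat_lit 840), (nat_lit 1088)]⟩, ⟨(nat_lit 3219), [(nat_lit 775)], [(nat_lit 433), (nat_lit 864)]⟩]))) (BT.node (nat_lit 3223) (BT.leaf (.inv (nat_lit 3221))) (BT.leaf (.cmp (nat_lit 3222) ⟨(nat_lit 3222), [(nat_lit 2549)], [(nat_lit 1092), (nat_lit 936)]⟩))))) (BT.node (nat_lit 3228) (BT.node (nat_lit 3226) (BT.node (nat_lit 3225) (BT.leaf (.rel (nat_lit 3221) (nat_lit 3) [(nat_lit 111), (nat_lit 234)] [⟨(nat_lit 3031), [(nat_lit 2549)], [(nat_lit 212), (nat_lit 777)]⟩, ⟨(nat_lit 2711), [(nat_lit 2167)], [(nat_lit 510), (nat_lit 475)]⟩])) (BT.leaf (.inv (nat_lit 3224)))) (BT.node (nat_lit 3227) (BT.leaf (.rel (nat_lit 2323) (nat_lit 1) [(nat_lit 970), (nat_lit 684)] [⟨(nat_lit 3219), [], [(nat_lit 1218), (nat_lit 306)]⟩])) (BT.leaf (.inv (nat_lit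 3226))))) (BT.node (nat_lit 3230) (BT.node (nat_lit 3229) (BT.leaf (.rel (nat_lit 3220) (nat_lit 3) [(nat_lit 97), (nat_lit 1192)] [⟨(nat_lit 2824), [], [(nat_lit 97), (nat_lit 898)]⟩, ⟨(nat_lit 2544), [], [(nat_lit 351), (nat_lit 109)]⟩])) (BT.leaf (.inv (nat_lit 3228)))) (BT.node (nat_lit 3231) (BT.leaf (.rel (nat_lit 3122) (nat_lit 0) [(nat_lit 508), (nat_lit 308)] [⟨(nat_lit 3227), [], [(nat_lit 393), (nat_lit 204)]⟩])) (BT.leaf (.inv (nat_lit 3230)))))))) (BT.node (nat_lit 3248) (BT.node (nat_lit 3240) (BT.node (nat_lit 3236) (BT.node (nat_lit 3234) (BT.node (nat_lit 3233) (BT.leaf (.rel (nat_lit 3226) (nat_lit 0) [(nat_lit 1174), (nat_lit 294)] [⟨(nat_lit 2579), [], [(nat_lit 393), (nat_lit 559)]⟩])) (BT.leaf (.inv (nat_lit 3232)))) (BT.node (nat_lit 3235) (BT.leaf (.rel (nat_lit 1945) (nat_lit 2) [(nat_lit 1292), (nat_lit 1133)] [⟨(nat_lit 803),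 [], [(nat_lit 829), (nat_lit 500)]⟩, ⟨(nat_lit 3214), [(nat_lit 457)], [(nat_lit 404), (nat_lit 107)]⟩])) (BT.leaf (.inv (nat_lit 3234))))) (BT.node (nat_lit 3238) (BT.node (nat_lit 3237) (BT.leaf (.rel (nat_lit 2877) (nat_lit 1) [(nat_lit 94), (nat_lit 956)] [⟨(nat_lit 3222), [(nat_lit 2311)], [(nat_lit 254), (nat_lit 891)]⟩])) (BT.leaf (.inv (nat_lit 3236)))) (BT.node (nat_lit 3239) (BT.leaf (.rel (nat_lit 1044) (nat_lit 0) [(nat_lit 1027), (nat_lit 1211)] [⟨(nat_lit 3214), [(nat_lit 457)], [(nat_lit 174), (nat_lit 1141)]⟩])) (BT.leaf (.inv (nat_lit 3238)))))) (BT.node (nat_lit 3244) (BT.node (nat_lit 3242) (BT.node (nat_lit 3241) (BT.leaf (.rel (nat_lit 2989) (nat_lit 4) [(nat_lit 503), (nat_lit 265)] [⟨(nat_lit 2896), [(nat_lit 2311)], [(nat_lit 1056), (nat_lit 712)]⟩, ⟨(nat_lit 3237), [(nat_lit 2413)], [(nat_lit 441), (nat_lit 580)]⟩])) (BT.leaf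 (.inv (nat_lit 3240)))) (BT.node (nat_lit 3243) (BT.leaf (.rel (nat_lit 2678) (nat_lit 2) [(nat_lit 299), (nat_lit 500)] [⟨(nat_lit 2300), [], [(nat_lit 943), (nat_lit 495)]⟩, ⟨(nat_lit 3224), [(nat_lit 2311)], [(nat_lit 153), (nat_lit 628)]⟩])) (BT.leaf (.inv (nat_lit 3242))))) (BT.node (nat_lit 3246) (BT.node (nat_lit 3245) (BT.leaf (.rel (nat_lit 3233) (nat_lit 4) [(nat_lit 214), (nat_lit 1140)] [⟨(nat_lit 2412), [], [(nat_lit 351), (nat_lit 1088)]⟩, ⟨(nat_lit 2505), [(nat_lit 2237)], [(nat_lit 300), (nat_lit 533)]⟩])) (BT.leaf (.inv (nat_lit 3244)))) (BT.node (nat_lit 3247) (BT.leaf (.rel (nat_lit 1685) (nat_lit 2) [(nat_lit 299), (nat_lit 736)] [⟨(nat_lit 2324), [(nat_lit 775)], [(nat_lit 942), (nat_lit 204)]⟩, ⟨(nat_lit 3241), [(nat_lit 2413)], [(nat_lit 1026), (nat_lit 141)]⟩])) (BT.leaf (.inv (nat_lit 3246))))))) (BT.node (nat_lit 3256) (BT.node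 (nat_lit 3252) (BT.node (nat_lit 3250) (BT.node (nat_lit 3249) (BT.leaf (.rel (nat_lit 3240) (nat_lit 0) [(nat_lit 865), (nat_lit 252)] [⟨(nat_lit 3029), [(nat_lit 2549)], [(nat_lit 1175), (nat_lit 224)]⟩])) (BT.leaf (.inv (nat_lit 3248)))) (BT.node (nat_lit 3251) (BT.leaf (.rel (nat_lit 2390) (nat_lit 4) [(nat_lit 255), (nat_lit 597)] [⟨(nat_lit 2930), [(nat_lit 2413)], [(nat_lit 1218), (nat_lit 389)]⟩, ⟨(nat_lit 3217), [(nat_lit 2311)], [(nat_lit 653), (nat_lit 1375)]⟩])) (BT.leaf (.inv (nat_lit 3250))))) (BT.node (nat_lit 3254) (BT.node (nat_lit 3253) (BT.leaf (.rel (nat_lit 1653) (nat_lit 4) [(nat_lit 194), (nat_lit 125)] [⟨(nat_lit 1782), [(nat_lit 935)], [(nat_lit 782), (nat_lit 593)]⟩, ⟨(nat_lit 3232), [], [(nat_lit 1099), (nat_lit 438)]⟩])) (BT.leaf (.inv (nat_lit 3252)))) (BT.node (nat_lit 3255) (BT.leaf (.rel (nat_lit 2950) (nat_lit 2) [(nat_lit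 883), (nat_lit 504)] [⟨(nat_lit 2513), [], [(nat_lit 774), (nat_lit 500)]⟩, ⟨(nat_lit 3235), [], [(nat_lit 394), (nat_lit 563)]⟩])) (BT.leaf (.inv (nat_lit 3254)))))) (BT.node (nat_lit 3260) (BT.node (nat_lit 3258) (BT.node (nat_lit 3257) (BT.leaf (.rel (nat_lit 1912) (nat_lit 3) [(nat_lit 1201), (nat_lit 752)] [⟨(nat_lit 2316), [(nat_lit 775)], [(nat_lit 953), (nat_lit 1070)]⟩, ⟨(nat_lit 3244), [(nat_lit 2237)], [(nat_lit 349), (nat_lit 936)]⟩])) (BT.leaf (.inv (nat_lit 3256)))) (BT.node (nat_lit 3259) (BT.leaf (.rel (nat_lit 2583) (nat_lit 1) [(nat_lit 492), (nat_lit 270)] [⟨(nat_lit 3231), [], [(nat_lit 1014), (nat_lit 985)]⟩])) (BT.leaf (.inv (nat_lit 3258))))) (BT.node (nat_lit 3262) (BT.node (nat_lit 3261) (BT.leaf (.rel (nat_lit 3240) (nat_lit 1) [(nat_lit 513), (nat_lit 891)] [⟨(nat_lit 3015), [(nat_lit 2167)], [(nat_lit 502), (nat_lit 109)]⟩]))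 (BT.leaf (.inv (nat_lit 3260)))) (BT.node (nat_lit 3263) (BT.leaf (.rel (nat_lit 2070) (nat_lit 2) [(nat_lit 451), (nat_lit 1025)] [⟨(nat_lit 2882), [(nat_lit 2210)], [(nat_lit 569), (nat_lit 140)]⟩, ⟨(nat_lit 3243), [(nat_lit 2167)], [(nat_lit 619), (nat_lit 459)]⟩])) (BT.leaf (.inv (nat_lit 3262)))))))))
noncomputable def cF3264 : BT Fc := (BT.node (nat_lit 3296) (BT.node (nat_lit 3280) (BT.node (nat_lit 3272) (BT.node (nat_lit 3268) (BT.node (nat_lit 3266) (BT.node (nat_lit 3265) (BT.leaf ⟨(nat_lit 2), (nat_lit 11), (nat_lit 11), (nat_lit 0x4bb9d9018e400e0088140204420de9), (nat_lit 0), (nat_lit 0)⟩) (BT.leaf ⟨(nat_lit 3), (nat_lit 9), (nat_lit 11), (nat_lit 0x66efc4e8bd30f6e4568b5182fa8fb7), (nat_lit 0x415c8013aa400023e30811cc97f46), (nat_lit 0)⟩)) (BT.node (nat_lit 3267) (BT.leaf ⟨(nat_lit 3), (nat_lit 11), (nat_lit 9), (nat_lit 0x415c8013aa400023e30811cc97f46),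 (nat_lit 0x66efc4e8bd30f6e4568b5182fa8fb7), (nat_lit 0)⟩) (BT.leaf ⟨(nat_lit 3), (nat_lit 11), (nat_lit 7), (nat_lit 0xf865295a46cfadf12cc6c782fc83a3), (nat_lit 0xd1a52f4ee8dd12ffb35ecd9a723756), (nat_lit 0)⟩))) (BT.node (nat_lit 3270) (BT.node (nat_lit 3269) (BT.leaf ⟨(nat_lit 3), (nat_lit 7), (nat_lit 11), (nat_lit 0xd1a52f4ee8dd12ffb35ecd9a723756), (nat_lit 0xf865295a46cfadf12cc6c782fc83a3), (nat_lit 0)⟩) (BT.leaf ⟨(nat_lit 3), (nat_lit 10), (nat_lit 10), (nat_lit 0x4055c49f0027539df4725c80440809), (nat_lit 0x13659d58339cb4b0af386922df9f72a), (nat_lit 0)⟩)) (BT.node (nat_lit 3271) (BT.leaf ⟨(nat_lit 3), (nat_lit 11), (nat_lit 8), (nat_lit 0x4bdf1a5f57300000ef4040803a3002), (nat_lit 0x750fa9dd38adb349dd532bc847d0d5), (nat_lit 0)⟩) (BT.leaf ⟨(nat_lit 3), (nat_lit 8), (nat_lit 11), (nat_lit 0x750fa9dd38adb349dd532bc847d0d5), (nat_lit 0x4bdf1a5f57300000ef4040803a3002),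 (nat_lit 0)⟩)))) (BT.node (nat_lit 3276) (BT.node (nat_lit 3274) (BT.node (nat_lit 3273) (BT.leaf ⟨(nat_lit 3), (nat_lit 9), (nat_lit 11), (nat_lit 0x95c04f8592c42006088090029f5828), (nat_lit 0x1723f45ecbc131fdbdea63982e742d2), (nat_lit 0)⟩) (BT.leaf ⟨(nat_lit 3), (nat_lit 11), (nat_lit 9), (nat_lit 0x1723f45ecbc131fdbdea63982e742d2), (nat_lit 0x95c04f8592c42006088090029f5828), (nat_lit 0)⟩)) (BT.node (nat_lit 3275) (BT.leaf ⟨(nat_lit 3), (nat_lit 11), (nat_lit 8), (nat_lit 0xaeddcd831cd7fd548b95625694cd34), (nat_lit 0xf8a396f500275002a5e25c20408f47), (nat_lit 0)⟩) (BT.leaf ⟨(nat_lit 3), (nat_lit 8), (nat_lit 11), (nat_lit 0xf8a396f500275002a5e25c20408f47), (nat_lit 0xaeddcd831cd7fd548b95625694cd34), (nat_lit 0)⟩))) (BT.node (nat_lit 3278) (BT.node (nat_lit 3277) (BT.leaf ⟨(nat_lit 3), (nat_lit 11), (nat_lit 9), (nat_lit 0x1bbda4f1ae654e96933ae758ea6cf2a),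 (nat_lit 0x16369a5d216fe7751179cb1e1746b8d), (nat_lit 0)⟩) (BT.leaf ⟨(nat_lit 3), (nat_lit 9), (nat_lit 11), (nat_lit 0x16369a5d216fe7751179cb1e1746b8d), (nat_lit 0x1bbda4f1ae654e96933ae758ea6cf2a), (nat_lit 0)⟩)) (BT.node (nat_lit 3279) (BT.leaf ⟨(nat_lit 3), (nat_lit 11), (nat_lit 9), (nat_lit 0xa67b36d4b90480124be043eb62990f), (nat_lit 0x1a4fa751955c6c99ae69e0dd5aa307c), (nat_lit 0)⟩) (BT.leaf ⟨(nat_lit 3), (nat_lit 9), (nat_lit 11), (nat_lit 0x1a4fa751955c6c99ae69e0dd5aa307c), (nat_lit 0xa67b36d4b90480124be043eb62990f), (nat_lit 0)⟩))))) (BT.node (nat_lit 3288) (BT.node (nat_lit 3284) (BT.node (nat_lit 3282) (BT.node (nat_lit 3281) (BT.leaf ⟨(nat_lit 3), (nat_lit 9), (nat_lit 11), (nat_lit 0x11355c53457a39ba88b9d95ae5dcb96), (nat_lit 0x9792eb700bf74a55e5f4be87f608e6), (nat_lit 0)⟩) (BT.leaf ⟨(nat_lit 3), (nat_lit 11), (nat_lit 9), (nat_lit 0x9792eb700bf74a55e5f4be87f608e6),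 (nat_lit 0x11355c53457a39ba88b9d95ae5dcb96), (nat_lit 0)⟩)) (BT.node (nat_lit 3283) (BT.leaf ⟨(nat_lit 3), (nat_lit 9), (nat_lit 11), (nat_lit 0x208aab63301200d7890f8c2033a4f3), (nat_lit 0x15a2745e0ea37a4f42d22ed7a8cddc8), (nat_lit 0)⟩) (BT.leaf ⟨(nat_lit 3), (nat_lit 11), (nat_lit 9), (nat_lit 0x15a2745e0ea37a4f42d22ed7a8cddc8), (nat_lit 0x208aab63301200d7890f8c2033a4f3), (nat_lit 0)⟩))) (BT.node (nat_lit 3286) (BT.node (nat_lit 3285) (BT.leaf ⟨(nat_lit 3), (nat_lit 11), (nat_lit 7), (nat_lit 0x775f5927e6525a04257e9de14045e0), (nat_lit 0x11ecee90811125a040484ae0600474e), (nat_lit 0)⟩) (BT.leaf ⟨(nat_lit 3), (nat_lit 7), (nat_lit 11), (nat_lit 0x11ecee90811125a040484ae0600474e), (nat_lit 0x775f5927e6525a04257e9de14045e0), (nat_lit 0)⟩)) (BT.node (nat_lit 3287) (BT.leaf ⟨(nat_lit 3), (nat_lit 7), (nat_lit 11), (nat_lit 0x7d72c0d5e423e8e2b6c3a2e2aeabd5),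 (nat_lit 0x1d4558d346d9ae554ab8bfea645caf9), (nat_lit 0)⟩) (BT.leaf ⟨(nat_lit 3), (nat_lit 11), (nat_lit 7), (nat_lit 0x1d4558d346d9ae554ab8bfea645caf9), (nat_lit 0x7d72c0d5e423e8e2b6c3a2e2aeabd5), (nat_lit 0)⟩)))) (BT.node (nat_lit 3292) (BT.node (nat_lit 3290) (BT.node (nat_lit 3289) (BT.leaf ⟨(nat_lit 3), (nat_lit 11), (nat_lit 9), (nat_lit 0x110207cd32a14219f060c1ad0210c0), (nat_lit 0x1d47f45a8f6e5daf65e087b5a2e460b), (nat_lit 0)⟩) (BT.leaf ⟨(nat_lit 3), (nat_lit 9), (nat_lit 11), (nat_lit 0x1d47f45a8f6e5daf65e087b5a2e460b), (nat_lit 0x110207cd32a14219f060c1ad0210c0), (nat_lit 0)⟩)) (BT.node (nat_lit 3291) (BT.leaf ⟨(nat_lit 3), (nat_lit 11), (nat_lit 7), (nat_lit 0x4bc8000193c08239a5f400010016f4), (nat_lit 0x1d44f44c755d6a18e7e8bd30f705dec), (nat_lit 0)⟩) (BT.leaf ⟨(nat_lit 3), (nat_lit 7), (nat_lit 11), (nat_lit 0x1d44f44c755d6a18e7e8bd30f705dec),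 (nat_lit 0x4bc8000193c08239a5f400010016f4), (nat_lit 0)⟩))) (BT.node (nat_lit 3294) (BT.node (nat_lit 3293) (BT.leaf ⟨(nat_lit 3), (nat_lit 11), (nat_lit 8), (nat_lit 0x131fa8a655a53a21ede055c66eb45ec), (nat_lit 0xb3017b70c2a3e893d2ffb64acb7cc7), (nat_lit 0)⟩) (BT.leaf ⟨(nat_lit 3), (nat_lit 8), (nat_lit 11), (nat_lit 0xb3017b70c2a3e893d2ffb64acb7cc7), (nat_lit 0x131fa8a655a53a21ede055c66eb45ec), (nat_lit 0)⟩)) (BT.node (nat_lit 3295) (BT.leaf ⟨(nat_lit 3), (nat_lit 7), (nat_lit 11), (nat_lit 0x1cd9d38d805022806b98014bff1c01), (nat_lit 0x222040488f7e15f580a3bb25b7e018), (nat_lit 0)⟩) (BT.leaf ⟨(nat_lit 3), (nat_lit 11), (nat_lit 7), (nat_lit 0x222040488f7e15f580a3bb25b7e018), (nat_lit 0x1cd9d38d805022806b98014bff1c01), (nat_lit 0)⟩)))))) (BT.node (nat_lit 3312) (BT.node (nat_lit 3304) (BT.node (nat_lit 3300) (BT.node (nat_lit 3298) (BT.node (nat_lit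 3297) (BT.leaf ⟨(nat_lit 3), (nat_lit 8), (nat_lit 11), (nat_lit 0x1078c0280104210605682aa280407c6), (nat_lit 0x1b50fa8a0b9008110766787eb412299), (nat_lit 0)⟩) (BT.leaf ⟨(nat_lit 3), (nat_lit 11), (nat_lit 8), (nat_lit 0x1b50fa8a0b9008110766787eb412299), (nat_lit 0x1078c0280104210605682aa280407c6), (nat_lit 0)⟩)) (BT.node (nat_lit 3299) (BT.leaf ⟨(nat_lit 3), (nat_lit 11), (nat_lit 7), (nat_lit 0xf880882193e80639747003e312f081), (nat_lit 0x996d44e8bc0abbdbcc76397e0cddc8), (nat_lit 0)⟩) (BT.leaf ⟨(nat_lit 3), (nat_lit 7), (nat_lit 11), (nat_lit 0x996d44e8bc0abbdbcc76397e0cddc8), (nat_lit 0xf880882193e80639747003e312f081), (nat_lit 0)⟩))) (BT.node (nat_lit 3302) (BT.node (nat_lit 3301) (BT.leaf ⟨(nat_lit 3), (nat_lit 11), (nat_lit 9), (nat_lit 0x17e0080301200495493f82006127850), (nat_lit 0x3991cab8577ae4ad0b9bfeaf765627), (nat_lit 0)⟩) (BT.leaf ⟨(nat_lit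 3), (nat_lit 9), (nat_lit 11), (nat_lit 0x3991cab8577ae4ad0b9bfeaf765627), (nat_lit 0x17e0080301200495493f82006127850), (nat_lit 0)⟩)) (BT.node (nat_lit 3303) (BT.leaf ⟨(nat_lit 3), (nat_lit 7), (nat_lit 11), (nat_lit 0x4fcb7e1565e6bd66396cd2dc2d8d5c), (nat_lit 0x1c69a4b3a39dcaac1f32e77cfa6c8b7), (nat_lit 0)⟩) (BT.leaf ⟨(nat_lit 3), (nat_lit 11), (nat_lit 7), (nat_lit 0x1c69a4b3a39dcaac1f32e77cfa6c8b7), (nat_lit 0x4fcb7e1565e6bd66396cd2dc2d8d5c), (nat_lit 0)⟩)))) (BT.node (nat_lit 3308) (BT.node (nat_lit 3306) (BT.node (nat_lit 3305) (BT.leaf ⟨(nat_lit 3), (nat_lit 7), (nat_lit 11), (nat_lit 0x1919dc920203a36801002055cc6a980), (nat_lit 0x172087a7f8a6280faa2053208890030), (nat_lit 0)⟩) (BT.leaf ⟨(nat_lit 3), (nat_lit 11), (nat_lit 7), (nat_lit 0x172087a7f8a6280faa2053208890030), (nat_lit 0x1919dc920203a36801002055cc6a980), (nat_lit 0)⟩)) (BT.node (nat_lit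 3307) (BT.leaf ⟨(nat_lit 3), (nat_lit 11), (nat_lit 7), (nat_lit 0xe363758d627a8bc6789cb1e15ff7ad), (nat_lit 0x167881108281fd1dc901ae6441afe8d), (nat_lit 0)⟩) (BT.leaf ⟨(nat_lit 3), (nat_lit 7), (nat_lit 11), (nat_lit 0x167881108281fd1dc901ae6441afe8d), (nat_lit 0xe363758d627a8bc6789cb1e15ff7ad), (nat_lit 0)⟩))) (BT.node (nat_lit 3310) (BT.node (nat_lit 3309) (BT.leaf ⟨(nat_lit 3), (nat_lit 11), (nat_lit 8), (nat_lit 0xdc1cb02f21e4bd97db12dfa8896cc7), (nat_lit 0x13643e72ae7559799738749cfb9de3a), (nat_lit 0)⟩) (BT.leaf ⟨(nat_lit 3), (nat_lit 8), (nat_lit 11), (nat_lit 0x13643e72ae7559799738749cfb9de3a), (nat_lit 0xdc1cb02f21e4bd97db12dfa8896cc7), (nat_lit 0)⟩)) (BT.node (nat_lit 3311) (BT.leaf ⟨(nat_lit 3), (nat_lit 11), (nat_lit 7), (nat_lit 0x8d9663eb6c6b8e37517f20f89f9be3), (nat_lit 0x97b60e2c4bb466e90e649ee293fa5b), (nat_lit 0)⟩) (BT.leaf ⟨(nat_lit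 3), (nat_lit 7), (nat_lit 11), (nat_lit 0x97b60e2c4bb466e90e649ee293fa5b), (nat_lit 0x8d9663eb6c6b8e37517f20f89f9be3), (nat_lit 0)⟩))))) (BT.node (nat_lit 3320) (BT.node (nat_lit 3316) (BT.node (nat_lit 3314) (BT.node (nat_lit 3313) (BT.leaf ⟨(nat_lit 3), (nat_lit 7), (nat_lit 11), (nat_lit 0xa1e29c333361cf39bfeab91eed362c), (nat_lit 0xb7c408c09e6220487ba1006bd1cfc6), (nat_lit 0)⟩) (BT.leaf ⟨(nat_lit 3), (nat_lit 11), (nat_lit 7), (nat_lit 0xb7c408c09e6220487ba1006bd1cfc6), (nat_lit 0xa1e29c333361cf39bfeab91eed362c), (nat_lit 0)⟩)) (BT.node (nat_lit 3315) (BT.leaf ⟨(nat_lit 3), (nat_lit 7), (nat_lit 11), (nat_lit 0x1748de25e4fe95e8c85f4b6d7d2eec1), (nat_lit 0x7140901091db904875627e0639579d), (nat_lit 0)⟩) (BT.leaf ⟨(nat_lit 3), (nat_lit 11), (nat_lit 7), (nat_lit 0x7140901091db904875627e0639579d), (nat_lit 0x1748de25e4fe95e8c85f4b6d7d2eec1), (nat_lit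 0)⟩))) (BT.node (nat_lit 3318) (BT.node (nat_lit 3317) (BT.leaf ⟨(nat_lit 2), (nat_lit 5), (nat_lit 5), (nat_lit 0x1e3132f85f3b962e958d627e3746fcd), (nat_lit 0), (nat_lit 0)⟩) (BT.leaf ⟨(nat_lit 2), (nat_lit 5), (nat_lit 5), (nat_lit 0x4b638803577ce0037444bbe3c011d7), (nat_lit 0), (nat_lit 0)⟩)) (BT.node (nat_lit 3319) (BT.leaf ⟨(nat_lit 3), (nat_lit 7), (nat_lit 11), (nat_lit 0x1b50d931ca2fbf3fa179dedbd37aeb4), (nat_lit 0x717ab0307e60500941002123954f2a), (nat_lit 0)⟩) (BT.leaf ⟨(nat_lit 3), (nat_lit 11), (nat_lit 7), (nat_lit 0x717ab0307e60500941002123954f2a), (nat_lit 0x1b50d931ca2fbf3fa179dedbd37aeb4), (nat_lit 0)⟩)))) (BT.node (nat_lit 3324) (BT.node (nat_lit 3322) (BT.node (nat_lit 3321) (BT.leaf ⟨(nat_lit 3), (nat_lit 7), (nat_lit 11), (nat_lit 0xf851b77df2078d71ba37d745df1363), (nat_lit 0xabaa3693e8ecd465ca5e8591ba7744), (nat_lit 0)⟩) (BT.leaf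 ⟨(nat_lit 3), (nat_lit 11), (nat_lit 7), (nat_lit 0xabaa3693e8ecd465ca5e8591ba7744), (nat_lit 0xf851b77df2078d71ba37d745df1363), (nat_lit 0)⟩)) (BT.node (nat_lit 3323) (BT.leaf ⟨(nat_lit 3), (nat_lit 7), (nat_lit 11), (nat_lit 0x1856ae32f25ff6c179af25a3eb34db1), (nat_lit 0xa02c68b9a8da790132f3c68429d201), (nat_lit 0)⟩) (BT.leaf ⟨(nat_lit 3), (nat_lit 11), (nat_lit 7), (nat_lit 0xa02c68b9a8da790132f3c68429d201), (nat_lit 0x1856ae32f25ff6c179af25a3eb34db1), (nat_lit 0)⟩))) (BT.node (nat_lit 3326) (BT.node (nat_lit 3325) (BT.leaf ⟨(nat_lit 3), (nat_lit 11), (nat_lit 7), (nat_lit 0x1e27c2b8dcb05e532d34d1a2dee978d), (nat_lit 0xe011d7025ce005082004f8496c9c), (nat_lit 0)⟩) (BT.leaf ⟨(nat_lit 3), (nat_lit 7), (nat_lit 11), (nat_lit 0xe011d7025ce005082004f8496c9c), (nat_lit 0x1e27c2b8dcb05e532d34d1a2dee978d), (nat_lit 0)⟩)) (BT.node (nat_lit 3327) (BT.leaf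 ⟨(nat_lit 3), (nat_lit 11), (nat_lit 3), (nat_lit 0x87ccaeb49bc1017c86074690022042), (nat_lit 0x17fddcc4d576569548b972dd475cabd), (nat_lit 0)⟩) (BT.leaf ⟨(nat_lit 3), (nat_lit 3), (nat_lit 11), (nat_lit 0x17fddcc4d576569548b972dd475cabd), (nat_lit 0x87ccaeb49bc1017c86074690022042), (nat_lit 0)⟩)))))))
noncomputable def cP3264 : BT Pf := (BT.node (nat_lit 3296) (BT.node (nat_lit 3280) (BT.node (nat_lit 3272) (BT.node (nat_lit 3268) (BT.node (nat_lit 3266) (BT.node (nat_lit 3265) (BT.leaf (.cmp (nat_lit 3263) ⟨(nat_lit 3219), [(nat_lit 935)], [(nat_lit 441), (nat_lit 785)]⟩)) (BT.leaf (.rel (nat_lit 3245) (nat_lit 2) [(nat_lit 705), (nat_lit 1745)] [⟨(nat_lit 2394), [], [(nat_lit 197), (nat_lit 449)]⟩, ⟨(nat_lit 3084), [], [(nat_lit 153), (nat_lit 717)]⟩]))) (BT.node (nat_lit 3267) (BT.leaf (.inv (nat_lit 3265))) (BT.leaf (.rel (nat_lit 1530) (nat_lit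 0) [(nat_lit 254), (nat_lit 206)] [⟨(nat_lit 3253), [], [(nat_lit 257), (nat_lit 477)]⟩])))) (BT.node (nat_lit 3270) (BT.node (nat_lit 3269) (BT.leaf (.inv (nat_lit 3267))) (BT.leaf (.rel (nat_lit 3200) (nat_lit 3) [(nat_lit 829), (nat_lit 263)] [⟨(nat_lit 687), [(nat_lit 1648)], [(nat_lit 267), (nat_lit 173)]⟩, ⟨(nat_lit 3201), [(nat_lit 654)], [(nat_lit 373), (nat_lit 802)]⟩]))) (BT.node (nat_lit 3271) (BT.leaf (.rel (nat_lit 1946) (nat_lit 3) [(nat_lit 510), (nat_lit 1001)] [⟨(nat_lit 1896), [], [(nat_lit 840), (nat_lit 0)]⟩, ⟨(nat_lit 3235), [(nat_lit 1846)], [(nat_lit 404), (nat_lit 478)]⟩])) (BT.leaf (.inv (nat_lit 3270)))))) (BT.node (nat_lit 3276) (BT.node (nat_lit 3274) (BT.node (nat_lit 3273) (BT.leaf (.rel (nat_lit 3229) (nat_lit 4) [(nat_lit 1032), (nat_lit 88)] [⟨(nat_lit 2391), [(nat_lit 2311)], [(nat_lit 675), (nat_lit 711)]⟩, ⟨(nat_lit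 2346), [], [(nat_lit 953), (nat_lit 171)]⟩])) (BT.leaf (.inv (nat_lit 3272)))) (BT.node (nat_lit 3275) (BT.leaf (.rel (nat_lit 3035) (nat_lit 0) [(nat_lit 977), (nat_lit 751)] [⟨(nat_lit 3228), [(nat_lit 2549)], [(nat_lit 1189), (nat_lit 875)]⟩])) (BT.leaf (.inv (nat_lit 3274))))) (BT.node (nat_lit 3278) (BT.node (nat_lit 3277) (BT.leaf (.rel (nat_lit 2560) (nat_lit 2) [(nat_lit 630), (nat_lit 628)] [⟨(nat_lit 1137), [(nat_lit 935)], [(nat_lit 673), (nat_lit 1133)]⟩, ⟨(nat_lit 3232), [(nat_lit 775)], [(nat_lit 164), (nat_lit 289)]⟩])) (BT.leaf (.inv (nat_lit 3276)))) (BT.node (nat_lit 3279) (BT.leaf (.rel (nat_lit 3020) (nat_lit 0) [(nat_lit 19), (nat_lit 736)] [⟨(nat_lit 3253), [(nat_lit 935)], [(nat_lit 734), (nat_lit 1123)]⟩])) (BT.leaf (.inv (nat_lit 3278))))))) (BT.node (nat_lit 3288) (BT.node (nat_lit 3284) (BT.node (nat_lit 3282) (BT.node (nat_lit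 3281) (BT.leaf (.rel (nat_lit 3249) (nat_lit 2) [(nat_lit 153), (nat_lit 235)] [⟨(nat_lit 1592), [(nat_lit 935)], [(nat_lit 508), (nat_lit 124)]⟩, ⟨(nat_lit 2527), [(nat_lit 715)], [(nat_lit 282), (nat_lit 1226)]⟩])) (BT.leaf (.inv (nat_lit 3280)))) (BT.node (nat_lit 3283) (BT.leaf (.rel (nat_lit 3221) (nat_lit 5) [(nat_lit 196), (nat_lit 1369)] [⟨(nat_lit 2177), [(nat_lit 2549)], [(nat_lit 503), (nat_lit 555)]⟩, ⟨(nat_lit 2556), [(nat_lit 2357)], [(nat_lit 747), (nat_lit 306)]⟩])) (BT.leaf (.inv (nat_lit 3282))))) (BT.node (nat_lit 3286) (BT.node (nat_lit 3285) (BT.leaf (.rel (nat_lit 1130) (nat_lit 3) [(nat_lit 462), (nat_lit 795)] [⟨(nat_lit 1963), [(nat_lit 775)], [(nat_lit 300), (nat_lit 1211)]⟩, ⟨(nat_lit 3271), [(nat_lit 1870)], [(nat_lit 175), (nat_lit 972)]⟩])) (BT.leaf (.inv (nat_lit 3284)))) (BT.node (nat_lit 3287) (BT.leaf (.rel (nat_lit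 3252) (nat_lit 3) [(nat_lit 815), (nat_lit 347)] [⟨(nat_lit 1901), [], [(nat_lit 759), (nat_lit 248)]⟩, ⟨(nat_lit 1994), [(nat_lit 1846)], [(nat_lit 97), (nat_lit 1192)]⟩])) (BT.leaf (.inv (nat_lit 3286)))))) (BT.node (nat_lit 3292) (BT.node (nat_lit 3290) (BT.node (nat_lit 3289) (BT.leaf (.rel (nat_lit 2628) (nat_lit 4) [(nat_lit 429), (nat_lit 279)] [⟨(nat_lit 2927), [(nat_lit 1582)], [(nat_lit 673), (nat_lit 142)]⟩, ⟨(nat_lit 3224), [(nat_lit 2413)], [(nat_lit 164), (nat_lit 736)]⟩])) (BT.leaf (.inv (nat_lit 3288)))) (BT.node (nat_lit 3291) (BT.leaf (.rel (nat_lit 1320) (nat_lit 0) [(nat_lit 784), (nat_lit 290)] [⟨(nat_lit 3247), [(nat_lit 775)], [(nat_lit 673), (nat_lit 813)]⟩])) (BT.leaf (.inv (nat_lit 3290))))) (BT.node (nat_lit 3294) (BT.node (nat_lit 3293) (BT.leaf (.rel (nat_lit 2538) (nat_lit 2) [(nat_lit 404), (nat_lit 898)] [⟨(nat_lit 2517),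 [(nat_lit 2237)], [(nat_lit 295), (nat_lit 584)]⟩, ⟨(nat_lit 3277), [(nat_lit 2311)], [(nat_lit 336), (nat_lit 740)]⟩])) (BT.leaf (.inv (nat_lit 3292)))) (BT.node (nat_lit 3295) (BT.leaf (.rel (nat_lit 3278) (nat_lit 4) [(nat_lit 292), (nat_lit 88)] [⟨(nat_lit 3162), [(nat_lit 2413)], [(nat_lit 272), (nat_lit 126)]⟩, ⟨(nat_lit 1294), [(nat_lit 775)], [(nat_lit 166), (nat_lit 390)]⟩])) (BT.leaf (.inv (nat_lit 3294)))))))) (BT.node (nat_lit 3312) (BT.node (nat_lit 3304) (BT.node (nat_lit 3300) (BT.node (nat_lit 3298) (BT.node (nat_lit 3297) (BT.leaf (.rel (nat_lit 3288) (nat_lit 1) [(nat_lit 914), (nat_lit 369)] [⟨(nat_lit 2695), [(nat_lit 2311)], [(nat_lit 174), (nat_lit 170)]⟩])) (BT.leaf (.inv (nat_lit 3296)))) (BT.node (nat_lit 3299) (BT.leaf (.rel (nat_lit 1947) (nat_lit 3) [(nat_lit 468), (nat_lit 171)] [⟨(nat_lit 2055), [(nat_lit 2075)], [(nat_lit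 428), (nat_lit 818)]⟩, ⟨(nat_lit 3275), [(nat_lit 2075)], [(nat_lit 840), (nat_lit 1211)]⟩])) (BT.leaf (.inv (nat_lit 3298))))) (BT.node (nat_lit 3302) (BT.node (nat_lit 3301) (BT.leaf (.rel (nat_lit 2983) (nat_lit 3) [(nat_lit 1014), (nat_lit 1009)] [⟨(nat_lit 2615), [(nat_lit 2413)], [(nat_lit 447), (nat_lit 270)]⟩, ⟨(nat_lit 3243), [(nat_lit 2237)], [(nat_lit 913), (nat_lit 308)]⟩])) (BT.leaf (.inv (nat_lit 3300)))) (BT.node (nat_lit 3303) (BT.leaf (.rel (nat_lit 3221) (nat_lit 1) [(nat_lit 357), (nat_lit 892)] [⟨(nat_lit 2301), [(nat_lit 2237)], [(nat_lit 348), (nat_lit 1472)]⟩])) (BT.leaf (.inv (nat_lit 3302)))))) (BT.node (nat_lit 3308) (BT.node (nat_lit 3306) (BT.node (nat_lit 3305) (BT.leaf (.rel (nat_lit 3238) (nat_lit 1) [(nat_lit 1195), (nat_lit 333)] [⟨(nat_lit 1705), [(nat_lit 935)], [(nat_lit 902), (nat_lit 1017)]⟩])) (BT.leaf (.inv (nat_lit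 3304)))) (BT.node (nat_lit 3307) (BT.leaf (.rel (nat_lit 2353) (nat_lit 5) [(nat_lit 825), (nat_lit 711)] [⟨(nat_lit 2920), [(nat_lit 2549)], [(nat_lit 977), (nat_lit 225)]⟩, ⟨(nat_lit 3304), [(nat_lit 775)], [(nat_lit 507), (nat_lit 384)]⟩])) (BT.leaf (.inv (nat_lit 3306))))) (BT.node (nat_lit 3310) (BT.node (nat_lit 3309) (BT.leaf (.rel (nat_lit 3157) (nat_lit 3) [(nat_lit 285), (nat_lit 288)] [⟨(nat_lit 3010), [(nat_lit 2259)], [(nat_lit 194), (nat_lit 379)]⟩, ⟨(nat_lit 3272), [(nat_lit 2311)], [(nat_lit 511), (nat_lit 693)]⟩])) (BT.leaf (.inv (nat_lit 3308)))) (BT.node (nat_lit 3311) (BT.leaf (.rel (nat_lit 2571) (nat_lit 5) [(nat_lit 167), (nat_lit 163)] [⟨(nat_lit 3167), [(nat_lit 2237)], [(nat_lit 1013), (nat_lit 89)]⟩, ⟨(nat_lit 3301), [(nat_lit 2549)], [(nat_lit 376), (nat_lit 495)]⟩])) (BT.leaf (.inv (nat_lit 3310))))))) (BT.node (nat_lit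 3320) (BT.node (nat_lit 3316) (BT.node (nat_lit 3314) (BT.node (nat_lit 3313) (BT.leaf (.rel (nat_lit 3288) (nat_lit 3) [(nat_lit 392), (nat_lit 1088)] [⟨(nat_lit 2292), [(nat_lit 2413)], [(nat_lit 522), (nat_lit 395)]⟩, ⟨(nat_lit 1227), [(nat_lit 935)], [(nat_lit 257), (nat_lit 486)]⟩])) (BT.leaf (.inv (nat_lit 3312)))) (BT.node (nat_lit 3315) (BT.leaf (.rel (nat_lit 3310) (nat_lit 1) [(nat_lit 787), (nat_lit 490)] [⟨(nat_lit 1742), [(nat_lit 935)], [(nat_lit 747), (nat_lit 491)]⟩])) (BT.leaf (.inv (nat_lit 3314))))) (BT.node (nat_lit 3318) (BT.node (nat_lit 3317) (BT.leaf (.emul [(nat_lit 654), (nat_lit 854)])) (BT.leaf (.emul [(nat_lit 654), (nat_lit 3316)]))) (BT.node (nat_lit 3319) (BT.leaf (.rel (nat_lit 3266) (nat_lit 2) [(nat_lit 1337), (nat_lit 1141)] [⟨(nat_lit 2725), [], [(nat_lit 761), (nat_lit 293)]⟩, ⟨(nat_lit 1359), [(nat_lit 3317)],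 [(nat_lit 281), (nat_lit 172)]⟩])) (BT.leaf (.inv (nat_lit 3318)))))) (BT.node (nat_lit 3324) (BT.node (nat_lit 3322) (BT.node (nat_lit 3321) (BT.leaf (.rel (nat_lit 3240) (nat_lit 3) [(nat_lit 689), (nat_lit 223)] [⟨(nat_lit 2537), [(nat_lit 2237)], [(nat_lit 695), (nat_lit 901)]⟩, ⟨(nat_lit 1904), [(nat_lit 1846)], [(nat_lit 902), (nat_lit 308)]⟩])) (BT.leaf (.inv (nat_lit 3320)))) (BT.node (nat_lit 3323) (BT.leaf (.rel (nat_lit 3295) (nat_lit 1) [(nat_lit 193), (nat_lit 605)] [⟨(nat_lit 1209), [], [(nat_lit 240), (nat_lit 1053)]⟩])) (BT.leaf (.inv (nat_lit 3322))))) (BT.node (nat_lit 3326) (BT.node (nat_lit 3325) (BT.leaf (.rel (nat_lit 1504) (nat_lit 3) [(nat_lit 208), (nat_lit 1369)] [⟨(nat_lit 2297), [(nat_lit 775)], [(nat_lit 733), (nat_lit 278)]⟩, ⟨(nat_lit 3231), [], [(nat_lit 928), (nat_lit 651)]⟩])) (BT.leaf (.inv (nat_lit 3324)))) (BT.node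 (nat_lit 3327) (BT.leaf (.rel (nat_lit 1919) (nat_lit 3) [(nat_lit 2061), (nat_lit 972)] [⟨(nat_lit 2105), [(nat_lit 1922)], [(nat_lit 166)]⟩, ⟨(nat_lit 3275), [(nat_lit 1870)], [(nat_lit 376), (nat_lit 985)]⟩])) (BT.leaf (.inv (nat_lit 3326)))))))))
noncomputable def cF3328 : BT Fc := (BT.node (nat_lit 3360) (BT.node (nat_lit 3344) (BT.node (nat_lit 3336) (BT.node (nat_lit 3332) (BT.node (nat_lit 3330) (BT.node (nat_lit 3329) (BT.leaf ⟨(nat_lit 3), (nat_lit 9), (nat_lit 11), (nat_lit 0x11dc06084008092f674225601422404), (nat_lit 0xee480300c8dfd084110203a34c0500), (nat_lit 0)⟩) (BT.leaf ⟨(nat_lit 3), (nat_lit 11), (nat_lit 9), (nat_lit 0xee480300c8dfd084110203a34c0500), (nat_lit 0x11dc06084008092f674225601422404), (nat_lit 0)⟩)) (BT.node (nat_lit 3331) (BT.leaf ⟨(nat_lit 3), (nat_lit 9), (nat_lit 11), (nat_lit 0x1e3e01744104028012bb00697501738), (nat_lit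 0x17b082204809cf8223e7934018e8884), (nat_lit 0)⟩) (BT.leaf ⟨(nat_lit 3), (nat_lit 11), (nat_lit 9), (nat_lit 0x17b082204809cf8223e7934018e8884), (nat_lit 0x1e3e01744104028012bb00697501738), (nat_lit 0)⟩))) (BT.node (nat_lit 3334) (BT.node (nat_lit 3333) (BT.leaf ⟨(nat_lit 3), (nat_lit 7), (nat_lit 11), (nat_lit 0x114c39c72866cd7c84637fd69b166ca), (nat_lit 0xf8dd1acc37982d71d177d6f8652fe3), (nat_lit 0)⟩) (BT.leaf ⟨(nat_lit 3), (nat_lit 11), (nat_lit 7), (nat_lit 0xf8dd1acc37982d71d177d6f8652fe3), (nat_lit 0x114c39c72866cd7c84637fd69b166ca), (nat_lit 0)⟩)) (BT.node (nat_lit 3335) (BT.leaf ⟨(nat_lit 3), (nat_lit 9), (nat_lit 11), (nat_lit 0x121040883bb258045e0e644200c127), (nat_lit 0x1bc0bcd17d686c97a6f539db918e4f4), (nat_lit 0)⟩) (BT.leaf ⟨(nat_lit 3), (nat_lit 11), (nat_lit 9), (nat_lit 0x1bc0bcd17d686c97a6f539db918e4f4), (nat_lit 0x121040883bb258045e0e644200c127),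 (nat_lit 0)⟩)))) (BT.node (nat_lit 3340) (BT.node (nat_lit 3338) (BT.node (nat_lit 3337) (BT.leaf ⟨(nat_lit 3), (nat_lit 7), (nat_lit 11), (nat_lit 0x1c3679fc61219d3dd0a0180201b1980), (nat_lit 0x1bd143ee4da99d0d94f4dedad37e2f4), (nat_lit 0)⟩) (BT.leaf ⟨(nat_lit 3), (nat_lit 11), (nat_lit 7), (nat_lit 0x1bd143ee4da99d0d94f4dedad37e2f4), (nat_lit 0x1c3679fc61219d3dd0a0180201b1980), (nat_lit 0)⟩)) (BT.node (nat_lit 3339) (BT.leaf ⟨(nat_lit 3), (nat_lit 11), (nat_lit 7), (nat_lit 0x12784f0ed91da7a4d5b1c4ee924e176), (nat_lit 0x9a8bcef689b2af6a4f4639bd0e72f4), (nat_lit 0)⟩) (BT.leaf ⟨(nat_lit 3), (nat_lit 7), (nat_lit 11), (nat_lit 0x9a8bcef689b2af6a4f4639bd0e72f4), (nat_lit 0x12784f0ed91da7a4d5b1c4ee924e176), (nat_lit 0)⟩))) (BT.node (nat_lit 3342) (BT.node (nat_lit 3341) (BT.leaf ⟨(nat_lit 3), (nat_lit 7), (nat_lit 11), (nat_lit 0x220603639e620850180f74b7e0f239),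 (nat_lit 0x1ceb7a0042000810074693d7a00125f), (nat_lit 0)⟩) (BT.leaf ⟨(nat_lit 3), (nat_lit 11), (nat_lit 7), (nat_lit 0x1ceb7a0042000810074693d7a00125f), (nat_lit 0x220603639e620850180f74b7e0f239), (nat_lit 0)⟩)) (BT.node (nat_lit 3343) (BT.leaf ⟨(nat_lit 3), (nat_lit 7), (nat_lit 11), (nat_lit 0x11caae19b0e6d2629f909e71c5ff433), (nat_lit 0x4b8ea00900a8055c73b8e4f8880821), (nat_lit 0)⟩) (BT.leaf ⟨(nat_lit 3), (nat_lit 11), (nat_lit 7), (nat_lit 0x4b8ea00900a8055c73b8e4f8880821), (nat_lit 0x11caae19b0e6d2629f909e71c5ff433), (nat_lit 0)⟩))))) (BT.node (nat_lit 3352) (BT.node (nat_lit 3348) (BT.node (nat_lit 3346) (BT.node (nat_lit 3345) (BT.leaf ⟨(nat_lit 3), (nat_lit 7), (nat_lit 11), (nat_lit 0x102093f4e0104200c5e0012029f5c96), (nat_lit 0xfae373e2fc6b30de236efaf0db1cd9), (nat_lit 0)⟩) (BT.leaf ⟨(nat_lit 3), (nat_lit 11), (nat_lit 7), (nat_lit 0xfae373e2fc6b30de236efaf0db1cd9),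 (nat_lit 0x102093f4e0104200c5e0012029f5c96), (nat_lit 0)⟩)) (BT.node (nat_lit 3347) (BT.leaf ⟨(nat_lit 3), (nat_lit 11), (nat_lit 7), (nat_lit 0x6caa3766cd3467235ff94ba4fab706), (nat_lit 0x1cfa9d73ae35ceda4e3addfcab0acd9), (nat_lit 0)⟩) (BT.leaf ⟨(nat_lit 3), (nat_lit 7), (nat_lit 11), (nat_lit 0x1cfa9d73ae35ceda4e3addfcab0acd9), (nat_lit 0x6caa3766cd3467235ff94ba4fab706), (nat_lit 0)⟩))) (BT.node (nat_lit 3350) (BT.node (nat_lit 3349) (BT.leaf ⟨(nat_lit 3), (nat_lit 7), (nat_lit 11), (nat_lit 0x49c95b7072ccbc878fa25a0bf0acc7), (nat_lit 0x10be68489bce8c6043343f10022706), (nat_lit 0)⟩) (BT.leaf ⟨(nat_lit 3), (nat_lit 11), (nat_lit 7), (nat_lit 0x10be68489bce8c6043343f10022706), (nat_lit 0x49c95b7072ccbc878fa25a0bf0acc7), (nat_lit 0)⟩)) (BT.node (nat_lit 3351) (BT.leaf ⟨(nat_lit 3), (nat_lit 7), (nat_lit 11), (nat_lit 0x1bd0d96f54d4c727a2f489bb5143eb4),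 (nat_lit 0x481e182804218018453da92fb8d0a0), (nat_lit 0)⟩) (BT.leaf ⟨(nat_lit 3), (nat_lit 11), (nat_lit 7), (nat_lit 0x481e182804218018453da92fb8d0a0), (nat_lit 0x1bd0d96f54d4c727a2f489bb5143eb4), (nat_lit 0)⟩)))) (BT.node (nat_lit 3356) (BT.node (nat_lit 3354) (BT.node (nat_lit 3353) (BT.leaf ⟨(nat_lit 3), (nat_lit 11), (nat_lit 7), (nat_lit 0x17a408c9fe771c8ea0030120855c6f5), (nat_lit 0x14bdb812d2df57334e151f4cbc1790f), (nat_lit 0)⟩) (BT.leaf ⟨(nat_lit 3), (nat_lit 7), (nat_lit 11), (nat_lit 0x14bdb812d2df57334e151f4cbc1790f), (nat_lit 0x17a408c9fe771c8ea0030120855c6f5), (nat_lit 0)⟩)) (BT.node (nat_lit 3355) (BT.leaf ⟨(nat_lit 3), (nat_lit 7), (nat_lit 11), (nat_lit 0x125bc29dd7d64212b927e9c8237e018), (nat_lit 0x1e2786c6ecb1636e96a24cbeb69a7cd), (nat_lit 0)⟩) (BT.leaf ⟨(nat_lit 3), (nat_lit 11), (nat_lit 7), (nat_lit 0x1e2786c6ecb1636e96a24cbeb69a7cd),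 (nat_lit 0x125bc29dd7d64212b927e9c8237e018), (nat_lit 0)⟩))) (BT.node (nat_lit 3358) (BT.node (nat_lit 3357) (BT.leaf ⟨(nat_lit 3), (nat_lit 11), (nat_lit 7), (nat_lit 0xf54e29d4cb1bbd1b1d12aa656a58fa), (nat_lit 0x996375d22f3c37c2b8d196ff85be58), (nat_lit 0)⟩) (BT.leaf ⟨(nat_lit 3), (nat_lit 7), (nat_lit 11), (nat_lit 0x996375d22f3c37c2b8d196ff85be58), (nat_lit 0xf54e29d4cb1bbd1b1d12aa656a58fa), (nat_lit 0)⟩)) (BT.node (nat_lit 3359) (BT.leaf ⟨(nat_lit 3), (nat_lit 5), (nat_lit 11), (nat_lit 0xb3171b637e72966cba33c6f87f1be7), (nat_lit 0x1f6cd96f050fbd76a6f65e99d3724f4), (nat_lit 0)⟩) (BT.leaf ⟨(nat_lit 3), (nat_lit 11), (nat_lit 5), (nat_lit 0x1f6cd96f050fbd76a6f65e99d3724f4), (nat_lit 0xb3171b637e72966cba33c6f87f1be7), (nat_lit 0)⟩)))))) (BT.node (nat_lit 3376) (BT.node (nat_lit 3368) (BT.node (nat_lit 3364) (BT.node (nat_lit 3362) (BT.node (nat_lit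 3361) (BT.leaf ⟨(nat_lit 3), (nat_lit 11), (nat_lit 7), (nat_lit 0x182d697e82ed6a2745c887b31fdbf51), (nat_lit 0x16788112020840746ce85c7fd31d180), (nat_lit 0)⟩) (BT.leaf ⟨(nat_lit 3), (nat_lit 7), (nat_lit 11), (nat_lit 0x16788112020840746ce85c7fd31d180), (nat_lit 0x182d697e82ed6a2745c887b31fdbf51), (nat_lit 0)⟩)) (BT.node (nat_lit 3363) (BT.leaf ⟨(nat_lit 3), (nat_lit 11), (nat_lit 7), (nat_lit 0x191957519d27c1ba3f66a8d9a5ec5ff), (nat_lit 0x49ef0408f0aac40500c01277424496), (nat_lit 0)⟩) (BT.leaf ⟨(nat_lit 3), (nat_lit 7), (nat_lit 11), (nat_lit 0x49ef0408f0aac40500c01277424496), (nat_lit 0x191957519d27c1ba3f66a8d9a5ec5ff), (nat_lit 0)⟩))) (BT.node (nat_lit 3366) (BT.node (nat_lit 3365) (BT.leaf ⟨(nat_lit 3), (nat_lit 7), (nat_lit 11), (nat_lit 0x9fd0fb70acad7d2eb8a5be97d27a5e), (nat_lit 0x411af82f5c75ccc00d520367890500), (nat_lit 0)⟩) (BT.leaf ⟨(nat_lit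 3), (nat_lit 11), (nat_lit 7), (nat_lit 0x411af82f5c75ccc00d520367890500), (nat_lit 0x9fd0fb70acad7d2eb8a5be97d27a5e), (nat_lit 0)⟩)) (BT.node (nat_lit 3367) (BT.leaf ⟨(nat_lit 3), (nat_lit 9), (nat_lit 11), (nat_lit 0x1a8bc48b7b1be329a265d1be17e68cb), (nat_lit 0x10ccb7995088140300c0f9a103bd140), (nat_lit 0)⟩) (BT.leaf ⟨(nat_lit 3), (nat_lit 11), (nat_lit 9), (nat_lit 0x10ccb7995088140300c0f9a103bd140), (nat_lit 0x1a8bc48b7b1be329a265d1be17e68cb), (nat_lit 0)⟩)))) (BT.node (nat_lit 3372) (BT.node (nat_lit 3370) (BT.node (nat_lit 3369) (BT.leaf ⟨(nat_lit 3), (nat_lit 11), (nat_lit 7), (nat_lit 0x17aa38882015e3ceb812805bd8213e1), (nat_lit 0xb30f1fe38dce8df17905c6fcdf0d17), (nat_lit 0)⟩) (BT.leaf ⟨(nat_lit 3), (nat_lit 7), (nat_lit 11), (nat_lit 0xb30f1fe38dce8df17905c6fcdf0d17), (nat_lit 0x17aa38882015e3ceb812805bd8213e1), (nat_lit 0)⟩)) (BT.node (nat_lit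 3371) (BT.leaf ⟨(nat_lit 3), (nat_lit 8), (nat_lit 11), (nat_lit 0xb33edd5c98e0bc9390f6e03ead896f), (nat_lit 0xf84030028e24080192d3ae20af549c), (nat_lit 0)⟩) (BT.leaf ⟨(nat_lit 3), (nat_lit 11), (nat_lit 8), (nat_lit 0xf84030028e24080192d3ae20af549c), (nat_lit 0xb33edd5c98e0bc9390f6e03ead896f), (nat_lit 0)⟩))) (BT.node (nat_lit 3374) (BT.node (nat_lit 3373) (BT.leaf ⟨(nat_lit 3), (nat_lit 11), (nat_lit 11), (nat_lit 0x1fd1356d4de9134e717995745f726f6), (nat_lit 0x1bbcee9f587adb06abd5baa8d8e2e93), (nat_lit 0)⟩) (BT.leaf ⟨(nat_lit 3), (nat_lit 7), (nat_lit 11), (nat_lit 0x140220c0081c18b79405f2e8c2177a), (nat_lit 0x500800d5d1b919af920203fd084573), (nat_lit 0)⟩)) (BT.node (nat_lit 3375) (BT.leaf ⟨(nat_lit 3), (nat_lit 11), (nat_lit 7), (nat_lit 0x500800d5d1b919af920203fd084573), (nat_lit 0x140220c0081c18b79405f2e8c2177a), (nat_lit 0)⟩) (BT.leaf ⟨(nat_lit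 3), (nat_lit 11), (nat_lit 9), (nat_lit 0xd8cc00a0500243e3082f74b7c424f3), (nat_lit 0x163786fcda69e15899798dd7485be58), (nat_lit 0)⟩))))) (BT.node (nat_lit 3384) (BT.node (nat_lit 3380) (BT.node (nat_lit 3378) (BT.node (nat_lit 3377) (BT.leaf ⟨(nat_lit 3), (nat_lit 9), (nat_lit 11), (nat_lit 0x163786fcda69e15899798dd7485be58), (nat_lit 0xd8cc00a0500243e3082f74b7c424f3), (nat_lit 0)⟩) (BT.leaf ⟨(nat_lit 3), (nat_lit 7), (nat_lit 11), (nat_lit 0x15952ba5b4bd2adb87b74bb97d27d19), (nat_lit 0x110021240090140cac33080e8e6f5a8), (nat_lit 0)⟩)) (BT.node (nat_lit 3379) (BT.leaf ⟨(nat_lit 3), (nat_lit 11), (nat_lit 7), (nat_lit 0x110021240090140cac33080e8e6f5a8), (nat_lit 0x15952ba5b4bd2adb87b74bb97d27d19), (nat_lit 0)⟩) (BT.leaf ⟨(nat_lit 3), (nat_lit 11), (nat_lit 5), (nat_lit 0x4002001081ce95c9d5f1b00100746), (nat_lit 0x18569792f1f449e63ea265e4b5b85b1), (nat_lit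 0)⟩))) (BT.node (nat_lit 3382) (BT.node (nat_lit 3381) (BT.leaf ⟨(nat_lit 3), (nat_lit 5), (nat_lit 11), (nat_lit 0x18569792f1f449e63ea265e4b5b85b1), (nat_lit 0x4002001081ce95c9d5f1b00100746), (nat_lit 0)⟩) (BT.leaf ⟨(nat_lit 3), (nat_lit 11), (nat_lit 9), (nat_lit 0x1d9ba3b46c8dd38d90cbe85c1b3487c), (nat_lit 0xfccf1f7dc16f8df0b63f21364de2cc), (nat_lit 0)⟩)) (BT.node (nat_lit 3383) (BT.leaf ⟨(nat_lit 3), (nat_lit 9), (nat_lit 11), (nat_lit 0xfccf1f7dc16f8df0b63f21364de2cc), (nat_lit 0x1d9ba3b46c8dd38d90cbe85c1b3487c), (nat_lit 0)⟩) (BT.leaf ⟨(nat_lit 3), (nat_lit 11), (nat_lit 7), (nat_lit 0x197eeac01a5fae6004103d102300402), (nat_lit 0xcbe6392e6e157297acc25ae5893ea2), (nat_lit 0)⟩)))) (BT.node (nat_lit 3388) (BT.node (nat_lit 3386) (BT.node (nat_lit 3385) (BT.leaf ⟨(nat_lit 3), (nat_lit 7), (nat_lit 11), (nat_lit 0xcbe6392e6e157297acc25ae5893ea2),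 (nat_lit 0x197eeac01a5fae6004103d102300402), (nat_lit 0)⟩) (BT.leaf ⟨(nat_lit 3), (nat_lit 7), (nat_lit 11), (nat_lit 0xc96c71938209f09d7f1fd115d80a), (nat_lit 0x9750fe5ff6ed7c7338a4b6b7d27a5e), (nat_lit 0)⟩)) (BT.node (nat_lit 3387) (BT.leaf ⟨(nat_lit 3), (nat_lit 11), (nat_lit 7), (nat_lit 0x9750fe5ff6ed7c7338a4b6b7d27a5e), (nat_lit 0xc96c71938209f09d7f1fd115d80a), (nat_lit 0)⟩) (BT.leaf ⟨(nat_lit 3), (nat_lit 7), (nat_lit 11), (nat_lit 0x1595b82df4ff2ae8ca5d4b695dc565f), (nat_lit 0x1a7aa32083c79cd0132f4094e85cd8d), (nat_lit 0)⟩))) (BT.node (nat_lit 3390) (BT.node (nat_lit 3389) (BT.leaf ⟨(nat_lit 3), (nat_lit 11), (nat_lit 7), (nat_lit 0x1a7aa32083c79cd0132f4094e85cd8d), (nat_lit 0x1595b82df4ff2ae8ca5d4b695dc565f), (nat_lit 0)⟩) (BT.leaf ⟨(nat_lit 3), (nat_lit 8), (nat_lit 11), (nat_lit 0x1268023e7e7c4112d805bd84afa1084), (nat_lit 0x3ea1eb8a7ab69aa58d532bbbeeaa36),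 (nat_lit 0)⟩)) (BT.node (nat_lit 3391) (BT.leaf ⟨(nat_lit 3), (nat_lit 11), (nat_lit 8), (nat_lit 0x3ea1eb8a7ab69aa58d532bbbeeaa36), (nat_lit 0x1268023e7e7c4112d805bd84afa1084), (nat_lit 0)⟩) (BT.leaf ⟨(nat_lit 3), (nat_lit 11), (nat_lit 9), (nat_lit 0x8415481027e44127df80a0717ab012), (nat_lit 0x410023e793496ef6014e7caf402f89), (nat_lit 0)⟩)))))))
noncomputable def cP3328 : BT Pf := (BT.node (nat_lit 3360) (BT.node (nat_lit 3344) (BT.node (nat_lit 3336) (BT.node (nat_lit 3332) (BT.node (nat_lit 3330) (BT.node (nat_lit 3329) (BT.leaf (.rel (nat_lit 3315) (nat_lit 1) [(nat_lit 783), (nat_lit 169)] [⟨(nat_lit 3064), [(nat_lit 775)], [(nat_lit 1087), (nat_lit 90)]⟩])) (BT.leaf (.inv (nat_lit 3328)))) (BT.node (nat_lit 3331) (BT.leaf (.rel (nat_lit 3274) (nat_lit 5) [(nat_lit 883), (nat_lit 1939)] [⟨(nat_lit 1958), [(nat_lit 1822)], [(nat_lit 786), (nat_lit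 432)]⟩, ⟨(nat_lit 3047), [(nat_lit 935)], [(nat_lit 574), (nat_lit 398)]⟩])) (BT.leaf (.inv (nat_lit 3330))))) (BT.node (nat_lit 3334) (BT.node (nat_lit 3333) (BT.leaf (.rel (nat_lit 3245) (nat_lit 0) [(nat_lit 1032), (nat_lit 1053)] [⟨(nat_lit 2645), [(nat_lit 2311)], [(nat_lit 392), (nat_lit 449)]⟩])) (BT.leaf (.inv (nat_lit 3332)))) (BT.node (nat_lit 3335) (BT.leaf (.rel (nat_lit 3229) (nat_lit 5) [(nat_lit 380), (nat_lit 1088)] [⟨(nat_lit 2312), [(nat_lit 2413)], [(nat_lit 226), (nat_lit 1018)]⟩, ⟨(nat_lit 2380), [(nat_lit 443)], [(nat_lit 272), (nat_lit 822)]⟩])) (BT.leaf (.inv (nat_lit 3334)))))) (BT.node (nat_lit 3340) (BT.node (nat_lit 3338) (BT.node (nat_lit 3337) (BT.leaf (.rel (nat_lit 3287) (nat_lit 4) [(nat_lit 336), (nat_lit 974)] [⟨(nat_lit 3018), [(nat_lit 775)], [(nat_lit 913), (nat_lit 269)]⟩, ⟨(nat_lit 2855), [], [(nat_lit 733),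 (nat_lit 126)]⟩])) (BT.leaf (.inv (nat_lit 3336)))) (BT.node (nat_lit 3339) (BT.leaf (.rel (nat_lit 1781) (nat_lit 2) [(nat_lit 1257), (nat_lit 559)] [⟨(nat_lit 1700), [], [(nat_lit 567), (nat_lit 91)]⟩, ⟨(nat_lit 3318), [(nat_lit 775)], [(nat_lit 538), (nat_lit 1537)]⟩])) (BT.leaf (.inv (nat_lit 3338))))) (BT.node (nat_lit 3342) (BT.node (nat_lit 3341) (BT.leaf (.rel (nat_lit 3230) (nat_lit 1) [(nat_lit 93), (nat_lit 140)] [⟨(nat_lit 2281), [(nat_lit 2167)], [(nat_lit 380), (nat_lit 169)]⟩])) (BT.leaf (.inv (nat_lit 3340)))) (BT.node (nat_lit 3343) (BT.leaf (.rel (nat_lit 3337) (nat_lit 3) [(nat_lit 539), (nat_lit 1745)] [⟨(nat_lit 1427), [(nat_lit 775)], [(nat_lit 619), (nat_lit 1226)]⟩, ⟨(nat_lit 1641), [(nat_lit 775)], [(nat_lit 1126), (nat_lit 124)]⟩])) (BT.leaf (.inv (nat_lit 3342))))))) (BT.node (nat_lit 3352) (BT.node (nat_lit 3348) (BT.node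 (nat_lit 3346) (BT.node (nat_lit 3345) (BT.leaf (.rel (nat_lit 3298) (nat_lit 5) [(nat_lit 871), (nat_lit 906)] [⟨(nat_lit 944), [(nat_lit 935)], [(nat_lit 747), (nat_lit 385)]⟩, ⟨(nat_lit 1679), [(nat_lit 935)], [(nat_lit 941), (nat_lit 1088)]⟩])) (BT.leaf (.inv (nat_lit 3344)))) (BT.node (nat_lit 3347) (BT.leaf (.rel (nat_lit 2641) (nat_lit 4) [(nat_lit 1087), (nat_lit 651)] [⟨(nat_lit 2636), [(nat_lit 2549)], [(nat_lit 469), (nat_lit 566)]⟩, ⟨(nat_lit 3257), [(nat_lit 2075)], [(nat_lit 97), (nat_lit 1279)]⟩])) (BT.leaf (.inv (nat_lit 3346))))) (BT.node (nat_lit 3350) (BT.node (nat_lit 3349) (BT.leaf (.rel (nat_lit 3236) (nat_lit 0) [(nat_lit 434), (nat_lit 700)] [⟨(nat_lit 2843), [], [(nat_lit 764), (nat_lit 762)]⟩])) (BT.leaf (.inv (nat_lit 3348)))) (BT.node (nat_lit 3351) (BT.leaf (.rel (nat_lit 3256) (nat_lit 1) [(nat_lit 373), (nat_lit 362)]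 [⟨(nat_lit 2021), [(nat_lit 2223)], [(nat_lit 216), (nat_lit 1369)]⟩])) (BT.leaf (.inv (nat_lit 3350)))))) (BT.node (nat_lit 3356) (BT.node (nat_lit 3354) (BT.node (nat_lit 3353) (BT.leaf (.rel (nat_lit 1746) (nat_lit 5) [(nat_lit 832), (nat_lit 798)] [⟨(nat_lit 1693), [(nat_lit 775)], [(nat_lit 450), (nat_lit 449)]⟩, ⟨(nat_lit 3291), [], [(nat_lit 19), (nat_lit 369)]⟩])) (BT.leaf (.inv (nat_lit 3352)))) (BT.node (nat_lit 3355) (BT.leaf (.rel (nat_lit 3300) (nat_lit 0) [(nat_lit 1235), (nat_lit 88)] [⟨(nat_lit 2344), [(nat_lit 2167)], [(nat_lit 832), (nat_lit 269)]⟩])) (BT.leaf (.inv (nat_lit 3354))))) (BT.node (nat_lit 3358) (BT.node (nat_lit 3357) (BT.leaf (.rel (nat_lit 1854) (nat_lit 0) [(nat_lit 94), (nat_lit 737)] [⟨(nat_lit 3309), [(nat_lit 1822)], [(nat_lit 513), (nat_lit 1165)]⟩])) (BT.leaf (.inv (nat_lit 3356)))) (BT.node (nat_lit 3359) (BT.leaf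 (.rel (nat_lit 3230) (nat_lit 3) [(nat_lit 619), (nat_lit 737)] [⟨(nat_lit 2667), [(nat_lit 2311)], [(nat_lit 829), (nat_lit 1226)]⟩, ⟨(nat_lit 2054), [(nat_lit 2075)], [(nat_lit 193), (nat_lit 307)]⟩])) (BT.leaf (.inv (nat_lit 3358)))))))) (BT.node (nat_lit 3376) (BT.node (nat_lit 3368) (BT.node (nat_lit 3364) (BT.node (nat_lit 3362) (BT.node (nat_lit 3361) (BT.leaf (.rel (nat_lit 2001) (nat_lit 0) [(nat_lit 513), (nat_lit 710)] [⟨(nat_lit 3296), [(nat_lit 2376)], [(nat_lit 373), (nat_lit 593)]⟩])) (BT.leaf (.inv (nat_lit 3360)))) (BT.node (nat_lit 3363) (BT.leaf (.rel (nat_lit 2850) (nat_lit 4) [(nat_lit 152), (nat_lit 604)] [⟨(nat_lit 2364), [(nat_lit 2311)], [(nat_lit 209), (nat_lit 982)]⟩, ⟨(nat_lit 3309), [(nat_lit 2524)], [(nat_lit 196), (nat_lit 263)]⟩])) (BT.leaf (.inv (nat_lit 3362))))) (BT.node (nat_lit 3366) (BT.node (nat_lit 3365) (BT.leaf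 (.rel (nat_lit 3276) (nat_lit 0) [(nat_lit 1027), (nat_lit 173)] [⟨(nat_lit 2859), [(nat_lit 2237)], [(nat_lit 570), (nat_lit 263)]⟩])) (BT.leaf (.inv (nat_lit 3364)))) (BT.node (nat_lit 3367) (BT.leaf (.rel (nat_lit 3220) (nat_lit 0) [(nat_lit 1092), (nat_lit 1204)] [⟨(nat_lit 2300), [(nat_lit 775)], [(nat_lit 539), (nat_lit 1503)]⟩])) (BT.leaf (.inv (nat_lit 3366)))))) (BT.node (nat_lit 3372) (BT.node (nat_lit 3370) (BT.node (nat_lit 3369) (BT.leaf (.rel (nat_lit 2372) (nat_lit 5) [(nat_lit 1092), (nat_lit 1088)] [⟨(nat_lit 2970), [(nat_lit 2549)], [(nat_lit 97), (nat_lit 290)]⟩, ⟨(nat_lit 3314), [], [(nat_lit 250), (nat_lit 813)]⟩])) (BT.leaf (.inv (nat_lit 3368)))) (BT.node (nat_lit 3371) (BT.leaf (.rel (nat_lit 3351) (nat_lit 3) [(nat_lit 575), (nat_lit 795)] [⟨(nat_lit 1698), [(nat_lit 935)], [(nat_lit 483), (nat_lit 204)]⟩, ⟨(nat_lit 1959),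 [], [(nat_lit 1099), (nat_lit 1091)]⟩])) (BT.leaf (.inv (nat_lit 3370))))) (BT.node (nat_lit 3374) (BT.node (nat_lit 3373) (BT.leaf (.rel (nat_lit 3266) (nat_lit 1) [(nat_lit 741), (nat_lit 1018)] [⟨(nat_lit 3265), [(nat_lit 2311)], [(nat_lit 550), (nat_lit 203)]⟩])) (BT.leaf (.rel (nat_lit 3221) (nat_lit 0) [(nat_lit 299), (nat_lit 109)] [⟨(nat_lit 2572), [(nat_lit 2549)], [(nat_lit 902), (nat_lit 490)]⟩]))) (BT.node (nat_lit 3375) (BT.leaf (.inv (nat_lit 3373))) (BT.leaf (.rel (nat_lit 3167) (nat_lit 3) [(nat_lit 463), (nat_lit 289)] [⟨(nat_lit 2499), [(nat_lit 2237)], [(nat_lit 484), (nat_lit 291)]⟩, ⟨(nat_lit 3312), [(nat_lit 775)], [(nat_lit 774), (nat_lit 389)]⟩])))))) (BT.node (nat_lit 3384) (BT.node (nat_lit 3380) (BT.node (nat_lit 3378) (BT.node (nat_lit 3377) (BT.leaf (.inv (nat_lit 3375))) (BT.leaf (.rel (nat_lit 3221) (nat_lit 3) [(nat_lit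 1308), (nat_lit 1204)] [⟨(nat_lit 2913), [], [(nat_lit 424), (nat_lit 694)]⟩, ⟨(nat_lit 2444), [(nat_lit 2311)], [(nat_lit 575), (nat_lit 287)]⟩]))) (BT.node (nat_lit 3379) (BT.leaf (.inv (nat_lit 3377))) (BT.leaf (.rel (nat_lit 3049) (nat_lit 1) [(nat_lit 359), (nat_lit 307)] [⟨(nat_lit 3241), [(nat_lit 2167)], [(nat_lit 353), (nat_lit 368)]⟩])))) (BT.node (nat_lit 3382) (BT.node (nat_lit 3381) (BT.leaf (.inv (nat_lit 3379))) (BT.leaf (.rel (nat_lit 2758) (nat_lit 0) [(nat_lit 226), (nat_lit 1133)] [⟨(nat_lit 3272), [(nat_lit 2549)], [(nat_lit 783), (nat_lit 334)]⟩]))) (BT.node (nat_lit 3383) (BT.leaf (.inv (nat_lit 3381))) (BT.leaf (.rel (nat_lit 1324) (nat_lit 3) [(nat_lit 259), (nat_lit 396)] [⟨(nat_lit 1207), [], [(nat_lit 488), (nat_lit 319)]⟩, ⟨(nat_lit 3260), [], [(nat_lit 1126), (nat_lit 870)]⟩]))))) (BT.node (nat_lit 3388) (BT.node (nat_lit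 3386) (BT.node (nat_lit 3385) (BT.leaf (.inv (nat_lit 3383))) (BT.leaf (.rel (nat_lit 3378) (nat_lit 2) [(nat_lit 257), (nat_lit 717)] [⟨(nat_lit 2714), [(nat_lit 775)], [(nat_lit 620), (nat_lit 572)]⟩, ⟨(nat_lit 2250), [(nat_lit 2311)], [(nat_lit 296), (nat_lit 401)]⟩]))) (BT.node (nat_lit 3387) (BT.leaf (.inv (nat_lit 3385))) (BT.leaf (.rel (nat_lit 3362) (nat_lit 4) [(nat_lit 913), (nat_lit 1070)] [⟨(nat_lit 1704), [], [(nat_lit 394), (nat_lit 1025)]⟩, ⟨(nat_lit 1396), [], [(nat_lit 781), (nat_lit 333)]⟩])))) (BT.node (nat_lit 3390) (BT.node (nat_lit 3389) (BT.leaf (.inv (nat_lit 3387))) (BT.leaf (.rel (nat_lit 3240) (nat_lit 0) [(nat_lit 538), (nat_lit 1204)] [⟨(nat_lit 2752), [], [(nat_lit 1308), (nat_lit 818)]⟩]))) (BT.node (nat_lit 3391) (BT.leaf (.inv (nat_lit 3389))) (BT.leaf (.rel (nat_lit 2649) (nat_lit 5) [(nat_lit 587), (nat_lit 202)]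 [⟨(nat_lit 2260), [(nat_lit 775)], [(nat_lit 787), (nat_lit 395)]⟩, ⟨(nat_lit 3382), [(nat_lit 2167)], [(nat_lit 1195), (nat_lit 814)]⟩]))))))))
noncomputable def cF3392 : BT Fc := (BT.node (nat_lit 3424) (BT.node (nat_lit 3408) (BT.node (nat_lit 3400) (BT.node (nat_lit 3396) (BT.node (nat_lit 3394) (BT.node (nat_lit 3393) (BT.leaf ⟨(nat_lit 3), (nat_lit 9), (nat_lit 11), (nat_lit 0x410023e793496ef6014e7caf402f89), (nat_lit 0x8415481027e44127df80a0717ab012), (nat_lit 0)⟩) (BT.leaf ⟨(nat_lit 3), (nat_lit 11), (nat_lit 7), (nat_lit 0x19a6d88fa98f4bc8792ffb64ff0a82f), (nat_lit 0x13d2a358da74a03f41e340880510200), (nat_lit 0)⟩)) (BT.node (nat_lit 3395) (BT.leaf ⟨(nat_lit 3), (nat_lit 7), (nat_lit 11), (nat_lit 0x13d2a358da74a03f41e340880510200), (nat_lit 0x19a6d88fa98f4bc8792ffb64ff0a82f), (nat_lit 0)⟩) (BT.leaf ⟨(nat_lit 3), (nat_lit 11), (nat_lit 4),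 (nat_lit 0x16c64f627b3d52d89e9e91c3b4bb49f), (nat_lit 0x9035a0c05f2141d194032a1802277a), (nat_lit 0)⟩))) (BT.node (nat_lit 3398) (BT.node (nat_lit 3397) (BT.leaf ⟨(nat_lit 3), (nat_lit 4), (nat_lit 11), (nat_lit 0x9035a0c05f2141d194032a1802277a), (nat_lit 0x16c64f627b3d52d89e9e91c3b4bb49f), (nat_lit 0)⟩) (BT.leaf ⟨(nat_lit 3), (nat_lit 11), (nat_lit 8), (nat_lit 0x1134d91cece9bf143ff4debbc18e6b4), (nat_lit 0x1f3465d34f0beb5ff68dd45e3ec6b13), (nat_lit 0)⟩)) (BT.node (nat_lit 3399) (BT.leaf ⟨(nat_lit 3), (nat_lit 8), (nat_lit 11), (nat_lit 0x1f3465d34f0beb5ff68dd45e3ec6b13), (nat_lit 0x1134d91cece9bf143ff4debbc18e6b4), (nat_lit 0)⟩) (BT.leaf ⟨(nat_lit 3), (nat_lit 11), (nat_lit 8), (nat_lit 0x18023e7809e24222bd0197b082005), (nat_lit 0x10cf39da6c59b2ab98ed8e6d24cda87), (nat_lit 0)⟩)))) (BT.node (nat_lit 3404) (BT.node (nat_lit 3402) (BT.node (nat_lit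 3401) (BT.leaf ⟨(nat_lit 3), (nat_lit 8), (nat_lit 11), (nat_lit 0x10cf39da6c59b2ab98ed8e6d24cda87), (nat_lit 0x18023e7809e24222bd0197b082005), (nat_lit 0)⟩) (BT.leaf ⟨(nat_lit 3), (nat_lit 7), (nat_lit 11), (nat_lit 0x11dc42404e85e252dc9a2081139f005), (nat_lit 0x1df64e09e91c5dacf69e626f62a5c9e), (nat_lit 0)⟩)) (BT.node (nat_lit 3403) (BT.leaf ⟨(nat_lit 3), (nat_lit 11), (nat_lit 7), (nat_lit 0x1df64e09e91c5dacf69e626f62a5c9e), (nat_lit 0x11dc42404e85e252dc9a2081139f005), (nat_lit 0)⟩) (BT.leaf ⟨(nat_lit 3), (nat_lit 9), (nat_lit 11), (nat_lit 0x131ef45eab909961eaaebd97a5694e8), (nat_lit 0x977c780608400d0174402475c01022), (nat_lit 0)⟩))) (BT.node (nat_lit 3406) (BT.node (nat_lit 3405) (BT.leaf ⟨(nat_lit 3), (nat_lit 11), (nat_lit 9), (nat_lit 0x977c780608400d0174402475c01022), (nat_lit 0x131ef45eab909961eaaebd97a5694e8), (nat_lit 0)⟩) (BT.leaf ⟨(nat_lit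 3), (nat_lit 11), (nat_lit 7), (nat_lit 0x8079df8ce8f1ca0081157097a4fef5), (nat_lit 0x17a18e26598eb4af4dc8bd56a305df8), (nat_lit 0)⟩)) (BT.node (nat_lit 3407) (BT.leaf ⟨(nat_lit 3), (nat_lit 7), (nat_lit 11), (nat_lit 0x17a18e26598eb4af4dc8bd56a305df8), (nat_lit 0x8079df8ce8f1ca0081157097a4fef5), (nat_lit 0)⟩) (BT.leaf ⟨(nat_lit 3), (nat_lit 11), (nat_lit 4), (nat_lit 0x1296ff8cbe886cb233357b14643e756), (nat_lit 0x20008107c7d1840473bd097c802b9), (nat_lit 0)⟩))))) (BT.node (nat_lit 3416) (BT.node (nat_lit 3412) (BT.node (nat_lit 3410) (BT.node (nat_lit 3409) (BT.leaf ⟨(nat_lit 3), (nat_lit 4), (nat_lit 11), (nat_lit 0x20008107c7d1840473bd097c802b9), (nat_lit 0x1296ff8cbe886cb233357b14643e756), (nat_lit 0)⟩) (BT.leaf ⟨(nat_lit 3), (nat_lit 11), (nat_lit 11), (nat_lit 0x14bdc6c0068c27a00c085e81cf2ffe3), (nat_lit 0x32f67420092680292b3a20512dbe7), (nat_lit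 0)⟩)) (BT.node (nat_lit 3411) (BT.leaf ⟨(nat_lit 3), (nat_lit 7), (nat_lit 11), (nat_lit 0x5695c2bdbff60d5dc4d773d475cab1), (nat_lit 0x4bd2f9d520010004001e8c202f4010), (nat_lit 0)⟩) (BT.leaf ⟨(nat_lit 3), (nat_lit 11), (nat_lit 7), (nat_lit 0x4bd2f9d520010004001e8c202f4010), (nat_lit 0x5695c2bdbff60d5dc4d773d475cab1), (nat_lit 0)⟩))) (BT.node (nat_lit 3414) (BT.node (nat_lit 3413) (BT.leaf ⟨(nat_lit 3), (nat_lit 8), (nat_lit 11), (nat_lit 0x1ce8978807c6020015e804004080746), (nat_lit 0x1b05afd194af2ad0f8e64bd8b12fb70), (nat_lit 0)⟩) (BT.leaf ⟨(nat_lit 3), (nat_lit 11), (nat_lit 8), (nat_lit 0x1b05afd194af2ad0f8e64bd8b12fb70), (nat_lit 0x1ce8978807c6020015e804004080746), (nat_lit 0)⟩)) (BT.node (nat_lit 3415) (BT.leaf ⟨(nat_lit 3), (nat_lit 7), (nat_lit 11), (nat_lit 0x174bc6b13cb11bbe6fad16fe3132e8d), (nat_lit 0x3e8eebd546d0f4eb9c5b4dbbceadd5), (nat_lit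 0)⟩) (BT.leaf ⟨(nat_lit 3), (nat_lit 11), (nat_lit 7), (nat_lit 0x3e8eebd546d0f4eb9c5b4dbbceadd5), (nat_lit 0x174bc6b13cb11bbe6fad16fe3132e8d), (nat_lit 0)⟩)))) (BT.node (nat_lit 3420) (BT.node (nat_lit 3418) (BT.node (nat_lit 3417) (BT.leaf ⟨(nat_lit 3), (nat_lit 9), (nat_lit 11), (nat_lit 0x107ab40841408e44870d2ab3cfdd280), (nat_lit 0x1a36803b920248017ff4c74410804e8), (nat_lit 0)⟩) (BT.leaf ⟨(nat_lit 3), (nat_lit 11), (nat_lit 9), (nat_lit 0x1a36803b920248017ff4c74410804e8), (nat_lit 0x107ab40841408e44870d2ab3cfdd280), (nat_lit 0)⟩)) (BT.node (nat_lit 3419) (BT.leaf ⟨(nat_lit 3), (nat_lit 11), (nat_lit 11), (nat_lit 0x1a4fab74ec8d5199af4468c6ca8cdff), (nat_lit 0x107a4e54b9352fb13cde7b1278bb5b1), (nat_lit 0)⟩) (BT.leaf ⟨(nat_lit 3), (nat_lit 11), (nat_lit 11), (nat_lit 0x107a4e54b9352fb13cde7b1278bb5b1), (nat_lit 0x1a4fab74ec8d5199af4468c6ca8cdff),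 (nat_lit 0)⟩))) (BT.node (nat_lit 3422) (BT.node (nat_lit 3421) (BT.leaf ⟨(nat_lit 3), (nat_lit 9), (nat_lit 11), (nat_lit 0xbd71904280480c035fc8d4027463a), (nat_lit 0x10052f1d4403d1c40ab80060864fde9), (nat_lit 0)⟩) (BT.leaf ⟨(nat_lit 3), (nat_lit 11), (nat_lit 9), (nat_lit 0x10052f1d4403d1c40ab80060864fde9), (nat_lit 0xbd71904280480c035fc8d4027463a), (nat_lit 0)⟩)) (BT.node (nat_lit 3423) (BT.leaf ⟨(nat_lit 3), (nat_lit 8), (nat_lit 11), (nat_lit 0x4ac97e69b6249cb782f25ba8a97d5c), (nat_lit 0x1749c6e58b1be77c797916f4d065f8c), (nat_lit 0)⟩) (BT.leaf ⟨(nat_lit 3), (nat_lit 11), (nat_lit 8), (nat_lit 0x1749c6e58b1be77c797916f4d065f8c), (nat_lit 0x4ac97e69b6249cb782f25ba8a97d5c), (nat_lit 0)⟩)))))) (BT.node (nat_lit 3440) (BT.node (nat_lit 3432) (BT.node (nat_lit 3428) (BT.node (nat_lit 3426) (BT.node (nat_lit 3425) (BT.leaf ⟨(nat_lit 3), (nat_lit 11),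 (nat_lit 7), (nat_lit 0x1402eaaf4840ce9c6c00fc700b2f9e8), (nat_lit 0x17e127ee4220aa409410f3a061f9890), (nat_lit 0)⟩) (BT.leaf ⟨(nat_lit 3), (nat_lit 7), (nat_lit 11), (nat_lit 0x17e127ee4220aa409410f3a061f9890), (nat_lit 0x1402eaaf4840ce9c6c00fc700b2f9e8), (nat_lit 0)⟩)) (BT.node (nat_lit 3427) (BT.leaf ⟨(nat_lit 2), (nat_lit 10), (nat_lit 10), (nat_lit 0xf8d1b4a5746fcdf13e73c6d8df5f90), (nat_lit 0), (nat_lit 0)⟩) (BT.leaf ⟨(nat_lit 2), (nat_lit 10), (nat_lit 10), (nat_lit 0x877a9d402201600881bd2107a3801), (nat_lit 0), (nat_lit 0)⟩))) (BT.node (nat_lit 3430) (BT.node (nat_lit 3429) (BT.leaf ⟨(nat_lit 3), (nat_lit 9), (nat_lit 11), (nat_lit 0x5e7edef6deac737e674de145e559b2), (nat_lit 0x140213a3082180227cd5f3de90fc33), (nat_lit 0)⟩) (BT.leaf ⟨(nat_lit 3), (nat_lit 11), (nat_lit 9), (nat_lit 0x140213a3082180227cd5f3de90fc33), (nat_lit 0x5e7edef6deac737e674de145e559b2),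 (nat_lit 0)⟩)) (BT.node (nat_lit 3431) (BT.leaf ⟨(nat_lit 3), (nat_lit 7), (nat_lit 11), (nat_lit 0x2111ce74140a00601801202216fcf3), (nat_lit 0x1699ff433d9557279e738eecd638f90), (nat_lit 0)⟩) (BT.leaf ⟨(nat_lit 3), (nat_lit 11), (nat_lit 7), (nat_lit 0x1699ff433d9557279e738eecd638f90), (nat_lit 0x2111ce74140a00601801202216fcf3), (nat_lit 0)⟩)))) (BT.node (nat_lit 3436) (BT.node (nat_lit 3434) (BT.node (nat_lit 3433) (BT.leaf ⟨(nat_lit 3), (nat_lit 7), (nat_lit 11), (nat_lit 0x1c84d94ab9e85e57a6d450fbc1356f6), (nat_lit 0x13d34f32f3c78005ca084034e91058d), (nat_lit 0)⟩) (BT.leaf ⟨(nat_lit 3), (nat_lit 11), (nat_lit 7), (nat_lit 0x13d34f32f3c78005ca084034e91058d), (nat_lit 0x1c84d94ab9e85e57a6d450fbc1356f6), (nat_lit 0)⟩)) (BT.node (nat_lit 3435) (BT.leaf ⟨(nat_lit 3), (nat_lit 11), (nat_lit 9), (nat_lit 0x17b2f019b4cb6a0bb4e8c177a2f55f8), (nat_lit 0x14653fa1f4ae6f2e935f6e017d2de5f),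 (nat_lit 0)⟩) (BT.leaf ⟨(nat_lit 3), (nat_lit 9), (nat_lit 11), (nat_lit 0x14653fa1f4ae6f2e935f6e017d2de5f), (nat_lit 0x17b2f019b4cb6a0bb4e8c177a2f55f8), (nat_lit 0)⟩))) (BT.node (nat_lit 3438) (BT.node (nat_lit 3437) (BT.leaf ⟨(nat_lit 3), (nat_lit 11), (nat_lit 5), (nat_lit 0x1f6d7a6f0da99d1356f5a2ffd255b1c), (nat_lit 0x1ae57a38d80575680404fc700297c01), (nat_lit 0)⟩) (BT.leaf ⟨(nat_lit 3), (nat_lit 5), (nat_lit 11), (nat_lit 0x1ae57a38d80575680404fc700297c01), (nat_lit 0x1f6d7a6f0da99d1356f5a2ffd255b1c), (nat_lit 0)⟩)) (BT.node (nat_lit 3439) (BT.leaf ⟨(nat_lit 3), (nat_lit 11), (nat_lit 7), (nat_lit 0x1a36370b7f0be2532f8cf5bf37ceea2), (nat_lit 0x13a1dcb5f2084006ad00c8c6008802f), (nat_lit 0)⟩) (BT.leaf ⟨(nat_lit 3), (nat_lit 7), (nat_lit 11), (nat_lit 0x13a1dcb5f2084006ad00c8c6008802f), (nat_lit 0x1a36370b7f0be2532f8cf5bf37ceea2), (nat_lit 0)⟩)))))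 (BT.node (nat_lit 3448) (BT.node (nat_lit 3444) (BT.node (nat_lit 3442) (BT.node (nat_lit 3441) (BT.leaf ⟨(nat_lit 3), (nat_lit 9), (nat_lit 11), (nat_lit 0xcea9d73a39d365a487ce77c6ac1eef), (nat_lit 0x1856b28b79b2b4b77f1ac74e939953a), (nat_lit 0)⟩) (BT.leaf ⟨(nat_lit 3), (nat_lit 11), (nat_lit 9), (nat_lit 0x1856b28b79b2b4b77f1ac74e939953a), (nat_lit 0xcea9d73a39d365a487ce77c6ac1eef), (nat_lit 0)⟩)) (BT.node (nat_lit 3443) (BT.leaf ⟨(nat_lit 3), (nat_lit 7), (nat_lit 11), (nat_lit 0x11dd2d844409d0b78104f1201095806), (nat_lit 0x18e88435f204c00a02e377391882110), (nat_lit 0)⟩) (BT.leaf ⟨(nat_lit 3), (nat_lit 11), (nat_lit 7), (nat_lit 0x18e88435f204c00a02e377391882110), (nat_lit 0x11dd2d844409d0b78104f1201095806), (nat_lit 0)⟩))) (BT.node (nat_lit 3446) (BT.node (nat_lit 3445) (BT.leaf ⟨(nat_lit 3), (nat_lit 11), (nat_lit 7), (nat_lit 0x9780080325c406393e24037a420c9f),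 (nat_lit 0x2220f0845bf5a040a80100600aa8c0), (nat_lit 0)⟩) (BT.leaf ⟨(nat_lit 3), (nat_lit 7), (nat_lit 11), (nat_lit 0x2220f0845bf5a040a80100600aa8c0), (nat_lit 0x9780080325c406393e24037a420c9f), (nat_lit 0)⟩)) (BT.node (nat_lit 3447) (BT.leaf ⟨(nat_lit 3), (nat_lit 7), (nat_lit 11), (nat_lit 0x50090646fe8404c063aa00402cf68d), (nat_lit 0x95df384ba4b4051d708404a4e78f), (nat_lit 0)⟩) (BT.leaf ⟨(nat_lit 3), (nat_lit 11), (nat_lit 7), (nat_lit 0x95df384ba4b4051d708404a4e78f), (nat_lit 0x50090646fe8404c063aa00402cf68d), (nat_lit 0)⟩)))) (BT.node (nat_lit 3452) (BT.node (nat_lit 3450) (BT.node (nat_lit 3449) (BT.leaf ⟨(nat_lit 3), (nat_lit 11), (nat_lit 9), (nat_lit 0xf9c95ef0e84af63b84400a4100625b), (nat_lit 0x142d40609bcbe50f9408801035a706), (nat_lit 0)⟩) (BT.leaf ⟨(nat_lit 3), (nat_lit 9), (nat_lit 11), (nat_lit 0x142d40609bcbe50f9408801035a706), (nat_lit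 0xf9c95ef0e84af63b84400a4100625b), (nat_lit 0)⟩)) (BT.node (nat_lit 3451) (BT.leaf ⟨(nat_lit 3), (nat_lit 9), (nat_lit 11), (nat_lit 0x750e8da6d26714cae586d952ceba36), (nat_lit 0x180224339bd100a0048f9bc1ad4040), (nat_lit 0)⟩) (BT.leaf ⟨(nat_lit 3), (nat_lit 11), (nat_lit 9), (nat_lit 0x180224339bd100a0048f9bc1ad4040), (nat_lit 0x750e8da6d26714cae586d952ceba36), (nat_lit 0)⟩))) (BT.node (nat_lit 3454) (BT.node (nat_lit 3453) (BT.leaf ⟨(nat_lit 3), (nat_lit 9), (nat_lit 11), (nat_lit 0x10060265f71b4bda3402901f8c4f2f4), (nat_lit 0x1f8e804016750222009e82108039c00), (nat_lit 0)⟩) (BT.leaf ⟨(nat_lit 3), (nat_lit 11), (nat_lit 9), (nat_lit 0x1f8e804016750222009e82108039c00), (nat_lit 0x10060265f71b4bda3402901f8c4f2f4), (nat_lit 0)⟩)) (BT.node (nat_lit 3455) (BT.leaf ⟨(nat_lit 2), (nat_lit 11), (nat_lit 11), (nat_lit 0x1d47dbcc7bd96a2742aebd17e2f543d), (nat_lit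 0), (nat_lit 0)⟩) (BT.leaf ⟨(nat_lit 3), (nat_lit 9), (nat_lit 11), (nat_lit 0xa64907adb9114c10a7f97dd9b6a220), (nat_lit 0x655c51d7cb0746a59dd2aa3551b1c5), (nat_lit 0)⟩)))))))
noncomputable def cP3392 : BT Pf := (BT.node (nat_lit 3424) (BT.node (nat_lit 3408) (BT.node (nat_lit 3400) (BT.node (nat_lit 3396) (BT.node (nat_lit 3394) (BT.node (nat_lit 3393) (BT.leaf (.inv (nat_lit 3391))) (BT.leaf (.rel (nat_lit 2322) (nat_lit 1) [(nat_lit 416), (nat_lit 1136)] [⟨(nat_lit 3227), [(nat_lit 2167)], [(nat_lit 424), (nat_lit 127)]⟩]))) (BT.node (nat_lit 3395) (BT.leaf (.inv (nat_lit 3393))) (BT.leaf (.rel (nat_lit 1620) (nat_lit 0) [(nat_lit 957), (nat_lit 533)] [⟨(nat_lit 3357), [(nat_lit 935)], [(nat_lit 258), (nat_lit 269)]⟩])))) (BT.node (nat_lit 3398) (BT.node (nat_lit 3397) (BT.leaf (.inv (nat_lit 3395))) (BT.leaf (.rel (nat_lit 1908) (nat_lit 2) [(nat_lit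 250), (nat_lit 438)] [⟨(nat_lit 1693), [(nat_lit 935)], [(nat_lit 802)]⟩, ⟨(nat_lit 3344), [(nat_lit 935)], [(nat_lit 280), (nat_lit 1247)]⟩]))) (BT.node (nat_lit 3399) (BT.leaf (.inv (nat_lit 3397))) (BT.leaf (.rel (nat_lit 3150) (nat_lit 4) [(nat_lit 469), (nat_lit 712)] [⟨(nat_lit 2827), [(nat_lit 2237)], [(nat_lit 915), (nat_lit 1083)]⟩, ⟨(nat_lit 3350), [], [(nat_lit 1012), (nat_lit 1376)]⟩]))))) (BT.node (nat_lit 3404) (BT.node (nat_lit 3402) (BT.node (nat_lit 3401) (BT.leaf (.inv (nat_lit 3399))) (BT.leaf (.rel (nat_lit 3341) (nat_lit 5) [(nat_lit 579), (nat_lit 506)] [⟨(nat_lit 1497), [], [(nat_lit 883), (nat_lit 1136)]⟩, ⟨(nat_lit 1687), [(nat_lit 935)], [(nat_lit 840), (nat_lit 169)]⟩]))) (BT.node (nat_lit 3403) (BT.leaf (.inv (nat_lit 3401))) (BT.leaf (.rel (nat_lit 3240) (nat_lit 3) [(nat_lit 522), (nat_lit 495)] [⟨(nat_lit 3013), [], [(nat_lit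 1235), (nat_lit 1211)]⟩, ⟨(nat_lit 2322), [(nat_lit 775)], [(nat_lit 905), (nat_lit 367)]⟩])))) (BT.node (nat_lit 3406) (BT.node (nat_lit 3405) (BT.leaf (.inv (nat_lit 3403))) (BT.leaf (.rel (nat_lit 1792) (nat_lit 0) [(nat_lit 789), (nat_lit 107)] [⟨(nat_lit 3260), [(nat_lit 935)], [(nat_lit 19), (nat_lit 1369)]⟩]))) (BT.node (nat_lit 3407) (BT.leaf (.inv (nat_lit 3405))) (BT.leaf (.rel (nat_lit 1200) (nat_lit 5) [(nat_lit 239), (nat_lit 593)] [⟨(nat_lit 1313), [], [(nat_lit 215), (nat_lit 593)]⟩, ⟨(nat_lit 3342), [(nat_lit 775)], [(nat_lit 539), (nat_lit 88)]⟩])))))) (BT.node (nat_lit 3416) (BT.node (nat_lit 3412) (BT.node (nat_lit 3410) (BT.node (nat_lit 3409) (BT.leaf (.inv (nat_lit 3407))) (BT.leaf (.rel (nat_lit 3274) (nat_lit 0) [(nat_lit 466)] [⟨(nat_lit 3370), [(nat_lit 1922)], [(nat_lit 832), (nat_lit 1133)]⟩]))) (BT.node (nat_lit 3411) (BT.leaf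 (.rel (nat_lit 3378) (nat_lit 3) [(nat_lit 258), (nat_lit 1101)] [⟨(nat_lit 1829), [(nat_lit 935)], [(nat_lit 177), (nat_lit 795)]⟩, ⟨(nat_lit 2006), [(nat_lit 2524)], [(nat_lit 1102), (nat_lit 126)]⟩])) (BT.leaf (.inv (nat_lit 3410))))) (BT.node (nat_lit 3414) (BT.node (nat_lit 3413) (BT.leaf (.rel (nat_lit 3261) (nat_lit 3) [(nat_lit 1173), (nat_lit 253)] [⟨(nat_lit 2322), [(nat_lit 935)], [(nat_lit 358), (nat_lit 1605)]⟩, ⟨(nat_lit 2568), [(nat_lit 2413)], [(nat_lit 1600), (nat_lit 1123)]⟩])) (BT.leaf (.inv (nat_lit 3412)))) (BT.node (nat_lit 3415) (BT.leaf (.rel (nat_lit 3267) (nat_lit 0) [(nat_lit 256), (nat_lit 504)] [⟨(nat_lit 1475), [], [(nat_lit 483), (nat_lit 624)]⟩])) (BT.leaf (.inv (nat_lit 3414)))))) (BT.node (nat_lit 3420) (BT.node (nat_lit 3418) (BT.node (nat_lit 3417) (BT.leaf (.rel (nat_lit 3338) (nat_lit 4) [(nat_lit 1056), (nat_lit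 795)] [⟨(nat_lit 1378), [(nat_lit 935)], [(nat_lit 165), (nat_lit 555)]⟩, ⟨(nat_lit 2996), [], [(nat_lit 911), (nat_lit 225)]⟩])) (BT.leaf (.inv (nat_lit 3416)))) (BT.node (nat_lit 3419) (BT.leaf (.rel (nat_lit 3267) (nat_lit 0) [(nat_lit 209), (nat_lit 681)] [⟨(nat_lit 3401), [(nat_lit 775)], [(nat_lit 94), (nat_lit 125)]⟩])) (BT.leaf (.inv (nat_lit 3418))))) (BT.node (nat_lit 3422) (BT.node (nat_lit 3421) (BT.leaf (.rel (nat_lit 3221) (nat_lit 4) [(nat_lit 255), (nat_lit 0)] [⟨(nat_lit 3042), [(nat_lit 2311)], [(nat_lit 165), (nat_lit 347)]⟩, ⟨(nat_lit 2991), [], [(nat_lit 707), (nat_lit 647)]⟩])) (BT.leaf (.inv (nat_lit 3420)))) (BT.node (nat_lit 3423) (BT.leaf (.rel (nat_lit 3351) (nat_lit 0) [(nat_lit 1004), (nat_lit 1083)] [⟨(nat_lit 2077), [(nat_lit 935)], [(nat_lit 387), (nat_lit 0)]⟩])) (BT.leaf (.inv (nat_lit 3422)))))))) (BT.node (nat_lit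 3440) (BT.node (nat_lit 3432) (BT.node (nat_lit 3428) (BT.node (nat_lit 3426) (BT.node (nat_lit 3425) (BT.leaf (.rel (nat_lit 2324) (nat_lit 4) [(nat_lit 267), (nat_lit 1001)] [⟨(nat_lit 2944), [], [(nat_lit 434), (nat_lit 224)]⟩, ⟨(nat_lit 3248), [(nat_lit 775)], [(nat_lit 239), (nat_lit 440)]⟩])) (BT.leaf (.inv (nat_lit 3424)))) (BT.node (nat_lit 3427) (BT.leaf (.emul [(nat_lit 3191), (nat_lit 3177)])) (BT.leaf (.emul [(nat_lit 3191), (nat_lit 3426)])))) (BT.node (nat_lit 3430) (BT.node (nat_lit 3429) (BT.leaf (.rel (nat_lit 3343) (nat_lit 5) [(nat_lit 1056), (nat_lit 1009)] [⟨(nat_lit 3181), [], [(nat_lit 380), (nat_lit 956)]⟩, ⟨(nat_lit 3197), [(nat_lit 3195), (nat_lit 3427)], [(nat_lit 250), (nat_lit 974)]⟩])) (BT.leaf (.inv (nat_lit 3428)))) (BT.node (nat_lit 3431) (BT.leaf (.rel (nat_lit 3261) (nat_lit 4) [(nat_lit 463), (nat_lit 379)] [⟨(nat_lit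 2857), [(nat_lit 775)], [(nat_lit 942), (nat_lit 898)]⟩, ⟨(nat_lit 2434), [(nat_lit 2549)], [(nat_lit 96), (nat_lit 110)]⟩])) (BT.leaf (.inv (nat_lit 3430)))))) (BT.node (nat_lit 3436) (BT.node (nat_lit 3434) (BT.node (nat_lit 3433) (BT.leaf (.rel (nat_lit 3303) (nat_lit 3) [(nat_lit 416), (nat_lit 1211)] [⟨(nat_lit 2202), [], [(nat_lit 1242), (nat_lit 1537)]⟩, ⟨(nat_lit 2754), [(nat_lit 2413)], [(nat_lit 905), (nat_lit 288)]⟩])) (BT.leaf (.inv (nat_lit 3432)))) (BT.node (nat_lit 3435) (BT.leaf (.rel (nat_lit 2759) (nat_lit 1) [(nat_lit 348), (nat_lit 795)] [⟨(nat_lit 3330), [(nat_lit 2167)], [(nat_lit 165), (nat_lit 1478)]⟩])) (BT.leaf (.inv (nat_lit 3434))))) (BT.node (nat_lit 3438) (BT.node (nat_lit 3437) (BT.leaf (.rel (nat_lit 1931) (nat_lit 0) [(nat_lit 1600), (nat_lit 88)] [⟨(nat_lit 3398), [], [(nat_lit 508), (nat_lit 906)]⟩])) (BT.leaf (.inv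 (nat_lit 3436)))) (BT.node (nat_lit 3439) (BT.leaf (.rel (nat_lit 1508) (nat_lit 3) [(nat_lit 1257), (nat_lit 557)] [⟨(nat_lit 2231), [(nat_lit 775)], [(nat_lit 250), (nat_lit 1256)]⟩, ⟨(nat_lit 3301), [(nat_lit 2549)], [(nat_lit 928), (nat_lit 107)]⟩])) (BT.leaf (.inv (nat_lit 3438))))))) (BT.node (nat_lit 3448) (BT.node (nat_lit 3444) (BT.node (nat_lit 3442) (BT.node (nat_lit 3441) (BT.leaf (.rel (nat_lit 3254) (nat_lit 1) [(nat_lit 358), (nat_lit 712)] [⟨(nat_lit 2286), [], [(nat_lit 493), (nat_lit 597)]⟩])) (BT.leaf (.inv (nat_lit 3440)))) (BT.node (nat_lit 3443) (BT.leaf (.rel (nat_lit 3421) (nat_lit 1) [(nat_lit 240), (nat_lit 1123)] [⟨(nat_lit 2602), [(nat_lit 2237)], [(nat_lit 726), (nat_lit 1091)]⟩])) (BT.leaf (.inv (nat_lit 3442))))) (BT.node (nat_lit 3446) (BT.node (nat_lit 3445) (BT.leaf (.rel (nat_lit 1366) (nat_lit 2) [(nat_lit 507),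 (nat_lit 386)] [⟨(nat_lit 1391), [(nat_lit 935)], [(nat_lit 356), (nat_lit 604)]⟩, ⟨(nat_lit 3304), [(nat_lit 775)], [(nat_lit 152), (nat_lit 269)]⟩])) (BT.leaf (.inv (nat_lit 3444)))) (BT.node (nat_lit 3447) (BT.leaf (.rel (nat_lit 3319) (nat_lit 2) [(nat_lit 239), (nat_lit 170)] [⟨(nat_lit 1142), [(nat_lit 935)], [(nat_lit 392), (nat_lit 870)]⟩, ⟨(nat_lit 1576), [(nat_lit 775)], [(nat_lit 653), (nat_lit 646)]⟩])) (BT.leaf (.inv (nat_lit 3446)))))) (BT.node (nat_lit 3452) (BT.node (nat_lit 3450) (BT.node (nat_lit 3449) (BT.leaf (.rel (nat_lit 2662) (nat_lit 0) [(nat_lit 630), (nat_lit 818)] [⟨(nat_lit 3430), [(nat_lit 775)], [(nat_lit 941), (nat_lit 1256)]⟩])) (BT.leaf (.inv (nat_lit 3448)))) (BT.node (nat_lit 3451) (BT.leaf (.rel (nat_lit 3229) (nat_lit 1) [(nat_lit 207), (nat_lit 396)] [⟨(nat_lit 2600), [(nat_lit 2413)], [(nat_lit 759), (nat_lit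 1021)]⟩])) (BT.leaf (.inv (nat_lit 3450))))) (BT.node (nat_lit 3454) (BT.node (nat_lit 3453) (BT.leaf (.rel (nat_lit 3297) (nat_lit 0) [(nat_lit 827), (nat_lit 1472)] [⟨(nat_lit 2556), [(nat_lit 2376)], [(nat_lit 690), (nat_lit 328)]⟩])) (BT.leaf (.inv (nat_lit 3452)))) (BT.node (nat_lit 3455) (BT.leaf (.emul [(nat_lit 3215), (nat_lit 3223)])) (BT.leaf (.rel (nat_lit 3359) (nat_lit 3) [(nat_lit 575), (nat_lit 253)] [⟨(nat_lit 3437), [(nat_lit 672)], [(nat_lit 569), (nat_lit 563)]⟩, ⟨(nat_lit 3448), [(nat_lit 3454)], [(nat_lit 783), (nat_lit 1025)]⟩]))))))))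
noncomputable def cF3456 : BT Fc := (BT.node (nat_lit 3488) (BT.node (nat_lit 3472) (BT.node (nat_lit 3464) (BT.node (nat_lit 3460) (BT.node (nat_lit 3458) (BT.node (nat_lit 3457) (BT.leaf ⟨(nat_lit 3), (nat_lit 11), (nat_lit 9), (nat_lit 0x655c51d7cb0746a59dd2aa3551b1c5), (nat_lit 0xa64907adb9114c10a7f97dd9b6a220), (nat_lit 0)⟩) (BT.leaf ⟨(nat_lit 3), (nat_lit 11), (nat_lit 11), (nat_lit 0x7579d004010007a310093c08239802), (nat_lit 0xf62d8b13efa3b6a5cbe91d25a4fec1), (nat_lit 0)⟩)) (BT.node (nat_lit 3459) (BT.leaf ⟨(nat_lit 3), (nat_lit 8), (nat_lit 11), (nat_lit 0x488846327e71408f9d029b90285f8), (nat_lit 0xb483e1cee762df77fbae34d259d732), (nat_lit 0)⟩) (BT.leaf ⟨(nat_lit 3), (nat_lit 11), (nat_lit 8), (nat_lit 0xb483e1cee762df77fbae34d259d732), (nat_lit 0x488846327e71408f9d029b90285f8), (nat_lit 0)⟩))) (BT.node (nat_lit 3462) (BT.node (nat_lit 3461)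 (BT.leaf ⟨(nat_lit 3), (nat_lit 7), (nat_lit 11), (nat_lit 0x1cee3900540210440c9f571bd6f4901), (nat_lit 0x1ad020940f9a65620048b50e8fbd433), (nat_lit 0)⟩) (BT.leaf ⟨(nat_lit 3), (nat_lit 11), (nat_lit 7), (nat_lit 0x1ad020940f9a65620048b50e8fbd433), (nat_lit 0x1cee3900540210440c9f571bd6f4901), (nat_lit 0)⟩)) (BT.node (nat_lit 3463) (BT.leaf ⟨(nat_lit 3), (nat_lit 11), (nat_lit 7), (nat_lit 0x303bd5a8084110b7840880655d1848), (nat_lit 0x1e3497de8e7420010473e8c7552f900), (nat_lit 0)⟩) (BT.leaf ⟨(nat_lit 3), (nat_lit 7), (nat_lit 11), (nat_lit 0x1e3497de8e7420010473e8c7552f900), (nat_lit 0x303bd5a8084110b7840880655d1848), (nat_lit 0)⟩)))) (BT.node (nat_lit 3468) (BT.node (nat_lit 3466) (BT.node (nat_lit 3465) (BT.leaf ⟨(nat_lit 3), (nat_lit 7), (nat_lit 11), (nat_lit 0x18b2d3573f20a1e79b49d951ee3bb35), (nat_lit 0x1203dd56835e8e679c1ee1a3033a0a0), (nat_lit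 0)⟩) (BT.leaf ⟨(nat_lit 3), (nat_lit 11), (nat_lit 7), (nat_lit 0x1203dd56835e8e679c1ee1a3033a0a0), (nat_lit 0x18b2d3573f20a1e79b49d951ee3bb35), (nat_lit 0)⟩)) (BT.node (nat_lit 3467) (BT.leaf ⟨(nat_lit 3), (nat_lit 11), (nat_lit 7), (nat_lit 0x20386fba110a03e3180ce8d8c40d68), (nat_lit 0x502741207726008868dc7442280102), (nat_lit 0)⟩) (BT.leaf ⟨(nat_lit 3), (nat_lit 7), (nat_lit 11), (nat_lit 0x502741207726008868dc7442280102), (nat_lit 0x20386fba110a03e3180ce8d8c40d68), (nat_lit 0)⟩))) (BT.node (nat_lit 3470) (BT.node (nat_lit 3469) (BT.leaf ⟨(nat_lit 3), (nat_lit 7), (nat_lit 11), (nat_lit 0x7d76a71a78608487820841723d6830), (nat_lit 0x1cca0447b11178024257e9cac40c1dd), (nat_lit 0)⟩) (BT.leaf ⟨(nat_lit 3), (nat_lit 11), (nat_lit 7), (nat_lit 0x1cca0447b11178024257e9cac40c1dd), (nat_lit 0x7d76a71a78608487820841723d6830), (nat_lit 0)⟩)) (BT.node (nat_lit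 3471) (BT.leaf ⟨(nat_lit 3), (nat_lit 7), (nat_lit 11), (nat_lit 0xdb2d31c5e43754aad4b3ba7d47d1d7), (nat_lit 0x18579d738acbcece7732b062dd6963a), (nat_lit 0)⟩) (BT.leaf ⟨(nat_lit 3), (nat_lit 11), (nat_lit 7), (nat_lit 0x18579d738acbcece7732b062dd6963a), (nat_lit 0xdb2d31c5e43754aad4b3ba7d47d1d7), (nat_lit 0)⟩))))) (BT.node (nat_lit 3480) (BT.node (nat_lit 3476) (BT.node (nat_lit 3474) (BT.node (nat_lit 3473) (BT.leaf ⟨(nat_lit 3), (nat_lit 9), (nat_lit 11), (nat_lit 0x27acf54b6269aa5f41e939df476e27), (nat_lit 0xa010205f40551997d3a48080108220), (nat_lit 0)⟩) (BT.leaf ⟨(nat_lit 3), (nat_lit 11), (nat_lit 9), (nat_lit 0xa010205f40551997d3a48080108220), (nat_lit 0x27acf54b6269aa5f41e939df476e27), (nat_lit 0)⟩)) (BT.node (nat_lit 3475) (BT.leaf ⟨(nat_lit 3), (nat_lit 11), (nat_lit 11), (nat_lit 0x1c34480c01059d2b41809e7eebe3088), (nat_lit 0x11375a6fc2f26cb7a7214d545f3a6f5),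 (nat_lit 0)⟩) (BT.leaf ⟨(nat_lit 3), (nat_lit 11), (nat_lit 11), (nat_lit 0x11375a6fc2f26cb7a7214d545f3a6f5), (nat_lit 0x1c34480c01059d2b41809e7eebe3088), (nat_lit 0)⟩))) (BT.node (nat_lit 3478) (BT.node (nat_lit 3477) (BT.leaf ⟨(nat_lit 3), (nat_lit 7), (nat_lit 11), (nat_lit 0xfcfc83e18dcf891b2e3747364f1beb), (nat_lit 0x7d65f0208a60878d02853372050766), (nat_lit 0)⟩) (BT.leaf ⟨(nat_lit 3), (nat_lit 11), (nat_lit 7), (nat_lit 0x7d65f0208a60878d02853372050766), (nat_lit 0xfcfc83e18dcf891b2e3747364f1beb), (nat_lit 0)⟩)) (BT.node (nat_lit 3479) (BT.leaf ⟨(nat_lit 3), (nat_lit 11), (nat_lit 9), (nat_lit 0x4b9f1009043007a3f8c08327d2f73b), (nat_lit 0x26f0088015bf12b908810120ee80c), (nat_lit 0)⟩) (BT.leaf ⟨(nat_lit 3), (nat_lit 9), (nat_lit 11), (nat_lit 0x26f0088015bf12b908810120ee80c), (nat_lit 0x4b9f1009043007a3f8c08327d2f73b), (nat_lit 0)⟩)))) (BT.node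 (nat_lit 3484) (BT.node (nat_lit 3482) (BT.node (nat_lit 3481) (BT.leaf ⟨(nat_lit 3), (nat_lit 11), (nat_lit 7), (nat_lit 0x80896c71e71e3c81022104aef7b25d), (nat_lit 0x43d4c820787720301f504508010c53), (nat_lit 0)⟩) (BT.leaf ⟨(nat_lit 3), (nat_lit 7), (nat_lit 11), (nat_lit 0x43d4c820787720301f504508010c53), (nat_lit 0x80896c71e71e3c81022104aef7b25d), (nat_lit 0)⟩)) (BT.node (nat_lit 3483) (BT.leaf ⟨(nat_lit 3), (nat_lit 11), (nat_lit 7), (nat_lit 0x15979dd3aef5ce2c1cd9c741f39d6ef), (nat_lit 0xa1f7e6f64d545d8e721de9bd75a4ab), (nat_lit 0)⟩) (BT.leaf ⟨(nat_lit 3), (nat_lit 7), (nat_lit 11), (nat_lit 0xa1f7e6f64d545d8e721de9bd75a4ab), (nat_lit 0x15979dd3aef5ce2c1cd9c741f39d6ef), (nat_lit 0)⟩))) (BT.node (nat_lit 3486) (BT.node (nat_lit 3485) (BT.leaf ⟨(nat_lit 3), (nat_lit 7), (nat_lit 11), (nat_lit 0x202400c1100a0eea08df9d3b995e0), (nat_lit 0x1294de3a32b4d8e8bbe27d6f8e6ce0b),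 (nat_lit 0)⟩) (BT.leaf ⟨(nat_lit 3), (nat_lit 11), (nat_lit 7), (nat_lit 0x1294de3a32b4d8e8bbe27d6f8e6ce0b), (nat_lit 0x202400c1100a0eea08df9d3b995e0), (nat_lit 0)⟩)) (BT.node (nat_lit 3487) (BT.leaf ⟨(nat_lit 3), (nat_lit 8), (nat_lit 11), (nat_lit 0x24ee808210028065e024fccb7e496), (nat_lit 0x9792be5f43e97c2fe2cd82d7d27b8a), (nat_lit 0)⟩) (BT.leaf ⟨(nat_lit 3), (nat_lit 11), (nat_lit 8), (nat_lit 0x9792be5f43e97c2fe2cd82d7d27b8a), (nat_lit 0x24ee808210028065e024fccb7e496), (nat_lit 0)⟩)))))) (BT.node (nat_lit 3504) (BT.node (nat_lit 3496) (BT.node (nat_lit 3492) (BT.node (nat_lit 3490) (BT.node (nat_lit 3489) (BT.leaf ⟨(nat_lit 2), (nat_lit 11), (nat_lit 11), (nat_lit 0x49e4b2b18f612014018011d38051dd), (nat_lit 0), (nat_lit 0)⟩) (BT.leaf ⟨(nat_lit 3), (nat_lit 7), (nat_lit 11), (nat_lit 0x80a4e402e71d1096802577e3c05012), (nat_lit 0x1cab9f73bddf60d694d9f758e9d277a),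 (nat_lit 0)⟩)) (BT.node (nat_lit 3491) (BT.leaf ⟨(nat_lit 3), (nat_lit 11), (nat_lit 7), (nat_lit 0x1cab9f73bddf60d694d9f758e9d277a), (nat_lit 0x80a4e402e71d1096802577e3c05012), (nat_lit 0)⟩) (BT.leaf ⟨(nat_lit 3), (nat_lit 7), (nat_lit 11), (nat_lit 0x10cc2477a0a01817c842281ad0caba3), (nat_lit 0xf855d80310408901006205e3c01012), (nat_lit 0)⟩))) (BT.node (nat_lit 3494) (BT.node (nat_lit 3493) (BT.leaf ⟨(nat_lit 3), (nat_lit 11), (nat_lit 7), (nat_lit 0xf855d80310408901006205e3c01012), (nat_lit 0x10cc2477a0a01817c842281ad0caba3), (nat_lit 0)⟩) (BT.leaf ⟨(nat_lit 3), (nat_lit 11), (nat_lit 7), (nat_lit 0xae05cabd5f3b2a9a239772e5958c4d), (nat_lit 0x126b13ec11dbdf6a5d9e83d23989c9f), (nat_lit 0)⟩)) (BT.node (nat_lit 3495) (BT.leaf ⟨(nat_lit 3), (nat_lit 7), (nat_lit 11), (nat_lit 0x126b13ec11dbdf6a5d9e83d23989c9f), (nat_lit 0xae05cabd5f3b2a9a239772e5958c4d),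 (nat_lit 0)⟩) (BT.leaf ⟨(nat_lit 3), (nat_lit 11), (nat_lit 11), (nat_lit 0x1caa9d738c75cec3e71aef4d26c19ce), (nat_lit 0xee46ace8c74410801202815cc8868d), (nat_lit 0)⟩)))) (BT.node (nat_lit 3500) (BT.node (nat_lit 3498) (BT.node (nat_lit 3497) (BT.leaf ⟨(nat_lit 3), (nat_lit 11), (nat_lit 9), (nat_lit 0xdb2a5995cb0757499c546c77777bd5), (nat_lit 0x120eea0881095df5f85df925893f4e), (nat_lit 0)⟩) (BT.leaf ⟨(nat_lit 3), (nat_lit 9), (nat_lit 11), (nat_lit 0x120eea0881095df5f85df925893f4e), (nat_lit 0xdb2a5995cb0757499c546c77777bd5), (nat_lit 0)⟩)) (BT.node (nat_lit 3499) (BT.leaf ⟨(nat_lit 3), (nat_lit 11), (nat_lit 9), (nat_lit 0x1bbf9c0b7749eeb0ad83e34ce96972a), (nat_lit 0x1bd790ff4365bda7a6e4df99d3eded4), (nat_lit 0)⟩) (BT.leaf ⟨(nat_lit 3), (nat_lit 9), (nat_lit 11), (nat_lit 0x1bd790ff4365bda7a6e4df99d3eded4), (nat_lit 0x1bbf9c0b7749eeb0ad83e34ce96972a),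 (nat_lit 0)⟩))) (BT.node (nat_lit 3502) (BT.node (nat_lit 3501) (BT.leaf ⟨(nat_lit 3), (nat_lit 11), (nat_lit 7), (nat_lit 0x19629a78f4cae345bfade1ba36c68cb), (nat_lit 0x1df5b1be37c28d96615a8dc6f1f3cd9), (nat_lit 0)⟩) (BT.leaf ⟨(nat_lit 3), (nat_lit 7), (nat_lit 11), (nat_lit 0x1df5b1be37c28d96615a8dc6f1f3cd9), (nat_lit 0x19629a78f4cae345bfade1ba36c68cb), (nat_lit 0)⟩)) (BT.node (nat_lit 3503) (BT.leaf ⟨(nat_lit 3), (nat_lit 7), (nat_lit 11), (nat_lit 0x145de1f90efad8e6cbeb746fcd1b2cc), (nat_lit 0x1ce31c338e4cd543c539e6d2739f90), (nat_lit 0)⟩) (BT.leaf ⟨(nat_lit 3), (nat_lit 11), (nat_lit 7), (nat_lit 0x1ce31c338e4cd543c539e6d2739f90), (nat_lit 0x145de1f90efad8e6cbeb746fcd1b2cc), (nat_lit 0)⟩))))) (BT.node (nat_lit 3512) (BT.node (nat_lit 3508) (BT.node (nat_lit 3506) (BT.node (nat_lit 3505) (BT.leaf ⟨(nat_lit 3), (nat_lit 11), (nat_lit 7), (nat_lit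 0x197e97c80d73802805d568c7a208404), (nat_lit 0x1cc83e1cee34b4bdd738749cfb77b3a), (nat_lit 0)⟩) (BT.leaf ⟨(nat_lit 3), (nat_lit 7), (nat_lit 11), (nat_lit 0x1cc83e1cee34b4bdd738749cfb77b3a), (nat_lit 0x197e97c80d73802805d568c7a208404), (nat_lit 0)⟩)) (BT.node (nat_lit 3507) (BT.leaf ⟨(nat_lit 3), (nat_lit 11), (nat_lit 7), (nat_lit 0xe92c1f2ae707383e71ae7d59777cd9), (nat_lit 0x66ef65e86397e0bb265bd55a2e45e9), (nat_lit 0)⟩) (BT.leaf ⟨(nat_lit 3), (nat_lit 7), (nat_lit 11), (nat_lit 0x66ef65e86397e0bb265bd55a2e45e9), (nat_lit 0xe92c1f2ae707383e71ae7d59777cd9), (nat_lit 0)⟩))) (BT.node (nat_lit 3510) (BT.node (nat_lit 3509) (BT.leaf ⟨(nat_lit 3), (nat_lit 11), (nat_lit 7), (nat_lit 0x8430005f404c00f1cf4a8c8134f220), (nat_lit 0x80404ab8083cec40f8ce8e978ea001), (nat_lit 0)⟩) (BT.leaf ⟨(nat_lit 3), (nat_lit 7), (nat_lit 11), (nat_lit 0x80404ab8083cec40f8ce8e978ea001),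 (nat_lit 0x8430005f404c00f1cf4a8c8134f220), (nat_lit 0)⟩)) (BT.node (nat_lit 3511) (BT.leaf ⟨(nat_lit 3), (nat_lit 11), (nat_lit 11), (nat_lit 0x8008025f0084bc012b993c040201d5), (nat_lit 0x80104280420cbdea8b9d3c81120202), (nat_lit 0)⟩) (BT.leaf ⟨(nat_lit 3), (nat_lit 11), (nat_lit 7), (nat_lit 0x71527c63dc8fcc182a91210400c79d), (nat_lit 0x172305da86397b3db9e898f0f6b4265), (nat_lit 0)⟩)))) (BT.node (nat_lit 3516) (BT.node (nat_lit 3514) (BT.node (nat_lit 3513) (BT.leaf ⟨(nat_lit 3), (nat_lit 7), (nat_lit 11), (nat_lit 0x172305da86397b3db9e898f0f6b4265), (nat_lit 0x71527c63dc8fcc182a91210400c79d), (nat_lit 0)⟩) (BT.leaf ⟨(nat_lit 3), (nat_lit 11), (nat_lit 9), (nat_lit 0xae7a325f25e0100400202127b9d200), (nat_lit 0x1365f160b747294ad1e3efad8e8bc6e), (nat_lit 0)⟩)) (BT.node (nat_lit 3515) (BT.leaf ⟨(nat_lit 3), (nat_lit 9), (nat_lit 11), (nat_lit 0x1365f160b747294ad1e3efad8e8bc6e),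 (nat_lit 0xae7a325f25e0100400202127b9d200), (nat_lit 0)⟩) (BT.leaf ⟨(nat_lit 3), (nat_lit 11), (nat_lit 9), (nat_lit 0xa01802104813d11069ec0017d00d8d), (nat_lit 0x77a9018e57a64f81180200c20809), (nat_lit 0)⟩))) (BT.node (nat_lit 3518) (BT.node (nat_lit 3517) (BT.leaf ⟨(nat_lit 3), (nat_lit 9), (nat_lit 11), (nat_lit 0x77a9018e57a64f81180200c20809), (nat_lit 0xa01802104813d11069ec0017d00d8d), (nat_lit 0)⟩) (BT.leaf ⟨(nat_lit 3), (nat_lit 7), (nat_lit 11), (nat_lit 0x1f8cf1ba3c16b8df0b63f2145df5acc), (nat_lit 0x1edccdde9b515a2e41e855d31cbb5ec), (nat_lit 0)⟩)) (BT.node (nat_lit 3519) (BT.leaf ⟨(nat_lit 3), (nat_lit 11), (nat_lit 7), (nat_lit 0x1edccdde9b515a2e41e855d31cbb5ec), (nat_lit 0x1f8cf1ba3c16b8df0b63f2145df5acc), (nat_lit 0)⟩) (BT.leaf ⟨(nat_lit 3), (nat_lit 11), (nat_lit 9), (nat_lit 0x73bdd0b75a5deb9953a9b3bbf95583), (nat_lit 0x1cec3e583e555979d33a16f8e9a4cd9),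 (nat_lit 0)⟩)))))))
noncomputable def cP3456 : BT Pf := (BT.node (nat_lit 3488) (BT.node (nat_lit 3472) (BT.node (nat_lit 3464) (BT.node (nat_lit 3460) (BT.node (nat_lit 3458) (BT.node (nat_lit 3457) (BT.leaf (.inv (nat_lit 3455))) (BT.leaf (.rel (nat_lit 3421) (nat_lit 5) [(nat_lit 212), (nat_lit 1478)] [⟨(nat_lit 2323), [(nat_lit 2311)], [(nat_lit 335), (nat_lit 460)]⟩, ⟨(nat_lit 3260), [(nat_lit 775)], [(nat_lit 538), (nat_lit 573)]⟩]))) (BT.node (nat_lit 3459) (BT.leaf (.rel (nat_lit 3378) (nat_lit 3) [(nat_lit 94), (nat_lit 171)] [⟨(nat_lit 2731), [], [(nat_lit 260), (nat_lit 253)]⟩, ⟨(nat_lit 2668), [(nat_lit 2237)], [(nat_lit 153), (nat_lit 504)]⟩])) (BT.leaf (.inv (nat_lit 3458))))) (BT.node (nat_lit 3462) (BT.node (nat_lit 3461) (BT.leaf (.rel (nat_lit 3233) (nat_lit 4) [(nat_lit 474), (nat_lit 263)] [⟨(nat_lit 1570), [(nat_lit 935)], [(nat_lit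 295), (nat_lit 497)]⟩, ⟨(nat_lit 962), [(nat_lit 775)], [(nat_lit 741), (nat_lit 972)]⟩])) (BT.leaf (.inv (nat_lit 3460)))) (BT.node (nat_lit 3463) (BT.leaf (.rel (nat_lit 2398) (nat_lit 1) [(nat_lit 296), (nat_lit 646)] [⟨(nat_lit 3366), [], [(nat_lit 336), (nat_lit 1083)]⟩])) (BT.leaf (.inv (nat_lit 3462)))))) (BT.node (nat_lit 3468) (BT.node (nat_lit 3466) (BT.node (nat_lit 3465) (BT.leaf (.rel (nat_lit 3360) (nat_lit 3) [(nat_lit 2061), (nat_lit 125)] [⟨(nat_lit 1145), [(nat_lit 935)], [(nat_lit 258), (nat_lit 287)]⟩, ⟨(nat_lit 1602), [(nat_lit 775)], [(nat_lit 208), (nat_lit 627)]⟩])) (BT.leaf (.inv (nat_lit 3464)))) (BT.node (nat_lit 3467) (BT.leaf (.rel (nat_lit 1619) (nat_lit 0) [(nat_lit 350), (nat_lit 269)] [⟨(nat_lit 3463), [(nat_lit 935)], [(nat_lit 582), (nat_lit 532)]⟩])) (BT.leaf (.inv (nat_lit 3466))))) (BT.node (nat_lit 3470) (BT.node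 (nat_lit 3469) (BT.leaf (.rel (nat_lit 3379) (nat_lit 3) [(nat_lit 299), (nat_lit 835)] [⟨(nat_lit 1169), [(nat_lit 3317)], [(nat_lit 194), (nat_lit 586)]⟩, ⟨(nat_lit 1371), [(nat_lit 935)], [(nat_lit 1257), (nat_lit 306)]⟩])) (BT.leaf (.inv (nat_lit 3468)))) (BT.node (nat_lit 3471) (BT.leaf (.rel (nat_lit 3434) (nat_lit 2) [(nat_lit 241), (nat_lit 190)] [⟨(nat_lit 2582), [(nat_lit 2237)], [(nat_lit 510), (nat_lit 477)]⟩, ⟨(nat_lit 2063), [(nat_lit 2357)], [(nat_lit 2061), (nat_lit 291)]⟩])) (BT.leaf (.inv (nat_lit 3470))))))) (BT.node (nat_lit 3480) (BT.node (nat_lit 3476) (BT.node (nat_lit 3474) (BT.node (nat_lit 3473) (BT.leaf (.rel (nat_lit 3324) (nat_lit 5) [(nat_lit 1308), (nat_lit 711)] [⟨(nat_lit 2348), [(nat_lit 775)], [(nat_lit 568), (nat_lit 495)]⟩, ⟨(nat_lit 2800), [(nat_lit 2413)], [(nat_lit 569), (nat_lit 372)]⟩])) (BT.leaf (.inv (nat_lit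 3472)))) (BT.node (nat_lit 3475) (BT.leaf (.rel (nat_lit 3444) (nat_lit 1) [(nat_lit 977), (nat_lit 173)] [⟨(nat_lit 3354), [(nat_lit 935)], [(nat_lit 358), (nat_lit 1140)]⟩])) (BT.leaf (.inv (nat_lit 3474))))) (BT.node (nat_lit 3478) (BT.node (nat_lit 3477) (BT.leaf (.rel (nat_lit 3281) (nat_lit 3) [(nat_lit 285), (nat_lit 736)] [⟨(nat_lit 2711), [(nat_lit 2311)], [(nat_lit 815), (nat_lit 1216)]⟩, ⟨(nat_lit 2370), [(nat_lit 2311)], [(nat_lit 429), (nat_lit 395)]⟩])) (BT.leaf (.inv (nat_lit 3476)))) (BT.node (nat_lit 3479) (BT.leaf (.rel (nat_lit 2196) (nat_lit 4) [(nat_lit 416), (nat_lit 752)] [⟨(nat_lit 1540), [(nat_lit 775)], [(nat_lit 915), (nat_lit 270)]⟩, ⟨(nat_lit 3344), [(nat_lit 935)], [(nat_lit 726), (nat_lit 401)]⟩])) (BT.leaf (.inv (nat_lit 3478)))))) (BT.node (nat_lit 3484) (BT.node (nat_lit 3482) (BT.node (nat_lit 3481) (BT.leaf (.rel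 (nat_lit 1596) (nat_lit 2) [(nat_lit 467), (nat_lit 738)] [⟨(nat_lit 2238), [(nat_lit 775)], [(nat_lit 260), (nat_lit 89)]⟩, ⟨(nat_lit 3420), [(nat_lit 2549)], [(nat_lit 1013), (nat_lit 426)]⟩])) (BT.leaf (.inv (nat_lit 3480)))) (BT.node (nat_lit 3483) (BT.leaf (.rel (nat_lit 1206) (nat_lit 4) [(nat_lit 129), (nat_lit 762)] [⟨(nat_lit 1262), [(nat_lit 775)], [(nat_lit 358), (nat_lit 491)]⟩, ⟨(nat_lit 3322), [(nat_lit 935)], [(nat_lit 150), (nat_lit 203)]⟩])) (BT.leaf (.inv (nat_lit 3482))))) (BT.node (nat_lit 3486) (BT.node (nat_lit 3485) (BT.leaf (.rel (nat_lit 3371) (nat_lit 1) [(nat_lit 840), (nat_lit 532)] [⟨(nat_lit 2006), [(nat_lit 1922)], [(nat_lit 194), (nat_lit 604)]⟩])) (BT.leaf (.inv (nat_lit 3484)))) (BT.node (nat_lit 3487) (BT.leaf (.rel (nat_lit 3393) (nat_lit 3) [(nat_lit 1004), (nat_lit 486)] [⟨(nat_lit 1559), [(nat_lit 935)], [(nat_lit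 462), (nat_lit 253)]⟩, ⟨(nat_lit 1887), [], [(nat_lit 394), (nat_lit 127)]⟩])) (BT.leaf (.inv (nat_lit 3486)))))))) (BT.node (nat_lit 3504) (BT.node (nat_lit 3496) (BT.node (nat_lit 3492) (BT.node (nat_lit 3490) (BT.node (nat_lit 3489) (BT.leaf (.emul [(nat_lit 3223), (nat_lit 3454)])) (BT.leaf (.rel (nat_lit 3337) (nat_lit 5) [(nat_lit 130), (nat_lit 1025)] [⟨(nat_lit 3442), [(nat_lit 775)], [(nat_lit 1437), (nat_lit 717)]⟩, ⟨(nat_lit 3351), [(nat_lit 3488)], [(nat_lit 299), (nat_lit 140)]⟩]))) (BT.node (nat_lit 3491) (BT.leaf (.inv (nat_lit 3489))) (BT.leaf (.rel (nat_lit 3462) (nat_lit 1) [(nat_lit 152), (nat_lit 584)] [⟨(nat_lit 1643), [(nat_lit 775)], [(nat_lit 990), (nat_lit 421)]⟩])))) (BT.node (nat_lit 3494) (BT.node (nat_lit 3493) (BT.leaf (.inv (nat_lit 3491))) (BT.leaf (.rel (nat_lit 1589) (nat_lit 1) [(nat_lit 508), (nat_lit 459)] [⟨(nat_lit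 3314), [], [(nat_lit 786), (nat_lit 432)]⟩]))) (BT.node (nat_lit 3495) (BT.leaf (.inv (nat_lit 3493))) (BT.leaf (.rel (nat_lit 3326) (nat_lit 1) [(nat_lit 165), (nat_lit 333)] [⟨(nat_lit 3327), [(nat_lit 1008)], [(nat_lit 1257), (nat_lit 472)]⟩]))))) (BT.node (nat_lit 3500) (BT.node (nat_lit 3498) (BT.node (nat_lit 3497) (BT.leaf (.rel (nat_lit 2823) (nat_lit 0) [(nat_lit 871), (nat_lit 585)] [⟨(nat_lit 3275), [(nat_lit 2524)], [(nat_lit 197), (nat_lit 1133)]⟩])) (BT.leaf (.inv (nat_lit 3496)))) (BT.node (nat_lit 3499) (BT.leaf (.rel (nat_lit 2602) (nat_lit 1) [(nat_lit 482), (nat_lit 110)] [⟨(nat_lit 3342), [(nat_lit 935)], [(nat_lit 95), (nat_lit 1109)]⟩])) (BT.leaf (.inv (nat_lit 3498))))) (BT.node (nat_lit 3502) (BT.node (nat_lit 3501) (BT.leaf (.rel (nat_lit 1137) (nat_lit 5) [(nat_lit 433), (nat_lit 1021)] [⟨(nat_lit 1167), [(nat_lit 935)], [(nat_lit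 404), (nat_lit 172)]⟩, ⟨(nat_lit 3342), [], [(nat_lit 468), (nat_lit 235)]⟩])) (BT.leaf (.inv (nat_lit 3500)))) (BT.node (nat_lit 3503) (BT.leaf (.rel (nat_lit 3355) (nat_lit 1) [(nat_lit 1092), (nat_lit 124)] [⟨(nat_lit 955), [], [(nat_lit 741), (nat_lit 529)]⟩])) (BT.leaf (.inv (nat_lit 3502))))))) (BT.node (nat_lit 3512) (BT.node (nat_lit 3508) (BT.node (nat_lit 3506) (BT.node (nat_lit 3505) (BT.leaf (.rel (nat_lit 2779) (nat_lit 5) [(nat_lit 95), (nat_lit 1279)] [⟨(nat_lit 3037), [], [(nat_lit 130), (nat_lit 399)]⟩, ⟨(nat_lit 3330), [(nat_lit 2167)], [(nat_lit 469), (nat_lit 738)]⟩])) (BT.leaf (.inv (nat_lit 3504)))) (BT.node (nat_lit 3507) (BT.leaf (.rel (nat_lit 1164) (nat_lit 1) [(nat_lit 349), (nat_lit 169)] [⟨(nat_lit 3470), [(nat_lit 775)], [(nat_lit 1600), (nat_lit 604)]⟩])) (BT.leaf (.inv (nat_lit 3506))))) (BT.node (nat_lit 3510) (BT.node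 (nat_lit 3509) (BT.leaf (.rel (nat_lit 2955) (nat_lit 3) [(nat_lit 761), (nat_lit 440)] [⟨(nat_lit 2984), [], [(nat_lit 690), (nat_lit 557)]⟩, ⟨(nat_lit 3406), [(nat_lit 775)], [(nat_lit 1099), (nat_lit 1136)]⟩])) (BT.leaf (.inv (nat_lit 3508)))) (BT.node (nat_lit 3511) (BT.leaf (.rel (nat_lit 3295) (nat_lit 4) [(nat_lit 258), (nat_lit 901)] [⟨(nat_lit 1542), [(nat_lit 935)], [(nat_lit 1126), (nat_lit 278)]⟩, ⟨(nat_lit 3322), [(nat_lit 775)], [(nat_lit 1162), (nat_lit 797)]⟩])) (BT.leaf (.rel (nat_lit 2390) (nat_lit 3) [(nat_lit 977), (nat_lit 269)] [⟨(nat_lit 3120), [(nat_lit 2237)], [(nat_lit 446), (nat_lit 319)]⟩, ⟨(nat_lit 3231), [], [(nat_lit 441), (nat_lit 694)]⟩]))))) (BT.node (nat_lit 3516) (BT.node (nat_lit 3514) (BT.node (nat_lit 3513) (BT.leaf (.inv (nat_lit 3511))) (BT.leaf (.rel (nat_lit 2532) (nat_lit 5) [(nat_lit 764), (nat_lit 369)]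 [⟨(nat_lit 1347), [(nat_lit 775)], [(nat_lit 267), (nat_lit 868)]⟩, ⟨(nat_lit 3464), [(nat_lit 935)], [(nat_lit 484), (nat_lit 1247)]⟩]))) (BT.node (nat_lit 3515) (BT.leaf (.inv (nat_lit 3513))) (BT.leaf (.rel (nat_lit 2890) (nat_lit 2) [(nat_lit 428), (nat_lit 386)] [⟨(nat_lit 1643), [(nat_lit 775)], [(nat_lit 295), (nat_lit 498)]⟩, ⟨(nat_lit 3476), [(nat_lit 935)], [(nat_lit 734), (nat_lit 1091)]⟩])))) (BT.node (nat_lit 3518) (BT.node (nat_lit 3517) (BT.leaf (.inv (nat_lit 3515))) (BT.leaf (.rel (nat_lit 3469) (nat_lit 4) [(nat_lit 579), (nat_lit 367)] [⟨(nat_lit 1061), [(nat_lit 935)], [(nat_lit 941), (nat_lit 206)]⟩, ⟨(nat_lit 1322), [(nat_lit 775)], [(nat_lit 508), (nat_lit 498)]⟩]))) (BT.node (nat_lit 3519) (BT.leaf (.inv (nat_lit 3517))) (BT.leaf (.rel (nat_lit 2759) (nat_lit 0) [(nat_lit 911), (nat_lit 1211)] [⟨(nat_lit 3416), [(nat_lit 2237)],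 [(nat_lit 94), (nat_lit 287)]⟩]))))))))
noncomputable def cF3520 : BT Fc := (BT.node (nat_lit 3552) (BT.node (nat_lit 3536) (BT.node (nat_lit 3528) (BT.node (nat_lit 3524) (BT.node (nat_lit 3522) (BT.node (nat_lit 3521) (BT.leaf ⟨(nat_lit 3), (nat_lit 9), (nat_lit 11), (nat_lit 0x1cec3e583e555979d33a16f8e9a4cd9), (nat_lit 0x73bdd0b75a5deb9953a9b3bbf95583), (nat_lit 0)⟩) (BT.leaf ⟨(nat_lit 3), (nat_lit 11), (nat_lit 9), (nat_lit 0xae4ad6276d8ee626aa95774d365396), (nat_lit 0x5546a8fabaa7d61e995e427551b1d1), (nat_lit 0)⟩)) (BT.node (nat_lit 3523) (BT.leaf ⟨(nat_lit 3), (nat_lit 9), (nat_lit 11), (nat_lit 0x5546a8fabaa7d61e995e427551b1d1), (nat_lit 0xae4ad6276d8ee626aa95774d365396), (nat_lit 0)⟩) (BT.leaf ⟨(nat_lit 3), (nat_lit 11), (nat_lit 7), (nat_lit 0x1a7989f7db623b64fc1e93d23aa5e27), (nat_lit 0x12f9d25b17b12734f49fb3d27b1389e), (nat_lit 0)⟩))) (BT.node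 (nat_lit 3526) (BT.node (nat_lit 3525) (BT.leaf ⟨(nat_lit 3), (nat_lit 7), (nat_lit 11), (nat_lit 0x12f9d25b17b12734f49fb3d27b1389e), (nat_lit 0x1a7989f7db623b64fc1e93d23aa5e27), (nat_lit 0)⟩) (BT.leaf ⟨(nat_lit 3), (nat_lit 11), (nat_lit 11), (nat_lit 0x17a600ef593e027c63e200640497081), (nat_lit 0x32fc63fe8dde17c7fada68c4f51179), (nat_lit 0)⟩)) (BT.node (nat_lit 3527) (BT.leaf ⟨(nat_lit 3), (nat_lit 11), (nat_lit 11), (nat_lit 0x19cd201e35002e5024f4440cbd80600), (nat_lit 0x131f34ea22de0bd97fdb25b8547d370), (nat_lit 0)⟩) (BT.leaf ⟨(nat_lit 3), (nat_lit 11), (nat_lit 11), (nat_lit 0x131f34ea22de0bd97fdb25b8547d370), (nat_lit 0x19cd201e35002e5024f4440cbd80600), (nat_lit 0)⟩)))) (BT.node (nat_lit 3532) (BT.node (nat_lit 3530) (BT.node (nat_lit 3529) (BT.leaf ⟨(nat_lit 3), (nat_lit 11), (nat_lit 7), (nat_lit 0x1b93eded4debad37e31cfe89a8d92f4), (nat_lit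 0x1eeb86d6835ff184467418028040480), (nat_lit 0)⟩) (BT.leaf ⟨(nat_lit 3), (nat_lit 7), (nat_lit 11), (nat_lit 0x1eeb86d6835ff184467418028040480), (nat_lit 0x1b93eded4debad37e31cfe89a8d92f4), (nat_lit 0)⟩)) (BT.node (nat_lit 3531) (BT.leaf ⟨(nat_lit 3), (nat_lit 11), (nat_lit 11), (nat_lit 0x774aab8a46c355b66efd26f54ebda6), (nat_lit 0x87d6c20044080181208a72fb8d3c3), (nat_lit 0)⟩) (BT.leaf ⟨(nat_lit 3), (nat_lit 11), (nat_lit 7), (nat_lit 0x60060280120d8e79c1e90020450568), (nat_lit 0x27a00e5f820e36004020e74035cc40), (nat_lit 0)⟩))) (BT.node (nat_lit 3534) (BT.node (nat_lit 3533) (BT.leaf ⟨(nat_lit 3), (nat_lit 7), (nat_lit 11), (nat_lit 0x27a00e5f820e36004020e74035cc40), (nat_lit 0x60060280120d8e79c1e90020450568), (nat_lit 0)⟩) (BT.leaf ⟨(nat_lit 3), (nat_lit 11), (nat_lit 11), (nat_lit 0xe296f85fa32dc0de6c1cbe9793fa4f), (nat_lit 0x174b1605fa33b052bb70cbe97ab28e6),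 (nat_lit 0)⟩)) (BT.node (nat_lit 3535) (BT.leaf ⟨(nat_lit 3), (nat_lit 11), (nat_lit 11), (nat_lit 0x13a169176b917b2fc43dbd4c730599b), (nat_lit 0x13d10458d172805087e87aa17d97a02), (nat_lit 0)⟩) (BT.leaf ⟨(nat_lit 3), (nat_lit 11), (nat_lit 11), (nat_lit 0x11b8de3e17c7df5667907d6fcdf3e0b), (nat_lit 0x1a8997d5c25d6c41793f24e4b5cb0fa), (nat_lit 0)⟩))))) (BT.node (nat_lit 3544) (BT.node (nat_lit 3540) (BT.node (nat_lit 3538) (BT.node (nat_lit 3537) (BT.leaf ⟨(nat_lit 3), (nat_lit 11), (nat_lit 11), (nat_lit 0x1a8997d5c25d6c41793f24e4b5cb0fa), (nat_lit 0x11b8de3e17c7df5667907d6fcdf3e0b), (nat_lit 0)⟩) (BT.leaf ⟨(nat_lit 3), (nat_lit 8), (nat_lit 11), (nat_lit 0xd8c481af5006020f0a05bf9d2b44f3), (nat_lit 0x14ea6cba4c75deab2b3ab06739a4f2a), (nat_lit 0)⟩)) (BT.node (nat_lit 3539) (BT.leaf ⟨(nat_lit 3), (nat_lit 11), (nat_lit 8), (nat_lit 0x14ea6cba4c75deab2b3ab06739a4f2a),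 (nat_lit 0xd8c481af5006020f0a05bf9d2b44f3), (nat_lit 0)⟩) (BT.leaf ⟨(nat_lit 3), (nat_lit 11), (nat_lit 11), (nat_lit 0xbe5b62b15714d313eca17313473239), (nat_lit 0x1296fff06e8dd1334f42eccd1ba3d46), (nat_lit 0)⟩))) (BT.node (nat_lit 3542) (BT.node (nat_lit 3541) (BT.leaf ⟨(nat_lit 3), (nat_lit 11), (nat_lit 11), (nat_lit 0x11cda4e2cf211eeae472ae6cd6d34f3), (nat_lit 0xf89663e346d29571be77c2569f5ba3), (nat_lit 0)⟩) (BT.leaf ⟨(nat_lit 2), (nat_lit 5), (nat_lit 5), (nat_lit 0x12fae442006048087a20043c68fa822), (nat_lit 0), (nat_lit 0)⟩)) (BT.node (nat_lit 3543) (BT.leaf ⟨(nat_lit 3), (nat_lit 11), (nat_lit 11), (nat_lit 0x1803f1d00820e35a3073a5f7575cc01), (nat_lit 0x1cfb0a9ce5a5ce39d53ae35596c1f32), (nat_lit 0)⟩) (BT.leaf ⟨(nat_lit 3), (nat_lit 11), (nat_lit 9), (nat_lit 0xf63a734666b9a6a3706e85a4c3e0cb), (nat_lit 0x4404be23a80064f9018031cbc6003), (nat_lit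 0)⟩)))) (BT.node (nat_lit 3548) (BT.node (nat_lit 3546) (BT.node (nat_lit 3545) (BT.leaf ⟨(nat_lit 3), (nat_lit 9), (nat_lit 11), (nat_lit 0x4404be23a80064f9018031cbc6003), (nat_lit 0xf63a734666b9a6a3706e85a4c3e0cb), (nat_lit 0)⟩) (BT.leaf ⟨(nat_lit 3), (nat_lit 7), (nat_lit 11), (nat_lit 0xd2629ecaae71c99acf333769a398ed), (nat_lit 0x90020c330c0100caeb4e0c503bd044), (nat_lit 0)⟩)) (BT.node (nat_lit 3547) (BT.leaf ⟨(nat_lit 3), (nat_lit 11), (nat_lit 7), (nat_lit 0x90020c330c0100caeb4e0c503bd044), (nat_lit 0xd2629ecaae71c99acf333769a398ed), (nat_lit 0)⟩) (BT.leaf ⟨(nat_lit 3), (nat_lit 11), (nat_lit 11), (nat_lit 0x1570968fac2a4ae979276e04b89f96f), (nat_lit 0xd7ddce8d240400c0140ae640b2363a), (nat_lit 0)⟩))) (BT.node (nat_lit 3550) (BT.node (nat_lit 3549) (BT.leaf ⟨(nat_lit 3), (nat_lit 11), (nat_lit 9), (nat_lit 0x14bf00410cbf403f1c80674e35a3402), (nat_lit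 0x402c018e5cedf15e94bc80408821), (nat_lit 0)⟩) (BT.leaf ⟨(nat_lit 3), (nat_lit 9), (nat_lit 11), (nat_lit 0x402c018e5cedf15e94bc80408821), (nat_lit 0x14bf00410cbf403f1c80674e35a3402), (nat_lit 0)⟩)) (BT.node (nat_lit 3551) (BT.leaf ⟨(nat_lit 3), (nat_lit 11), (nat_lit 9), (nat_lit 0xa01042204018010121065fa79ead46), (nat_lit 0x1d5a31814061238e281112093efc6e4), (nat_lit 0)⟩) (BT.leaf ⟨(nat_lit 3), (nat_lit 9), (nat_lit 11), (nat_lit 0x1d5a31814061238e281112093efc6e4), (nat_lit 0xa01042204018010121065fa79ead46), (nat_lit 0)⟩)))))) (BT.node (nat_lit 3568) (BT.node (nat_lit 3560) (BT.node (nat_lit 3556) (BT.node (nat_lit 3554) (BT.node (nat_lit 3553) (BT.leaf ⟨(nat_lit 3), (nat_lit 11), (nat_lit 9), (nat_lit 0x1365f3a36747e41663c37e6f868b95a), (nat_lit 0xc73a8e0b3377b2f05c8ad17aad47b7), (nat_lit 0)⟩) (BT.leaf ⟨(nat_lit 3), (nat_lit 9), (nat_lit 11), (nat_lit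 0xc73a8e0b3377b2f05c8ad17aad47b7), (nat_lit 0x1365f3a36747e41663c37e6f868b95a), (nat_lit 0)⟩)) (BT.node (nat_lit 3555) (BT.leaf ⟨(nat_lit 3), (nat_lit 11), (nat_lit 7), (nat_lit 0x14d1dcaf9562aa51cd83ea2e5b138b9), (nat_lit 0x20be3674ad0b7c483632aaa00d7880), (nat_lit 0)⟩) (BT.leaf ⟨(nat_lit 3), (nat_lit 7), (nat_lit 11), (nat_lit 0x20be3674ad0b7c483632aaa00d7880), (nat_lit 0x14d1dcaf9562aa51cd83ea2e5b138b9), (nat_lit 0)⟩))) (BT.node (nat_lit 3558) (BT.node (nat_lit 3557) (BT.leaf ⟨(nat_lit 3), (nat_lit 11), (nat_lit 11), (nat_lit 0x1c3460280900b7caab63ce9ee850082), (nat_lit 0xffaae673c591ee31b35ae7e4039cf3), (nat_lit 0)⟩) (BT.leaf ⟨(nat_lit 3), (nat_lit 7), (nat_lit 11), (nat_lit 0xaef9c1d7205009f092d40404803002), (nat_lit 0xb7d2f3706bf74b60a1f3795968ce2c), (nat_lit 0)⟩)) (BT.node (nat_lit 3559) (BT.leaf ⟨(nat_lit 3), (nat_lit 11), (nat_lit 7), (nat_lit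 0xb7d2f3706bf74b60a1f3795968ce2c), (nat_lit 0xaef9c1d7205009f092d40404803002), (nat_lit 0)⟩) (BT.leaf ⟨(nat_lit 3), (nat_lit 11), (nat_lit 11), (nat_lit 0x1f8cde2e37871b9b1f7d9b2f9fc83e2), (nat_lit 0x604400924f7824b74e01002a3da57), (nat_lit 0)⟩)))) (BT.node (nat_lit 3564) (BT.node (nat_lit 3562) (BT.node (nat_lit 3561) (BT.leaf ⟨(nat_lit 3), (nat_lit 8), (nat_lit 11), (nat_lit 0x75e4e00325a40bc781210410805744), (nat_lit 0xb8e801016bf91bfa18005f67980104), (nat_lit 0)⟩) (BT.leaf ⟨(nat_lit 3), (nat_lit 11), (nat_lit 8), (nat_lit 0xb8e801016bf91bfa18005f67980104), (nat_lit 0x75e4e00325a40bc781210410805744), (nat_lit 0)⟩)) (BT.node (nat_lit 3563) (BT.leaf ⟨(nat_lit 3), (nat_lit 3), (nat_lit 11), (nat_lit 0x1c197ca4008210a198c0b50180283a3), (nat_lit 0x160dcb36c7723991cabb57aa66ffaa9), (nat_lit 0)⟩) (BT.leaf ⟨(nat_lit 3), (nat_lit 11), (nat_lit 3), (nat_lit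 0x160dcb36c7723991cabb57aa66ffaa9), (nat_lit 0x1c197ca4008210a198c0b50180283a3), (nat_lit 0)⟩))) (BT.node (nat_lit 3566) (BT.node (nat_lit 3565) (BT.leaf ⟨(nat_lit 3), (nat_lit 10), (nat_lit 10), (nat_lit 0x1f37bd3a3081100a05a82de87cca844), (nat_lit 0x77414496811d3893888e65783c2ab1), (nat_lit 0)⟩) (BT.leaf ⟨(nat_lit 3), (nat_lit 11), (nat_lit 11), (nat_lit 0xe8c28240085c18ca96f091ad0208c0), (nat_lit 0x12fa0f3d8939a7aa5ba4b3c9aa4fc8e), (nat_lit 0)⟩)) (BT.node (nat_lit 3567) (BT.leaf ⟨(nat_lit 2), (nat_lit 10), (nat_lit 10), (nat_lit 0x80500220500901802103c6813f4600), (nat_lit 0), (nat_lit 0)⟩) (BT.leaf ⟨(nat_lit 2), (nat_lit 10), (nat_lit 10), (nat_lit 0x7a2e4751b517e3f45ecbd35a2f5265), (nat_lit 0), (nat_lit 0)⟩))))) (BT.node (nat_lit 3576) (BT.node (nat_lit 3572) (BT.node (nat_lit 3570) (BT.node (nat_lit 3569) (BT.leaf ⟨(nat_lit 2), (nat_lit 10), (nat_lit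 10), (nat_lit 0x1e3d5dc7102401af5082804108813e1), (nat_lit 0), (nat_lit 0)⟩) (BT.leaf ⟨(nat_lit 2), (nat_lit 10), (nat_lit 10), (nat_lit 0xb8eb990020860081140d1a44180101), (nat_lit 0), (nat_lit 0)⟩)) (BT.node (nat_lit 3571) (BT.leaf ⟨(nat_lit 2), (nat_lit 10), (nat_lit 10), (nat_lit 0xb8df14a57ced8d1b3a33c6fce37790), (nat_lit 0), (nat_lit 0)⟩) (BT.leaf ⟨(nat_lit 2), (nat_lit 10), (nat_lit 10), (nat_lit 0x806009d41021077a811bd2015f1001), (nat_lit 0), (nat_lit 0)⟩))) (BT.node (nat_lit 3574) (BT.node (nat_lit 3573) (BT.leaf ⟨(nat_lit 3), (nat_lit 10), (nat_lit 10), (nat_lit 0x4fed89272574bc17b2f2de3eb34fdb), (nat_lit 0xcd4d90cbe8dd0ba27c6ecd51b83756), (nat_lit 0)⟩) (BT.leaf ⟨(nat_lit 3), (nat_lit 11), (nat_lit 11), (nat_lit 0x9abfa6f6de8bd37aef0364c733a1ce), (nat_lit 0x118c76c339e7b2ab999b8a71ce3bf90), (nat_lit 0)⟩)) (BT.node (nat_lit 3575) (BT.leaf ⟨(nat_lit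 3), (nat_lit 11), (nat_lit 11), (nat_lit 0xc04c722029789701140327c00be2), (nat_lit 0x1bbe1e9d438ae291b155d27963909dd), (nat_lit 0)⟩) (BT.leaf ⟨(nat_lit 3), (nat_lit 11), (nat_lit 11), (nat_lit 0x1bbe1e9d438ae291b155d27963909dd), (nat_lit 0xc04c722029789701140327c00be2), (nat_lit 0)⟩)))) (BT.node (nat_lit 3580) (BT.node (nat_lit 3578) (BT.node (nat_lit 3577) (BT.leaf ⟨(nat_lit 3), (nat_lit 9), (nat_lit 11), (nat_lit 0xb8daf94005ffd0c00d522042180646), (nat_lit 0xa1d35674debb5390caba2ebd37a6f6), (nat_lit 0)⟩) (BT.leaf ⟨(nat_lit 3), (nat_lit 11), (nat_lit 9), (nat_lit 0xa1d35674debb5390caba2ebd37a6f6), (nat_lit 0xb8daf94005ffd0c00d522042180646), (nat_lit 0)⟩)) (BT.node (nat_lit 3579) (BT.leaf ⟨(nat_lit 3), (nat_lit 8), (nat_lit 10), (nat_lit 0x1cec5bb3addfc6b0af2ae71ceb99565), (nat_lit 0x1d103e5ffa332978375668dd9ba1335), (nat_lit 0)⟩) (BT.leaf ⟨(nat_lit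 3), (nat_lit 10), (nat_lit 8), (nat_lit 0x1d103e5ffa332978375668dd9ba1335), (nat_lit 0x1cec5bb3addfc6b0af2ae71ceb99565), (nat_lit 0)⟩))) (BT.node (nat_lit 3582) (BT.node (nat_lit 3581) (BT.leaf ⟨(nat_lit 2), (nat_lit 11), (nat_lit 11), (nat_lit 0x9fd2f8e649e975afd194bcb7d0fa57), (nat_lit 0), (nat_lit 0)⟩) (BT.leaf ⟨(nat_lit 3), (nat_lit 7), (nat_lit 11), (nat_lit 0x1679719001aa440904e82100bc82102), (nat_lit 0x104204346809756006b95e94bc4f401), (nat_lit 0)⟩)) (BT.node (nat_lit 3583) (BT.leaf ⟨(nat_lit 3), (nat_lit 11), (nat_lit 7), (nat_lit 0x104204346809756006b95e94bc4f401), (nat_lit 0x1679719001aa440904e82100bc82102), (nat_lit 0)⟩) (BT.leaf ⟨(nat_lit 3), (nat_lit 11), (nat_lit 9), (nat_lit 0x1c1ba38cbe84cd7a73d8a8dd9a52f46), (nat_lit 0x1e77c63fea6832fc4a6516fe3cbcc6e), (nat_lit 0)⟩)))))))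
noncomputable def cP3520 : BT Pf := (BT.node (nat_lit 3552) (BT.node (nat_lit 3536) (BT.node (nat_lit 3528) (BT.node (nat_lit 3524) (BT.node (nat_lit 3522) (BT.node (nat_lit 3521) (BT.leaf (.inv (nat_lit 3519))) (BT.leaf (.rel (nat_lit 2522) (nat_lit 0) [(nat_lit 747), (nat_lit 682)] [⟨(nat_lit 3336), [], [(nat_lit 267), (nat_lit 525)]⟩]))) (BT.node (nat_lit 3523) (BT.leaf (.inv (nat_lit 3521))) (BT.leaf (.rel (nat_lit 3332) (nat_lit 3) [(nat_lit 733), (nat_lit 367)] [⟨(nat_lit 3411), [(nat_lit 3488)], [(nat_lit 167), (nat_lit 785)]⟩, ⟨(nat_lit 3325), [], [(nat_lit 483), (nat_lit 1001)]⟩])))) (BT.node (nat_lit 3526) (BT.node (nat_lit 3525) (BT.leaf (.inv (nat_lit 3523))) (BT.leaf (.rel (nat_lit 3456) (nat_lit 2) [(nat_lit 774), (nat_lit 1123)] [⟨(nat_lit 2373), [], [(nat_lit 164), (nat_lit 362)]⟩, ⟨(nat_lit 3311), [(nat_lit 935)], [(nat_lit 1162),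 (nat_lit 142)]⟩]))) (BT.node (nat_lit 3527) (BT.leaf (.rel (nat_lit 3473) (nat_lit 1) [(nat_lit 871), (nat_lit 162)] [⟨(nat_lit 3228), [(nat_lit 2549)], [(nat_lit 208), (nat_lit 877)]⟩])) (BT.leaf (.inv (nat_lit 3526)))))) (BT.node (nat_lit 3532) (BT.node (nat_lit 3530) (BT.node (nat_lit 3529) (BT.leaf (.rel (nat_lit 2598) (nat_lit 2) [(nat_lit 474), (nat_lit 141)] [⟨(nat_lit 3045), [(nat_lit 2237)], [(nat_lit 482), (nat_lit 877)]⟩, ⟨(nat_lit 3497), [(nat_lit 2549)], [(nat_lit 1126), (nat_lit 878)]⟩])) (BT.leaf (.inv (nat_lit 3528)))) (BT.node (nat_lit 3531) (BT.leaf (.rel (nat_lit 3270) (nat_lit 1) [(nat_lit 403), (nat_lit 512)] [⟨(nat_lit 3293), [(nat_lit 2223)], [(nat_lit 508), (nat_lit 1256)]⟩])) (BT.leaf (.rel (nat_lit 1239) (nat_lit 5) [(nat_lit 741), (nat_lit 802)] [⟨(nat_lit 1685), [], [(nat_lit 394), (nat_lit 264)]⟩, ⟨(nat_lit 3325), [], [(nat_lit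 357), (nat_lit 717)]⟩])))) (BT.node (nat_lit 3534) (BT.node (nat_lit 3533) (BT.leaf (.inv (nat_lit 3531))) (BT.leaf (.rel (nat_lit 3402) (nat_lit 4) [(nat_lit 689), (nat_lit 290)] [⟨(nat_lit 1712), [(nat_lit 935)], [(nat_lit 759), (nat_lit 293)]⟩, ⟨(nat_lit 3505), [(nat_lit 935)], [(nat_lit 19), (nat_lit 330)]⟩]))) (BT.node (nat_lit 3535) (BT.leaf (.rel (nat_lit 3290) (nat_lit 5) [(nat_lit 563)] [⟨(nat_lit 1476), [(nat_lit 775)], [(nat_lit 914), (nat_lit 694)]⟩, ⟨(nat_lit 3394), [], [(nat_lit 568), (nat_lit 307)]⟩])) (BT.leaf (.rel (nat_lit 3417) (nat_lit 0) [(nat_lit 1173), (nat_lit 676)] [⟨(nat_lit 3416), [(nat_lit 2237)], [(nat_lit 733), (nat_lit 717)]⟩])))))) (BT.node (nat_lit 3544) (BT.node (nat_lit 3540) (BT.node (nat_lit 3538) (BT.node (nat_lit 3537) (BT.leaf (.inv (nat_lit 3535))) (BT.leaf (.rel (nat_lit 3298) (nat_lit 2) [(nat_lit 393), (nat_lit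 491)] [⟨(nat_lit 1068), [(nat_lit 775)], [(nat_lit 474), (nat_lit 512)]⟩, ⟨(nat_lit 1854), [], [(nat_lit 865), (nat_lit 559)]⟩]))) (BT.node (nat_lit 3539) (BT.leaf (.inv (nat_lit 3537))) (BT.leaf (.rel (nat_lit 3471) (nat_lit 4) [(nat_lit 259), (nat_lit 627)] [⟨(nat_lit 3009), [(nat_lit 935)], [(nat_lit 1103), (nat_lit 625)]⟩, ⟨(nat_lit 3228), [], [(nat_lit 254), (nat_lit 399)]⟩])))) (BT.node (nat_lit 3542) (BT.node (nat_lit 3541) (BT.leaf (.rel (nat_lit 3367) (nat_lit 1) [(nat_lit 900), (nat_lit 1503)] [⟨(nat_lit 3280), [(nat_lit 2311)], [(nat_lit 111), (nat_lit 647)]⟩])) (BT.leaf (.emul [(nat_lit 654), (nat_lit 842)]))) (BT.node (nat_lit 3543) (BT.leaf (.rel (nat_lit 3238) (nat_lit 3) [(nat_lit 883), (nat_lit 401)] [⟨(nat_lit 792), [(nat_lit 775)], [(nat_lit 193), (nat_lit 533)]⟩, ⟨(nat_lit 3380), [(nat_lit 3541)], [(nat_lit 629), (nat_lit 1203)]⟩]))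 (BT.leaf (.rel (nat_lit 3031) (nat_lit 2) [(nat_lit 166), (nat_lit 573)] [⟨(nat_lit 3029), [(nat_lit 2237)], [(nat_lit 214), (nat_lit 1226)]⟩, ⟨(nat_lit 3369), [(nat_lit 935)], [(nat_lit 336), (nat_lit 1871)]⟩]))))) (BT.node (nat_lit 3548) (BT.node (nat_lit 3546) (BT.node (nat_lit 3545) (BT.leaf (.inv (nat_lit 3543))) (BT.leaf (.rel (nat_lit 3378) (nat_lit 1) [(nat_lit 427), (nat_lit 1141)] [⟨(nat_lit 1757), [(nat_lit 775)], [(nat_lit 348), (nat_lit 1025)]⟩]))) (BT.node (nat_lit 3547) (BT.leaf (.inv (nat_lit 3545))) (BT.leaf (.rel (nat_lit 3399) (nat_lit 1) [(nat_lit 579), (nat_lit 1070)] [⟨(nat_lit 3400), [(nat_lit 2376)], [(nat_lit 364), (nat_lit 203)]⟩])))) (BT.node (nat_lit 3550) (BT.node (nat_lit 3549) (BT.leaf (.rel (nat_lit 3144) (nat_lit 1) [(nat_lit 94), (nat_lit 319)] [⟨(nat_lit 3277), [(nat_lit 2311)], [(nat_lit 747), (nat_lit 386)]⟩]))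 (BT.leaf (.inv (nat_lit 3548)))) (BT.node (nat_lit 3551) (BT.leaf (.rel (nat_lit 3497) (nat_lit 0) [(nat_lit 784), (nat_lit 762)] [⟨(nat_lit 3474), [(nat_lit 3488)], [(nat_lit 227), (nat_lit 495)]⟩])) (BT.leaf (.inv (nat_lit 3550)))))))) (BT.node (nat_lit 3568) (BT.node (nat_lit 3560) (BT.node (nat_lit 3556) (BT.node (nat_lit 3554) (BT.node (nat_lit 3553) (BT.leaf (.rel (nat_lit 3132) (nat_lit 0) [(nat_lit 207), (nat_lit 874)] [⟨(nat_lit 3450), [(nat_lit 2237)], [(nat_lit 991), (nat_lit 293)]⟩])) (BT.leaf (.inv (nat_lit 3552)))) (BT.node (nat_lit 3555) (BT.leaf (.rel (nat_lit 2797) (nat_lit 3) [(nat_lit 470), (nat_lit 421)] [⟨(nat_lit 3021), [(nat_lit 2413)], [(nat_lit 911), (nat_lit 1083)]⟩, ⟨(nat_lit 3460), [], [(nat_lit 911), (nat_lit 269)]⟩])) (BT.leaf (.inv (nat_lit 3554))))) (BT.node (nat_lit 3558) (BT.node (nat_lit 3557) (BT.leaf (.rel (nat_lit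 3238) (nat_lit 4) [(nat_lit 416), (nat_lit 532)] [⟨(nat_lit 1493), [(nat_lit 775)], [(nat_lit 1292), (nat_lit 372)]⟩, ⟨(nat_lit 3446), [], [(nat_lit 943), (nat_lit 0)]⟩])) (BT.leaf (.rel (nat_lit 3345) (nat_lit 5) [(nat_lit 827), (nat_lit 247)] [⟨(nat_lit 884), [(nat_lit 935)], [(nat_lit 255), (nat_lit 864)]⟩, ⟨(nat_lit 976), [(nat_lit 855)], [(nat_lit 468), (nat_lit 737)]⟩]))) (BT.node (nat_lit 3559) (BT.leaf (.inv (nat_lit 3557))) (BT.leaf (.rel (nat_lit 3274) (nat_lit 0) [(nat_lit 213), (nat_lit 330)] [⟨(nat_lit 3309), [(nat_lit 2524)], [(nat_lit 241), (nat_lit 278)]⟩]))))) (BT.node (nat_lit 3564) (BT.node (nat_lit 3562) (BT.node (nat_lit 3561) (BT.leaf (.rel (nat_lit 3506) (nat_lit 3) [(nat_lit 826), (nat_lit 1871)] [⟨(nat_lit 2057), [], [(nat_lit 422), (nat_lit 263)]⟩, ⟨(nat_lit 2016), [(nat_lit 2258)], [(nat_lit 19), (nat_lit 426)]⟩])) (BT.leaf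 (.inv (nat_lit 3560)))) (BT.node (nat_lit 3563) (BT.leaf (.rel (nat_lit 3267) (nat_lit 1) [(nat_lit 941), (nat_lit 898)] [⟨(nat_lit 1085), [(nat_lit 935)], [(nat_lit 463), (nat_lit 88)]⟩])) (BT.leaf (.inv (nat_lit 3562))))) (BT.node (nat_lit 3566) (BT.node (nat_lit 3565) (BT.leaf (.rel (nat_lit 3200) (nat_lit 1) [(nat_lit 434), (nat_lit 557)] [⟨(nat_lit 3201), [(nat_lit 645)], [(nat_lit 427), (nat_lit 334)]⟩])) (BT.leaf (.rel (nat_lit 3528) (nat_lit 4) [(nat_lit 427), (nat_lit 875)] [⟨(nat_lit 1560), [(nat_lit 935)], [(nat_lit 433), (nat_lit 870)]⟩, ⟨(nat_lit 3529), [(nat_lit 775)], [(nat_lit 914), (nat_lit 264)]⟩]))) (BT.node (nat_lit 3567) (BT.leaf (.emul [(nat_lit 3179), (nat_lit 3177)])) (BT.leaf (.emul [(nat_lit 3191), (nat_lit 3566)])))))) (BT.node (nat_lit 3576) (BT.node (nat_lit 3572) (BT.node (nat_lit 3570) (BT.node (nat_lit 3569) (BT.leaf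 (.emul [(nat_lit 3191), (nat_lit 3567)])) (BT.leaf (.emul [(nat_lit 3191), (nat_lit 3568)]))) (BT.node (nat_lit 3571) (BT.leaf (.emul [(nat_lit 3179), (nat_lit 3569)])) (BT.leaf (.emul [(nat_lit 3191), (nat_lit 3570)])))) (BT.node (nat_lit 3574) (BT.node (nat_lit 3573) (BT.leaf (.rel (nat_lit 3208) (nat_lit 1) [(nat_lit 271), (nat_lit 278)] [⟨(nat_lit 3564), [(nat_lit 3195), (nat_lit 3571)], [(nat_lit 871), (nat_lit 1204)]⟩])) (BT.leaf (.rel (nat_lit 3378) (nat_lit 0) [(nat_lit 256), (nat_lit 717)] [⟨(nat_lit 3348), [], [(nat_lit 1175), (nat_lit 363)]⟩]))) (BT.node (nat_lit 3575) (BT.leaf (.rel (nat_lit 3297) (nat_lit 5) [(nat_lit 194), (nat_lit 1083)] [⟨(nat_lit 2302), [], [(nat_lit 1175), (nat_lit 1226)]⟩, ⟨(nat_lit 3398), [], [(nat_lit 539), (nat_lit 1141)]⟩])) (BT.leaf (.inv (nat_lit 3574)))))) (BT.node (nat_lit 3580) (BT.node (nat_lit 3578) (BT.node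 (nat_lit 3577) (BT.leaf (.rel (nat_lit 3500) (nat_lit 0) [(nat_lit 941), (nat_lit 279)] [⟨(nat_lit 3064), [(nat_lit 775)], [(nat_lit 574), (nat_lit 906)]⟩])) (BT.leaf (.inv (nat_lit 3576)))) (BT.node (nat_lit 3579) (BT.leaf (.rel (nat_lit 3199) (nat_lit 5) [(nat_lit 212), (nat_lit 203)] [⟨(nat_lit 2569), [(nat_lit 2223)], [(nat_lit 364), (nat_lit 821)]⟩, ⟨(nat_lit 2557), [(nat_lit 2413)], [(nat_lit 281), (nat_lit 808)]⟩])) (BT.leaf (.inv (nat_lit 3578))))) (BT.node (nat_lit 3582) (BT.node (nat_lit 3581) (BT.leaf (.emul [(nat_lit 3264), (nat_lit 3454)])) (BT.leaf (.rel (nat_lit 3490) (nat_lit 3) [(nat_lit 259), (nat_lit 498)] [⟨(nat_lit 3247), [(nat_lit 935)], [(nat_lit 462), (nat_lit 319)]⟩, ⟨(nat_lit 3415), [(nat_lit 3580)], [(nat_lit 175), (nat_lit 605)]⟩]))) (BT.node (nat_lit 3583) (BT.leaf (.inv (nat_lit 3581))) (BT.leaf (.rel (nat_lit 3147) (nat_lit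 2) [(nat_lit 1004), (nat_lit 142)] [⟨(nat_lit 3104), [], [(nat_lit 266), (nat_lit 956)]⟩, ⟨(nat_lit 3412), [(nat_lit 2357)], [(nat_lit 1235), (nat_lit 798)]⟩]))))))))
noncomputable def cF3584 : BT Fc := (BT.node (nat_lit 3616) (BT.node (nat_lit 3600) (BT.node (nat_lit 3592) (BT.node (nat_lit 3588) (BT.node (nat_lit 3586) (BT.node (nat_lit 3585) (BT.leaf ⟨(nat_lit 3), (nat_lit 9), (nat_lit 11), (nat_lit 0x1e77c63fea6832fc4a6516fe3cbcc6e), (nat_lit 0x1c1ba38cbe84cd7a73d8a8dd9a52f46), (nat_lit 0)⟩) (BT.leaf ⟨(nat_lit 3), (nat_lit 11), (nat_lit 11), (nat_lit 0x6cba1706e8f297ab744e8cd1b34dff), (nat_lit 0x6ca55ff45e945e26ef6de9bd7edee4), (nat_lit 0)⟩)) (BT.node (nat_lit 3587) (BT.leaf ⟨(nat_lit 3), (nat_lit 8), (nat_lit 8), (nat_lit 0xf9c9590457a0112def000b26ba1006), (nat_lit 0x3b629c33c591c439c738efe42d3673), (nat_lit 0)⟩) (BT.leaf ⟨(nat_lit 3), (nat_lit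 11), (nat_lit 11), (nat_lit 0x30445e024eac404c96411e140c732), (nat_lit 0x9a989ec1efb2734f49693f07a4f4de), (nat_lit 0)⟩))) (BT.node (nat_lit 3590) (BT.node (nat_lit 3589) (BT.leaf ⟨(nat_lit 3), (nat_lit 11), (nat_lit 9), (nat_lit 0x280110240432f81471a0c043f6a5c8), (nat_lit 0x19ce29da650f1cfc819bd953cd9ab49), (nat_lit 0)⟩) (BT.leaf ⟨(nat_lit 3), (nat_lit 9), (nat_lit 11), (nat_lit 0x19ce29da650f1cfc819bd953cd9ab49), (nat_lit 0x280110240432f81471a0c043f6a5c8), (nat_lit 0)⟩)) (BT.node (nat_lit 3591) (BT.leaf ⟨(nat_lit 3), (nat_lit 11), (nat_lit 11), (nat_lit 0xf54e2a363ab963779f52ab69b49dd5), (nat_lit 0x1856c1f2ae341f29d73a9b3cf85bf7a), (nat_lit 0)⟩) (BT.leaf ⟨(nat_lit 3), (nat_lit 11), (nat_lit 11), (nat_lit 0x1573165730e718e19c728f769a79bfe), (nat_lit 0x48968224bb7a80540200480b7b042), (nat_lit 0)⟩)))) (BT.node (nat_lit 3596) (BT.node (nat_lit 3594) (BT.node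 (nat_lit 3593) (BT.leaf ⟨(nat_lit 3), (nat_lit 11), (nat_lit 11), (nat_lit 0x210012ff1bce8806f4100754102b9), (nat_lit 0x440083f3f3a0c09fee40257e395014), (nat_lit 0)⟩) (BT.leaf ⟨(nat_lit 3), (nat_lit 3), (nat_lit 12), (nat_lit 0xa1f7a4f4da8c71351cee43ad17a1b2), (nat_lit 0x1001001001001001001001001001001), (nat_lit 0)⟩)) (BT.node (nat_lit 3595) (BT.leaf ⟨(nat_lit 2), (nat_lit 12), (nat_lit 12), (nat_lit 0x10010073a003278040100411cc01080), (nat_lit 0), (nat_lit 0)⟩) (BT.leaf ⟨(nat_lit 3), (nat_lit 12), (nat_lit 3), (nat_lit 0x1001001001001001001001001001001), (nat_lit 0xa1f7a4f4da8c71351cee43ad17a1b2), (nat_lit 0)⟩))) (BT.node (nat_lit 3598) (BT.node (nat_lit 3597) (BT.leaf ⟨(nat_lit 3), (nat_lit 12), (nat_lit 7), (nat_lit 0x603868841408e73a7c6102557dd41e), (nat_lit 0x1239f993ff3b7e3ab01112093ce2910), (nat_lit 0)⟩) (BT.leaf ⟨(nat_lit 3), (nat_lit 7),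 (nat_lit 12), (nat_lit 0x1239f993ff3b7e3ab01112093ce2910), (nat_lit 0x603868841408e73a7c6102557dd41e), (nat_lit 0)⟩)) (BT.node (nat_lit 3599) (BT.leaf ⟨(nat_lit 3), (nat_lit 12), (nat_lit 3), (nat_lit 0x12014070d472d8c44090101f1860081), (nat_lit 0xd7c811001aa443fa180d1a4131d101), (nat_lit 0)⟩) (BT.leaf ⟨(nat_lit 3), (nat_lit 3), (nat_lit 12), (nat_lit 0xd7c811001aa443fa180d1a4131d101), (nat_lit 0x12014070d472d8c44090101f1860081), (nat_lit 0)⟩))))) (BT.node (nat_lit 3608) (BT.node (nat_lit 3604) (BT.node (nat_lit 3602) (BT.node (nat_lit 3601) (BT.leaf ⟨(nat_lit 2), (nat_lit 12), (nat_lit 12), (nat_lit 0xa229821e35eb61010f040880fa920), (nat_lit 0), (nat_lit 0)⟩) (BT.leaf ⟨(nat_lit 3), (nat_lit 7), (nat_lit 12), (nat_lit 0x357499f53abc84ea1d17ab962d31dd), (nat_lit 0x91020140187460249abd8f9c02044), (nat_lit 0)⟩)) (BT.node (nat_lit 3603) (BT.leaf ⟨(nat_lit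 3), (nat_lit 12), (nat_lit 7), (nat_lit 0x91020140187460249abd8f9c02044), (nat_lit 0x357499f53abc84ea1d17ab962d31dd), (nat_lit 0)⟩) (BT.leaf ⟨(nat_lit 3), (nat_lit 12), (nat_lit 11), (nat_lit 0x1ce0113e125a009011d720402a38c9c), (nat_lit 0x1d080a0443a31de4d204208f9c42404), (nat_lit 0)⟩))) (BT.node (nat_lit 3606) (BT.node (nat_lit 3605) (BT.leaf ⟨(nat_lit 3), (nat_lit 11), (nat_lit 12), (nat_lit 0x1d080a0443a31de4d204208f9c42404), (nat_lit 0x1ce0113e125a009011d720402a38c9c), (nat_lit 0)⟩) (BT.leaf ⟨(nat_lit 2), (nat_lit 12), (nat_lit 12), (nat_lit 0xa0120a024172010030840880117ad), (nat_lit 0), (nat_lit 0)⟩)) (BT.node (nat_lit 3607) (BT.leaf ⟨(nat_lit 3), (nat_lit 12), (nat_lit 7), (nat_lit 0x1bbcee9556d875f90d4b3eb7561e8fa), (nat_lit 0x806f4f472030079d8017c497802811), (nat_lit 0)⟩) (BT.leaf ⟨(nat_lit 3), (nat_lit 7), (nat_lit 12), (nat_lit 0x806f4f472030079d8017c497802811),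 (nat_lit 0x1bbcee9556d875f90d4b3eb7561e8fa), (nat_lit 0)⟩)))) (BT.node (nat_lit 3612) (BT.node (nat_lit 3610) (BT.node (nat_lit 3609) (BT.leaf ⟨(nat_lit 3), (nat_lit 9), (nat_lit 12), (nat_lit 0x167876c8e4d4e926f31393d6c4bb49f), (nat_lit 0x1f6c9f8fa25d57197d2fc2a49e6392f), (nat_lit 0)⟩) (BT.leaf ⟨(nat_lit 3), (nat_lit 12), (nat_lit 9), (nat_lit 0x1f6c9f8fa25d57197d2fc2a49e6392f), (nat_lit 0x167876c8e4d4e926f31393d6c4bb49f), (nat_lit 0)⟩)) (BT.node (nat_lit 3611) (BT.leaf ⟨(nat_lit 3), (nat_lit 12), (nat_lit 5), (nat_lit 0x18b23dc737fc3b439b358c71c639453), (nat_lit 0xbd8035fc8da3481104200b8ecf500), (nat_lit 0)⟩) (BT.leaf ⟨(nat_lit 3), (nat_lit 5), (nat_lit 12), (nat_lit 0xbd8035fc8da3481104200b8ecf500), (nat_lit 0x18b23dc737fc3b439b358c71c639453), (nat_lit 0)⟩))) (BT.node (nat_lit 3614) (BT.node (nat_lit 3613) (BT.leaf ⟨(nat_lit 3), (nat_lit 5), (nat_lit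 12), (nat_lit 0x19cd97b00481a7910546c008429d208), (nat_lit 0xae1dcaa9532af5cb2bb5f2ac6c1c4d), (nat_lit 0)⟩) (BT.leaf ⟨(nat_lit 2), (nat_lit 12), (nat_lit 12), (nat_lit 0xa0300244fe882106d40404814cfad), (nat_lit 0), (nat_lit 0)⟩)) (BT.node (nat_lit 3615) (BT.leaf ⟨(nat_lit 3), (nat_lit 12), (nat_lit 5), (nat_lit 0xae1dcaa9532af5cb2bb5f2ac6c1c4d), (nat_lit 0x19cd97b00481a7910546c008429d208), (nat_lit 0)⟩) (BT.leaf ⟨(nat_lit 3), (nat_lit 12), (nat_lit 8), (nat_lit 0xac404927f0a031f5c08df97810474e), (nat_lit 0xcbc9f92efb63eaae12dc2a0bd661af), (nat_lit 0)⟩)))))) (BT.node (nat_lit 3632) (BT.node (nat_lit 3624) (BT.node (nat_lit 3620) (BT.node (nat_lit 3618) (BT.node (nat_lit 3617) (BT.leaf ⟨(nat_lit 3), (nat_lit 8), (nat_lit 12), (nat_lit 0xcbc9f92efb63eaae12dc2a0bd661af), (nat_lit 0xac404927f0a031f5c08df97810474e), (nat_lit 0)⟩) (BT.leaf ⟨(nat_lit 3), (nat_lit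 12), (nat_lit 9), (nat_lit 0x600a7560602420872a8c64fc08bf3), (nat_lit 0xdb0fa8d5a96555eac3db4c3e8ea9d1), (nat_lit 0)⟩)) (BT.node (nat_lit 3619) (BT.leaf ⟨(nat_lit 3), (nat_lit 9), (nat_lit 12), (nat_lit 0xdb0fa8d5a96555eac3db4c3e8ea9d1), (nat_lit 0x600a7560602420872a8c64fc08bf3), (nat_lit 0)⟩) (BT.leaf ⟨(nat_lit 3), (nat_lit 12), (nat_lit 8), (nat_lit 0x1f18601801215a3dd41e1088e4aaadf), (nat_lit 0x14e908240404cbd102004082e5043d5), (nat_lit 0)⟩))) (BT.node (nat_lit 3622) (BT.node (nat_lit 3621) (BT.leaf ⟨(nat_lit 3), (nat_lit 8), (nat_lit 12), (nat_lit 0x14e908240404cbd102004082e5043d5), (nat_lit 0x1f18601801215a3dd41e1088e4aaadf), (nat_lit 0)⟩) (BT.leaf ⟨(nat_lit 3), (nat_lit 7), (nat_lit 12), (nat_lit 0x1bd801806025ce10110293897496802), (nat_lit 0x100a04410675012eac2088027a40073), (nat_lit 0)⟩)) (BT.node (nat_lit 3623) (BT.leaf ⟨(nat_lit 3), (nat_lit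 12), (nat_lit 7), (nat_lit 0x100a04410675012eac2088027a40073), (nat_lit 0x1bd801806025ce10110293897496802), (nat_lit 0)⟩) (BT.leaf ⟨(nat_lit 3), (nat_lit 9), (nat_lit 12), (nat_lit 0x240649624fcc805257110ac484785), (nat_lit 0x1756a5f2146c7d5b60fa3a3960e2bd5), (nat_lit 0)⟩)))) (BT.node (nat_lit 3628) (BT.node (nat_lit 3626) (BT.node (nat_lit 3625) (BT.leaf ⟨(nat_lit 3), (nat_lit 12), (nat_lit 9), (nat_lit 0x1756a5f2146c7d5b60fa3a3960e2bd5), (nat_lit 0x240649624fcc805257110ac484785), (nat_lit 0)⟩) (BT.leaf ⟨(nat_lit 3), (nat_lit 9), (nat_lit 12), (nat_lit 0x1fd09035f600440809023013a2802e3), (nat_lit 0x14e904220403803f44f4500c01083d5), (nat_lit 0)⟩)) (BT.node (nat_lit 3627) (BT.leaf ⟨(nat_lit 3), (nat_lit 12), (nat_lit 9), (nat_lit 0x14e904220403803f44f4500c01083d5), (nat_lit 0x1fd09035f600440809023013a2802e3), (nat_lit 0)⟩) (BT.leaf ⟨(nat_lit 3), (nat_lit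 12), (nat_lit 7), (nat_lit 0x29f0f44dec4b79c25d04420a01042), (nat_lit 0x1eeb0ad3ae34b499d07c69273b9f63a), (nat_lit 0)⟩))) (BT.node (nat_lit 3630) (BT.node (nat_lit 3629) (BT.leaf ⟨(nat_lit 3), (nat_lit 7), (nat_lit 12), (nat_lit 0x1eeb0ad3ae34b499d07c69273b9f63a), (nat_lit 0x29f0f44dec4b79c25d04420a01042), (nat_lit 0)⟩) (BT.leaf ⟨(nat_lit 3), (nat_lit 8), (nat_lit 12), (nat_lit 0x17a3dbdc86387a2f57e85a5d46f4de0), (nat_lit 0x10119d65f3d1402015d581100610480), (nat_lit 0)⟩)) (BT.node (nat_lit 3631) (BT.leaf ⟨(nat_lit 3), (nat_lit 12), (nat_lit 8), (nat_lit 0x10119d65f3d1402015d581100610480), (nat_lit 0x17a3dbdc86387a2f57e85a5d46f4de0), (nat_lit 0)⟩) (BT.leaf ⟨(nat_lit 3), (nat_lit 9), (nat_lit 12), (nat_lit 0xe2927d194bdb072f9bc4fe97d0fdd2), (nat_lit 0x751c50d587a3e8caa36b4dbbea5e93), (nat_lit 0)⟩))))) (BT.node (nat_lit 3640) (BT.node (nat_lit 3636) (BT.node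 (nat_lit 3634) (BT.node (nat_lit 3633) (BT.leaf ⟨(nat_lit 3), (nat_lit 12), (nat_lit 9), (nat_lit 0x751c50d587a3e8caa36b4dbbea5e93), (nat_lit 0xe2927d194bdb072f9bc4fe97d0fdd2), (nat_lit 0)⟩) (BT.leaf ⟨(nat_lit 3), (nat_lit 12), (nat_lit 9), (nat_lit 0x1ce00949c007e3fa25ea57602821006), (nat_lit 0xf89f5f7d746f8df395a9b345d719bc), (nat_lit 0)⟩)) (BT.node (nat_lit 3635) (BT.leaf ⟨(nat_lit 3), (nat_lit 9), (nat_lit 12), (nat_lit 0xf89f5f7d746f8df395a9b345d719bc), (nat_lit 0x1ce00949c007e3fa25ea57602821006), (nat_lit 0)⟩) (BT.leaf ⟨(nat_lit 3), (nat_lit 9), (nat_lit 12), (nat_lit 0x1e75ff68df5b63532c6ecb1e169a78d), (nat_lit 0x654e29f5e42e286ab6c2aa746d35d5), (nat_lit 0)⟩))) (BT.node (nat_lit 3638) (BT.node (nat_lit 3637) (BT.leaf ⟨(nat_lit 3), (nat_lit 12), (nat_lit 9), (nat_lit 0x654e29f5e42e286ab6c2aa746d35d5), (nat_lit 0x1e75ff68df5b63532c6ecb1e169a78d),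 (nat_lit 0)⟩) (BT.leaf ⟨(nat_lit 3), (nat_lit 9), (nat_lit 12), (nat_lit 0x13790f96f080500213a3867103837cd), (nat_lit 0x1b2a9a2b157a56ac1b6c1ccaeeffa39), (nat_lit 0)⟩)) (BT.node (nat_lit 3639) (BT.leaf ⟨(nat_lit 3), (nat_lit 12), (nat_lit 9), (nat_lit 0x1b2a9a2b157a56ac1b6c1ccaeeffa39), (nat_lit 0x13790f96f080500213a3867103837cd), (nat_lit 0)⟩) (BT.leaf ⟨(nat_lit 3), (nat_lit 11), (nat_lit 12), (nat_lit 0x11bae9313d44ffbc4d8df9a5e7d6d34), (nat_lit 0x49e4b6fc03012158908e65e1444009), (nat_lit 0)⟩)))) (BT.node (nat_lit 3644) (BT.node (nat_lit 3642) (BT.node (nat_lit 3641) (BT.leaf ⟨(nat_lit 3), (nat_lit 12), (nat_lit 11), (nat_lit 0x49e4b6fc03012158908e65e1444009), (nat_lit 0x11bae9313d44ffbc4d8df9a5e7d6d34), (nat_lit 0)⟩) (BT.leaf ⟨(nat_lit 3), (nat_lit 12), (nat_lit 7), (nat_lit 0x17ffab07ce89a4fa3d1919791ba31b2), (nat_lit 0x1d10112bb205bd8050060072712e802),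 (nat_lit 0)⟩)) (BT.node (nat_lit 3643) (BT.leaf ⟨(nat_lit 3), (nat_lit 7), (nat_lit 12), (nat_lit 0x1d10112bb205bd8050060072712e802), (nat_lit 0x17ffab07ce89a4fa3d1919791ba31b2), (nat_lit 0)⟩) (BT.leaf ⟨(nat_lit 3), (nat_lit 7), (nat_lit 12), (nat_lit 0x894cf66042090fa8a00c0f0c90420), (nat_lit 0x1bbf9dcd939cb4a9d77a675cc9a48b7), (nat_lit 0)⟩))) (BT.node (nat_lit 3646) (BT.node (nat_lit 3645) (BT.leaf ⟨(nat_lit 3), (nat_lit 12), (nat_lit 7), (nat_lit 0x1bbf9dcd939cb4a9d77a675cc9a48b7), (nat_lit 0x894cf66042090fa8a00c0f0c90420), (nat_lit 0)⟩) (BT.leaf ⟨(nat_lit 3), (nat_lit 9), (nat_lit 12), (nat_lit 0x2200c208bc003014127e9d1ef992b1), (nat_lit 0x1f1ab428083c28040fbae1a21044180), (nat_lit 0)⟩)) (BT.node (nat_lit 3647) (BT.leaf ⟨(nat_lit 3), (nat_lit 12), (nat_lit 9), (nat_lit 0x1f1ab428083c28040fbae1a21044180), (nat_lit 0x2200c208bc003014127e9d1ef992b1),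 (nat_lit 0)⟩) (BT.leaf ⟨(nat_lit 3), (nat_lit 7), (nat_lit 12), (nat_lit 0x1cef9553ae71cc9d24d9f741f1696ef), (nat_lit 0x1bbdeadd546c754e8c3d3bb69aa5e58), (nat_lit 0)⟩)))))))
noncomputable def cP3584 : BT Pf := (BT.node (nat_lit 3616) (BT.node (nat_lit 3600) (BT.node (nat_lit 3592) (BT.node (nat_lit 3588) (BT.node (nat_lit 3586) (BT.node (nat_lit 3585) (BT.leaf (.inv (nat_lit 3583))) (BT.leaf (.rel (nat_lit 3413) (nat_lit 0) [(nat_lit 513), (nat_lit 1133)] [⟨(nat_lit 3389), [(nat_lit 2357)], [(nat_lit 193), (nat_lit 982)]⟩]))) (BT.node (nat_lit 3587) (BT.leaf (.rel (nat_lit 2162) (nat_lit 1) [(nat_lit 434), (nat_lit 711)] [⟨(nat_lit 2175), [], [(nat_lit 178), (nat_lit 173)]⟩])) (BT.leaf (.rel (nat_lit 3547) (nat_lit 0) [(nat_lit 570), (nat_lit 1133)] [⟨(nat_lit 3372), [], [(nat_lit 128), (nat_lit 532)]⟩])))) (BT.node (nat_lit 3590) (BT.node (nat_lit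 3589) (BT.leaf (.rel (nat_lit 3117) (nat_lit 0) [(nat_lit 207), (nat_lit 222)] [⟨(nat_lit 3406), [(nat_lit 775)], [(nat_lit 360), (nat_lit 385)]⟩])) (BT.leaf (.inv (nat_lit 3588)))) (BT.node (nat_lit 3591) (BT.leaf (.rel (nat_lit 3411) (nat_lit 5) [(nat_lit 781), (nat_lit 898)] [⟨(nat_lit 1713), [(nat_lit 775)], [(nat_lit 240), (nat_lit 795)]⟩, ⟨(nat_lit 3302), [], [(nat_lit 1014), (nat_lit 737)]⟩])) (BT.leaf (.rel (nat_lit 3530) (nat_lit 0) [(nat_lit 150), (nat_lit 477)] [⟨(nat_lit 3530), [(nat_lit 3215)], [(nat_lit 151), (nat_lit 682)]⟩]))))) (BT.node (nat_lit 3596) (BT.node (nat_lit 3594) (BT.node (nat_lit 3593) (BT.leaf (.rel (nat_lit 3276) (nat_lit 2) [(nat_lit 281), (nat_lit 291)] [⟨(nat_lit 2654), [(nat_lit 2549)], [(nat_lit 675), (nat_lit 778)]⟩, ⟨(nat_lit 3470), [(nat_lit 775)], [(nat_lit 1126), (nat_lit 395)]⟩])) (BT.leaf (.dfn [(nat_lit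 1), (nat_lit 3), (nat_lit 1), (nat_lit 4), (nat_lit 1), (nat_lit 4), (nat_lit 1), (nat_lit 4), (nat_lit 1), (nat_lit 4), (nat_lit 1), (nat_lit 4)]))) (BT.node (nat_lit 3595) (BT.leaf (.cmp (nat_lit 3593) ⟨(nat_lit 3593), [(nat_lit 437)], [(nat_lit 280), (nat_lit 1101)]⟩)) (BT.leaf (.inv (nat_lit 3593))))) (BT.node (nat_lit 3598) (BT.node (nat_lit 3597) (BT.leaf (.rel (nat_lit 1768) (nat_lit 5) [(nat_lit 1092), (nat_lit 956)] [⟨(nat_lit 1019), [(nat_lit 775)], [(nat_lit 787), (nat_lit 400)]⟩, ⟨(nat_lit 3593), [(nat_lit 444)], [(nat_lit 271), (nat_lit 308)]⟩])) (BT.leaf (.inv (nat_lit 3596)))) (BT.node (nat_lit 3599) (BT.leaf (.rel (nat_lit 2709) (nat_lit 4) [(nat_lit 470), (nat_lit 864)] [⟨(nat_lit 3060), [(nat_lit 2413)], [(nat_lit 284), (nat_lit 0)]⟩, ⟨(nat_lit 3597), [(nat_lit 935)], [(nat_lit 1195), (nat_lit 328)]⟩])) (BT.leaf (.inv (nat_lit 3598)))))))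 (BT.node (nat_lit 3608) (BT.node (nat_lit 3604) (BT.node (nat_lit 3602) (BT.node (nat_lit 3601) (BT.leaf (.cmp (nat_lit 3599) ⟨(nat_lit 3593), [(nat_lit 926)], [(nat_lit 943), (nat_lit 290)]⟩)) (BT.leaf (.rel (nat_lit 3595) (nat_lit 0) [(nat_lit 195), (nat_lit 777)] [⟨(nat_lit 1010), [(nat_lit 457)], [(nat_lit 579), (nat_lit 1123)]⟩]))) (BT.node (nat_lit 3603) (BT.leaf (.inv (nat_lit 3601))) (BT.leaf (.rel (nat_lit 3441) (nat_lit 4) [(nat_lit 630), (nat_lit 475)] [⟨(nat_lit 2550), [(nat_lit 2311)], [(nat_lit 250), (nat_lit 1)]⟩, ⟨(nat_lit 3597), [(nat_lit 775)], [(nat_lit 393), (nat_lit 247)]⟩])))) (BT.node (nat_lit 3606) (BT.node (nat_lit 3605) (BT.leaf (.inv (nat_lit 3603))) (BT.leaf (.cmp (nat_lit 3604) ⟨(nat_lit 3604), [(nat_lit 3223)], [(nat_lit 567), (nat_lit 572)]⟩))) (BT.node (nat_lit 3607) (BT.leaf (.rel (nat_lit 2779) (nat_lit 3) [(nat_lit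 488), (nat_lit 1472)] [⟨(nat_lit 2194), [(nat_lit 2311)], [(nat_lit 250), (nat_lit 693)]⟩, ⟨(nat_lit 3601), [(nat_lit 775)], [(nat_lit 484), (nat_lit 880)]⟩])) (BT.leaf (.inv (nat_lit 3606)))))) (BT.node (nat_lit 3612) (BT.node (nat_lit 3610) (BT.node (nat_lit 3609) (BT.leaf (.rel (nat_lit 3602) (nat_lit 2) [(nat_lit 356), (nat_lit 253)] [⟨(nat_lit 1555), [(nat_lit 775)], [(nat_lit 526), (nat_lit 465)]⟩, ⟨(nat_lit 2625), [], [(nat_lit 567), (nat_lit 124)]⟩])) (BT.leaf (.inv (nat_lit 3608)))) (BT.node (nat_lit 3611) (BT.leaf (.rel (nat_lit 2527) (nat_lit 4) [(nat_lit 695), (nat_lit 108)] [⟨(nat_lit 2956), [(nat_lit 2237)], [(nat_lit 871), (nat_lit 223)]⟩, ⟨(nat_lit 3607), [(nat_lit 935)], [(nat_lit 167), (nat_lit 264)]⟩])) (BT.leaf (.inv (nat_lit 3610))))) (BT.node (nat_lit 3614) (BT.node (nat_lit 3613) (BT.leaf (.rel (nat_lit 3610) (nat_lit 4) [(nat_lit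 466), (nat_lit 1133)] [⟨(nat_lit 683), [(nat_lit 809)], [(nat_lit 618), (nat_lit 584)]⟩, ⟨(nat_lit 683), [(nat_lit 893)], [(nat_lit 575), (nat_lit 290)]⟩])) (BT.leaf (.cmp (nat_lit 3612) ⟨(nat_lit 3612), [(nat_lit 881)], [(nat_lit 689), (nat_lit 1279)]⟩))) (BT.node (nat_lit 3615) (BT.leaf (.inv (nat_lit 3612))) (BT.leaf (.rel (nat_lit 1967) (nat_lit 1) [(nat_lit 296), (nat_lit 1376)] [⟨(nat_lit 3601), [], [(nat_lit 782), (nat_lit 399)]⟩]))))))) (BT.node (nat_lit 3632) (BT.node (nat_lit 3624) (BT.node (nat_lit 3620) (BT.node (nat_lit 3618) (BT.node (nat_lit 3617) (BT.leaf (.inv (nat_lit 3615))) (BT.leaf (.rel (nat_lit 2486) (nat_lit 1) [(nat_lit 539), (nat_lit 1605)] [⟨(nat_lit 3601), [(nat_lit 935)], [(nat_lit 539), (nat_lit 1375)]⟩]))) (BT.node (nat_lit 3619) (BT.leaf (.inv (nat_lit 3617))) (BT.leaf (.rel (nat_lit 2760) (nat_lit 4) [(nat_lit 441),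 (nat_lit 293)] [⟨(nat_lit 2382), [(nat_lit 2311)], [(nat_lit 1012), (nat_lit 936)]⟩, ⟨(nat_lit 3597), [(nat_lit 775)], [(nat_lit 259), (nat_lit 460)]⟩])))) (BT.node (nat_lit 3622) (BT.node (nat_lit 3621) (BT.leaf (.inv (nat_lit 3619))) (BT.leaf (.rel (nat_lit 3619) (nat_lit 3) [(nat_lit 1600), (nat_lit 363)] [⟨(nat_lit 1984), [(nat_lit 1822)], [(nat_lit 266), (nat_lit 751)]⟩, ⟨(nat_lit 1782), [], [(nat_lit 428), (nat_lit 785)]⟩]))) (BT.node (nat_lit 3623) (BT.leaf (.inv (nat_lit 3621))) (BT.leaf (.rel (nat_lit 3609) (nat_lit 1) [(nat_lit 764), (nat_lit 892)] [⟨(nat_lit 2436), [(nat_lit 2311)], [(nat_lit 957), (nat_lit 169)]⟩]))))) (BT.node (nat_lit 3628) (BT.node (nat_lit 3626) (BT.node (nat_lit 3625) (BT.leaf (.inv (nat_lit 3623))) (BT.leaf (.rel (nat_lit 3624) (nat_lit 5) [(nat_lit 258), (nat_lit 797)] [⟨(nat_lit 2989), [(nat_lit 2549)], [(nat_lit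 1103), (nat_lit 777)]⟩, ⟨(nat_lit 2437), [(nat_lit 2167)], [(nat_lit 360), (nat_lit 1083)]⟩]))) (BT.node (nat_lit 3627) (BT.leaf (.inv (nat_lit 3625))) (BT.leaf (.rel (nat_lit 3299) (nat_lit 2) [(nat_lit 487), (nat_lit 738)] [⟨(nat_lit 3356), [], [(nat_lit 94), (nat_lit 532)]⟩, ⟨(nat_lit 3597), [], [(nat_lit 254), (nat_lit 225)]⟩])))) (BT.node (nat_lit 3630) (BT.node (nat_lit 3629) (BT.leaf (.inv (nat_lit 3627))) (BT.leaf (.rel (nat_lit 3602) (nat_lit 1) [(nat_lit 865), (nat_lit 252)] [⟨(nat_lit 1933), [], [(nat_lit 1026), (nat_lit 400)]⟩]))) (BT.node (nat_lit 3631) (BT.leaf (.inv (nat_lit 3629))) (BT.leaf (.rel (nat_lit 3622) (nat_lit 2) [(nat_lit 579), (nat_lit 813)] [⟨(nat_lit 1573), [(nat_lit 935)], [(nat_lit 2061), (nat_lit 308)]⟩, ⟨(nat_lit 3018), [(nat_lit 935)], [(nat_lit 883), (nat_lit 625)]⟩])))))) (BT.node (nat_lit 3640) (BT.node (nat_lit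 3636) (BT.node (nat_lit 3634) (BT.node (nat_lit 3633) (BT.leaf (.inv (nat_lit 3631))) (BT.leaf (.rel (nat_lit 3093) (nat_lit 2) [(nat_lit 786), (nat_lit 491)] [⟨(nat_lit 1959), [(nat_lit 935)], [(nat_lit 957), (nat_lit 1329)]⟩, ⟨(nat_lit 3616), [(nat_lit 1822)], [(nat_lit 786), (nat_lit 580)]⟩]))) (BT.node (nat_lit 3635) (BT.leaf (.inv (nat_lit 3633))) (BT.leaf (.rel (nat_lit 3602) (nat_lit 2) [(nat_lit 166), (nat_lit 308)] [⟨(nat_lit 3505), [], [(nat_lit 783), (nat_lit 269)]⟩, ⟨(nat_lit 3229), [(nat_lit 3215)], [(nat_lit 1013), (nat_lit 693)]⟩])))) (BT.node (nat_lit 3638) (BT.node (nat_lit 3637) (BT.leaf (.inv (nat_lit 3635))) (BT.leaf (.rel (nat_lit 3627) (nat_lit 2) [(nat_lit 1103), (nat_lit 361)] [⟨(nat_lit 1642), [(nat_lit 935)], [(nat_lit 441), (nat_lit 968)]⟩, ⟨(nat_lit 2519), [(nat_lit 935)], [(nat_lit 629), (nat_lit 264)]⟩]))) (BT.node (nat_lit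 3639) (BT.leaf (.inv (nat_lit 3637))) (BT.leaf (.rel (nat_lit 3627) (nat_lit 3) [(nat_lit 360), (nat_lit 717)] [⟨(nat_lit 1273), [(nat_lit 775)], [(nat_lit 376), (nat_lit 504)]⟩, ⟨(nat_lit 3304), [(nat_lit 775)], [(nat_lit 1195), (nat_lit 478)]⟩]))))) (BT.node (nat_lit 3644) (BT.node (nat_lit 3642) (BT.node (nat_lit 3641) (BT.leaf (.inv (nat_lit 3639))) (BT.leaf (.rel (nat_lit 3517) (nat_lit 1) [(nat_lit 883)] [⟨(nat_lit 3639), [(nat_lit 3223)], [(nat_lit 240), (nat_lit 495)]⟩]))) (BT.node (nat_lit 3643) (BT.leaf (.inv (nat_lit 3641))) (BT.leaf (.rel (nat_lit 3622) (nat_lit 5) [(nat_lit 177), (nat_lit 814)] [⟨(nat_lit 2324), [(nat_lit 935)], [(nat_lit 256), (nat_lit 738)]⟩, ⟨(nat_lit 2339), [(nat_lit 2413)], [(nat_lit 402), (nat_lit 1017)]⟩])))) (BT.node (nat_lit 3646) (BT.node (nat_lit 3645) (BT.leaf (.inv (nat_lit 3643))) (BT.leaf (.rel (nat_lit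 3630) (nat_lit 4) [(nat_lit 300), (nat_lit 126)] [⟨(nat_lit 1984), [(nat_lit 2258)], [(nat_lit 256), (nat_lit 395)]⟩, ⟨(nat_lit 2554), [(nat_lit 775)], [(nat_lit 1092), (nat_lit 264)]⟩]))) (BT.node (nat_lit 3647) (BT.leaf (.inv (nat_lit 3645))) (BT.leaf (.rel (nat_lit 3595) (nat_lit 2) [(nat_lit 883), (nat_lit 676)] [⟨(nat_lit 464), [(nat_lit 703)], [(nat_lit 93), (nat_lit 752)]⟩, ⟨(nat_lit 994), [(nat_lit 1073)], [(nat_lit 1126), (nat_lit 864)]⟩]))))))))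
noncomputable def cF3648 : BT Fc := (BT.node (nat_lit 3680) (BT.node (nat_lit 3664) (BT.node (nat_lit 3656) (BT.node (nat_lit 3652) (BT.node (nat_lit 3650) (BT.node (nat_lit 3649) (BT.leaf ⟨(nat_lit 3), (nat_lit 12), (nat_lit 7), (nat_lit 0x1bbdeadd546c754e8c3d3bb69aa5e58), (nat_lit 0x1cef9553ae71cc9d24d9f741f1696ef), (nat_lit 0)⟩) (BT.leaf ⟨(nat_lit 3), (nat_lit 11), (nat_lit 12), (nat_lit 0x78f39a00a8d801ead3a65ea01084f4), (nat_lit 0x210e8abd049bc2f67422084ac22004), (nat_lit 0)⟩)) (BT.node (nat_lit 3651) (BT.leaf ⟨(nat_lit 3), (nat_lit 12), (nat_lit 11), (nat_lit 0x210e8abd049bc2f67422084ac22004), (nat_lit 0x78f39a00a8d801ead3a65ea01084f4), (nat_lit 0)⟩) (BT.leaf ⟨(nat_lit 3), (nat_lit 12), (nat_lit 7), (nat_lit 0x2838d6d47867d629c20060a6411024), (nat_lit 0x1bc37b7db2f2bd36a6b450fbf27a674), (nat_lit 0)⟩))) (BT.node (nat_lit 3654) (BT.node (nat_lit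 3653) (BT.leaf ⟨(nat_lit 3), (nat_lit 7), (nat_lit 12), (nat_lit 0x1bc37b7db2f2bd36a6b450fbf27a674), (nat_lit 0x2838d6d47867d629c20060a6411024), (nat_lit 0)⟩) (BT.leaf ⟨(nat_lit 3), (nat_lit 9), (nat_lit 12), (nat_lit 0xf0df0acc378f8a529e35c73651b60b), (nat_lit 0x1c87fa6746385e626ef4a2fbd7edaf4), (nat_lit 0)⟩)) (BT.node (nat_lit 3655) (BT.leaf ⟨(nat_lit 3), (nat_lit 12), (nat_lit 9), (nat_lit 0x1c87fa6746385e626ef4a2fbd7edaf4), (nat_lit 0xf0df0acc378f8a529e35c73651b60b), (nat_lit 0)⟩) (BT.leaf ⟨(nat_lit 3), (nat_lit 7), (nat_lit 12), (nat_lit 0x8401f8c3a84bba3a0102327c20c01), (nat_lit 0x18b039f906935ced32878a6cd63bc7b), (nat_lit 0)⟩)))) (BT.node (nat_lit 3660) (BT.node (nat_lit 3658) (BT.node (nat_lit 3657) (BT.leaf ⟨(nat_lit 3), (nat_lit 12), (nat_lit 7), (nat_lit 0x18b039f906935ced32878a6cd63bc7b), (nat_lit 0x8401f8c3a84bba3a0102327c20c01), (nat_lit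 0)⟩) (BT.leaf ⟨(nat_lit 3), (nat_lit 12), (nat_lit 8), (nat_lit 0x13d1011e3d3d63502201c00821080b9), (nat_lit 0x404be2e8fbd408ab808327c80c72), (nat_lit 0)⟩)) (BT.node (nat_lit 3659) (BT.leaf ⟨(nat_lit 3), (nat_lit 8), (nat_lit 12), (nat_lit 0x404be2e8fbd408ab808327c80c72), (nat_lit 0x13d1011e3d3d63502201c00821080b9), (nat_lit 0)⟩) (BT.leaf ⟨(nat_lit 3), (nat_lit 12), (nat_lit 11), (nat_lit 0x14652fa5e715edd2badf4ba6f2e935f), (nat_lit 0x423230d5772442802e3fe841346ce8), (nat_lit 0)⟩))) (BT.node (nat_lit 3662) (BT.node (nat_lit 3661) (BT.leaf ⟨(nat_lit 3), (nat_lit 11), (nat_lit 12), (nat_lit 0x423230d5772442802e3fe841346ce8), (nat_lit 0x14652fa5e715edd2badf4ba6f2e935f), (nat_lit 0)⟩) (BT.leaf ⟨(nat_lit 3), (nat_lit 8), (nat_lit 12), (nat_lit 0x1a4fb374ee8fd599afc6bfe6ca8ce69), (nat_lit 0x1637868cba68c4d32ea2d1beb7c638d), (nat_lit 0)⟩)) (BT.node (nat_lit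 3663) (BT.leaf ⟨(nat_lit 3), (nat_lit 12), (nat_lit 8), (nat_lit 0x1637868cba68c4d32ea2d1beb7c638d), (nat_lit 0x1a4fb374ee8fd599afc6bfe6ca8ce69), (nat_lit 0)⟩) (BT.leaf ⟨(nat_lit 3), (nat_lit 12), (nat_lit 9), (nat_lit 0x51083f3bf1ca80c48e024140882a9), (nat_lit 0x14022052f8107a17a07367427b2fc20), (nat_lit 0)⟩))))) (BT.node (nat_lit 3672) (BT.node (nat_lit 3668) (BT.node (nat_lit 3666) (BT.node (nat_lit 3665) (BT.leaf ⟨(nat_lit 3), (nat_lit 9), (nat_lit 12), (nat_lit 0x14022052f8107a17a07367427b2fc20), (nat_lit 0x51083f3bf1ca80c48e024140882a9), (nat_lit 0)⟩) (BT.leaf ⟨(nat_lit 3), (nat_lit 12), (nat_lit 8), (nat_lit 0xc7255ee439dad3781b250e5e535674), (nat_lit 0x2df86c6e197a3532f89cb0e37d6bfe), (nat_lit 0)⟩)) (BT.node (nat_lit 3667) (BT.leaf ⟨(nat_lit 3), (nat_lit 8), (nat_lit 12), (nat_lit 0x2df86c6e197a3532f89cb0e37d6bfe), (nat_lit 0xc7255ee439dad3781b250e5e535674),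 (nat_lit 0)⟩) (BT.leaf ⟨(nat_lit 3), (nat_lit 7), (nat_lit 12), (nat_lit 0x1f8e6cd177c6f0df99bc7d6d8e371e3), (nat_lit 0x1008eb842bd4f879c202205bd841006), (nat_lit 0)⟩))) (BT.node (nat_lit 3670) (BT.node (nat_lit 3669) (BT.leaf ⟨(nat_lit 3), (nat_lit 12), (nat_lit 7), (nat_lit 0x1008eb842bd4f879c202205bd841006), (nat_lit 0x1f8e6cd177c6f0df99bc7d6d8e371e3), (nat_lit 0)⟩) (BT.leaf ⟨(nat_lit 2), (nat_lit 10), (nat_lit 10), (nat_lit 0x8237e7850900620400c010221f5ab1), (nat_lit 0), (nat_lit 0)⟩)) (BT.node (nat_lit 3671) (BT.leaf ⟨(nat_lit 2), (nat_lit 10), (nat_lit 10), (nat_lit 0xabba74a5eadd0865fc6ecdc1ba3b35), (nat_lit 0), (nat_lit 0)⟩) (BT.leaf ⟨(nat_lit 3), (nat_lit 7), (nat_lit 12), (nat_lit 0x812c68b9ce6801202804214e90432f), (nat_lit 0xabbf45f898f5a132c3d2edd44cdde9), (nat_lit 0)⟩)))) (BT.node (nat_lit 3676) (BT.node (nat_lit 3674) (BT.node (nat_lit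 3673) (BT.leaf ⟨(nat_lit 3), (nat_lit 12), (nat_lit 7), (nat_lit 0xabbf45f898f5a132c3d2edd44cdde9), (nat_lit 0x812c68b9ce6801202804214e90432f), (nat_lit 0)⟩) (BT.leaf ⟨(nat_lit 3), (nat_lit 12), (nat_lit 12), (nat_lit 0x167b1d1047735cc179012405032368d), (nat_lit 0x16788468d9d1fd09011005f8e9803b9), (nat_lit 0)⟩)) (BT.node (nat_lit 3675) (BT.leaf ⟨(nat_lit 3), (nat_lit 12), (nat_lit 11), (nat_lit 0x19611b721a96750cab6cb4c776ea9f5), (nat_lit 0xb8c84180c743548130022050346d00), (nat_lit 0)⟩) (BT.leaf ⟨(nat_lit 3), (nat_lit 11), (nat_lit 12), (nat_lit 0xb8c84180c743548130022050346d00), (nat_lit 0x19611b721a96750cab6cb4c776ea9f5), (nat_lit 0)⟩))) (BT.node (nat_lit 3678) (BT.node (nat_lit 3677) (BT.leaf ⟨(nat_lit 3), (nat_lit 7), (nat_lit 12), (nat_lit 0xe357a33aa5f042106b988197e02500), (nat_lit 0x16c487fdb25c0bd979272df31c97d2f), (nat_lit 0)⟩) (BT.leaf ⟨(nat_lit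 3), (nat_lit 12), (nat_lit 7), (nat_lit 0x16c487fdb25c0bd979272df31c97d2f), (nat_lit 0xe357a33aa5f042106b988197e02500), (nat_lit 0)⟩)) (BT.node (nat_lit 3679) (BT.leaf ⟨(nat_lit 3), (nat_lit 12), (nat_lit 9), (nat_lit 0x77404208210060048887d6123c2c96), (nat_lit 0x7a2745c8bd4b4af45e9639d461eda8), (nat_lit 0)⟩) (BT.leaf ⟨(nat_lit 3), (nat_lit 9), (nat_lit 12), (nat_lit 0x7a2745c8bd4b4af45e9639d461eda8), (nat_lit 0x77404208210060048887d6123c2c96), (nat_lit 0)⟩)))))) (BT.node (nat_lit 3696) (BT.node (nat_lit 3688) (BT.node (nat_lit 3684) (BT.node (nat_lit 3682) (BT.node (nat_lit 3681) (BT.leaf ⟨(nat_lit 3), (nat_lit 9), (nat_lit 12), (nat_lit 0x136705b6378745e37236fc6f89f0f90), (nat_lit 0x10124d3e7408014220048ee96c062bd), (nat_lit 0)⟩) (BT.leaf ⟨(nat_lit 3), (nat_lit 12), (nat_lit 9), (nat_lit 0x10124d3e7408014220048ee96c062bd), (nat_lit 0x136705b6378745e37236fc6f89f0f90),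 (nat_lit 0)⟩)) (BT.node (nat_lit 3683) (BT.leaf ⟨(nat_lit 2), (nat_lit 4), (nat_lit 4), (nat_lit 0x15968ccabd829fdb825e0be96f1624f), (nat_lit 0), (nat_lit 0)⟩) (BT.leaf ⟨(nat_lit 2), (nat_lit 4), (nat_lit 4), (nat_lit 0x1f6db812b1f531c97db125c49c8782f), (nat_lit 0), (nat_lit 0)⟩))) (BT.node (nat_lit 3686) (BT.node (nat_lit 3685) (BT.leaf ⟨(nat_lit 2), (nat_lit 4), (nat_lit 4), (nat_lit 0x1097808021000401d593de36f4200), (nat_lit 0), (nat_lit 0)⟩) (BT.leaf ⟨(nat_lit 3), (nat_lit 9), (nat_lit 12), (nat_lit 0xf9fc83e12b4f891b3e37d6f0f05d17), (nat_lit 0x1c34427ba300200d79551113cc60568), (nat_lit 0)⟩)) (BT.node (nat_lit 3687) (BT.leaf ⟨(nat_lit 3), (nat_lit 12), (nat_lit 9), (nat_lit 0x1c34427ba300200d79551113cc60568), (nat_lit 0xf9fc83e12b4f891b3e37d6f0f05d17), (nat_lit 0)⟩) (BT.leaf ⟨(nat_lit 3), (nat_lit 12), (nat_lit 7), (nat_lit 0x10cccdcf38f75cfc83357fd1df39eca),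 (nat_lit 0x97c0873a040ae4801d501000420473), (nat_lit 0)⟩)))) (BT.node (nat_lit 3692) (BT.node (nat_lit 3690) (BT.node (nat_lit 3689) (BT.leaf ⟨(nat_lit 3), (nat_lit 7), (nat_lit 12), (nat_lit 0x97c0873a040ae4801d501000420473), (nat_lit 0x10cccdcf38f75cfc83357fd1df39eca), (nat_lit 0)⟩) (BT.leaf ⟨(nat_lit 3), (nat_lit 7), (nat_lit 12), (nat_lit 0x8202447bf0b25af06fc01095c93beb), (nat_lit 0x6031d68d7733a0178d5ae6406cf108), (nat_lit 0)⟩)) (BT.node (nat_lit 3691) (BT.leaf ⟨(nat_lit 3), (nat_lit 12), (nat_lit 7), (nat_lit 0x6031d68d7733a0178d5ae6406cf108), (nat_lit 0x8202447bf0b25af06fc01095c93beb), (nat_lit 0)⟩) (BT.leaf ⟨(nat_lit 3), (nat_lit 12), (nat_lit 9), (nat_lit 0x1a8865f8f7fde26e97cde1be32c6d34), (nat_lit 0x10ce29b35ce71c6394f33375cf16349), (nat_lit 0)⟩))) (BT.node (nat_lit 3694) (BT.node (nat_lit 3693) (BT.leaf ⟨(nat_lit 3), (nat_lit 9), (nat_lit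 12), (nat_lit 0x10ce29b35ce71c6394f33375cf16349), (nat_lit 0x1a8865f8f7fde26e97cde1be32c6d34), (nat_lit 0)⟩) (BT.leaf ⟨(nat_lit 3), (nat_lit 11), (nat_lit 12), (nat_lit 0xc737e26adc92af5a1ce9e9c857a44d), (nat_lit 0x20ab40802ab3cc480a0e1bf196fa80), (nat_lit 0)⟩)) (BT.node (nat_lit 3695) (BT.leaf ⟨(nat_lit 3), (nat_lit 12), (nat_lit 11), (nat_lit 0x20ab40802ab3cc480a0e1bf196fa80), (nat_lit 0xc737e26adc92af5a1ce9e9c857a44d), (nat_lit 0)⟩) (BT.leaf ⟨(nat_lit 3), (nat_lit 12), (nat_lit 7), (nat_lit 0x1fa2a3240501a79101e365f9cd0153a), (nat_lit 0x4200488892de14050085628220447b), (nat_lit 0)⟩))))) (BT.node (nat_lit 3704) (BT.node (nat_lit 3700) (BT.node (nat_lit 3698) (BT.node (nat_lit 3697) (BT.leaf ⟨(nat_lit 3), (nat_lit 7), (nat_lit 12), (nat_lit 0x4200488892de14050085628220447b), (nat_lit 0x1fa2a3240501a79101e365f9cd0153a), (nat_lit 0)⟩) (BT.leaf ⟨(nat_lit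 3), (nat_lit 11), (nat_lit 12), (nat_lit 0x152e4fe9e7b189d3549e13d07acf49c), (nat_lit 0x4bb7a9d493fe3100ab8bd200c80f3b), (nat_lit 0)⟩)) (BT.node (nat_lit 3699) (BT.leaf ⟨(nat_lit 3), (nat_lit 12), (nat_lit 11), (nat_lit 0x4bb7a9d493fe3100ab8bd200c80f3b), (nat_lit 0x152e4fe9e7b189d3549e13d07acf49c), (nat_lit 0)⟩) (BT.leaf ⟨(nat_lit 3), (nat_lit 12), (nat_lit 12), (nat_lit 0x4ac22104de0010420054b7cf95ef89), (nat_lit 0x91f3c9af137b0420054b60315eef0), (nat_lit 0)⟩))) (BT.node (nat_lit 3702) (BT.node (nat_lit 3701) (BT.leaf ⟨(nat_lit 3), (nat_lit 9), (nat_lit 12), (nat_lit 0x180108a021e0881871a050481e1a7f), (nat_lit 0x9002fd8d5002e5002209e8813001e3), (nat_lit 0)⟩) (BT.leaf ⟨(nat_lit 3), (nat_lit 12), (nat_lit 9), (nat_lit 0x9002fd8d5002e5002209e8813001e3), (nat_lit 0x180108a021e0881871a050481e1a7f), (nat_lit 0)⟩)) (BT.node (nat_lit 3703) (BT.leaf ⟨(nat_lit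 3), (nat_lit 3), (nat_lit 13), (nat_lit 0x1f1ab441e35e55440882180b7d40480), (nat_lit 0x1001001001001001001001001001001), (nat_lit 0)⟩) (BT.leaf ⟨(nat_lit 2), (nat_lit 13), (nat_lit 13), (nat_lit 0x100b7b10200602a4e0120851c401082), (nat_lit 0), (nat_lit 0)⟩)))) (BT.node (nat_lit 3708) (BT.node (nat_lit 3706) (BT.node (nat_lit 3705) (BT.leaf ⟨(nat_lit 3), (nat_lit 13), (nat_lit 3), (nat_lit 0x1001001001001001001001001001001), (nat_lit 0x1f1ab441e35e55440882180b7d40480), (nat_lit 0)⟩) (BT.leaf ⟨(nat_lit 3), (nat_lit 12), (nat_lit 12), (nat_lit 0x398ad6b9a69d46ffab96d989c5caf9), (nat_lit 0x1bd10012f04010000ab91011ce00008), (nat_lit 0)⟩)) (BT.node (nat_lit 3707) (BT.leaf ⟨(nat_lit 3), (nat_lit 12), (nat_lit 12), (nat_lit 0x10f6742aead17a6f65a83377e0bb7b7), (nat_lit 0x1224b3eb810ac6f00083bbe1504257), (nat_lit 0)⟩) (BT.leaf ⟨(nat_lit 3), (nat_lit 7), (nat_lit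 13), (nat_lit 0x172030024840f0d1076621e280fa821), (nat_lit 0x1f366f0420881435a0c00810cfbd706), (nat_lit 0)⟩))) (BT.node (nat_lit 3710) (BT.node (nat_lit 3709) (BT.leaf ⟨(nat_lit 3), (nat_lit 13), (nat_lit 7), (nat_lit 0x1f366f0420881435a0c00810cfbd706), (nat_lit 0x172030024840f0d1076621e280fa821), (nat_lit 0)⟩) (BT.leaf ⟨(nat_lit 3), (nat_lit 7), (nat_lit 13), (nat_lit 0xceb8d4d939dceab28b7e77dea9d2d2), (nat_lit 0x10080149ce884095def68e2f8411042), (nat_lit 0)⟩)) (BT.node (nat_lit 3711) (BT.leaf ⟨(nat_lit 3), (nat_lit 13), (nat_lit 7), (nat_lit 0x10080149ce884095def68e2f8411042), (nat_lit 0xceb8d4d939dceab28b7e77dea9d2d2), (nat_lit 0)⟩) (BT.leaf ⟨(nat_lit 3), (nat_lit 12), (nat_lit 12), (nat_lit 0x16786ab5f5c650088108203fd0c0300), (nat_lit 0x1cc8ee88805049c06108563bf12ba08), (nat_lit 0)⟩)))))))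
noncomputable def cP3648 : BT Pf := (BT.node (nat_lit 3680) (BT.node (nat_lit 3664) (BT.node (nat_lit 3656) (BT.node (nat_lit 3652) (BT.node (nat_lit 3650) (BT.node (nat_lit 3649) (BT.leaf (.inv (nat_lit 3647))) (BT.leaf (.rel (nat_lit 3622) (nat_lit 5) [(nat_lit 696), (nat_lit 835)] [⟨(nat_lit 1406), [(nat_lit 935)], [(nat_lit 237), (nat_lit 88)]⟩, ⟨(nat_lit 3430), [(nat_lit 935)], [(nat_lit 941), (nat_lit 361)]⟩]))) (BT.node (nat_lit 3651) (BT.leaf (.inv (nat_lit 3649))) (BT.leaf (.rel (nat_lit 3363) (nat_lit 4) [(nat_lit 360), (nat_lit 236)] [⟨(nat_lit 3386), [], [(nat_lit 1041), (nat_lit 1745)]⟩, ⟨(nat_lit 3597), [(nat_lit 935)], [(nat_lit 350), (nat_lit 431)]⟩])))) (BT.node (nat_lit 3654) (BT.node (nat_lit 3653) (BT.leaf (.inv (nat_lit 3651))) (BT.leaf (.rel (nat_lit 3644) (nat_lit 0) [(nat_lit 355), (nat_lit 868)] [⟨(nat_lit 2672), [(nat_lit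 935)], [(nat_lit 272), (nat_lit 224)]⟩]))) (BT.node (nat_lit 3655) (BT.leaf (.inv (nat_lit 3653))) (BT.leaf (.rel (nat_lit 3651) (nat_lit 3) [(nat_lit 574), (nat_lit 864)] [⟨(nat_lit 1614), [], [(nat_lit 865), (nat_lit 249)]⟩, ⟨(nat_lit 1698), [(nat_lit 935)], [(nat_lit 43), (nat_lit 532)]⟩]))))) (BT.node (nat_lit 3660) (BT.node (nat_lit 3658) (BT.node (nat_lit 3657) (BT.leaf (.inv (nat_lit 3655))) (BT.leaf (.rel (nat_lit 1863) (nat_lit 5) [(nat_lit 826), (nat_lit 785)] [⟨(nat_lit 1627), [], [(nat_lit 696), (nat_lit 385)]⟩, ⟨(nat_lit 3652), [], [(nat_lit 424), (nat_lit 459)]⟩]))) (BT.node (nat_lit 3659) (BT.leaf (.inv (nat_lit 3657))) (BT.leaf (.rel (nat_lit 3490) (nat_lit 3) [(nat_lit 781), (nat_lit 288)] [⟨(nat_lit 2485), [(nat_lit 935)], [(nat_lit 696), (nat_lit 1140)]⟩, ⟨(nat_lit 3618), [(nat_lit 2237)], [(nat_lit 569), (nat_lit 330)]⟩])))) (BT.node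 (nat_lit 3662) (BT.node (nat_lit 3661) (BT.leaf (.inv (nat_lit 3659))) (BT.leaf (.rel (nat_lit 3646) (nat_lit 4) [(nat_lit 165), (nat_lit 1123)] [⟨(nat_lit 2956), [(nat_lit 2311)], [(nat_lit 391), (nat_lit 90)]⟩, ⟨(nat_lit 1903), [(nat_lit 935)], [(nat_lit 493), (nat_lit 369)]⟩]))) (BT.node (nat_lit 3663) (BT.leaf (.inv (nat_lit 3661))) (BT.leaf (.rel (nat_lit 2777) (nat_lit 1) [(nat_lit 450), (nat_lit 1329)] [⟨(nat_lit 3631), [], [(nat_lit 92), (nat_lit 1348)]⟩])))))) (BT.node (nat_lit 3672) (BT.node (nat_lit 3668) (BT.node (nat_lit 3666) (BT.node (nat_lit 3665) (BT.leaf (.inv (nat_lit 3663))) (BT.leaf (.rel (nat_lit 2034) (nat_lit 3) [(nat_lit 336), (nat_lit 694)] [⟨(nat_lit 2806), [(nat_lit 935)], [(nat_lit 928), (nat_lit 1279)]⟩, ⟨(nat_lit 3625), [(nat_lit 2167)], [(nat_lit 271), (nat_lit 581)]⟩]))) (BT.node (nat_lit 3667) (BT.leaf (.inv (nat_lit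 3665))) (BT.leaf (.rel (nat_lit 3636) (nat_lit 4) [(nat_lit 96), (nat_lit 1537)] [⟨(nat_lit 2815), [(nat_lit 2413)], [(nat_lit 195), (nat_lit 91)]⟩, ⟨(nat_lit 1475), [(nat_lit 775)], [(nat_lit 1013), (nat_lit 566)]⟩])))) (BT.node (nat_lit 3670) (BT.node (nat_lit 3669) (BT.leaf (.inv (nat_lit 3667))) (BT.leaf (.emul [(nat_lit 3179), (nat_lit 3191)]))) (BT.node (nat_lit 3671) (BT.leaf (.emul [(nat_lit 3191), (nat_lit 3669)])) (BT.leaf (.rel (nat_lit 3615) (nat_lit 4) [(nat_lit 281), (nat_lit 252)] [⟨(nat_lit 3212), [(nat_lit 2181)], [(nat_lit 111), (nat_lit 90)]⟩, ⟨(nat_lit 3187), [(nat_lit 3195), (nat_lit 3670)], [(nat_lit 1174), (nat_lit 263)]⟩]))))) (BT.node (nat_lit 3676) (BT.node (nat_lit 3674) (BT.node (nat_lit 3673) (BT.leaf (.inv (nat_lit 3671))) (BT.leaf (.rel (nat_lit 3610) (nat_lit 5) [(nat_lit 1173), (nat_lit 710)] [⟨(nat_lit 702), [(nat_lit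 594)], [(nat_lit 92), (nat_lit 604)]⟩, ⟨(nat_lit 3611), [(nat_lit 805)], [(nat_lit 526), (nat_lit 265)]⟩]))) (BT.node (nat_lit 3675) (BT.leaf (.rel (nat_lit 3287) (nat_lit 2) [(nat_lit 391), (nat_lit 662)] [⟨(nat_lit 2475), [(nat_lit 935)], [(nat_lit 513), (nat_lit 880)]⟩, ⟨(nat_lit 3631), [(nat_lit 2237)], [(nat_lit 422), (nat_lit 375)]⟩])) (BT.leaf (.inv (nat_lit 3674))))) (BT.node (nat_lit 3678) (BT.node (nat_lit 3677) (BT.leaf (.rel (nat_lit 3638) (nat_lit 4) [(nat_lit 914), (nat_lit 628)] [⟨(nat_lit 2689), [(nat_lit 2549)], [(nat_lit 95), (nat_lit 141)]⟩, ⟨(nat_lit 940), [(nat_lit 775)], [(nat_lit 510), (nat_lit 1018)]⟩])) (BT.leaf (.inv (nat_lit 3676)))) (BT.node (nat_lit 3679) (BT.leaf (.rel (nat_lit 2928) (nat_lit 1) [(nat_lit 348), (nat_lit 491)] [⟨(nat_lit 3620), [(nat_lit 1846)], [(nat_lit 511), (nat_lit 319)]⟩])) (BT.leaf (.inv (nat_lit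 3678)))))))) (BT.node (nat_lit 3696) (BT.node (nat_lit 3688) (BT.node (nat_lit 3684) (BT.node (nat_lit 3682) (BT.node (nat_lit 3681) (BT.leaf (.rel (nat_lit 3627) (nat_lit 4) [(nat_lit 690), (nat_lit 580)] [⟨(nat_lit 819), [], [(nat_lit 928), (nat_lit 171)]⟩, ⟨(nat_lit 2471), [(nat_lit 817)], [(nat_lit 544), (nat_lit 880)]⟩])) (BT.leaf (.inv (nat_lit 3680)))) (BT.node (nat_lit 3683) (BT.leaf (.emul [(nat_lit 558), (nat_lit 1277)])) (BT.leaf (.emul [(nat_lit 552), (nat_lit 3682)])))) (BT.node (nat_lit 3686) (BT.node (nat_lit 3685) (BT.leaf (.emul [(nat_lit 552), (nat_lit 3683)])) (BT.leaf (.rel (nat_lit 3630) (nat_lit 5) [(nat_lit 380), (nat_lit 307)] [⟨(nat_lit 1836), [(nat_lit 1870)], [(nat_lit 991), (nat_lit 126)]⟩, ⟨(nat_lit 3055), [(nat_lit 3684)], [(nat_lit 928), (nat_lit 822)]⟩]))) (BT.node (nat_lit 3687) (BT.leaf (.inv (nat_lit 3685))) (BT.leaf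 (.rel (nat_lit 1316) (nat_lit 3) [(nat_lit 507), (nat_lit 1376)] [⟨(nat_lit 2267), [(nat_lit 935)], [(nat_lit 763), (nat_lit 596)]⟩, ⟨(nat_lit 3664), [(nat_lit 2311)], [(nat_lit 523), (nat_lit 367)]⟩]))))) (BT.node (nat_lit 3692) (BT.node (nat_lit 3690) (BT.node (nat_lit 3689) (BT.leaf (.inv (nat_lit 3687))) (BT.leaf (.rel (nat_lit 3614) (nat_lit 3) [(nat_lit 350), (nat_lit 681)] [⟨(nat_lit 3049), [(nat_lit 2152)], [(nat_lit 298), (nat_lit 288)]⟩, ⟨(nat_lit 2829), [(nat_lit 2549)], [(nat_lit 192), (nat_lit 89)]⟩]))) (BT.node (nat_lit 3691) (BT.leaf (.inv (nat_lit 3689))) (BT.leaf (.rel (nat_lit 2885) (nat_lit 3) [(nat_lit 474), (nat_lit 191)] [⟨(nat_lit 2247), [(nat_lit 2413)], [(nat_lit 285), (nat_lit 676)]⟩, ⟨(nat_lit 3601), [(nat_lit 935)], [(nat_lit 786), (nat_lit 808)]⟩])))) (BT.node (nat_lit 3694) (BT.node (nat_lit 3693) (BT.leaf (.inv (nat_lit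 3691))) (BT.leaf (.rel (nat_lit 3617) (nat_lit 5) [(nat_lit 350), (nat_lit 797)] [⟨(nat_lit 2722), [], [(nat_lit 357), (nat_lit 1070)]⟩, ⟨(nat_lit 3366), [], [(nat_lit 1056), (nat_lit 91)]⟩]))) (BT.node (nat_lit 3695) (BT.leaf (.inv (nat_lit 3693))) (BT.leaf (.rel (nat_lit 2445) (nat_lit 2) [(nat_lit 473), (nat_lit 694)] [⟨(nat_lit 2924), [(nat_lit 2237)], [(nat_lit 1257), (nat_lit 330)]⟩, ⟨(nat_lit 3618), [(nat_lit 2167)], [(nat_lit 570), (nat_lit 880)]⟩])))))) (BT.node (nat_lit 3704) (BT.node (nat_lit 3700) (BT.node (nat_lit 3698) (BT.node (nat_lit 3697) (BT.leaf (.inv (nat_lit 3695))) (BT.leaf (.rel (nat_lit 3596) (nat_lit 1) [(nat_lit 574), (nat_lit 647)] [⟨(nat_lit 3425), [(nat_lit 775)], [(nat_lit 192), (nat_lit 362)]⟩]))) (BT.node (nat_lit 3699) (BT.leaf (.inv (nat_lit 3697))) (BT.leaf (.rel (nat_lit 3626) (nat_lit 0) [(nat_lit 1103), (nat_lit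 1223)] [⟨(nat_lit 3625), [(nat_lit 2549)], [(nat_lit 261), (nat_lit 142)]⟩])))) (BT.node (nat_lit 3702) (BT.node (nat_lit 3701) (BT.leaf (.rel (nat_lit 3619) (nat_lit 4) [(nat_lit 271), (nat_lit 1203)] [⟨(nat_lit 2008), [(nat_lit 2524)], [(nat_lit 582), (nat_lit 222)]⟩, ⟨(nat_lit 2464), [(nat_lit 775)], [(nat_lit 539), (nat_lit 1348)]⟩])) (BT.leaf (.inv (nat_lit 3700)))) (BT.node (nat_lit 3703) (BT.leaf (.dfn [(nat_lit 1), (nat_lit 3), (nat_lit 1), (nat_lit 4), (nat_lit 1), (nat_lit 4), (nat_lit 1), (nat_lit 3), (nat_lit 1), (nat_lit 3), (nat_lit 1), (nat_lit 3), (nat_lit 1), (nat_lit 3)])) (BT.leaf (.cmp (nat_lit 3702) ⟨(nat_lit 3702), [(nat_lit 750)], [(nat_lit 256), (nat_lit 1101)]⟩))))) (BT.node (nat_lit 3708) (BT.node (nat_lit 3706) (BT.node (nat_lit 3705) (BT.leaf (.inv (nat_lit 3702))) (BT.leaf (.rel (nat_lit 3632) (nat_lit 4) [(nat_lit 422),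 (nat_lit 328)] [⟨(nat_lit 2968), [], [(nat_lit 321), (nat_lit 173)]⟩, ⟨(nat_lit 3623), [(nat_lit 2549)], [(nat_lit 152), (nat_lit 205)]⟩]))) (BT.node (nat_lit 3707) (BT.leaf (.rel (nat_lit 3654) (nat_lit 2) [(nat_lit 1004), (nat_lit 1849)] [⟨(nat_lit 3166), [(nat_lit 2311)], [(nat_lit 427), (nat_lit 398)]⟩, ⟨(nat_lit 3679), [(nat_lit 2167)], [(nat_lit 977), (nat_lit 1021)]⟩])) (BT.leaf (.rel (nat_lit 3704) (nat_lit 1) [(nat_lit 462), (nat_lit 162)] [⟨(nat_lit 967), [(nat_lit 1046)], [(nat_lit 746), (nat_lit 163)]⟩])))) (BT.node (nat_lit 3710) (BT.node (nat_lit 3709) (BT.leaf (.inv (nat_lit 3707))) (BT.leaf (.rel (nat_lit 3708) (nat_lit 4) [(nat_lit 441), (nat_lit 1375)] [⟨(nat_lit 2135), [], [(nat_lit 394), (nat_lit 264)]⟩, ⟨(nat_lit 1935), [(nat_lit 2075)], [(nat_lit 579), (nat_lit 681)]⟩]))) (BT.node (nat_lit 3711) (BT.leaf (.inv (nat_lit 3709)))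 (BT.leaf (.rel (nat_lit 3654) (nat_lit 0) [(nat_lit 508), (nat_lit 293)] [⟨(nat_lit 3653), [(nat_lit 2549)], [(nat_lit 761), (nat_lit 1478)]⟩]))))))))
noncomputable def cF3712 : BT Fc := (BT.node (nat_lit 3744) (BT.node (nat_lit 3728) (BT.node (nat_lit 3720) (BT.node (nat_lit 3716) (BT.node (nat_lit 3714) (BT.node (nat_lit 3713) (BT.leaf ⟨(nat_lit 3), (nat_lit 7), (nat_lit 13), (nat_lit 0x1bdbc790204410a0125d577d124e471), (nat_lit 0x1960eeeef3af52db61553a835790a36), (nat_lit 0)⟩) (BT.leaf ⟨(nat_lit 3), (nat_lit 13), (nat_lit 7), (nat_lit 0x1960eeeef3af52db61553a835790a36), (nat_lit 0x1bdbc790204410a0125d577d124e471), (nat_lit 0)⟩)) (BT.node (nat_lit 3715) (BT.leaf ⟨(nat_lit 3), (nat_lit 8), (nat_lit 13), (nat_lit 0x2158888411d3b99018df842006048), (nat_lit 0xf89f9d175c68d8ad3e1746f0db1beb), (nat_lit 0)⟩) (BT.leaf ⟨(nat_lit 3), (nat_lit 13), (nat_lit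 8), (nat_lit 0xf89f9d175c68d8ad3e1746f0db1beb), (nat_lit 0x2158888411d3b99018df842006048), (nat_lit 0)⟩))) (BT.node (nat_lit 3718) (BT.node (nat_lit 3717) (BT.leaf ⟨(nat_lit 3), (nat_lit 7), (nat_lit 13), (nat_lit 0x151a7a220408a03f4200411a7900b00), (nat_lit 0x17ffa3669e85919a3766e8e32e8cfc6), (nat_lit 0)⟩) (BT.leaf ⟨(nat_lit 3), (nat_lit 13), (nat_lit 7), (nat_lit 0x17ffa3669e85919a3766e8e32e8cfc6), (nat_lit 0x151a7a220408a03f4200411a7900b00), (nat_lit 0)⟩)) (BT.node (nat_lit 3719) (BT.leaf ⟨(nat_lit 3), (nat_lit 13), (nat_lit 9), (nat_lit 0x1b2839c7133757219da68c7e423bcf3), (nat_lit 0x1ccb77e3ae7deeb9c4d939dcef8d349), (nat_lit 0)⟩) (BT.leaf ⟨(nat_lit 3), (nat_lit 9), (nat_lit 13), (nat_lit 0x1ccb77e3ae7deeb9c4d939dcef8d349), (nat_lit 0x1b2839c7133757219da68c7e423bcf3), (nat_lit 0)⟩)))) (BT.node (nat_lit 3724) (BT.node (nat_lit 3722) (BT.node (nat_lit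 3721) (BT.leaf ⟨(nat_lit 2), (nat_lit 13), (nat_lit 13), (nat_lit 0xf8d0025f3aa1001012f011e34015e8), (nat_lit 0), (nat_lit 0)⟩) (BT.leaf ⟨(nat_lit 3), (nat_lit 7), (nat_lit 13), (nat_lit 0x1fa2a3200ce76374f53a4113d101220), (nat_lit 0x131ed8fdbd446bc9590f65edc2ae13f), (nat_lit 0)⟩)) (BT.node (nat_lit 3723) (BT.leaf ⟨(nat_lit 3), (nat_lit 13), (nat_lit 7), (nat_lit 0x131ed8fdbd446bc9590f65edc2ae13f), (nat_lit 0x1fa2a3200ce76374f53a4113d101220), (nat_lit 0)⟩) (BT.leaf ⟨(nat_lit 2), (nat_lit 11), (nat_lit 11), (nat_lit 0x49cee8288f61215880cf0a22005496), (nat_lit 0), (nat_lit 0)⟩))) (BT.node (nat_lit 3726) (BT.node (nat_lit 3725) (BT.leaf ⟨(nat_lit 2), (nat_lit 11), (nat_lit 11), (nat_lit 0x1c6a9d615e55de99d7ba16fcfb9c3a4), (nat_lit 0), (nat_lit 0)⟩) (BT.leaf ⟨(nat_lit 2), (nat_lit 11), (nat_lit 11), (nat_lit 0x175777b6c2aa75c7d5a6a96714cae58), (nat_lit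 0), (nat_lit 0)⟩)) (BT.node (nat_lit 3727) (BT.leaf ⟨(nat_lit 3), (nat_lit 7), (nat_lit 13), (nat_lit 0x9969a179f13c36c6f8d16f96189f85), (nat_lit 0x821589277d77824b257e9d1ec04908), (nat_lit 0)⟩) (BT.leaf ⟨(nat_lit 3), (nat_lit 13), (nat_lit 7), (nat_lit 0x821589277d77824b257e9d1ec04908), (nat_lit 0x9969a179f13c36c6f8d16f96189f85), (nat_lit 0)⟩))))) (BT.node (nat_lit 3736) (BT.node (nat_lit 3732) (BT.node (nat_lit 3730) (BT.node (nat_lit 3729) (BT.leaf ⟨(nat_lit 3), (nat_lit 13), (nat_lit 8), (nat_lit 0x197f004018081cf5cb4682100a97c08), (nat_lit 0xbe430440b51f3420706084300caba3), (nat_lit 0)⟩) (BT.leaf ⟨(nat_lit 3), (nat_lit 8), (nat_lit 13), (nat_lit 0xbe430440b51f3420706084300caba3), (nat_lit 0x197f004018081cf5cb4682100a97c08), (nat_lit 0)⟩)) (BT.node (nat_lit 3731) (BT.leaf ⟨(nat_lit 2), (nat_lit 13), (nat_lit 13), (nat_lit 0x4037a4001000201012f0811cc01001),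 (nat_lit 0), (nat_lit 0)⟩) (BT.leaf ⟨(nat_lit 3), (nat_lit 7), (nat_lit 13), (nat_lit 0x2825f0217860c0faf1ada848210020), (nat_lit 0x100000c73de9e34043e3201d195c880), (nat_lit 0)⟩))) (BT.node (nat_lit 3734) (BT.node (nat_lit 3733) (BT.leaf ⟨(nat_lit 3), (nat_lit 13), (nat_lit 7), (nat_lit 0x100000c73de9e34043e3201d195c880), (nat_lit 0x2825f0217860c0faf1ada848210020), (nat_lit 0)⟩) (BT.leaf ⟨(nat_lit 3), (nat_lit 7), (nat_lit 13), (nat_lit 0x2825f0217860c0faf1ada848210020), (nat_lit 0x100000c73de9e34043e3201d195c880), (nat_lit 0)⟩)) (BT.node (nat_lit 3735) (BT.leaf ⟨(nat_lit 2), (nat_lit 13), (nat_lit 13), (nat_lit 0x108014120043b50102994400925f0a0), (nat_lit 0), (nat_lit 0)⟩) (BT.leaf ⟨(nat_lit 3), (nat_lit 13), (nat_lit 7), (nat_lit 0x40571d9e60050017e3afe8d7c88102), (nat_lit 0x1ee96f880ad1f191c881e1a60060280), (nat_lit 0)⟩)))) (BT.node (nat_lit 3740)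 (BT.node (nat_lit 3738) (BT.node (nat_lit 3737) (BT.leaf ⟨(nat_lit 3), (nat_lit 7), (nat_lit 13), (nat_lit 0x1ee96f880ad1f191c881e1a60060280), (nat_lit 0x40571d9e60050017e3afe8d7c88102), (nat_lit 0)⟩) (BT.leaf ⟨(nat_lit 3), (nat_lit 13), (nat_lit 3), (nat_lit 0x481102994fe181e1c20f5a0a0fa830), (nat_lit 0x137bbd040091ad0212f90c110028041), (nat_lit 0)⟩)) (BT.node (nat_lit 3739) (BT.leaf ⟨(nat_lit 3), (nat_lit 3), (nat_lit 13), (nat_lit 0x137bbd040091ad0212f90c110028041), (nat_lit 0x481102994fe181e1c20f5a0a0fa830), (nat_lit 0)⟩) (BT.leaf ⟨(nat_lit 3), (nat_lit 8), (nat_lit 13), (nat_lit 0x30033e74b64100a6f0109269025ec), (nat_lit 0x8100374257a4ac1225b008f9c02884), (nat_lit 0)⟩))) (BT.node (nat_lit 3742) (BT.node (nat_lit 3741) (BT.leaf ⟨(nat_lit 2), (nat_lit 13), (nat_lit 13), (nat_lit 0x8e786fba1053ceb436310822040880), (nat_lit 0), (nat_lit 0)⟩) (BT.leaf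 ⟨(nat_lit 3), (nat_lit 13), (nat_lit 8), (nat_lit 0x8100374257a4ac1225b008f9c02884), (nat_lit 0x30033e74b64100a6f0109269025ec), (nat_lit 0)⟩)) (BT.node (nat_lit 3743) (BT.leaf ⟨(nat_lit 3), (nat_lit 8), (nat_lit 12), (nat_lit 0x11b85bf9d7fda37c7a65d45f37c4f8d), (nat_lit 0x1a4fab7c60f8d199a8cbbffd1fa2669), (nat_lit 0)⟩) (BT.leaf ⟨(nat_lit 3), (nat_lit 12), (nat_lit 8), (nat_lit 0x1a4fab7c60f8d199a8cbbffd1fa2669), (nat_lit 0x11b85bf9d7fda37c7a65d45f37c4f8d), (nat_lit 0)⟩)))))) (BT.node (nat_lit 3760) (BT.node (nat_lit 3752) (BT.node (nat_lit 3748) (BT.node (nat_lit 3746) (BT.node (nat_lit 3745) (BT.leaf ⟨(nat_lit 3), (nat_lit 13), (nat_lit 7), (nat_lit 0x90500224400865f5c85320c38d10f), (nat_lit 0x49ed8ea227f31c7d32ffb6e5b0a92f), (nat_lit 0)⟩) (BT.leaf ⟨(nat_lit 3), (nat_lit 7), (nat_lit 13), (nat_lit 0x49ed8ea227f31c7d32ffb6e5b0a92f), (nat_lit 0x90500224400865f5c85320c38d10f),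 (nat_lit 0)⟩)) (BT.node (nat_lit 3747) (BT.leaf ⟨(nat_lit 3), (nat_lit 13), (nat_lit 7), (nat_lit 0x802100040043a312fde897e39a00), (nat_lit 0x182e377907d7365f14a546cfcdb1d17), (nat_lit 0)⟩) (BT.leaf ⟨(nat_lit 3), (nat_lit 7), (nat_lit 13), (nat_lit 0x182e377907d7365f14a546cfcdb1d17), (nat_lit 0x802100040043a312fde897e39a00), (nat_lit 0)⟩))) (BT.node (nat_lit 3750) (BT.node (nat_lit 3749) (BT.leaf ⟨(nat_lit 3), (nat_lit 13), (nat_lit 8), (nat_lit 0x1d3b49f66e85d1b833350f9d11a33d8), (nat_lit 0x1cec40a01f1800c20be2dea4ba4f805), (nat_lit 0)⟩) (BT.leaf ⟨(nat_lit 3), (nat_lit 8), (nat_lit 13), (nat_lit 0x1cec40a01f1800c20be2dea4ba4f805), (nat_lit 0x1d3b49f66e85d1b833350f9d11a33d8), (nat_lit 0)⟩)) (BT.node (nat_lit 3751) (BT.leaf ⟨(nat_lit 3), (nat_lit 11), (nat_lit 13), (nat_lit 0x137a4f69e7b12724fb132ed25a5f6c1), (nat_lit 0x15cccdc738e4cd6d30edf2118e19b49),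 (nat_lit 0)⟩) (BT.leaf ⟨(nat_lit 3), (nat_lit 13), (nat_lit 11), (nat_lit 0x15cccdc738e4cd6d30edf2118e19b49), (nat_lit 0x137a4f69e7b12724fb132ed25a5f6c1), (nat_lit 0)⟩)))) (BT.node (nat_lit 3756) (BT.node (nat_lit 3754) (BT.node (nat_lit 3753) (BT.leaf ⟨(nat_lit 3), (nat_lit 3), (nat_lit 13), (nat_lit 0x1c84eea366d83eb49da638ae2b779d4), (nat_lit 0xbd3fa6e46386cb7e287d693d3edc4d), (nat_lit 0)⟩) (BT.leaf ⟨(nat_lit 3), (nat_lit 13), (nat_lit 3), (nat_lit 0xbd3fa6e46386cb7e287d693d3edc4d), (nat_lit 0x1c84eea366d83eb49da638ae2b779d4), (nat_lit 0)⟩)) (BT.node (nat_lit 3755) (BT.leaf ⟨(nat_lit 3), (nat_lit 9), (nat_lit 13), (nat_lit 0x16a2f4751ad17e2f019b4cac72e47e8), (nat_lit 0x756f4008801d195ca5f04004040001), (nat_lit 0)⟩) (BT.leaf ⟨(nat_lit 3), (nat_lit 13), (nat_lit 9), (nat_lit 0x756f4008801d195ca5f04004040001), (nat_lit 0x16a2f4751ad17e2f019b4cac72e47e8),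 (nat_lit 0)⟩))) (BT.node (nat_lit 3758) (BT.node (nat_lit 3757) (BT.leaf ⟨(nat_lit 2), (nat_lit 11), (nat_lit 11), (nat_lit 0x2e50460040880910210d3d9cd2058d), (nat_lit 0), (nat_lit 0)⟩) (BT.leaf ⟨(nat_lit 3), (nat_lit 7), (nat_lit 13), (nat_lit 0x16c6cf62793c9abbee9e9bce91ec176), (nat_lit 0xb8dafbb9a013a32363afe8483468d5), (nat_lit 0)⟩)) (BT.node (nat_lit 3759) (BT.leaf ⟨(nat_lit 3), (nat_lit 13), (nat_lit 7), (nat_lit 0xb8dafbb9a013a32363afe8483468d5), (nat_lit 0x16c6cf62793c9abbee9e9bce91ec176), (nat_lit 0)⟩) (BT.leaf ⟨(nat_lit 3), (nat_lit 13), (nat_lit 7), (nat_lit 0xcd5a4d738e7e4238873b4d18d43e73), (nat_lit 0x1b29a4c7bae71cbc85a68a6a1dff62c), (nat_lit 0)⟩))))) (BT.node (nat_lit 3768) (BT.node (nat_lit 3764) (BT.node (nat_lit 3762) (BT.node (nat_lit 3761) (BT.leaf ⟨(nat_lit 3), (nat_lit 7), (nat_lit 13), (nat_lit 0x1b29a4c7bae71cbc85a68a6a1dff62c),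 (nat_lit 0xcd5a4d738e7e4238873b4d18d43e73), (nat_lit 0)⟩) (BT.leaf ⟨(nat_lit 3), (nat_lit 7), (nat_lit 13), (nat_lit 0x17b0bb2d2ea299705deabd37e2f44e8), (nat_lit 0x50346901240c0171ff4300355afd00), (nat_lit 0)⟩)) (BT.node (nat_lit 3763) (BT.leaf ⟨(nat_lit 3), (nat_lit 13), (nat_lit 7), (nat_lit 0x50346901240c0171ff4300355afd00), (nat_lit 0x17b0bb2d2ea299705deabd37e2f44e8), (nat_lit 0)⟩) (BT.leaf ⟨(nat_lit 3), (nat_lit 13), (nat_lit 8), (nat_lit 0x1c1a199400881410fcded696a020042), (nat_lit 0xdc093db125731d97acc25fa8b0a96f), (nat_lit 0)⟩))) (BT.node (nat_lit 3766) (BT.node (nat_lit 3765) (BT.leaf ⟨(nat_lit 3), (nat_lit 8), (nat_lit 13), (nat_lit 0xdc093db125731d97acc25fa8b0a96f), (nat_lit 0x1c1a199400881410fcded696a020042), (nat_lit 0)⟩) (BT.leaf ⟨(nat_lit 3), (nat_lit 13), (nat_lit 13), (nat_lit 0x19d0aad68100b7db198014024041239), (nat_lit 0x40b1d300a01918821082015cf468d5),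 (nat_lit 0)⟩)) (BT.node (nat_lit 3767) (BT.leaf ⟨(nat_lit 2), (nat_lit 11), (nat_lit 11), (nat_lit 0x2e6c6a2040880b0028040351920208), (nat_lit 0), (nat_lit 0)⟩) (BT.leaf ⟨(nat_lit 2), (nat_lit 11), (nat_lit 11), (nat_lit 0x1c69d233ae55deb0ab495a41f39c53a), (nat_lit 0), (nat_lit 0)⟩)))) (BT.node (nat_lit 3772) (BT.node (nat_lit 3770) (BT.node (nat_lit 3769) (BT.leaf ⟨(nat_lit 3), (nat_lit 13), (nat_lit 11), (nat_lit 0xc006ae4605e44346902fe98e880101), (nat_lit 0x714fa8fad26db0ebe5846cf56d3155), (nat_lit 0)⟩) (BT.leaf ⟨(nat_lit 3), (nat_lit 11), (nat_lit 13), (nat_lit 0x714fa8fad26db0ebe5846cf56d3155), (nat_lit 0xc006ae4605e44346902fe98e880101), (nat_lit 0)⟩)) (BT.node (nat_lit 3771) (BT.leaf ⟨(nat_lit 3), (nat_lit 13), (nat_lit 9), (nat_lit 0x18b12fa5da3295d3ffb76be9787338a), (nat_lit 0x4ac9766998e4b7eddb1ab9a89661af), (nat_lit 0)⟩) (BT.leaf ⟨(nat_lit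 3), (nat_lit 9), (nat_lit 13), (nat_lit 0x4ac9766998e4b7eddb1ab9a89661af), (nat_lit 0x18b12fa5da3295d3ffb76be9787338a), (nat_lit 0)⟩))) (BT.node (nat_lit 3774) (BT.node (nat_lit 3773) (BT.leaf ⟨(nat_lit 3), (nat_lit 7), (nat_lit 13), (nat_lit 0x1cc85bf3ee71ced9d58369385777d65), (nat_lit 0xae200c7225c00480c9f022807a3821), (nat_lit 0)⟩) (BT.leaf ⟨(nat_lit 3), (nat_lit 13), (nat_lit 7), (nat_lit 0xae200c7225c00480c9f022807a3821), (nat_lit 0x1cc85bf3ee71ced9d58369385777d65), (nat_lit 0)⟩)) (BT.node (nat_lit 3775) (BT.leaf ⟨(nat_lit 3), (nat_lit 13), (nat_lit 7), (nat_lit 0x152ed31d432ba4c7d7212aa7d5c51d1), (nat_lit 0xb8c9068dfe8440805001aa0beb9b00), (nat_lit 0)⟩) (BT.leaf ⟨(nat_lit 3), (nat_lit 7), (nat_lit 13), (nat_lit 0xb8c9068dfe8440805001aa0beb9b00), (nat_lit 0x152ed31d432ba4c7d7212aa7d5c51d1), (nat_lit 0)⟩)))))))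
noncomputable def cP3712 : BT Pf := (BT.node (nat_lit 3744) (BT.node (nat_lit 3728) (BT.node (nat_lit 3720) (BT.node (nat_lit 3716) (BT.node (nat_lit 3714) (BT.node (nat_lit 3713) (BT.leaf (.rel (nat_lit 3704) (nat_lit 3) [(nat_lit 381), (nat_lit 264)] [⟨(nat_lit 2471), [(nat_lit 458)], [(nat_lit 1056), (nat_lit 1369)]⟩, ⟨(nat_lit 2727), [(nat_lit 2237)], [(nat_lit 567), (nat_lit 236)]⟩])) (BT.leaf (.inv (nat_lit 3712)))) (BT.node (nat_lit 3715) (BT.leaf (.rel (nat_lit 3708) (nat_lit 5) [(nat_lit 474), (nat_lit 269)] [⟨(nat_lit 1814), [(nat_lit 775)], [(nat_lit 1099), (nat_lit 202)]⟩, ⟨(nat_lit 2131), [(nat_lit 775)], [(nat_lit 696), (nat_lit 163)]⟩])) (BT.leaf (.inv (nat_lit 3714))))) (BT.node (nat_lit 3718) (BT.node (nat_lit 3717) (BT.leaf (.rel (nat_lit 3715) (nat_lit 1) [(nat_lit 335), (nat_lit 460)] [⟨(nat_lit 2114), [(nat_lit 1870)], [(nat_lit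 423), (nat_lit 1256)]⟩])) (BT.leaf (.inv (nat_lit 3716)))) (BT.node (nat_lit 3719) (BT.leaf (.rel (nat_lit 2638) (nat_lit 5) [(nat_lit 239), (nat_lit 814)] [⟨(nat_lit 2104), [], [(nat_lit 582), (nat_lit 1503)]⟩, ⟨(nat_lit 3714), [(nat_lit 2075)], [(nat_lit 164), (nat_lit 291)]⟩])) (BT.leaf (.inv (nat_lit 3718)))))) (BT.node (nat_lit 3724) (BT.node (nat_lit 3722) (BT.node (nat_lit 3721) (BT.leaf (.cmp (nat_lit 3719) ⟨(nat_lit 3719), [(nat_lit 2311)], [(nat_lit 257), (nat_lit 1348)]⟩)) (BT.leaf (.rel (nat_lit 3704) (nat_lit 4) [(nat_lit 774), (nat_lit 125)] [⟨(nat_lit 745), [(nat_lit 437)], [(nat_lit 511), (nat_lit 597)]⟩, ⟨(nat_lit 1097), [(nat_lit 1008)], [(nat_lit 825), (nat_lit 1101)]⟩]))) (BT.node (nat_lit 3723) (BT.leaf (.inv (nat_lit 3721))) (BT.leaf (.emul [(nat_lit 3223), (nat_lit 3215)])))) (BT.node (nat_lit 3726) (BT.node (nat_lit 3725) (BT.leaf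 (.emul [(nat_lit 3215), (nat_lit 3723)])) (BT.leaf (.emul [(nat_lit 3264), (nat_lit 3724)]))) (BT.node (nat_lit 3727) (BT.leaf (.rel (nat_lit 3708) (nat_lit 2) [(nat_lit 240), (nat_lit 235)] [⟨(nat_lit 3354), [(nat_lit 935)], [(nat_lit 943), (nat_lit 1133)]⟩, ⟨(nat_lit 3298), [(nat_lit 3725)], [(nat_lit 195), (nat_lit 389)]⟩])) (BT.leaf (.inv (nat_lit 3726))))))) (BT.node (nat_lit 3736) (BT.node (nat_lit 3732) (BT.node (nat_lit 3730) (BT.node (nat_lit 3729) (BT.leaf (.rel (nat_lit 2155) (nat_lit 5) [(nat_lit 381), (nat_lit 1043)] [⟨(nat_lit 2074), [(nat_lit 1870)], [(nat_lit 239), (nat_lit 287)]⟩, ⟨(nat_lit 3726), [(nat_lit 935)], [(nat_lit 461), (nat_lit 1583)]⟩])) (BT.leaf (.inv (nat_lit 3728)))) (BT.node (nat_lit 3731) (BT.leaf (.cmp (nat_lit 3729) ⟨(nat_lit 3729), [(nat_lit 2181)], [(nat_lit 352), (nat_lit 1376)]⟩)) (BT.leaf (.rel (nat_lit 3713)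 (nat_lit 1) [(nat_lit 129), (nat_lit 868)] [⟨(nat_lit 1794), [], [(nat_lit 128), (nat_lit 1)]⟩])))) (BT.node (nat_lit 3734) (BT.node (nat_lit 3733) (BT.leaf (.inv (nat_lit 3731))) (BT.leaf (.inv (nat_lit 3732)))) (BT.node (nat_lit 3735) (BT.leaf (.cmp (nat_lit 3733) ⟨(nat_lit 3721), [(nat_lit 775)], [(nat_lit 350), (nat_lit 170)]⟩)) (BT.leaf (.rel (nat_lit 2494) (nat_lit 2) [(nat_lit 1102), (nat_lit 864)] [⟨(nat_lit 2354), [], [(nat_lit 991), (nat_lit 532)]⟩, ⟨(nat_lit 3726), [], [(nat_lit 358), (nat_lit 752)]⟩]))))) (BT.node (nat_lit 3740) (BT.node (nat_lit 3738) (BT.node (nat_lit 3737) (BT.leaf (.inv (nat_lit 3735))) (BT.leaf (.rel (nat_lit 1054) (nat_lit 3) [(nat_lit 422), (nat_lit 269)] [⟨(nat_lit 1973), [(nat_lit 935)], [(nat_lit 376), (nat_lit 204)]⟩, ⟨(nat_lit 3714), [(nat_lit 1922)], [(nat_lit 631), (nat_lit 486)]⟩]))) (BT.node (nat_lit 3739)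 (BT.leaf (.inv (nat_lit 3737))) (BT.leaf (.rel (nat_lit 3718) (nat_lit 0) [(nat_lit 1242), (nat_lit 1091)] [⟨(nat_lit 2761), [(nat_lit 2167)], [(nat_lit 209), (nat_lit 982)]⟩])))) (BT.node (nat_lit 3742) (BT.node (nat_lit 3741) (BT.leaf (.cmp (nat_lit 3739) ⟨(nat_lit 3739), [(nat_lit 1922)], [(nat_lit 209)]⟩)) (BT.leaf (.inv (nat_lit 3739)))) (BT.node (nat_lit 3743) (BT.leaf (.rel (nat_lit 3677) (nat_lit 0) [(nat_lit 618), (nat_lit 818)] [⟨(nat_lit 1896), [], [(nat_lit 360), (nat_lit 647)]⟩])) (BT.leaf (.inv (nat_lit 3742)))))))) (BT.node (nat_lit 3760) (BT.node (nat_lit 3752) (BT.node (nat_lit 3748) (BT.node (nat_lit 3746) (BT.node (nat_lit 3745) (BT.leaf (.rel (nat_lit 2269) (nat_lit 5) [(nat_lit 466), (nat_lit 512)] [⟨(nat_lit 2699), [(nat_lit 2167)], [(nat_lit 434), (nat_lit 1101)]⟩, ⟨(nat_lit 3726), [(nat_lit 775)], [(nat_lit 689), (nat_lit 504)]⟩]))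 (BT.leaf (.inv (nat_lit 3744)))) (BT.node (nat_lit 3747) (BT.leaf (.rel (nat_lit 2280) (nat_lit 1) [(nat_lit 416), (nat_lit 293)] [⟨(nat_lit 3719), [(nat_lit 2237)], [(nat_lit 129), (nat_lit 90)]⟩])) (BT.leaf (.inv (nat_lit 3746))))) (BT.node (nat_lit 3750) (BT.node (nat_lit 3749) (BT.leaf (.rel (nat_lit 2065) (nat_lit 1) [(nat_lit 1292), (nat_lit 584)] [⟨(nat_lit 3707), [], [(nat_lit 1174), (nat_lit 455)]⟩])) (BT.leaf (.inv (nat_lit 3748)))) (BT.node (nat_lit 3751) (BT.leaf (.rel (nat_lit 3741) (nat_lit 3) [(nat_lit 128), (nat_lit 573)] [⟨(nat_lit 2099), [(nat_lit 2357)], [(nat_lit 726), (nat_lit 870)]⟩, ⟨(nat_lit 3401), [], [(nat_lit 258), (nat_lit 420)]⟩])) (BT.leaf (.inv (nat_lit 3750)))))) (BT.node (nat_lit 3756) (BT.node (nat_lit 3754) (BT.node (nat_lit 3753) (BT.leaf (.rel (nat_lit 3746) (nat_lit 2) [(nat_lit 829), (nat_lit 1017)] [⟨(nat_lit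 1372), [], [(nat_lit 526), (nat_lit 139)]⟩, ⟨(nat_lit 803), [(nat_lit 775)], [(nat_lit 373), (nat_lit 400)]⟩])) (BT.leaf (.inv (nat_lit 3752)))) (BT.node (nat_lit 3755) (BT.leaf (.rel (nat_lit 3727) (nat_lit 2) [(nat_lit 447), (nat_lit 1101)] [⟨(nat_lit 984), [(nat_lit 935)], [(nat_lit 94), (nat_lit 566)]⟩, ⟨(nat_lit 2753), [(nat_lit 775)], [(nat_lit 508), (nat_lit 294)]⟩])) (BT.leaf (.inv (nat_lit 3754))))) (BT.node (nat_lit 3758) (BT.node (nat_lit 3757) (BT.leaf (.emul [(nat_lit 3264), (nat_lit 3723)])) (BT.leaf (.rel (nat_lit 3746) (nat_lit 4) [(nat_lit 482), (nat_lit 248)] [⟨(nat_lit 3350), [(nat_lit 775)], [(nat_lit 1218), (nat_lit 455)]⟩, ⟨(nat_lit 3462), [(nat_lit 3756)], [(nat_lit 1041), (nat_lit 459)]⟩]))) (BT.node (nat_lit 3759) (BT.leaf (.inv (nat_lit 3757))) (BT.leaf (.rel (nat_lit 1471) (nat_lit 2) [(nat_lit 747), (nat_lit 1141)] [⟨(nat_lit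 1970), [(nat_lit 775)], [(nat_lit 482), (nat_lit 126)]⟩, ⟨(nat_lit 3749), [(nat_lit 2075)], [(nat_lit 281), (nat_lit 1083)]⟩])))))) (BT.node (nat_lit 3768) (BT.node (nat_lit 3764) (BT.node (nat_lit 3762) (BT.node (nat_lit 3761) (BT.leaf (.inv (nat_lit 3759))) (BT.leaf (.rel (nat_lit 3753) (nat_lit 2) [(nat_lit 239), (nat_lit 877)] [⟨(nat_lit 2041), [(nat_lit 1073)], [(nat_lit 468), (nat_lit 367)]⟩, ⟨(nat_lit 1909), [(nat_lit 2210)], [(nat_lit 150), (nat_lit 390)]⟩]))) (BT.node (nat_lit 3763) (BT.leaf (.inv (nat_lit 3761))) (BT.leaf (.rel (nat_lit 1964) (nat_lit 3) [(nat_lit 1218), (nat_lit 398)] [⟨(nat_lit 1498), [], [(nat_lit 165), (nat_lit 740)]⟩, ⟨(nat_lit 3721), [(nat_lit 935)], [(nat_lit 825), (nat_lit 395)]⟩])))) (BT.node (nat_lit 3766) (BT.node (nat_lit 3765) (BT.leaf (.inv (nat_lit 3763))) (BT.leaf (.rel (nat_lit 3722) (nat_lit 1) [(nat_lit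 194), (nat_lit 236)] [⟨(nat_lit 3712), [], [(nat_lit 446), (nat_lit 191)]⟩]))) (BT.node (nat_lit 3767) (BT.leaf (.emul [(nat_lit 3223), (nat_lit 3264)])) (BT.leaf (.emul [(nat_lit 3264), (nat_lit 3766)]))))) (BT.node (nat_lit 3772) (BT.node (nat_lit 3770) (BT.node (nat_lit 3769) (BT.leaf (.rel (nat_lit 3542) (nat_lit 1) [(nat_lit 941), (nat_lit 647)] [⟨(nat_lit 3750), [(nat_lit 3767)], [(nat_lit 695), (nat_lit 169)]⟩])) (BT.leaf (.inv (nat_lit 3768)))) (BT.node (nat_lit 3771) (BT.leaf (.rel (nat_lit 2842) (nat_lit 3) [(nat_lit 284), (nat_lit 1204)] [⟨(nat_lit 2970), [(nat_lit 2311)], [(nat_lit 914), (nat_lit 647)]⟩, ⟨(nat_lit 3736), [(nat_lit 775)], [(nat_lit 900), (nat_lit 606)]⟩])) (BT.leaf (.inv (nat_lit 3770))))) (BT.node (nat_lit 3774) (BT.node (nat_lit 3773) (BT.leaf (.rel (nat_lit 3755) (nat_lit 5) [(nat_lit 1242), (nat_lit 1203)] [⟨(nat_lit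 3166), [(nat_lit 2413)], [(nat_lit 829), (nat_lit 308)]⟩, ⟨(nat_lit 2367), [(nat_lit 2549)], [(nat_lit 351), (nat_lit 395)]⟩])) (BT.leaf (.inv (nat_lit 3772)))) (BT.node (nat_lit 3775) (BT.leaf (.rel (nat_lit 1098) (nat_lit 5) [(nat_lit 761), (nat_lit 294)] [⟨(nat_lit 757), [], [(nat_lit 1337), (nat_lit 224)]⟩, ⟨(nat_lit 3738), [(nat_lit 1390)], [(nat_lit 1600), (nat_lit 399)]⟩])) (BT.leaf (.inv (nat_lit 3774)))))))))
noncomputable def cF3776 : BT Fc := (BT.node (nat_lit 3808) (BT.node (nat_lit 3792) (BT.node (nat_lit 3784) (BT.node (nat_lit 3780) (BT.node (nat_lit 3778) (BT.node (nat_lit 3777) (BT.leaf ⟨(nat_lit 3), (nat_lit 13), (nat_lit 11), (nat_lit 0x151a7a208401a7900e007aacbcf1b00), (nat_lit 0x820ee80a0504239947b81095c04048), (nat_lit 0)⟩) (BT.leaf ⟨(nat_lit 3), (nat_lit 11), (nat_lit 13), (nat_lit 0x820ee80a0504239947b81095c04048), (nat_lit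 0x151a7a208401a7900e007aacbcf1b00), (nat_lit 0)⟩)) (BT.node (nat_lit 3779) (BT.leaf ⟨(nat_lit 3), (nat_lit 13), (nat_lit 9), (nat_lit 0x17d407e840278d97a02a7480110208), (nat_lit 0x4a4741022004772463029ca927f9d), (nat_lit 0)⟩) (BT.leaf ⟨(nat_lit 3), (nat_lit 9), (nat_lit 13), (nat_lit 0x4a4741022004772463029ca927f9d), (nat_lit 0x17d407e840278d97a02a7480110208), (nat_lit 0)⟩))) (BT.node (nat_lit 3782) (BT.node (nat_lit 3781) (BT.leaf ⟨(nat_lit 3), (nat_lit 7), (nat_lit 13), (nat_lit 0x189f5cabba688e54cf51562399cb0b9), (nat_lit 0x1df4bb62713d07acf6c19bd52d89db1), (nat_lit 0)⟩) (BT.leaf ⟨(nat_lit 3), (nat_lit 13), (nat_lit 7), (nat_lit 0x1df4bb62713d07acf6c19bd52d89db1), (nat_lit 0x189f5cabba688e54cf51562399cb0b9), (nat_lit 0)⟩)) (BT.node (nat_lit 3783) (BT.leaf ⟨(nat_lit 3), (nat_lit 7), (nat_lit 13), (nat_lit 0x1d1df149fdeb00497005003cec809d4), (nat_lit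 0x48050021044a64fa86006172012028), (nat_lit 0)⟩) (BT.leaf ⟨(nat_lit 3), (nat_lit 13), (nat_lit 7), (nat_lit 0x48050021044a64fa86006172012028), (nat_lit 0x1d1df149fdeb00497005003cec809d4), (nat_lit 0)⟩)))) (BT.node (nat_lit 3788) (BT.node (nat_lit 3786) (BT.node (nat_lit 3785) (BT.leaf ⟨(nat_lit 3), (nat_lit 13), (nat_lit 7), (nat_lit 0x1c37c4ea2f5ae36c6fcdf1be7637265), (nat_lit 0x40420c9f02200401be2f18ae3a39d4), (nat_lit 0)⟩) (BT.leaf ⟨(nat_lit 3), (nat_lit 7), (nat_lit 13), (nat_lit 0x40420c9f02200401be2f18ae3a39d4), (nat_lit 0x1c37c4ea2f5ae36c6fcdf1be7637265), (nat_lit 0)⟩)) (BT.node (nat_lit 3787) (BT.leaf ⟨(nat_lit 3), (nat_lit 13), (nat_lit 7), (nat_lit 0x174873257cbed7db82df7158b02fec1), (nat_lit 0x1f26ceefe354e99d1ce16fce3997ba), (nat_lit 0)⟩) (BT.leaf ⟨(nat_lit 3), (nat_lit 7), (nat_lit 13), (nat_lit 0x1f26ceefe354e99d1ce16fce3997ba), (nat_lit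 0x174873257cbed7db82df7158b02fec1), (nat_lit 0)⟩))) (BT.node (nat_lit 3790) (BT.node (nat_lit 3789) (BT.leaf ⟨(nat_lit 3), (nat_lit 13), (nat_lit 9), (nat_lit 0x95ddea40404b9c102085d100325d), (nat_lit 0x1e31008058e4204ea25ebd300404811), (nat_lit 0)⟩) (BT.leaf ⟨(nat_lit 3), (nat_lit 9), (nat_lit 13), (nat_lit 0x1e31008058e4204ea25ebd300404811), (nat_lit 0x95ddea40404b9c102085d100325d), (nat_lit 0)⟩)) (BT.node (nat_lit 3791) (BT.leaf ⟨(nat_lit 3), (nat_lit 9), (nat_lit 13), (nat_lit 0x78f00220b1bfa10105fd3ccbd80546), (nat_lit 0x1e3c4100625bd1001a5d7c300b7b012), (nat_lit 0)⟩) (BT.leaf ⟨(nat_lit 3), (nat_lit 13), (nat_lit 9), (nat_lit 0x1e3c4100625bd1001a5d7c300b7b012), (nat_lit 0x78f00220b1bfa10105fd3ccbd80546), (nat_lit 0)⟩))))) (BT.node (nat_lit 3800) (BT.node (nat_lit 3796) (BT.node (nat_lit 3794) (BT.node (nat_lit 3793) (BT.leaf ⟨(nat_lit 3), (nat_lit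 7), (nat_lit 13), (nat_lit 0x1008018822051c4ebf3800de3e4e202), (nat_lit 0xb4ae42aec177aaf49e86390f6fc176), (nat_lit 0)⟩) (BT.leaf ⟨(nat_lit 3), (nat_lit 13), (nat_lit 7), (nat_lit 0xb4ae42aec177aaf49e86390f6fc176), (nat_lit 0x1008018822051c4ebf3800de3e4e202), (nat_lit 0)⟩)) (BT.node (nat_lit 3795) (BT.leaf ⟨(nat_lit 3), (nat_lit 7), (nat_lit 13), (nat_lit 0x152f499f532adb0eb9dd46c744e2bd5), (nat_lit 0x32c5bbfef19c372c7ad4cba37c7dd2), (nat_lit 0)⟩) (BT.leaf ⟨(nat_lit 3), (nat_lit 13), (nat_lit 7), (nat_lit 0x32c5bbfef19c372c7ad4cba37c7dd2), (nat_lit 0x152f499f532adb0eb9dd46c744e2bd5), (nat_lit 0)⟩))) (BT.node (nat_lit 3798) (BT.node (nat_lit 3797) (BT.leaf ⟨(nat_lit 2), (nat_lit 5), (nat_lit 5), (nat_lit 0x9744149c4040080301225be3f9c102), (nat_lit 0), (nat_lit 0)⟩) (BT.leaf ⟨(nat_lit 3), (nat_lit 8), (nat_lit 13), (nat_lit 0x11cd2f9d5101bd0803e3e7400810040),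 (nat_lit 0x13651b3eb5c72968bfe3f20f85d1acc), (nat_lit 0)⟩)) (BT.node (nat_lit 3799) (BT.leaf ⟨(nat_lit 3), (nat_lit 13), (nat_lit 8), (nat_lit 0x13651b3eb5c72968bfe3f20f85d1acc), (nat_lit 0x11cd2f9d5101bd0803e3e7400810040), (nat_lit 0)⟩) (BT.leaf ⟨(nat_lit 3), (nat_lit 7), (nat_lit 13), (nat_lit 0x2e69d1e3d3c8050420448084339fe8), (nat_lit 0x151b39e9ec016342fa0441078d08200), (nat_lit 0)⟩)))) (BT.node (nat_lit 3804) (BT.node (nat_lit 3802) (BT.node (nat_lit 3801) (BT.leaf ⟨(nat_lit 3), (nat_lit 13), (nat_lit 7), (nat_lit 0x151b39e9ec016342fa0441078d08200), (nat_lit 0x2e69d1e3d3c8050420448084339fe8), (nat_lit 0)⟩) (BT.leaf ⟨(nat_lit 3), (nat_lit 7), (nat_lit 13), (nat_lit 0x17487356571495f1625ba33b05b825d), (nat_lit 0xd27650ed66b1ded347b86666e79c63), (nat_lit 0)⟩)) (BT.node (nat_lit 3803) (BT.leaf ⟨(nat_lit 3), (nat_lit 13), (nat_lit 7), (nat_lit 0xd27650ed66b1ded347b86666e79c63),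 (nat_lit 0x17487356571495f1625ba33b05b825d), (nat_lit 0)⟩) (BT.leaf ⟨(nat_lit 3), (nat_lit 13), (nat_lit 9), (nat_lit 0x50028040089c1a200c04816a219eb4), (nat_lit 0x1a7989e2792db053549f93527aa5c9c), (nat_lit 0)⟩))) (BT.node (nat_lit 3806) (BT.node (nat_lit 3805) (BT.leaf ⟨(nat_lit 3), (nat_lit 9), (nat_lit 13), (nat_lit 0x1a7989e2792db053549f93527aa5c9c), (nat_lit 0x50028040089c1a200c04816a219eb4), (nat_lit 0)⟩) (BT.leaf ⟨(nat_lit 3), (nat_lit 13), (nat_lit 7), (nat_lit 0x1d5bceee4023ca818463552140e2df8), (nat_lit 0x50e283002244231818eadb909f850), (nat_lit 0)⟩)) (BT.node (nat_lit 3807) (BT.leaf ⟨(nat_lit 3), (nat_lit 7), (nat_lit 13), (nat_lit 0x50e283002244231818eadb909f850), (nat_lit 0x1d5bceee4023ca818463552140e2df8), (nat_lit 0)⟩) (BT.leaf ⟨(nat_lit 3), (nat_lit 10), (nat_lit 13), (nat_lit 0x9fd278e64ba6f12ba5e0bf4652fa1f), (nat_lit 0x15979f5830f8d279df3ac75dea6c9ce),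 (nat_lit 0)⟩)))))) (BT.node (nat_lit 3824) (BT.node (nat_lit 3816) (BT.node (nat_lit 3812) (BT.node (nat_lit 3810) (BT.node (nat_lit 3809) (BT.leaf ⟨(nat_lit 3), (nat_lit 13), (nat_lit 10), (nat_lit 0x15979f5830f8d279df3ac75dea6c9ce), (nat_lit 0x9fd278e64ba6f12ba5e0bf4652fa1f), (nat_lit 0)⟩) (BT.leaf ⟨(nat_lit 3), (nat_lit 13), (nat_lit 9), (nat_lit 0x609faa902118efc24fe54fce47756), (nat_lit 0x5bed40c074687e206b40c1f34ca841), (nat_lit 0)⟩)) (BT.node (nat_lit 3811) (BT.leaf ⟨(nat_lit 3), (nat_lit 9), (nat_lit 13), (nat_lit 0x5bed40c074687e206b40c1f34ca841), (nat_lit 0x609faa902118efc24fe54fce47756), (nat_lit 0)⟩) (BT.leaf ⟨(nat_lit 3), (nat_lit 13), (nat_lit 9), (nat_lit 0x137bbec8e1dae9189c9f938f60bb41e), (nat_lit 0xcd734dff55d91ba3e93a33c1a52f44), (nat_lit 0)⟩))) (BT.node (nat_lit 3814) (BT.node (nat_lit 3813) (BT.leaf ⟨(nat_lit 3), (nat_lit 9), (nat_lit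 13), (nat_lit 0xcd734dff55d91ba3e93a33c1a52f44), (nat_lit 0x137bbec8e1dae9189c9f938f60bb41e), (nat_lit 0)⟩) (BT.leaf ⟨(nat_lit 3), (nat_lit 9), (nat_lit 13), (nat_lit 0xd1bf1c0813dae6404003d18020852f), (nat_lit 0x808054714ba4b6015ea20404ba22bb), (nat_lit 0)⟩)) (BT.node (nat_lit 3815) (BT.leaf ⟨(nat_lit 3), (nat_lit 13), (nat_lit 9), (nat_lit 0x808054714ba4b6015ea20404ba22bb), (nat_lit 0xd1bf1c0813dae6404003d18020852f), (nat_lit 0)⟩) (BT.leaf ⟨(nat_lit 3), (nat_lit 13), (nat_lit 11), (nat_lit 0x15a3e3090f74554d7980472d8c4441e), (nat_lit 0xac75cab95f2db313ab8b06aed4cb96), (nat_lit 0)⟩)))) (BT.node (nat_lit 3820) (BT.node (nat_lit 3818) (BT.node (nat_lit 3817) (BT.leaf ⟨(nat_lit 3), (nat_lit 11), (nat_lit 13), (nat_lit 0xac75cab95f2db313ab8b06aed4cb96), (nat_lit 0x15a3e3090f74554d7980472d8c4441e), (nat_lit 0)⟩) (BT.leaf ⟨(nat_lit 3), (nat_lit 11), (nat_lit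 13), (nat_lit 0x4410a5e00610500ab800bd1ef4c01), (nat_lit 0x1ca84841049e441549c57e6053ab210), (nat_lit 0)⟩)) (BT.node (nat_lit 3819) (BT.leaf ⟨(nat_lit 3), (nat_lit 13), (nat_lit 11), (nat_lit 0x1ca84841049e441549c57e6053ab210), (nat_lit 0x4410a5e00610500ab800bd1ef4c01), (nat_lit 0)⟩) (BT.leaf ⟨(nat_lit 3), (nat_lit 7), (nat_lit 13), (nat_lit 0x7764b0280181210400a211e17a73eb), (nat_lit 0x55777b6c3af0f749f211aa7507d5d5), (nat_lit 0)⟩))) (BT.node (nat_lit 3822) (BT.node (nat_lit 3821) (BT.leaf ⟨(nat_lit 3), (nat_lit 13), (nat_lit 7), (nat_lit 0x55777b6c3af0f749f211aa7507d5d5), (nat_lit 0x7764b0280181210400a211e17a73eb), (nat_lit 0)⟩) (BT.leaf ⟨(nat_lit 3), (nat_lit 9), (nat_lit 13), (nat_lit 0x16c48792e25e4fe63b2f24f4bc17e15), (nat_lit 0x292bc08010fad04048bc11eceef4e), (nat_lit 0)⟩)) (BT.node (nat_lit 3823) (BT.leaf ⟨(nat_lit 3), (nat_lit 13), (nat_lit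 9), (nat_lit 0x292bc08010fad04048bc11eceef4e), (nat_lit 0x16c48792e25e4fe63b2f24f4bc17e15), (nat_lit 0)⟩) (BT.leaf ⟨(nat_lit 3), (nat_lit 13), (nat_lit 7), (nat_lit 0x100caba32de11024050180be783060), (nat_lit 0x11357ceb9b06ac4ad751c4eae55c2a9), (nat_lit 0)⟩))))) (BT.node (nat_lit 3832) (BT.node (nat_lit 3828) (BT.node (nat_lit 3826) (BT.node (nat_lit 3825) (BT.leaf ⟨(nat_lit 3), (nat_lit 7), (nat_lit 13), (nat_lit 0x11357ceb9b06ac4ad751c4eae55c2a9), (nat_lit 0x100caba32de11024050180be783060), (nat_lit 0)⟩) (BT.leaf ⟨(nat_lit 3), (nat_lit 13), (nat_lit 8), (nat_lit 0x152c76c9cc4f6c44f4be83d23a4d49e), (nat_lit 0x100673ebd9bc20225b00d26895904), (nat_lit 0)⟩)) (BT.node (nat_lit 3827) (BT.leaf ⟨(nat_lit 3), (nat_lit 8), (nat_lit 13), (nat_lit 0x100673ebd9bc20225b00d26895904), (nat_lit 0x152c76c9cc4f6c44f4be83d23a4d49e), (nat_lit 0)⟩) (BT.leaf ⟨(nat_lit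 3), (nat_lit 7), (nat_lit 13), (nat_lit 0xae6f412f00527808008040757a378d), (nat_lit 0xd8cc07c65bf07a40080ce8282b41af), (nat_lit 0)⟩))) (BT.node (nat_lit 3830) (BT.node (nat_lit 3829) (BT.leaf ⟨(nat_lit 3), (nat_lit 13), (nat_lit 7), (nat_lit 0xd8cc07c65bf07a40080ce8282b41af), (nat_lit 0xae6f412f00527808008040757a378d), (nat_lit 0)⟩) (BT.leaf ⟨(nat_lit 3), (nat_lit 7), (nat_lit 13), (nat_lit 0x1cca4b5e0091bf1f5a08f0a22014009), (nat_lit 0x107a4e0ed93d2fb13cde13db074f176), (nat_lit 0)⟩)) (BT.node (nat_lit 3831) (BT.leaf ⟨(nat_lit 3), (nat_lit 13), (nat_lit 7), (nat_lit 0x107a4e0ed93d2fb13cde13db074f176), (nat_lit 0x1cca4b5e0091bf1f5a08f0a22014009), (nat_lit 0)⟩) (BT.leaf ⟨(nat_lit 3), (nat_lit 9), (nat_lit 13), (nat_lit 0x1ad3bd7060c10ce6f1402de1097c848), (nat_lit 0x13d37aef489b45d439cedf9b935a674), (nat_lit 0)⟩)))) (BT.node (nat_lit 3836) (BT.node (nat_lit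 3834) (BT.node (nat_lit 3833) (BT.leaf ⟨(nat_lit 3), (nat_lit 13), (nat_lit 9), (nat_lit 0x13d37aef489b45d439cedf9b935a674), (nat_lit 0x1ad3bd7060c10ce6f1402de1097c848), (nat_lit 0)⟩) (BT.leaf ⟨(nat_lit 3), (nat_lit 7), (nat_lit 13), (nat_lit 0x1b937e6b4639bc37aaf439dc868bff4), (nat_lit 0x750018098e5cee4fa01bd200408841), (nat_lit 0)⟩)) (BT.node (nat_lit 3835) (BT.leaf ⟨(nat_lit 3), (nat_lit 13), (nat_lit 7), (nat_lit 0x750018098e5cee4fa01bd200408841), (nat_lit 0x1b937e6b4639bc37aaf439dc868bff4), (nat_lit 0)⟩) (BT.leaf ⟨(nat_lit 3), (nat_lit 7), (nat_lit 13), (nat_lit 0x6cb7a7f44d5bf36a4abde1f6f90ee4), (nat_lit 0x1c84eb9d438ae28caeefbaa8d9ea9d1), (nat_lit 0)⟩))) (BT.node (nat_lit 3838) (BT.node (nat_lit 3837) (BT.leaf ⟨(nat_lit 3), (nat_lit 13), (nat_lit 7), (nat_lit 0x1c84eb9d438ae28caeefbaa8d9ea9d1), (nat_lit 0x6cb7a7f44d5bf36a4abde1f6f90ee4), (nat_lit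 0)⟩) (BT.leaf ⟨(nat_lit 3), (nat_lit 13), (nat_lit 13), (nat_lit 0x6cbeda87fe873b726f6df9bd67a26a), (nat_lit 0x11ca19da61db1eccdc7369318d9ac53), (nat_lit 0)⟩)) (BT.node (nat_lit 3839) (BT.leaf ⟨(nat_lit 3), (nat_lit 13), (nat_lit 13), (nat_lit 0x11ca19da61db1eccdc7369318d9ac53), (nat_lit 0x6cbeda87fe873b726f6df9bd67a26a), (nat_lit 0)⟩) (BT.leaf ⟨(nat_lit 2), (nat_lit 11), (nat_lit 11), (nat_lit 0x17572c0fa2aa75db61d1715a4ccaeef), (nat_lit 0), (nat_lit 0)⟩)))))))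
noncomputable def cP3776 : BT Pf := (BT.node (nat_lit 3808) (BT.node (nat_lit 3792) (BT.node (nat_lit 3784) (BT.node (nat_lit 3780) (BT.node (nat_lit 3778) (BT.node (nat_lit 3777) (BT.leaf (.rel (nat_lit 3324) (nat_lit 0) [(nat_lit 1175), (nat_lit 556)] [⟨(nat_lit 3709), [(nat_lit 775)], [(nat_lit 1041), (nat_lit 110)]⟩])) (BT.leaf (.inv (nat_lit 3776)))) (BT.node (nat_lit 3779) (BT.leaf (.rel (nat_lit 2303) (nat_lit 0) [(nat_lit 404), (nat_lit 234)] [⟨(nat_lit 3757), [], [(nat_lit 214), (nat_lit 1939)]⟩])) (BT.leaf (.inv (nat_lit 3778))))) (BT.node (nat_lit 3782) (BT.node (nat_lit 3781) (BT.leaf (.rel (nat_lit 3746) (nat_lit 1) [(nat_lit 618), (nat_lit 821)] [⟨(nat_lit 1739), [(nat_lit 775)], [(nat_lit 284), (nat_lit 1043)]⟩])) (BT.leaf (.inv (nat_lit 3780)))) (BT.node (nat_lit 3783) (BT.leaf (.rel (nat_lit 3715) (nat_lit 4) [(nat_lit 151), (nat_lit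 398)] [⟨(nat_lit 2147), [(nat_lit 2524)], [(nat_lit 167), (nat_lit 606)]⟩, ⟨(nat_lit 2048), [(nat_lit 1846)], [(nat_lit 493), (nat_lit 264)]⟩])) (BT.leaf (.inv (nat_lit 3782)))))) (BT.node (nat_lit 3788) (BT.node (nat_lit 3786) (BT.node (nat_lit 3785) (BT.leaf (.rel (nat_lit 1449) (nat_lit 3) [(nat_lit 587), (nat_lit 506)] [⟨(nat_lit 1910), [(nat_lit 935)], [(nat_lit 197), (nat_lit 263)]⟩, ⟨(nat_lit 3714), [(nat_lit 1870)], [(nat_lit 298), (nat_lit 486)]⟩])) (BT.leaf (.inv (nat_lit 3784)))) (BT.node (nat_lit 3787) (BT.leaf (.rel (nat_lit 1968) (nat_lit 2) [(nat_lit 357), (nat_lit 676)] [⟨(nat_lit 2067), [(nat_lit 2075)], [(nat_lit 945), (nat_lit 1025)]⟩, ⟨(nat_lit 3757), [(nat_lit 775)], [(nat_lit 164), (nat_lit 1043)]⟩])) (BT.leaf (.inv (nat_lit 3786))))) (BT.node (nat_lit 3790) (BT.node (nat_lit 3789) (BT.leaf (.rel (nat_lit 2250) (nat_lit 1) [(nat_lit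 164), (nat_lit 1329)] [⟨(nat_lit 3712), [(nat_lit 775)], [(nat_lit 905), (nat_lit 892)]⟩])) (BT.leaf (.inv (nat_lit 3788)))) (BT.node (nat_lit 3791) (BT.leaf (.rel (nat_lit 3783) (nat_lit 4) [(nat_lit 551), (nat_lit 290)] [⟨(nat_lit 2690), [(nat_lit 935)], [(nat_lit 1106), (nat_lit 1141)]⟩, ⟨(nat_lit 3153), [], [(nat_lit 165), (nat_lit 163)]⟩])) (BT.leaf (.inv (nat_lit 3790))))))) (BT.node (nat_lit 3800) (BT.node (nat_lit 3796) (BT.node (nat_lit 3794) (BT.node (nat_lit 3793) (BT.leaf (.rel (nat_lit 3713) (nat_lit 2) [(nat_lit 167), (nat_lit 431)] [⟨(nat_lit 1690), [(nat_lit 935)], [(nat_lit 1106), (nat_lit 1226)]⟩, ⟨(nat_lit 1495), [], [(nat_lit 1201), (nat_lit 901)]⟩])) (BT.leaf (.inv (nat_lit 3792)))) (BT.node (nat_lit 3795) (BT.leaf (.rel (nat_lit 3728) (nat_lit 1) [(nat_lit 567), (nat_lit 500)] [⟨(nat_lit 2006), [(nat_lit 2258)], [(nat_lit 526),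 (nat_lit 307)]⟩])) (BT.leaf (.inv (nat_lit 3794))))) (BT.node (nat_lit 3798) (BT.node (nat_lit 3797) (BT.leaf (.emul [(nat_lit 645), (nat_lit 1817)])) (BT.leaf (.rel (nat_lit 3751) (nat_lit 3) [(nat_lit 1012), (nat_lit 751)] [⟨(nat_lit 3359), [(nat_lit 3488)], [(nat_lit 404), (nat_lit 379)]⟩, ⟨(nat_lit 1938), [(nat_lit 3796)], [(nat_lit 575), (nat_lit 821)]⟩]))) (BT.node (nat_lit 3799) (BT.leaf (.inv (nat_lit 3797))) (BT.leaf (.rel (nat_lit 3758) (nat_lit 4) [(nat_lit 167), (nat_lit 495)] [⟨(nat_lit 1351), [(nat_lit 775)], [(nat_lit 393), (nat_lit 1141)]⟩, ⟨(nat_lit 1627), [], [(nat_lit 422), (nat_lit 372)]⟩]))))) (BT.node (nat_lit 3804) (BT.node (nat_lit 3802) (BT.node (nat_lit 3801) (BT.leaf (.inv (nat_lit 3799))) (BT.leaf (.rel (nat_lit 3773) (nat_lit 3) [(nat_lit 761), (nat_lit 495)] [⟨(nat_lit 907), [], [(nat_lit 177), (nat_lit 191)]⟩, ⟨(nat_lit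 1566), [], [(nat_lit 1012), (nat_lit 294)]⟩]))) (BT.node (nat_lit 3803) (BT.leaf (.inv (nat_lit 3801))) (BT.leaf (.rel (nat_lit 3133) (nat_lit 5) [(nat_lit 1099), (nat_lit 717)] [⟨(nat_lit 2518), [], [(nat_lit 299), (nat_lit 439)]⟩, ⟨(nat_lit 3726), [], [(nat_lit 2061), (nat_lit 108)]⟩])))) (BT.node (nat_lit 3806) (BT.node (nat_lit 3805) (BT.leaf (.inv (nat_lit 3803))) (BT.leaf (.rel (nat_lit 2375) (nat_lit 1) [(nat_lit 990), (nat_lit 646)] [⟨(nat_lit 3719), [(nat_lit 2237)], [(nat_lit 550), (nat_lit 486)]⟩]))) (BT.node (nat_lit 3807) (BT.leaf (.inv (nat_lit 3805))) (BT.leaf (.rel (nat_lit 3791) (nat_lit 2) [(nat_lit 2061), (nat_lit 814)] [⟨(nat_lit 2476), [(nat_lit 2311)], [(nat_lit 574), (nat_lit 557)]⟩, ⟨(nat_lit 3186), [(nat_lit 775)], [(nat_lit 871), (nat_lit 1101)]⟩]))))))) (BT.node (nat_lit 3824) (BT.node (nat_lit 3816) (BT.node (nat_lit 3812)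 (BT.node (nat_lit 3810) (BT.node (nat_lit 3809) (BT.leaf (.inv (nat_lit 3807))) (BT.leaf (.rel (nat_lit 3124) (nat_lit 4) [(nat_lit 164), (nat_lit 818)] [⟨(nat_lit 1905), [(nat_lit 1922)], [(nat_lit 2061), (nat_lit 580)]⟩, ⟨(nat_lit 3782), [(nat_lit 775)], [(nat_lit 292), (nat_lit 684)]⟩]))) (BT.node (nat_lit 3811) (BT.leaf (.inv (nat_lit 3809))) (BT.leaf (.rel (nat_lit 2836) (nat_lit 0) [(nat_lit 871), (nat_lit 1100)] [⟨(nat_lit 3754), [], [(nat_lit 911), (nat_lit 90)]⟩])))) (BT.node (nat_lit 3814) (BT.node (nat_lit 3813) (BT.leaf (.inv (nat_lit 3811))) (BT.leaf (.rel (nat_lit 3786) (nat_lit 4) [(nat_lit 521), (nat_lit 864)] [⟨(nat_lit 2226), [], [(nat_lit 111), (nat_lit 465)]⟩, ⟨(nat_lit 2925), [], [(nat_lit 258), (nat_lit 389)]⟩]))) (BT.node (nat_lit 3815) (BT.leaf (.inv (nat_lit 3813))) (BT.leaf (.rel (nat_lit 3218) (nat_lit 0) [(nat_lit 569),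 (nat_lit 593)] [⟨(nat_lit 3754), [(nat_lit 2237)], [(nat_lit 707), (nat_lit 270)]⟩]))))) (BT.node (nat_lit 3820) (BT.node (nat_lit 3818) (BT.node (nat_lit 3817) (BT.leaf (.inv (nat_lit 3815))) (BT.leaf (.rel (nat_lit 3727) (nat_lit 1) [(nat_lit 355), (nat_lit 556)] [⟨(nat_lit 3342), [(nat_lit 935)], [(nat_lit 129), (nat_lit 1871)]⟩]))) (BT.node (nat_lit 3819) (BT.leaf (.inv (nat_lit 3817))) (BT.leaf (.rel (nat_lit 3737) (nat_lit 1) [(nat_lit 353), (nat_lit 170)] [⟨(nat_lit 1058), [(nat_lit 750)], [(nat_lit 364), (nat_lit 821)]⟩])))) (BT.node (nat_lit 3822) (BT.node (nat_lit 3821) (BT.leaf (.inv (nat_lit 3819))) (BT.leaf (.rel (nat_lit 3774) (nat_lit 0) [(nat_lit 781), (nat_lit 533)] [⟨(nat_lit 2460), [], [(nat_lit 630), (nat_lit 1070)]⟩]))) (BT.node (nat_lit 3823) (BT.leaf (.inv (nat_lit 3821))) (BT.leaf (.rel (nat_lit 1630) (nat_lit 1) [(nat_lit 915),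 (nat_lit 1165)] [⟨(nat_lit 3726), [], [(nat_lit 550), (nat_lit 974)]⟩])))))) (BT.node (nat_lit 3832) (BT.node (nat_lit 3828) (BT.node (nat_lit 3826) (BT.node (nat_lit 3825) (BT.leaf (.inv (nat_lit 3823))) (BT.leaf (.rel (nat_lit 1988) (nat_lit 1) [(nat_lit 784), (nat_lit 206)] [⟨(nat_lit 3775), [], [(nat_lit 913), (nat_lit 1101)]⟩]))) (BT.node (nat_lit 3827) (BT.leaf (.inv (nat_lit 3825))) (BT.leaf (.rel (nat_lit 3713) (nat_lit 2) [(nat_lit 1027), (nat_lit 1)] [⟨(nat_lit 2583), [], [(nat_lit 582), (nat_lit 205)]⟩, ⟨(nat_lit 2434), [(nat_lit 2311)], [(nat_lit 527), (nat_lit 330)]⟩])))) (BT.node (nat_lit 3830) (BT.node (nat_lit 3829) (BT.leaf (.inv (nat_lit 3827))) (BT.leaf (.rel (nat_lit 3825) (nat_lit 1) [(nat_lit 392), (nat_lit 813)] [⟨(nat_lit 1964), [(nat_lit 2259)], [(nat_lit 587), (nat_lit 1410)]⟩]))) (BT.node (nat_lit 3831) (BT.leaf (.inv (nat_lit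 3829))) (BT.leaf (.rel (nat_lit 3800) (nat_lit 4) [(nat_lit 281), (nat_lit 367)] [⟨(nat_lit 2918), [(nat_lit 935)], [(nat_lit 254), (nat_lit 974)]⟩, ⟨(nat_lit 3155), [(nat_lit 2237)], [(nat_lit 96), (nat_lit 684)]⟩]))))) (BT.node (nat_lit 3836) (BT.node (nat_lit 3834) (BT.node (nat_lit 3833) (BT.leaf (.inv (nat_lit 3831))) (BT.leaf (.rel (nat_lit 3786) (nat_lit 0) [(nat_lit 970), (nat_lit 969)] [⟨(nat_lit 1335), [(nat_lit 935)], [(nat_lit 695), (nat_lit 173)]⟩]))) (BT.node (nat_lit 3835) (BT.leaf (.inv (nat_lit 3833))) (BT.leaf (.rel (nat_lit 3708) (nat_lit 5) [(nat_lit 826), (nat_lit 875)] [⟨(nat_lit 2014), [(nat_lit 935)], [(nat_lit 1027), (nat_lit 439)]⟩, ⟨(nat_lit 2008), [], [(nat_lit 461), (nat_lit 740)]⟩])))) (BT.node (nat_lit 3838) (BT.node (nat_lit 3837) (BT.leaf (.inv (nat_lit 3835))) (BT.leaf (.rel (nat_lit 3776) (nat_lit 3) [(nat_lit 508),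 (nat_lit 432)] [⟨(nat_lit 3480), [(nat_lit 3766)], [(nat_lit 166), (nat_lit 472)]⟩, ⟨(nat_lit 3712), [(nat_lit 775)], [(nat_lit 502), (nat_lit 1)]⟩]))) (BT.node (nat_lit 3839) (BT.leaf (.inv (nat_lit 3837))) (BT.leaf (.emul [(nat_lit 3215), (nat_lit 3766)]))))))))
noncomputable def cF3840 : BT Fc := (BT.node (nat_lit 3872) (BT.node (nat_lit 3856) (BT.node (nat_lit 3848) (BT.node (nat_lit 3844) (BT.node (nat_lit 3842) (BT.node (nat_lit 3841) (BT.leaf ⟨(nat_lit 3), (nat_lit 13), (nat_lit 13), (nat_lit 0x16a2f42d2bd57b1577e84cb3a263c3d), (nat_lit 0x6be9793f25d9a493db1256e5897b70), (nat_lit 0)⟩) (BT.leaf ⟨(nat_lit 3), (nat_lit 9), (nat_lit 13), (nat_lit 0xceb9c73ec75ca83e3a45a560f77f32), (nat_lit 0x16c417cc7c2a4ac9713fcd249c7d12d), (nat_lit 0)⟩)) (BT.node (nat_lit 3843) (BT.leaf ⟨(nat_lit 3), (nat_lit 13), (nat_lit 9), (nat_lit 0x16c417cc7c2a4ac9713fcd249c7d12d),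 (nat_lit 0xceb9c73ec75ca83e3a45a560f77f32), (nat_lit 0)⟩) (BT.leaf ⟨(nat_lit 3), (nat_lit 13), (nat_lit 7), (nat_lit 0x56bc877d7e6b8de1b63a2f365f1a36), (nat_lit 0x1df5f1ae38dd45e5295a746fadf13e7), (nat_lit 0)⟩))) (BT.node (nat_lit 3846) (BT.node (nat_lit 3845) (BT.leaf ⟨(nat_lit 3), (nat_lit 7), (nat_lit 13), (nat_lit 0x1df5f1ae38dd45e5295a746fadf13e7), (nat_lit 0x56bc877d7e6b8de1b63a2f365f1a36), (nat_lit 0)⟩) (BT.leaf ⟨(nat_lit 3), (nat_lit 7), (nat_lit 13), (nat_lit 0x1572d892d98ecbcd79271f5a8bed82f), (nat_lit 0xe2b2f9bcc58dc12f257ba497e8cfb7), (nat_lit 0)⟩)) (BT.node (nat_lit 3847) (BT.leaf ⟨(nat_lit 3), (nat_lit 13), (nat_lit 7), (nat_lit 0xe2b2f9bcc58dc12f257ba497e8cfb7), (nat_lit 0x1572d892d98ecbcd79271f5a8bed82f), (nat_lit 0)⟩) (BT.leaf ⟨(nat_lit 3), (nat_lit 13), (nat_lit 13), (nat_lit 0x2a011023ae01bc7c9c024aeef56f6), (nat_lit 0x7d4ea2363ae557498fa71569b90c3d),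 (nat_lit 0)⟩)))) (BT.node (nat_lit 3852) (BT.node (nat_lit 3850) (BT.node (nat_lit 3849) (BT.leaf ⟨(nat_lit 3), (nat_lit 13), (nat_lit 9), (nat_lit 0x19a69792f24e6bdb812bb625bdcb2cc), (nat_lit 0x97638812006408ebef657601b9c402), (nat_lit 0)⟩) (BT.leaf ⟨(nat_lit 3), (nat_lit 9), (nat_lit 13), (nat_lit 0x97638812006408ebef657601b9c402), (nat_lit 0x19a69792f24e6bdb812bb625bdcb2cc), (nat_lit 0)⟩)) (BT.node (nat_lit 3851) (BT.leaf ⟨(nat_lit 3), (nat_lit 13), (nat_lit 7), (nat_lit 0x11c52e90257610801ef600c0880512d), (nat_lit 0x11c4eb8030040292ef44939e3c11042), (nat_lit 0)⟩) (BT.leaf ⟨(nat_lit 3), (nat_lit 7), (nat_lit 13), (nat_lit 0x11c4eb8030040292ef44939e3c11042), (nat_lit 0x11c52e90257610801ef600c0880512d), (nat_lit 0)⟩))) (BT.node (nat_lit 3854) (BT.node (nat_lit 3853) (BT.leaf ⟨(nat_lit 3), (nat_lit 13), (nat_lit 7), (nat_lit 0x1fa10420460080900a107aaa011032f),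 (nat_lit 0x1eb5ff313197e172c7894cb1b8bcf0d), (nat_lit 0)⟩) (BT.leaf ⟨(nat_lit 3), (nat_lit 7), (nat_lit 13), (nat_lit 0x1eb5ff313197e172c7894cb1b8bcf0d), (nat_lit 0x1fa10420460080900a107aaa011032f), (nat_lit 0)⟩)) (BT.node (nat_lit 3855) (BT.leaf ⟨(nat_lit 3), (nat_lit 13), (nat_lit 7), (nat_lit 0xce9d2732e35cab1d73be7185777b49), (nat_lit 0xfafa700a81125958927df80a00c47b), (nat_lit 0)⟩) (BT.leaf ⟨(nat_lit 3), (nat_lit 7), (nat_lit 13), (nat_lit 0xfafa700a81125958927df80a00c47b), (nat_lit 0xce9d2732e35cab1d73be7185777b49), (nat_lit 0)⟩))))) (BT.node (nat_lit 3864) (BT.node (nat_lit 3860) (BT.node (nat_lit 3858) (BT.node (nat_lit 3857) (BT.leaf ⟨(nat_lit 3), (nat_lit 13), (nat_lit 7), (nat_lit 0x18b12fa1f5bf46760a4f1cc9792dfb7), (nat_lit 0x18b28ca1f4bf97dc525b6be93eb2fb7), (nat_lit 0)⟩) (BT.leaf ⟨(nat_lit 3), (nat_lit 7), (nat_lit 13), (nat_lit 0x18b28ca1f4bf97dc525b6be93eb2fb7),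 (nat_lit 0x18b12fa1f5bf46760a4f1cc9792dfb7), (nat_lit 0)⟩)) (BT.node (nat_lit 3859) (BT.leaf ⟨(nat_lit 3), (nat_lit 11), (nat_lit 13), (nat_lit 0xa36a5c8140880124be044a67d690f), (nat_lit 0xb30de3e27c68da8bbe17cfe40ad4a5), (nat_lit 0)⟩) (BT.leaf ⟨(nat_lit 3), (nat_lit 13), (nat_lit 11), (nat_lit 0xb30de3e27c68da8bbe17cfe40ad4a5), (nat_lit 0xa36a5c8140880124be044a67d690f), (nat_lit 0)⟩))) (BT.node (nat_lit 3862) (BT.node (nat_lit 3861) (BT.leaf ⟨(nat_lit 3), (nat_lit 13), (nat_lit 7), (nat_lit 0x17e132ce82ecabaf49e887b6a0cdcc7), (nat_lit 0x99746d8d71affbc78b7f131bbc66a2), (nat_lit 0)⟩) (BT.leaf ⟨(nat_lit 3), (nat_lit 7), (nat_lit 13), (nat_lit 0x99746d8d71affbc78b7f131bbc66a2), (nat_lit 0x17e132ce82ecabaf49e887b6a0cdcc7), (nat_lit 0)⟩)) (BT.node (nat_lit 3863) (BT.leaf ⟨(nat_lit 3), (nat_lit 13), (nat_lit 7), (nat_lit 0x1e7746ea2f191b989dd22f2ffbc7d34),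 (nat_lit 0x8e5cb6b9772a645cecabfeac55e95a), (nat_lit 0)⟩) (BT.leaf ⟨(nat_lit 3), (nat_lit 7), (nat_lit 13), (nat_lit 0x8e5cb6b9772a645cecabfeac55e95a), (nat_lit 0x1e7746ea2f191b989dd22f2ffbc7d34), (nat_lit 0)⟩)))) (BT.node (nat_lit 3868) (BT.node (nat_lit 3866) (BT.node (nat_lit 3865) (BT.leaf ⟨(nat_lit 3), (nat_lit 7), (nat_lit 13), (nat_lit 0x800402b93aaf8c044008e727801001), (nat_lit 0x4ae63e1525fa89b839621ff6d97d2f), (nat_lit 0)⟩) (BT.leaf ⟨(nat_lit 3), (nat_lit 13), (nat_lit 7), (nat_lit 0x4ae63e1525fa89b839621ff6d97d2f), (nat_lit 0x800402b93aaf8c044008e727801001), (nat_lit 0)⟩)) (BT.node (nat_lit 3867) (BT.leaf ⟨(nat_lit 3), (nat_lit 13), (nat_lit 7), (nat_lit 0x1a784f49c83ce924b26ab6327aa5b13), (nat_lit 0x13a132b1cfd0abad45e9b91edef05ec), (nat_lit 0)⟩) (BT.leaf ⟨(nat_lit 3), (nat_lit 7), (nat_lit 13), (nat_lit 0x13a132b1cfd0abad45e9b91edef05ec),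 (nat_lit 0x1a784f49c83ce924b26ab6327aa5b13), (nat_lit 0)⟩))) (BT.node (nat_lit 3870) (BT.node (nat_lit 3869) (BT.leaf ⟨(nat_lit 3), (nat_lit 13), (nat_lit 7), (nat_lit 0x10204f7e3cbed18f44048401ce0038d), (nat_lit 0x1bd3c68408000055ca5f011278ea880), (nat_lit 0)⟩) (BT.leaf ⟨(nat_lit 3), (nat_lit 7), (nat_lit 13), (nat_lit 0x1bd3c68408000055ca5f011278ea880), (nat_lit 0x10204f7e3cbed18f44048401ce0038d), (nat_lit 0)⟩)) (BT.node (nat_lit 3871) (BT.leaf ⟨(nat_lit 3), (nat_lit 13), (nat_lit 9), (nat_lit 0x5f192f08097c0278de8c200011d5), (nat_lit 0x15199af4455d46652bd8c8d7ffa1766), (nat_lit 0)⟩) (BT.leaf ⟨(nat_lit 3), (nat_lit 9), (nat_lit 13), (nat_lit 0x15199af4455d46652bd8c8d7ffa1766), (nat_lit 0x5f192f08097c0278de8c200011d5), (nat_lit 0)⟩)))))) (BT.node (nat_lit 3888) (BT.node (nat_lit 3880) (BT.node (nat_lit 3876) (BT.node (nat_lit 3874) (BT.node (nat_lit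 3873) (BT.leaf ⟨(nat_lit 3), (nat_lit 13), (nat_lit 12), (nat_lit 0x7540874610010239de804127801004), (nat_lit 0x21040480180b7fe34f32aa6bf3a0a0), (nat_lit 0)⟩) (BT.leaf ⟨(nat_lit 3), (nat_lit 12), (nat_lit 13), (nat_lit 0x21040480180b7fe34f32aa6bf3a0a0), (nat_lit 0x7540874610010239de804127801004), (nat_lit 0)⟩)) (BT.node (nat_lit 3875) (BT.leaf ⟨(nat_lit 3), (nat_lit 13), (nat_lit 7), (nat_lit 0x160c5caa9576ee62695aea2ae5b62f9), (nat_lit 0x1bbf9907cb078ea9d73ee75c6b9df38), (nat_lit 0)⟩) (BT.leaf ⟨(nat_lit 3), (nat_lit 7), (nat_lit 13), (nat_lit 0x1bbf9907cb078ea9d73ee75c6b9df38), (nat_lit 0x160c5caa9576ee62695aea2ae5b62f9), (nat_lit 0)⟩))) (BT.node (nat_lit 3878) (BT.node (nat_lit 3877) (BT.leaf ⟨(nat_lit 3), (nat_lit 13), (nat_lit 13), (nat_lit 0x1f6f3a4abfe8c727a6f489bbd543eb4), (nat_lit 0x18e817ce81aa411802e3202ee4a0110), (nat_lit 0)⟩) (BT.leaf ⟨(nat_lit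 3), (nat_lit 7), (nat_lit 13), (nat_lit 0xb7f2f9bcf6e97c2fb8a4fe3992ba5d), (nat_lit 0x7a3f1c0880304202600baa279c6873), (nat_lit 0)⟩)) (BT.node (nat_lit 3879) (BT.leaf ⟨(nat_lit 3), (nat_lit 13), (nat_lit 7), (nat_lit 0x7a3f1c0880304202600baa279c6873), (nat_lit 0xb7f2f9bcf6e97c2fb8a4fe3992ba5d), (nat_lit 0)⟩) (BT.leaf ⟨(nat_lit 3), (nat_lit 13), (nat_lit 11), (nat_lit 0x1400900d5220c02cf6466be40080e3a), (nat_lit 0x403a30804be009003e33aa0437a12f), (nat_lit 0)⟩)))) (BT.node (nat_lit 3884) (BT.node (nat_lit 3882) (BT.node (nat_lit 3881) (BT.leaf ⟨(nat_lit 3), (nat_lit 11), (nat_lit 13), (nat_lit 0x403a30804be009003e33aa0437a12f), (nat_lit 0x1400900d5220c02cf6466be40080e3a), (nat_lit 0)⟩) (BT.leaf ⟨(nat_lit 3), (nat_lit 13), (nat_lit 8), (nat_lit 0x197d9d400810d1a8052f8030104f1e8), (nat_lit 0x126a0f5b1939259ec4be9bc5dacf09e), (nat_lit 0)⟩)) (BT.node (nat_lit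 3883) (BT.leaf ⟨(nat_lit 3), (nat_lit 8), (nat_lit 13), (nat_lit 0x126a0f5b1939259ec4be9bc5dacf09e), (nat_lit 0x197d9d400810d1a8052f8030104f1e8), (nat_lit 0)⟩) (BT.leaf ⟨(nat_lit 3), (nat_lit 7), (nat_lit 13), (nat_lit 0x1bd008746081cea398010057a12fc00), (nat_lit 0xfce3777d3c6f9df12366c6568de4d9), (nat_lit 0)⟩))) (BT.node (nat_lit 3886) (BT.node (nat_lit 3885) (BT.leaf ⟨(nat_lit 3), (nat_lit 13), (nat_lit 7), (nat_lit 0xfce3777d3c6f9df12366c6568de4d9), (nat_lit 0x1bd008746081cea398010057a12fc00), (nat_lit 0)⟩) (BT.leaf ⟨(nat_lit 3), (nat_lit 7), (nat_lit 13), (nat_lit 0x6546af216d9a4eeaeefa96774eac3d), (nat_lit 0x440e281149f239f9aa90a1d5b72210), (nat_lit 0)⟩)) (BT.node (nat_lit 3887) (BT.leaf ⟨(nat_lit 3), (nat_lit 13), (nat_lit 7), (nat_lit 0x440e281149f239f9aa90a1d5b72210), (nat_lit 0x6546af216d9a4eeaeefa96774eac3d), (nat_lit 0)⟩) (BT.leaf ⟨(nat_lit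 3), (nat_lit 7), (nat_lit 13), (nat_lit 0xaf5f3c9a00896e0200ce7de2403104), (nat_lit 0x11c808f470037a77ac9f042f889725e), (nat_lit 0)⟩))))) (BT.node (nat_lit 3896) (BT.node (nat_lit 3892) (BT.node (nat_lit 3890) (BT.node (nat_lit 3889) (BT.leaf ⟨(nat_lit 3), (nat_lit 13), (nat_lit 7), (nat_lit 0x11c808f470037a77ac9f042f889725e), (nat_lit 0xaf5f3c9a00896e0200ce7de2403104), (nat_lit 0)⟩) (BT.leaf ⟨(nat_lit 3), (nat_lit 13), (nat_lit 9), (nat_lit 0x169b39c719e71ca1999bc591ee29d73), (nat_lit 0x1bbf2c5a62aba4eea8fa46ce28ee9c5), (nat_lit 0)⟩)) (BT.node (nat_lit 3891) (BT.leaf ⟨(nat_lit 3), (nat_lit 9), (nat_lit 13), (nat_lit 0x1bbf2c5a62aba4eea8fa46ce28ee9c5), (nat_lit 0x169b39c719e71ca1999bc591ee29d73), (nat_lit 0)⟩) (BT.leaf ⟨(nat_lit 3), (nat_lit 13), (nat_lit 7), (nat_lit 0x801827ff5bb5030022ecc0925f220), (nat_lit 0xe37f1c08801043006b98807a04f33a), (nat_lit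 0)⟩))) (BT.node (nat_lit 3894) (BT.node (nat_lit 3893) (BT.leaf ⟨(nat_lit 3), (nat_lit 7), (nat_lit 13), (nat_lit 0xe37f1c08801043006b98807a04f33a), (nat_lit 0x801827ff5bb5030022ecc0925f220), (nat_lit 0)⟩) (BT.leaf ⟨(nat_lit 3), (nat_lit 13), (nat_lit 13), (nat_lit 0xa1f726f0dedad17a6d44d5bd4e7721), (nat_lit 0x13cf86b631086bcc02801022033a088), (nat_lit 0)⟩)) (BT.node (nat_lit 3895) (BT.leaf ⟨(nat_lit 3), (nat_lit 7), (nat_lit 13), (nat_lit 0x1d1ea33d8e8d9a5a3742e89d5affe46), (nat_lit 0x1bd36a6e4ce8c737aef65e9c875a4ab), (nat_lit 0)⟩) (BT.leaf ⟨(nat_lit 3), (nat_lit 13), (nat_lit 7), (nat_lit 0x1bd36a6e4ce8c737aef65e9c875a4ab), (nat_lit 0x1d1ea33d8e8d9a5a3742e89d5affe46), (nat_lit 0)⟩)))) (BT.node (nat_lit 3900) (BT.node (nat_lit 3898) (BT.node (nat_lit 3897) (BT.leaf ⟨(nat_lit 3), (nat_lit 13), (nat_lit 7), (nat_lit 0x442cf3b96bfa3484180ae635417e3a),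 (nat_lit 0x8da1ed4b1aa775c51d5d27698ea1f5), (nat_lit 0)⟩) (BT.leaf ⟨(nat_lit 3), (nat_lit 7), (nat_lit 13), (nat_lit 0x8da1ed4b1aa775c51d5d27698ea1f5), (nat_lit 0x442cf3b96bfa3484180ae635417e3a), (nat_lit 0)⟩)) (BT.node (nat_lit 3899) (BT.leaf ⟨(nat_lit 3), (nat_lit 13), (nat_lit 3), (nat_lit 0x11dc427893a20512df420884124d00c), (nat_lit 0x27b0042080510240404674e36807e3), (nat_lit 0)⟩) (BT.leaf ⟨(nat_lit 3), (nat_lit 3), (nat_lit 13), (nat_lit 0x27b0042080510240404674e36807e3), (nat_lit 0x11dc427893a20512df420884124d00c), (nat_lit 0)⟩))) (BT.node (nat_lit 3902) (BT.node (nat_lit 3901) (BT.leaf ⟨(nat_lit 3), (nat_lit 13), (nat_lit 9), (nat_lit 0x167bfa35f7725031d68d204480c04e8), (nat_lit 0x2063949fe76f881080157000e00805), (nat_lit 0)⟩) (BT.leaf ⟨(nat_lit 3), (nat_lit 9), (nat_lit 13), (nat_lit 0x2063949fe76f881080157000e00805), (nat_lit 0x167bfa35f7725031d68d204480c04e8),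 (nat_lit 0)⟩)) (BT.node (nat_lit 3903) (BT.leaf ⟨(nat_lit 3), (nat_lit 13), (nat_lit 11), (nat_lit 0x7464d01400a09202477bd9d0842104), (nat_lit 0x1cfb8d72ae701f1d20b7a75ceb994d9), (nat_lit 0)⟩) (BT.leaf ⟨(nat_lit 3), (nat_lit 11), (nat_lit 13), (nat_lit 0x1cfb8d72ae701f1d20b7a75ceb994d9), (nat_lit 0x7464d01400a09202477bd9d0842104), (nat_lit 0)⟩)))))))
noncomputable def cP3840 : BT Pf := (BT.node (nat_lit 3872) (BT.node (nat_lit 3856) (BT.node (nat_lit 3848) (BT.node (nat_lit 3844) (BT.node (nat_lit 3842) (BT.node (nat_lit 3841) (BT.leaf (.rel (nat_lit 3825) (nat_lit 5) [(nat_lit 406), (nat_lit 504)] [⟨(nat_lit 3293), [(nat_lit 2524)], [(nat_lit 151), (nat_lit 91)]⟩, ⟨(nat_lit 3816), [(nat_lit 3839)], [(nat_lit 827), (nat_lit 647)]⟩])) (BT.leaf (.rel (nat_lit 3718) (nat_lit 5) [(nat_lit 550), (nat_lit 142)] [⟨(nat_lit 2786), [(nat_lit 2549)], [(nat_lit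 255), (nat_lit 223)]⟩, ⟨(nat_lit 3163), [(nat_lit 775)], [(nat_lit 1337), (nat_lit 605)]⟩]))) (BT.node (nat_lit 3843) (BT.leaf (.inv (nat_lit 3841))) (BT.leaf (.rel (nat_lit 2998) (nat_lit 5) [(nat_lit 164), (nat_lit 224)] [⟨(nat_lit 2917), [(nat_lit 2167)], [(nat_lit 942), (nat_lit 362)]⟩, ⟨(nat_lit 3787), [(nat_lit 775)], [(nat_lit 618), (nat_lit 108)]⟩])))) (BT.node (nat_lit 3846) (BT.node (nat_lit 3845) (BT.leaf (.inv (nat_lit 3843))) (BT.leaf (.rel (nat_lit 3717) (nat_lit 1) [(nat_lit 429), (nat_lit 0)] [⟨(nat_lit 1585), [(nat_lit 775)], [(nat_lit 393), (nat_lit 877)]⟩]))) (BT.node (nat_lit 3847) (BT.leaf (.inv (nat_lit 3845))) (BT.leaf (.rel (nat_lit 3795) (nat_lit 3) [(nat_lit 461), (nat_lit 512)] [⟨(nat_lit 1005), [(nat_lit 935)], [(nat_lit 503), (nat_lit 225)]⟩, ⟨(nat_lit 3794), [(nat_lit 775)], [(nat_lit 254), (nat_lit 328)]⟩]))))) (BT.node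 (nat_lit 3852) (BT.node (nat_lit 3850) (BT.node (nat_lit 3849) (BT.leaf (.rel (nat_lit 2707) (nat_lit 1) [(nat_lit 461), (nat_lit 235)] [⟨(nat_lit 3714), [(nat_lit 2181)], [(nat_lit 764), (nat_lit 693)]⟩])) (BT.leaf (.inv (nat_lit 3848)))) (BT.node (nat_lit 3851) (BT.leaf (.rel (nat_lit 1145) (nat_lit 0) [(nat_lit 152), (nat_lit 1)] [⟨(nat_lit 3709), [(nat_lit 775)], [(nat_lit 445), (nat_lit 737)]⟩])) (BT.leaf (.inv (nat_lit 3850))))) (BT.node (nat_lit 3854) (BT.node (nat_lit 3853) (BT.leaf (.rel (nat_lit 1407) (nat_lit 0) [(nat_lit 167), (nat_lit 1109)] [⟨(nat_lit 3829), [(nat_lit 775)], [(nat_lit 259), (nat_lit 1472)]⟩])) (BT.leaf (.inv (nat_lit 3852)))) (BT.node (nat_lit 3855) (BT.leaf (.rel (nat_lit 3489) (nat_lit 0) [(nat_lit 423), (nat_lit 606)] [⟨(nat_lit 3817), [(nat_lit 3724)], [(nat_lit 487), (nat_lit 379)]⟩])) (BT.leaf (.inv (nat_lit 3854)))))))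 (BT.node (nat_lit 3864) (BT.node (nat_lit 3860) (BT.node (nat_lit 3858) (BT.node (nat_lit 3857) (BT.leaf (.rel (nat_lit 1944) (nat_lit 4) [(nat_lit 1437), (nat_lit 880)] [⟨(nat_lit 1977), [(nat_lit 2259)], [(nat_lit 492), (nat_lit 530)]⟩, ⟨(nat_lit 3829), [(nat_lit 775)], [(nat_lit 257), (nat_lit 440)]⟩])) (BT.leaf (.inv (nat_lit 3856)))) (BT.node (nat_lit 3859) (BT.leaf (.rel (nat_lit 3803) (nat_lit 1) [(nat_lit 488), (nat_lit 247)] [⟨(nat_lit 3280), [(nat_lit 2311)], [(nat_lit 1201), (nat_lit 892)]⟩])) (BT.leaf (.inv (nat_lit 3858))))) (BT.node (nat_lit 3862) (BT.node (nat_lit 3861) (BT.leaf (.rel (nat_lit 2073) (nat_lit 5) [(nat_lit 913), (nat_lit 625)] [⟨(nat_lit 1850), [(nat_lit 2075)], [(nat_lit 447), (nat_lit 974)]⟩, ⟨(nat_lit 3835), [(nat_lit 775)], [(nat_lit 468), (nat_lit 1226)]⟩])) (BT.leaf (.inv (nat_lit 3860)))) (BT.node (nat_lit 3863)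 (BT.leaf (.rel (nat_lit 3314) (nat_lit 0) [(nat_lit 1041), (nat_lit 170)] [⟨(nat_lit 3750), [(nat_lit 3839)], [(nat_lit 569), (nat_lit 1503)]⟩])) (BT.leaf (.inv (nat_lit 3862)))))) (BT.node (nat_lit 3868) (BT.node (nat_lit 3866) (BT.node (nat_lit 3865) (BT.leaf (.rel (nat_lit 3862) (nat_lit 5) [(nat_lit 905), (nat_lit 700)] [⟨(nat_lit 3112), [], [(nat_lit 216), (nat_lit 269)]⟩, ⟨(nat_lit 2309), [(nat_lit 2167)], [(nat_lit 928), (nat_lit 500)]⟩])) (BT.leaf (.inv (nat_lit 3864)))) (BT.node (nat_lit 3867) (BT.leaf (.rel (nat_lit 1608) (nat_lit 4) [(nat_lit 629), (nat_lit 401)] [⟨(nat_lit 1632), [(nat_lit 750)], [(nat_lit 376), (nat_lit 1247)]⟩, ⟨(nat_lit 3861), [], [(nat_lit 629), (nat_lit 906)]⟩])) (BT.leaf (.inv (nat_lit 3866))))) (BT.node (nat_lit 3870) (BT.node (nat_lit 3869) (BT.leaf (.rel (nat_lit 931) (nat_lit 2) [(nat_lit 619), (nat_lit 557)]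 [⟨(nat_lit 2217), [(nat_lit 961)], [(nat_lit 522), (nat_lit 870)]⟩, ⟨(nat_lit 3813), [], [(nat_lit 587), (nat_lit 525)]⟩])) (BT.leaf (.inv (nat_lit 3868)))) (BT.node (nat_lit 3871) (BT.leaf (.rel (nat_lit 3025) (nat_lit 2) [(nat_lit 381), (nat_lit 968)] [⟨(nat_lit 2339), [], [(nat_lit 503), (nat_lit 868)]⟩, ⟨(nat_lit 3761), [(nat_lit 775)], [(nat_lit 211), (nat_lit 1410)]⟩])) (BT.leaf (.inv (nat_lit 3870)))))))) (BT.node (nat_lit 3888) (BT.node (nat_lit 3880) (BT.node (nat_lit 3876) (BT.node (nat_lit 3874) (BT.node (nat_lit 3873) (BT.leaf (.rel (nat_lit 3610) (nat_lit 4) [(nat_lit 550), (nat_lit 124)] [⟨(nat_lit 1931), [(nat_lit 692)], [(nat_lit 977), (nat_lit 319)]⟩, ⟨(nat_lit 3739), [], [(nat_lit 461), (nat_lit 880)]⟩])) (BT.leaf (.inv (nat_lit 3872)))) (BT.node (nat_lit 3875) (BT.leaf (.rel (nat_lit 1603) (nat_lit 0) [(nat_lit 359), (nat_lit 108)]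 [⟨(nat_lit 3855), [], [(nat_lit 241), (nat_lit 1279)]⟩])) (BT.leaf (.inv (nat_lit 3874))))) (BT.node (nat_lit 3878) (BT.node (nat_lit 3877) (BT.leaf (.rel (nat_lit 3809) (nat_lit 3) [(nat_lit 551), (nat_lit 530)] [⟨(nat_lit 2591), [(nat_lit 2413)], [(nat_lit 942), (nat_lit 818)]⟩, ⟨(nat_lit 3845), [], [(nat_lit 492), (nat_lit 593)]⟩])) (BT.leaf (.rel (nat_lit 3822) (nat_lit 1) [(nat_lit 827), (nat_lit 868)] [⟨(nat_lit 2347), [(nat_lit 2311)], [(nat_lit 423), (nat_lit 676)]⟩]))) (BT.node (nat_lit 3879) (BT.leaf (.inv (nat_lit 3877))) (BT.leaf (.rel (nat_lit 3466) (nat_lit 2) [(nat_lit 747), (nat_lit 172)] [⟨(nat_lit 1496), [(nat_lit 935)], [(nat_lit 1201), (nat_lit 475)]⟩, ⟨(nat_lit 3736), [(nat_lit 935)], [(nat_lit 1218), (nat_lit 294)]⟩]))))) (BT.node (nat_lit 3884) (BT.node (nat_lit 3882) (BT.node (nat_lit 3881) (BT.leaf (.inv (nat_lit 3879))) (BT.leaf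 (.rel (nat_lit 1905) (nat_lit 1) [(nat_lit 550), (nat_lit 651)] [⟨(nat_lit 3799), [(nat_lit 775)], [(nat_lit 871), (nat_lit 597)]⟩]))) (BT.node (nat_lit 3883) (BT.leaf (.inv (nat_lit 3881))) (BT.leaf (.rel (nat_lit 3718) (nat_lit 5) [(nat_lit 416), (nat_lit 89)] [⟨(nat_lit 2799), [(nat_lit 2413)], [(nat_lit 462), (nat_lit 334)]⟩, ⟨(nat_lit 2741), [], [(nat_lit 1087), (nat_lit 384)]⟩])))) (BT.node (nat_lit 3886) (BT.node (nat_lit 3885) (BT.leaf (.inv (nat_lit 3883))) (BT.leaf (.rel (nat_lit 3828) (nat_lit 5) [(nat_lit 257), (nat_lit 652)] [⟨(nat_lit 1930), [(nat_lit 775)], [(nat_lit 941), (nat_lit 1009)]⟩, ⟨(nat_lit 2008), [(nat_lit 2210)], [(nat_lit 462), (nat_lit 1871)]⟩]))) (BT.node (nat_lit 3887) (BT.leaf (.inv (nat_lit 3885))) (BT.leaf (.rel (nat_lit 3828) (nat_lit 2) [(nat_lit 493), (nat_lit 401)] [⟨(nat_lit 1795), [(nat_lit 775)], [(nat_lit 883),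 (nat_lit 864)]⟩, ⟨(nat_lit 1221), [], [(nat_lit 295), (nat_lit 606)]⟩])))))) (BT.node (nat_lit 3896) (BT.node (nat_lit 3892) (BT.node (nat_lit 3890) (BT.node (nat_lit 3889) (BT.leaf (.inv (nat_lit 3887))) (BT.leaf (.rel (nat_lit 3243) (nat_lit 5) [(nat_lit 587), (nat_lit 956)] [⟨(nat_lit 3444), [(nat_lit 3223)], [(nat_lit 759), (nat_lit 1605)]⟩, ⟨(nat_lit 3806), [(nat_lit 935)], [(nat_lit 582), (nat_lit 604)]⟩]))) (BT.node (nat_lit 3891) (BT.leaf (.inv (nat_lit 3889))) (BT.leaf (.rel (nat_lit 3507) (nat_lit 2) [(nat_lit 451), (nat_lit 1021)] [⟨(nat_lit 3229), [(nat_lit 3725)], [(nat_lit 1102), (nat_lit 369)]⟩, ⟨(nat_lit 3871), [(nat_lit 2549)], [(nat_lit 357), (nat_lit 367)]⟩])))) (BT.node (nat_lit 3894) (BT.node (nat_lit 3893) (BT.leaf (.inv (nat_lit 3891))) (BT.leaf (.rel (nat_lit 3818) (nat_lit 3) [(nat_lit 358), (nat_lit 225)] [⟨(nat_lit 3504),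 [(nat_lit 3839)], [(nat_lit 360), (nat_lit 563)]⟩, ⟨(nat_lit 3883), [(nat_lit 935)], [(nat_lit 928), (nat_lit 1091)]⟩]))) (BT.node (nat_lit 3895) (BT.leaf (.rel (nat_lit 3795) (nat_lit 5) [(nat_lit 380), (nat_lit 878)] [⟨(nat_lit 1262), [(nat_lit 775)], [(nat_lit 92), (nat_lit 1203)]⟩, ⟨(nat_lit 1122), [(nat_lit 775)], [(nat_lit 404), (nat_lit 533)]⟩])) (BT.leaf (.inv (nat_lit 3894)))))) (BT.node (nat_lit 3900) (BT.node (nat_lit 3898) (BT.node (nat_lit 3897) (BT.leaf (.rel (nat_lit 3342) (nat_lit 4) [(nat_lit 928), (nat_lit 384)] [⟨(nat_lit 3402), [(nat_lit 3215)], [(nat_lit 196), (nat_lit 593)]⟩, ⟨(nat_lit 3775), [], [(nat_lit 296), (nat_lit 287)]⟩])) (BT.leaf (.inv (nat_lit 3896)))) (BT.node (nat_lit 3899) (BT.leaf (.rel (nat_lit 934) (nat_lit 3) [(nat_lit 423), (nat_lit 624)] [⟨(nat_lit 1487), [], [(nat_lit 492), (nat_lit 379)]⟩, ⟨(nat_lit 3787),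 [(nat_lit 775)], [(nat_lit 689), (nat_lit 1001)]⟩])) (BT.leaf (.inv (nat_lit 3898))))) (BT.node (nat_lit 3902) (BT.node (nat_lit 3901) (BT.leaf (.rel (nat_lit 2774) (nat_lit 1) [(nat_lit 953), (nat_lit 512)] [⟨(nat_lit 3738), [(nat_lit 457)], [(nat_lit 336), (nat_lit 460)]⟩])) (BT.leaf (.inv (nat_lit 3900)))) (BT.node (nat_lit 3903) (BT.leaf (.rel (nat_lit 3540) (nat_lit 5) [(nat_lit 840), (nat_lit 580)] [⟨(nat_lit 3252), [(nat_lit 3264)], [(nat_lit 1174), (nat_lit 627)]⟩, ⟨(nat_lit 3827), [(nat_lit 775)], [(nat_lit 356), (nat_lit 877)]⟩])) (BT.leaf (.inv (nat_lit 3902)))))))))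
noncomputable def cF3904 : BT Fc := (BT.node (nat_lit 3936) (BT.node (nat_lit 3920) (BT.node (nat_lit 3912) (BT.node (nat_lit 3908) (BT.node (nat_lit 3906) (BT.node (nat_lit 3905) (BT.leaf ⟨(nat_lit 3), (nat_lit 13), (nat_lit 9), (nat_lit 0xd8e52c6e9b2f84ad3eb5986f11b3e2), (nat_lit 0x164d789409bc00a47757a032f6044), (nat_lit 0)⟩) (BT.leaf ⟨(nat_lit 3), (nat_lit 9), (nat_lit 13), (nat_lit 0x164d789409bc00a47757a032f6044), (nat_lit 0xd8e52c6e9b2f84ad3eb5986f11b3e2), (nat_lit 0)⟩)) (BT.node (nat_lit 3907) (BT.leaf ⟨(nat_lit 3), (nat_lit 12), (nat_lit 12), (nat_lit 0x1ae6ff8b957713473583552db17ca39), (nat_lit 0x1ae6011e868ce372fd2f82100220404), (nat_lit 0)⟩) (BT.leaf ⟨(nat_lit 3), (nat_lit 7), (nat_lit 13), (nat_lit 0x1b29a4da68e7e4339c5350e1ce79bfe), (nat_lit 0xe8e6cf7d37878de1c6e7ced8e8bacc), (nat_lit 0)⟩))) (BT.node (nat_lit 3910) (BT.node (nat_lit 3909)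 (BT.leaf ⟨(nat_lit 3), (nat_lit 13), (nat_lit 7), (nat_lit 0xe8e6cf7d37878de1c6e7ced8e8bacc), (nat_lit 0x1b29a4da68e7e4339c5350e1ce79bfe), (nat_lit 0)⟩) (BT.leaf ⟨(nat_lit 3), (nat_lit 11), (nat_lit 13), (nat_lit 0x127b13f7d93827a5f3d8d8352e47176), (nat_lit 0x1c6b9dad20f93659d73ee65ceb95349), (nat_lit 0)⟩)) (BT.node (nat_lit 3911) (BT.leaf ⟨(nat_lit 3), (nat_lit 13), (nat_lit 11), (nat_lit 0x1c6b9dad20f93659d73ee65ceb95349), (nat_lit 0x127b13f7d93827a5f3d8d8352e47176), (nat_lit 0)⟩) (BT.leaf ⟨(nat_lit 3), (nat_lit 9), (nat_lit 13), (nat_lit 0x10cfbd0c0e0c104a05a8d6887cca860), (nat_lit 0x169a3947b692cd5ff0edc59b2a31e73), (nat_lit 0)⟩)))) (BT.node (nat_lit 3916) (BT.node (nat_lit 3914) (BT.node (nat_lit 3913) (BT.leaf ⟨(nat_lit 3), (nat_lit 13), (nat_lit 9), (nat_lit 0x169a3947b692cd5ff0edc59b2a31e73), (nat_lit 0x10cfbd0c0e0c104a05a8d6887cca860), (nat_lit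 0)⟩) (BT.leaf ⟨(nat_lit 2), (nat_lit 13), (nat_lit 13), (nat_lit 0xae3a3f3b002014ea3e28e410440803), (nat_lit 0), (nat_lit 0)⟩)) (BT.node (nat_lit 3915) (BT.leaf ⟨(nat_lit 2), (nat_lit 13), (nat_lit 13), (nat_lit 0x243e31af140212b43639e79d040c1e), (nat_lit 0), (nat_lit 0)⟩) (BT.leaf ⟨(nat_lit 3), (nat_lit 11), (nat_lit 13), (nat_lit 0x4bf511af24ff6e63e1572cb3334b70), (nat_lit 0x1b052dcab4bab7eb2e2c4be3992bb5f), (nat_lit 0)⟩))) (BT.node (nat_lit 3918) (BT.node (nat_lit 3917) (BT.leaf ⟨(nat_lit 3), (nat_lit 13), (nat_lit 11), (nat_lit 0x1b052dcab4bab7eb2e2c4be3992bb5f), (nat_lit 0x4bf511af24ff6e63e1572cb3334b70), (nat_lit 0)⟩) (BT.leaf ⟨(nat_lit 2), (nat_lit 13), (nat_lit 13), (nat_lit 0x27a6f59e83da7a4e6274d43b65f49f), (nat_lit 0), (nat_lit 0)⟩)) (BT.node (nat_lit 3919) (BT.leaf ⟨(nat_lit 3), (nat_lit 7), (nat_lit 13), (nat_lit 0x93c28463025ca80813f029043ab6e4),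 (nat_lit 0x2dd89c6ed1bc34bcd3471a32fc2f8c), (nat_lit 0)⟩) (BT.leaf ⟨(nat_lit 3), (nat_lit 13), (nat_lit 7), (nat_lit 0x2dd89c6ed1bc34bcd3471a32fc2f8c), (nat_lit 0x93c28463025ca80813f029043ab6e4), (nat_lit 0)⟩))))) (BT.node (nat_lit 3928) (BT.node (nat_lit 3924) (BT.node (nat_lit 3922) (BT.node (nat_lit 3921) (BT.leaf ⟨(nat_lit 3), (nat_lit 9), (nat_lit 13), (nat_lit 0x66ef45f83d182e63f51bd37a98e5c8), (nat_lit 0x10a4e2bb8e3e3c033e12057aa0100a), (nat_lit 0)⟩) (BT.leaf ⟨(nat_lit 3), (nat_lit 13), (nat_lit 9), (nat_lit 0x10a4e2bb8e3e3c033e12057aa0100a), (nat_lit 0x66ef45f83d182e63f51bd37a98e5c8), (nat_lit 0)⟩)) (BT.node (nat_lit 3923) (BT.leaf ⟨(nat_lit 3), (nat_lit 13), (nat_lit 13), (nat_lit 0xae4ad5ff772ac76575157ae5ac1aa9), (nat_lit 0xaa55ebb917239b653965631357cf51), (nat_lit 0)⟩) (BT.leaf ⟨(nat_lit 3), (nat_lit 13), (nat_lit 13), (nat_lit 0xaa55ebb917239b653965631357cf51),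 (nat_lit 0xae4ad5ff772ac76575157ae5ac1aa9), (nat_lit 0)⟩))) (BT.node (nat_lit 3926) (BT.node (nat_lit 3925) (BT.leaf ⟨(nat_lit 3), (nat_lit 13), (nat_lit 9), (nat_lit 0xc72e47b7337d4532ce8bd8abaf52d2), (nat_lit 0x107876b13a96f624f4beb3d37b60c96), (nat_lit 0)⟩) (BT.leaf ⟨(nat_lit 3), (nat_lit 9), (nat_lit 13), (nat_lit 0x107876b13a96f624f4beb3d37b60c96), (nat_lit 0xc72e47b7337d4532ce8bd8abaf52d2), (nat_lit 0)⟩)) (BT.node (nat_lit 3927) (BT.leaf ⟨(nat_lit 3), (nat_lit 7), (nat_lit 13), (nat_lit 0xf8de1be77c2b8db1bf3c1745fc87e3), (nat_lit 0x169a19f9050f1ca29b358c71dc398ed), (nat_lit 0)⟩) (BT.leaf ⟨(nat_lit 3), (nat_lit 13), (nat_lit 7), (nat_lit 0x169a19f9050f1ca29b358c71dc398ed), (nat_lit 0xf8de1be77c2b8db1bf3c1745fc87e3), (nat_lit 0)⟩)))) (BT.node (nat_lit 3932) (BT.node (nat_lit 3930) (BT.node (nat_lit 3929) (BT.leaf ⟨(nat_lit 3), (nat_lit 13), (nat_lit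 13), (nat_lit 0x1720f45ec2ed7a56926555d7821eb1c), (nat_lit 0x131fa8d68c177a6f02ae4cab4a1edea), (nat_lit 0)⟩) (BT.leaf ⟨(nat_lit 3), (nat_lit 3), (nat_lit 13), (nat_lit 0x6cb7231c89bfd37a4f45e9c85354ab), (nat_lit 0x5e543e74df93d37b6f5a2fc857a6b4), (nat_lit 0)⟩)) (BT.node (nat_lit 3931) (BT.leaf ⟨(nat_lit 3), (nat_lit 13), (nat_lit 3), (nat_lit 0x5e543e74df93d37b6f5a2fc857a6b4), (nat_lit 0x6cb7231c89bfd37a4f45e9c85354ab), (nat_lit 0)⟩) (BT.leaf ⟨(nat_lit 2), (nat_lit 13), (nat_lit 13), (nat_lit 0xb48cdf51bd0996b41e855d6a21edea), (nat_lit 0), (nat_lit 0)⟩))) (BT.node (nat_lit 3934) (BT.node (nat_lit 3933) (BT.leaf ⟨(nat_lit 3), (nat_lit 13), (nat_lit 12), (nat_lit 0x1ad0307cd088e8c604de0825bd20433), (nat_lit 0x5d98e60b55d7a532fe8bd1720f443d), (nat_lit 0)⟩) (BT.leaf ⟨(nat_lit 3), (nat_lit 12), (nat_lit 13), (nat_lit 0x5d98e60b55d7a532fe8bd1720f443d), (nat_lit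 0x1ad0307cd088e8c604de0825bd20433), (nat_lit 0)⟩)) (BT.node (nat_lit 3935) (BT.leaf ⟨(nat_lit 3), (nat_lit 12), (nat_lit 10), (nat_lit 0x196390b6ca967d5ea9553aba4c6a9c5), (nat_lit 0x1467166c137817d2dd6543e97dafa57), (nat_lit 0)⟩) (BT.leaf ⟨(nat_lit 3), (nat_lit 10), (nat_lit 12), (nat_lit 0x1467166c137817d2dd6543e97dafa57), (nat_lit 0x196390b6ca967d5ea9553aba4c6a9c5), (nat_lit 0)⟩)))))) (BT.node (nat_lit 3952) (BT.node (nat_lit 3944) (BT.node (nat_lit 3940) (BT.node (nat_lit 3938) (BT.node (nat_lit 3937) (BT.leaf ⟨(nat_lit 3), (nat_lit 13), (nat_lit 9), (nat_lit 0x1097c96f32b0cfe6840e0c1410fba3), (nat_lit 0x14088210060040488120327d2f5e9), (nat_lit 0)⟩) (BT.leaf ⟨(nat_lit 3), (nat_lit 9), (nat_lit 13), (nat_lit 0x14088210060040488120327d2f5e9), (nat_lit 0x1097c96f32b0cfe6840e0c1410fba3), (nat_lit 0)⟩)) (BT.node (nat_lit 3939) (BT.leaf ⟨(nat_lit 3),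 (nat_lit 13), (nat_lit 13), (nat_lit 0x976e94ab4be93f2fd650bf4652f7b7), (nat_lit 0xfce08011029e763191003093c1813f), (nat_lit 0)⟩) (BT.leaf ⟨(nat_lit 3), (nat_lit 7), (nat_lit 13), (nat_lit 0xfcc9f8308c614108110bf0aa40a72a), (nat_lit 0x2216f8a02aa60040cf3f7421048082), (nat_lit 0)⟩))) (BT.node (nat_lit 3942) (BT.node (nat_lit 3941) (BT.leaf ⟨(nat_lit 3), (nat_lit 13), (nat_lit 7), (nat_lit 0x2216f8a02aa60040cf3f7421048082), (nat_lit 0xfcc9f8308c614108110bf0aa40a72a), (nat_lit 0)⟩) (BT.leaf ⟨(nat_lit 2), (nat_lit 12), (nat_lit 12), (nat_lit 0xa0124bef5bc6a100300409fc11120), (nat_lit 0), (nat_lit 0)⟩)) (BT.node (nat_lit 3943) (BT.leaf ⟨(nat_lit 2), (nat_lit 12), (nat_lit 12), (nat_lit 0x10028033a13d006042f48412035cc04), (nat_lit 0), (nat_lit 0)⟩) (BT.leaf ⟨(nat_lit 2), (nat_lit 12), (nat_lit 12), (nat_lit 0xa004888bc0420043eb811ccba7208), (nat_lit 0),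 (nat_lit 0)⟩)))) (BT.node (nat_lit 3948) (BT.node (nat_lit 3946) (BT.node (nat_lit 3945) (BT.leaf ⟨(nat_lit 3), (nat_lit 7), (nat_lit 13), (nat_lit 0x1d128cf470f9d09a354666bf1b23706), (nat_lit 0xf54f1a01ce68402fe00fd08218069e), (nat_lit 0)⟩) (BT.leaf ⟨(nat_lit 3), (nat_lit 13), (nat_lit 7), (nat_lit 0xf54f1a01ce68402fe00fd08218069e), (nat_lit 0x1d128cf470f9d09a354666bf1b23706), (nat_lit 0)⟩)) (BT.node (nat_lit 3947) (BT.leaf ⟨(nat_lit 2), (nat_lit 13), (nat_lit 13), (nat_lit 0x4090140200610a4e12d01401801082), (nat_lit 0), (nat_lit 0)⟩) (BT.leaf ⟨(nat_lit 2), (nat_lit 13), (nat_lit 13), (nat_lit 0x167a4b09e83c9aa4e3a4d3d26a5f49f), (nat_lit 0), (nat_lit 0)⟩))) (BT.node (nat_lit 3950) (BT.node (nat_lit 3949) (BT.leaf ⟨(nat_lit 3), (nat_lit 9), (nat_lit 13), (nat_lit 0xf63a3744e85467a3f66f8dd5b49b46), (nat_lit 0x604813f02804b956e47e6140e2810), (nat_lit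 0)⟩) (BT.leaf ⟨(nat_lit 3), (nat_lit 13), (nat_lit 9), (nat_lit 0x604813f02804b956e47e6140e2810), (nat_lit 0xf63a3744e85467a3f66f8dd5b49b46), (nat_lit 0)⟩)) (BT.node (nat_lit 3951) (BT.leaf ⟨(nat_lit 3), (nat_lit 13), (nat_lit 7), (nat_lit 0x746ead4b3af960caa362aa775b61d5), (nat_lit 0x75c6ada62aa657779d1715c84e2b6c), (nat_lit 0)⟩) (BT.leaf ⟨(nat_lit 3), (nat_lit 7), (nat_lit 13), (nat_lit 0x75c6ada62aa657779d1715c84e2b6c), (nat_lit 0x746ead4b3af960caa362aa775b61d5), (nat_lit 0)⟩))))) (BT.node (nat_lit 3960) (BT.node (nat_lit 3956) (BT.node (nat_lit 3954) (BT.node (nat_lit 3953) (BT.leaf ⟨(nat_lit 3), (nat_lit 11), (nat_lit 13), (nat_lit 0x1f6c9393fb638556612dd44e599792f), (nat_lit 0xa6410822241721100308a61838d024), (nat_lit 0)⟩) (BT.leaf ⟨(nat_lit 3), (nat_lit 13), (nat_lit 11), (nat_lit 0xa6410822241721100308a61838d024), (nat_lit 0x1f6c9393fb638556612dd44e599792f),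 (nat_lit 0)⟩)) (BT.node (nat_lit 3955) (BT.leaf ⟨(nat_lit 3), (nat_lit 13), (nat_lit 7), (nat_lit 0x160d58e27552db0733b9d94be51cd34), (nat_lit 0x17b39f0240281124d2bd208f9ce8805), (nat_lit 0)⟩) (BT.leaf ⟨(nat_lit 3), (nat_lit 7), (nat_lit 13), (nat_lit 0x17b39f0240281124d2bd208f9ce8805), (nat_lit 0x160d58e27552db0733b9d94be51cd34), (nat_lit 0)⟩))) (BT.node (nat_lit 3958) (BT.node (nat_lit 3957) (BT.leaf ⟨(nat_lit 3), (nat_lit 13), (nat_lit 13), (nat_lit 0x442cf10277241017d006013a0a0108), (nat_lit 0x455c78c00b27c20a01e8f1c810f3b), (nat_lit 0)⟩) (BT.leaf ⟨(nat_lit 3), (nat_lit 7), (nat_lit 13), (nat_lit 0x13679d565c2a73b9971addeceb9dd3a), (nat_lit 0x8e60f082141ee9400882ab3ceb4363), (nat_lit 0)⟩)) (BT.node (nat_lit 3959) (BT.leaf ⟨(nat_lit 3), (nat_lit 13), (nat_lit 7), (nat_lit 0x8e60f082141ee9400882ab3ceb4363), (nat_lit 0x13679d565c2a73b9971addeceb9dd3a),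 (nat_lit 0)⟩) (BT.leaf ⟨(nat_lit 3), (nat_lit 13), (nat_lit 8), (nat_lit 0x1435a2405f26546004874650021060), (nat_lit 0x1f6f5a6f44d4c73fa4abda8bd27a721), (nat_lit 0)⟩)))) (BT.node (nat_lit 3964) (BT.node (nat_lit 3962) (BT.node (nat_lit 3961) (BT.leaf ⟨(nat_lit 3), (nat_lit 8), (nat_lit 13), (nat_lit 0x1f6f5a6f44d4c73fa4abda8bd27a721), (nat_lit 0x1435a2405f26546004874650021060), (nat_lit 0)⟩) (BT.leaf ⟨(nat_lit 3), (nat_lit 13), (nat_lit 13), (nat_lit 0x13a06ab5f280b8c9063ad1a60080900), (nat_lit 0x18578d7380f9bbfdd1cee7ccea6cd65), (nat_lit 0)⟩)) (BT.node (nat_lit 3963) (BT.leaf ⟨(nat_lit 3), (nat_lit 13), (nat_lit 10), (nat_lit 0x1ce00312d04475e01202007d100149c), (nat_lit 0x7146a9d43ae3eaa5b8ab4c7751b43d), (nat_lit 0)⟩) (BT.leaf ⟨(nat_lit 3), (nat_lit 10), (nat_lit 13), (nat_lit 0x7146a9d43ae3eaa5b8ab4c7751b43d), (nat_lit 0x1ce00312d04475e01202007d100149c),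 (nat_lit 0)⟩))) (BT.node (nat_lit 3966) (BT.node (nat_lit 3965) (BT.leaf ⟨(nat_lit 3), (nat_lit 9), (nat_lit 13), (nat_lit 0x1722f4b1cbf0996f65ea55cb4a1ef51), (nat_lit 0x1b064d49c92da784f4be7b127ad8a6a), (nat_lit 0)⟩) (BT.leaf ⟨(nat_lit 3), (nat_lit 13), (nat_lit 9), (nat_lit 0x1b064d49c92da784f4be7b127ad8a6a), (nat_lit 0x1722f4b1cbf0996f65ea55cb4a1ef51), (nat_lit 0)⟩)) (BT.node (nat_lit 3967) (BT.leaf ⟨(nat_lit 2), (nat_lit 13), (nat_lit 13), (nat_lit 0x480304200428801071ada914e5f0a0), (nat_lit 0), (nat_lit 0)⟩) (BT.leaf ⟨(nat_lit 3), (nat_lit 7), (nat_lit 13), (nat_lit 0xcd723742cd21f3ab2aebfef6349f66), (nat_lit 0x43ab72af3a050e2bf391c14018210), (nat_lit 0)⟩)))))))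
noncomputable def cP3904 : BT Pf := (BT.node (nat_lit 3936) (BT.node (nat_lit 3920) (BT.node (nat_lit 3912) (BT.node (nat_lit 3908) (BT.node (nat_lit 3906) (BT.node (nat_lit 3905) (BT.leaf (.rel (nat_lit 2607) (nat_lit 0) [(nat_lit 787), (nat_lit 363)] [⟨(nat_lit 3806), [], [(nat_lit 248)]⟩])) (BT.leaf (.inv (nat_lit 3904)))) (BT.node (nat_lit 3907) (BT.leaf (.rel (nat_lit 3743) (nat_lit 4) [(nat_lit 510), (nat_lit 892)] [⟨(nat_lit 2133), [], [(nat_lit 446), (nat_lit 368)]⟩, ⟨(nat_lit 3742), [], [(nat_lit 403), (nat_lit 1123)]⟩])) (BT.leaf (.rel (nat_lit 3786) (nat_lit 5) [(nat_lit 544), (nat_lit 1247)] [⟨(nat_lit 2424), [(nat_lit 775)], [(nat_lit 394), (nat_lit 375)]⟩, ⟨(nat_lit 2308), [], [(nat_lit 296), (nat_lit 814)]⟩])))) (BT.node (nat_lit 3910) (BT.node (nat_lit 3909) (BT.leaf (.inv (nat_lit 3907))) (BT.leaf (.rel (nat_lit 3879) (nat_lit 3) [(nat_lit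 373), (nat_lit 270)] [⟨(nat_lit 3226), [(nat_lit 3580)], [(nat_lit 446), (nat_lit 969)]⟩, ⟨(nat_lit 3217), [(nat_lit 2167)], [(nat_lit 840), (nat_lit 586)]⟩]))) (BT.node (nat_lit 3911) (BT.leaf (.inv (nat_lit 3909))) (BT.leaf (.rel (nat_lit 3898) (nat_lit 1) [(nat_lit 259), (nat_lit 628)] [⟨(nat_lit 3137), [(nat_lit 444)], [(nat_lit 237), (nat_lit 421)]⟩]))))) (BT.node (nat_lit 3916) (BT.node (nat_lit 3914) (BT.node (nat_lit 3913) (BT.leaf (.inv (nat_lit 3911))) (BT.leaf (.emul [(nat_lit 3740), (nat_lit 3703)]))) (BT.node (nat_lit 3915) (BT.leaf (.emul [(nat_lit 3734), (nat_lit 3913)])) (BT.leaf (.rel (nat_lit 3876) (nat_lit 2) [(nat_lit 422), (nat_lit 797)] [⟨(nat_lit 3774), [(nat_lit 3914)], [(nat_lit 827), (nat_lit 573)]⟩, ⟨(nat_lit 3425), [(nat_lit 775)], [(nat_lit 2124), (nat_lit 1583)]⟩])))) (BT.node (nat_lit 3918) (BT.node (nat_lit 3917) (BT.leaf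 (.inv (nat_lit 3915))) (BT.leaf (.emul [(nat_lit 3734), (nat_lit 3703)]))) (BT.node (nat_lit 3919) (BT.leaf (.rel (nat_lit 3765) (nat_lit 1) [(nat_lit 568), (nat_lit 504)] [⟨(nat_lit 3908), [(nat_lit 3917)], [(nat_lit 128), (nat_lit 694)]⟩])) (BT.leaf (.inv (nat_lit 3918))))))) (BT.node (nat_lit 3928) (BT.node (nat_lit 3924) (BT.node (nat_lit 3922) (BT.node (nat_lit 3921) (BT.leaf (.rel (nat_lit 3765) (nat_lit 4) [(nat_lit 349), (nat_lit 1123)] [⟨(nat_lit 3791), [(nat_lit 3720)], [(nat_lit 502), (nat_lit 290)]⟩, ⟨(nat_lit 3023), [(nat_lit 2311)], [(nat_lit 484), (nat_lit 737)]⟩])) (BT.leaf (.inv (nat_lit 3920)))) (BT.node (nat_lit 3923) (BT.leaf (.rel (nat_lit 3912) (nat_lit 2) [(nat_lit 484), (nat_lit 109)] [⟨(nat_lit 3589), [(nat_lit 2167)], [(nat_lit 129), (nat_lit 596)]⟩, ⟨(nat_lit 3909), [(nat_lit 3766)], [(nat_lit 240), (nat_lit 597)]⟩])) (BT.leaf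 (.inv (nat_lit 3922))))) (BT.node (nat_lit 3926) (BT.node (nat_lit 3925) (BT.leaf (.rel (nat_lit 2601) (nat_lit 2) [(nat_lit 272), (nat_lit 347)] [⟨(nat_lit 2417), [], [(nat_lit 423), (nat_lit 1329)]⟩, ⟨(nat_lit 3726), [], [(nat_lit 883), (nat_lit 124)]⟩])) (BT.leaf (.inv (nat_lit 3924)))) (BT.node (nat_lit 3927) (BT.leaf (.rel (nat_lit 3865) (nat_lit 5) [(nat_lit 358), (nat_lit 891)] [⟨(nat_lit 1339), [(nat_lit 775)], [(nat_lit 256), (nat_lit 974)]⟩, ⟨(nat_lit 1471), [], [(nat_lit 267), (nat_lit 499)]⟩])) (BT.leaf (.inv (nat_lit 3926)))))) (BT.node (nat_lit 3932) (BT.node (nat_lit 3930) (BT.node (nat_lit 3929) (BT.leaf (.rel (nat_lit 3784) (nat_lit 4) [(nat_lit 789), (nat_lit 440)] [⟨(nat_lit 1949), [(nat_lit 775)], [(nat_lit 295), (nat_lit 572)]⟩, ⟨(nat_lit 3764), [(nat_lit 1846)], [(nat_lit 97), (nat_lit 985)]⟩])) (BT.leaf (.rel (nat_lit 3735) (nat_lit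 0) [(nat_lit 789), (nat_lit 390)] [⟨(nat_lit 852), [], [(nat_lit 1201), (nat_lit 605)]⟩]))) (BT.node (nat_lit 3931) (BT.leaf (.inv (nat_lit 3929))) (BT.leaf (.emul [(nat_lit 3720), (nat_lit 3913)])))) (BT.node (nat_lit 3934) (BT.node (nat_lit 3933) (BT.leaf (.rel (nat_lit 3602) (nat_lit 2) [(nat_lit 1175), (nat_lit 90)] [⟨(nat_lit 3918), [(nat_lit 935)], [(nat_lit 381), (nat_lit 1472)]⟩, ⟨(nat_lit 3893), [(nat_lit 3931)], [(nat_lit 462), (nat_lit 163)]⟩])) (BT.leaf (.inv (nat_lit 3932)))) (BT.node (nat_lit 3935) (BT.leaf (.rel (nat_lit 3579) (nat_lit 0) [(nat_lit 403), (nat_lit 868)] [⟨(nat_lit 3666), [(nat_lit 1883)], [(nat_lit 943), (nat_lit 1329)]⟩])) (BT.leaf (.inv (nat_lit 3934)))))))) (BT.node (nat_lit 3952) (BT.node (nat_lit 3944) (BT.node (nat_lit 3940) (BT.node (nat_lit 3938) (BT.node (nat_lit 3937) (BT.leaf (.rel (nat_lit 2765) (nat_lit 2)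 [(nat_lit 1106), (nat_lit 711)] [⟨(nat_lit 986), [(nat_lit 775)], [(nat_lit 356), (nat_lit 512)]⟩, ⟨(nat_lit 3721), [(nat_lit 935)], [(nat_lit 153), (nat_lit 205)]⟩])) (BT.leaf (.inv (nat_lit 3936)))) (BT.node (nat_lit 3939) (BT.leaf (.rel (nat_lit 3927) (nat_lit 4) [(nat_lit 296), (nat_lit 375)] [⟨(nat_lit 1312), [(nat_lit 935)], [(nat_lit 1012), (nat_lit 797)]⟩, ⟨(nat_lit 3792), [(nat_lit 935)], [(nat_lit 783), (nat_lit 363)]⟩])) (BT.leaf (.rel (nat_lit 3765) (nat_lit 3) [(nat_lit 239), (nat_lit 398)] [⟨(nat_lit 3776), [(nat_lit 3913)], [(nat_lit 527), (nat_lit 898)]⟩, ⟨(nat_lit 3315), [(nat_lit 3724)], [(nat_lit 266), (nat_lit 555)]⟩])))) (BT.node (nat_lit 3942) (BT.node (nat_lit 3941) (BT.leaf (.inv (nat_lit 3939))) (BT.leaf (.emul [(nat_lit 3605), (nat_lit 3594)]))) (BT.node (nat_lit 3943) (BT.leaf (.emul [(nat_lit 3613), (nat_lit 3941)])) (BT.leaf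 (.emul [(nat_lit 3600), (nat_lit 3942)]))))) (BT.node (nat_lit 3948) (BT.node (nat_lit 3946) (BT.node (nat_lit 3945) (BT.leaf (.rel (nat_lit 3737) (nat_lit 3) [(nat_lit 784), (nat_lit 1036)] [⟨(nat_lit 3593), [(nat_lit 1084)], [(nat_lit 587), (nat_lit 172)]⟩, ⟨(nat_lit 3677), [(nat_lit 3943)], [(nat_lit 569), (nat_lit 1001)]⟩])) (BT.leaf (.inv (nat_lit 3944)))) (BT.node (nat_lit 3947) (BT.leaf (.emul [(nat_lit 3730), (nat_lit 3703)])) (BT.leaf (.emul [(nat_lit 3734), (nat_lit 3946)])))) (BT.node (nat_lit 3950) (BT.node (nat_lit 3949) (BT.leaf (.rel (nat_lit 3837) (nat_lit 3) [(nat_lit 544), (nat_lit 163)] [⟨(nat_lit 3830), [(nat_lit 3947)], [(nat_lit 1103), (nat_lit 440)]⟩, ⟨(nat_lit 2860), [(nat_lit 775)], [(nat_lit 782), (nat_lit 379)]⟩])) (BT.leaf (.inv (nat_lit 3948)))) (BT.node (nat_lit 3951) (BT.leaf (.rel (nat_lit 1311) (nat_lit 0) [(nat_lit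 747), (nat_lit 880)] [⟨(nat_lit 3853), [], [(nat_lit 240), (nat_lit 372)]⟩])) (BT.leaf (.inv (nat_lit 3950))))))) (BT.node (nat_lit 3960) (BT.node (nat_lit 3956) (BT.node (nat_lit 3954) (BT.node (nat_lit 3953) (BT.leaf (.rel (nat_lit 3809) (nat_lit 4) [(nat_lit 567), (nat_lit 399)] [⟨(nat_lit 2505), [(nat_lit 2237)], [(nat_lit 240), (nat_lit 400)]⟩, ⟨(nat_lit 3472), [(nat_lit 2237)], [(nat_lit 92), (nat_lit 652)]⟩])) (BT.leaf (.inv (nat_lit 3952)))) (BT.node (nat_lit 3955) (BT.leaf (.rel (nat_lit 3043) (nat_lit 5) [(nat_lit 914), (nat_lit 1216)] [⟨(nat_lit 2832), [(nat_lit 2167)], [(nat_lit 1235), (nat_lit 864)]⟩, ⟨(nat_lit 3716), [], [(nat_lit 759), (nat_lit 162)]⟩])) (BT.leaf (.inv (nat_lit 3954))))) (BT.node (nat_lit 3958) (BT.node (nat_lit 3957) (BT.leaf (.rel (nat_lit 3868) (nat_lit 0) [(nat_lit 1102), (nat_lit 163)] [⟨(nat_lit 3897), [(nat_lit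 775)], [(nat_lit 336), (nat_lit 891)]⟩])) (BT.leaf (.rel (nat_lit 3784) (nat_lit 4) [(nat_lit 266), (nat_lit 478)] [⟨(nat_lit 1506), [(nat_lit 935)], [(nat_lit 197), (nat_lit 581)]⟩, ⟨(nat_lit 1475), [(nat_lit 775)], [(nat_lit 784), (nat_lit 593)]⟩]))) (BT.node (nat_lit 3959) (BT.leaf (.inv (nat_lit 3957))) (BT.leaf (.rel (nat_lit 1926) (nat_lit 2) [(nat_lit 280), (nat_lit 170)] [⟨(nat_lit 1814), [(nat_lit 935)], [(nat_lit 261), (nat_lit 868)]⟩, ⟨(nat_lit 3709), [(nat_lit 775)], [(nat_lit 211), (nat_lit 270)]⟩]))))) (BT.node (nat_lit 3964) (BT.node (nat_lit 3962) (BT.node (nat_lit 3961) (BT.leaf (.inv (nat_lit 3959))) (BT.leaf (.rel (nat_lit 3958) (nat_lit 3) [(nat_lit 902), (nat_lit 1376)] [⟨(nat_lit 1997), [(nat_lit 775)], [(nat_lit 503)]⟩, ⟨(nat_lit 3749), [], [(nat_lit 19), (nat_lit 504)]⟩]))) (BT.node (nat_lit 3963) (BT.leaf (.rel (nat_lit 3178)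 (nat_lit 4) [(nat_lit 451), (nat_lit 465)] [⟨(nat_lit 862), [(nat_lit 650)], [(nat_lit 267), (nat_lit 737)]⟩, ⟨(nat_lit 3707), [(nat_lit 775)], [(nat_lit 285), (nat_lit 379)]⟩])) (BT.leaf (.inv (nat_lit 3962))))) (BT.node (nat_lit 3966) (BT.node (nat_lit 3965) (BT.leaf (.rel (nat_lit 3891) (nat_lit 3) [(nat_lit 403), (nat_lit 512)] [⟨(nat_lit 1661), [(nat_lit 935)], [(nat_lit 527), (nat_lit 236)]⟩, ⟨(nat_lit 2606), [], [(nat_lit 376), (nat_lit 555)]⟩])) (BT.leaf (.inv (nat_lit 3964)))) (BT.node (nat_lit 3967) (BT.leaf (.emul [(nat_lit 3734), (nat_lit 3730)])) (BT.leaf (.rel (nat_lit 3956) (nat_lit 3) [(nat_lit 167), (nat_lit 651)] [⟨(nat_lit 3759), [(nat_lit 3966)], [(nat_lit 764), (nat_lit 163)]⟩, ⟨(nat_lit 1576), [(nat_lit 775)], [(nat_lit 391), (nat_lit 1133)]⟩]))))))))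
noncomputable def cF3968 : BT Fc := (BT.node (nat_lit 4000) (BT.node (nat_lit 3984) (BT.node (nat_lit 3976) (BT.node (nat_lit 3972) (BT.node (nat_lit 3970) (BT.node (nat_lit 3969) (BT.leaf ⟨(nat_lit 3), (nat_lit 13), (nat_lit 7), (nat_lit 0x43ab72af3a050e2bf391c14018210), (nat_lit 0xcd723742cd21f3ab2aebfef6349f66), (nat_lit 0)⟩) (BT.leaf ⟨(nat_lit 3), (nat_lit 13), (nat_lit 13), (nat_lit 0xef4a01103bd402a5e0020449773b), (nat_lit 0x49c9fdb105e5bd6612d21e4bc9755c), (nat_lit 0)⟩)) (BT.node (nat_lit 3971) (BT.leaf ⟨(nat_lit 3), (nat_lit 13), (nat_lit 13), (nat_lit 0x279c6fe3a5f00a08346c0120039d00), (nat_lit 0x19a5b812fa5ee58b7acc35e4b417d5c), (nat_lit 0)⟩) (BT.leaf ⟨(nat_lit 2), (nat_lit 10), (nat_lit 10), (nat_lit 0x75f499d43a25551b1956d8716ea9d5), (nat_lit 0), (nat_lit 0)⟩))) (BT.node (nat_lit 3974) (BT.node (nat_lit 3973) (BT.leaf ⟨(nat_lit 2), (nat_lit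 10), (nat_lit 10), (nat_lit 0x1fd390af4ce9ad37aee450fbc0bced4), (nat_lit 0), (nat_lit 0)⟩) (BT.leaf ⟨(nat_lit 3), (nat_lit 11), (nat_lit 13), (nat_lit 0x420c059e209403230d5fe8d7eb9b00), (nat_lit 0x1101247700a41003084f12f9f7873e), (nat_lit 0)⟩)) (BT.node (nat_lit 3975) (BT.leaf ⟨(nat_lit 3), (nat_lit 13), (nat_lit 11), (nat_lit 0x1101247700a41003084f12f9f7873e), (nat_lit 0x420c059e209403230d5fe8d7eb9b00), (nat_lit 0)⟩) (BT.leaf ⟨(nat_lit 2), (nat_lit 13), (nat_lit 13), (nat_lit 0x6bf868901413ceb42df108a0040c1e), (nat_lit 0), (nat_lit 0)⟩)))) (BT.node (nat_lit 3980) (BT.node (nat_lit 3978) (BT.node (nat_lit 3977) (BT.leaf ⟨(nat_lit 3), (nat_lit 7), (nat_lit 13), (nat_lit 0x50024041b501417cf064801835a21f), (nat_lit 0x1ce39deefa75dea6ce3a0f9ee9a4b3a), (nat_lit 0)⟩) (BT.leaf ⟨(nat_lit 3), (nat_lit 13), (nat_lit 7), (nat_lit 0x1ce39deefa75dea6ce3a0f9ee9a4b3a),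 (nat_lit 0x50024041b501417cf064801835a21f), (nat_lit 0)⟩)) (BT.node (nat_lit 3979) (BT.leaf ⟨(nat_lit 3), (nat_lit 13), (nat_lit 13), (nat_lit 0x1e17cefad4caff85bf8df12e3465e58), (nat_lit 0x5dba8da84cb7b305dea337ede1eaae), (nat_lit 0)⟩) (BT.leaf ⟨(nat_lit 3), (nat_lit 13), (nat_lit 13), (nat_lit 0x40488102281fd0806469d0b8c8268d), (nat_lit 0xcbc96d5c2df31fed92b25eb30d7ea2), (nat_lit 0)⟩))) (BT.node (nat_lit 3982) (BT.node (nat_lit 3981) (BT.leaf ⟨(nat_lit 3), (nat_lit 13), (nat_lit 13), (nat_lit 0x26f047bf0a49fa704892cac504028), (nat_lit 0x755c56587aa55777b6c3a83e8ca9dd), (nat_lit 0)⟩) (BT.leaf ⟨(nat_lit 3), (nat_lit 13), (nat_lit 5), (nat_lit 0x8237e00a7d695c1408856378399048), (nat_lit 0x1bbf2c1d7b4c3547d7213ba654fa9c5), (nat_lit 0)⟩)) (BT.node (nat_lit 3983) (BT.leaf ⟨(nat_lit 3), (nat_lit 5), (nat_lit 13), (nat_lit 0x1bbf2c1d7b4c3547d7213ba654fa9c5),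 (nat_lit 0x8237e00a7d695c1408856378399048), (nat_lit 0)⟩) (BT.leaf ⟨(nat_lit 3), (nat_lit 13), (nat_lit 13), (nat_lit 0x1e30009d457127fa3809e77bd63912e), (nat_lit 0x1ceb1d71ae7c1f3997baef4d259d1ce), (nat_lit 0)⟩))))) (BT.node (nat_lit 3992) (BT.node (nat_lit 3988) (BT.node (nat_lit 3986) (BT.node (nat_lit 3985) (BT.leaf ⟨(nat_lit 3), (nat_lit 13), (nat_lit 12), (nat_lit 0x84976f5002f895c081f184052f49f), (nat_lit 0x1011a352f71bf8e40408820ce97a073), (nat_lit 0)⟩) (BT.leaf ⟨(nat_lit 3), (nat_lit 12), (nat_lit 13), (nat_lit 0x1011a352f71bf8e40408820ce97a073), (nat_lit 0x84976f5002f895c081f184052f49f), (nat_lit 0)⟩)) (BT.node (nat_lit 3987) (BT.leaf ⟨(nat_lit 3), (nat_lit 13), (nat_lit 12), (nat_lit 0x107850088103ee8414f335f9d2b4239), (nat_lit 0x1bc1356f6ce92af727dbe43ad143cf4), (nat_lit 0)⟩) (BT.leaf ⟨(nat_lit 3), (nat_lit 12), (nat_lit 13), (nat_lit 0x1bc1356f6ce92af727dbe43ad143cf4),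 (nat_lit 0x107850088103ee8414f335f9d2b4239), (nat_lit 0)⟩))) (BT.node (nat_lit 3990) (BT.node (nat_lit 3989) (BT.leaf ⟨(nat_lit 3), (nat_lit 9), (nat_lit 13), (nat_lit 0x1eea798821015a0480881808e60f674), (nat_lit 0xceb990b7f75cfb9d738693ca8e771a), (nat_lit 0)⟩) (BT.leaf ⟨(nat_lit 3), (nat_lit 13), (nat_lit 9), (nat_lit 0xceb990b7f75cfb9d738693ca8e771a), (nat_lit 0x1eea798821015a0480881808e60f674), (nat_lit 0)⟩)) (BT.node (nat_lit 3991) (BT.leaf ⟨(nat_lit 3), (nat_lit 10), (nat_lit 10), (nat_lit 0x101297e5f8058019d420fc7101c6dd5), (nat_lit 0x1ae5a365f841009c6e00675103f1dd5), (nat_lit 0)⟩) (BT.leaf ⟨(nat_lit 3), (nat_lit 13), (nat_lit 9), (nat_lit 0xbed8b9665e4ac9692735f5708792e), (nat_lit 0x2816fb63ce9f1860080111c34aacf3), (nat_lit 0)⟩)))) (BT.node (nat_lit 3996) (BT.node (nat_lit 3994) (BT.node (nat_lit 3993) (BT.leaf ⟨(nat_lit 3), (nat_lit 9), (nat_lit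 13), (nat_lit 0x2816fb63ce9f1860080111c34aacf3), (nat_lit 0xbed8b9665e4ac9692735f5708792e), (nat_lit 0)⟩) (BT.leaf ⟨(nat_lit 3), (nat_lit 12), (nat_lit 12), (nat_lit 0x120040fba4733cfe30802aaa02b42df), (nat_lit 0x1e34bcbfef9a2ddc6b13e1be77d6f85), (nat_lit 0)⟩)) (BT.node (nat_lit 3995) (BT.leaf ⟨(nat_lit 3), (nat_lit 8), (nat_lit 13), (nat_lit 0x8048084100b1c9f149f3a802400821), (nat_lit 0x240410845be6bfdd155180a011c881), (nat_lit 0)⟩) (BT.leaf ⟨(nat_lit 3), (nat_lit 13), (nat_lit 8), (nat_lit 0x240410845be6bfdd155180a011c881), (nat_lit 0x8048084100b1c9f149f3a802400821), (nat_lit 0)⟩))) (BT.node (nat_lit 3998) (BT.node (nat_lit 3997) (BT.leaf ⟨(nat_lit 2), (nat_lit 12), (nat_lit 12), (nat_lit 0x1000f438d80227a0441084110201404), (nat_lit 0), (nat_lit 0)⟩) (BT.leaf ⟨(nat_lit 2), (nat_lit 12), (nat_lit 12), (nat_lit 0x1001c69e89011021041081027a01073), (nat_lit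 0), (nat_lit 0)⟩)) (BT.node (nat_lit 3999) (BT.leaf ⟨(nat_lit 3), (nat_lit 13), (nat_lit 5), (nat_lit 0xc011032f501a782fcf43c6f56a3200), (nat_lit 0x16a0210505f31012016f083c1b5a040), (nat_lit 0)⟩) (BT.leaf ⟨(nat_lit 3), (nat_lit 5), (nat_lit 13), (nat_lit 0x16a0210505f31012016f083c1b5a040), (nat_lit 0xc011032f501a782fcf43c6f56a3200), (nat_lit 0)⟩)))))) (BT.node (nat_lit 4016) (BT.node (nat_lit 4008) (BT.node (nat_lit 4004) (BT.node (nat_lit 4002) (BT.node (nat_lit 4001) (BT.leaf ⟨(nat_lit 3), (nat_lit 13), (nat_lit 13), (nat_lit 0x1000022b9de8041000404be083c69d5), (nat_lit 0x9aa8beb49e9bf37b287da9bc3909b2), (nat_lit 0)⟩) (BT.leaf ⟨(nat_lit 3), (nat_lit 13), (nat_lit 13), (nat_lit 0x1100ca8411816a0b7860085c1bbd050), (nat_lit 0xceb9c73bf74739d263addf4ebbd72a), (nat_lit 0)⟩)) (BT.node (nat_lit 4003) (BT.leaf ⟨(nat_lit 3), (nat_lit 13), (nat_lit 13), (nat_lit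 0x1ced9d7bae74d25d263ae54b4b8d1ce), (nat_lit 0x569f39bc7c6fcde1ae3f211bbbed17), (nat_lit 0)⟩) (BT.leaf ⟨(nat_lit 3), (nat_lit 13), (nat_lit 13), (nat_lit 0x399b66ca5f3d45cb2b95768e54cab8), (nat_lit 0x717955f88c704028030121b91f9910), (nat_lit 0)⟩))) (BT.node (nat_lit 4006) (BT.node (nat_lit 4005) (BT.leaf ⟨(nat_lit 3), (nat_lit 13), (nat_lit 13), (nat_lit 0x127e4f41eb63a7a4b313939b066f77d), (nat_lit 0x126b4f0ed74927a4b3134d589e6f59e), (nat_lit 0)⟩) (BT.leaf ⟨(nat_lit 3), (nat_lit 13), (nat_lit 13), (nat_lit 0x17a9f09d70244080100325a08b7b25d), (nat_lit 0x17a9f09d70244080100325a08b7b25d), (nat_lit 0)⟩)) (BT.node (nat_lit 4007) (BT.leaf ⟨(nat_lit 3), (nat_lit 12), (nat_lit 13), (nat_lit 0x112d92b018111022bd109d0a3bc9a), (nat_lit 0x41000280040040010e744bc021d5), (nat_lit 0)⟩) (BT.leaf ⟨(nat_lit 3), (nat_lit 13), (nat_lit 12), (nat_lit 0x41000280040040010e744bc021d5),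 (nat_lit 0x112d92b018111022bd109d0a3bc9a), (nat_lit 0)⟩)))) (BT.node (nat_lit 4012) (BT.node (nat_lit 4010) (BT.node (nat_lit 4009) (BT.leaf ⟨(nat_lit 3), (nat_lit 12), (nat_lit 12), (nat_lit 0x12708100a04480b7b2bb084f863892d), (nat_lit 0x1089682201480b7b012939ce238902), (nat_lit 0)⟩) (BT.leaf ⟨(nat_lit 3), (nat_lit 3), (nat_lit 14), (nat_lit 0x809f08038e37aa4e2bb085008051d7), (nat_lit 0x1001001001001001001001001001001), (nat_lit 0)⟩)) (BT.node (nat_lit 4011) (BT.leaf ⟨(nat_lit 2), (nat_lit 14), (nat_lit 14), (nat_lit 0x1003c692f4be0239d010080012f42b9), (nat_lit 0), (nat_lit 0)⟩) (BT.leaf ⟨(nat_lit 3), (nat_lit 14), (nat_lit 3), (nat_lit 0x1001001001001001001001001001001), (nat_lit 0x809f08038e37aa4e2bb085008051d7), (nat_lit 0)⟩))) (BT.node (nat_lit 4014) (BT.node (nat_lit 4013) (BT.leaf ⟨(nat_lit 3), (nat_lit 13), (nat_lit 14), (nat_lit 0xf63bee9eb6227a4d26a83ce92cf4be),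 (nat_lit 0x1596c187ce71bbf1d72a39dc6bbd2d2), (nat_lit 0)⟩) (BT.leaf ⟨(nat_lit 2), (nat_lit 13), (nat_lit 13), (nat_lit 0xf877b25dbd402a4e12d085d10011d7), (nat_lit 0), (nat_lit 0)⟩)) (BT.node (nat_lit 4015) (BT.leaf ⟨(nat_lit 2), (nat_lit 13), (nat_lit 13), (nat_lit 0x1df66f6c1a97a7a4e3a44d4f625f176), (nat_lit 0), (nat_lit 0)⟩) (BT.leaf ⟨(nat_lit 2), (nat_lit 14), (nat_lit 14), (nat_lit 0x6c8bcef5957bf0e7287d69c868bff4), (nat_lit 0), (nat_lit 0)⟩))))) (BT.node (nat_lit 4024) (BT.node (nat_lit 4020) (BT.node (nat_lit 4018) (BT.node (nat_lit 4017) (BT.leaf ⟨(nat_lit 3), (nat_lit 14), (nat_lit 13), (nat_lit 0x1596c187ce71bbf1d72a39dc6bbd2d2), (nat_lit 0xf63bee9eb6227a4d26a83ce92cf4be), (nat_lit 0)⟩) (BT.leaf ⟨(nat_lit 2), (nat_lit 13), (nat_lit 13), (nat_lit 0x975013e1bd410a4e012015e3c011d7), (nat_lit 0), (nat_lit 0)⟩)) (BT.node (nat_lit 4019) (BT.leaf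 ⟨(nat_lit 2), (nat_lit 13), (nat_lit 13), (nat_lit 0x1b064b77da969aa4e627d3cc4e5f176), (nat_lit 0), (nat_lit 0)⟩) (BT.leaf ⟨(nat_lit 2), (nat_lit 14), (nat_lit 14), (nat_lit 0x1d5bceaa903093f95010120716fc13f), (nat_lit 0), (nat_lit 0)⟩))) (BT.node (nat_lit 4022) (BT.node (nat_lit 4021) (BT.leaf ⟨(nat_lit 2), (nat_lit 13), (nat_lit 13), (nat_lit 0x97f7a3e33aa02010010081d18015e8), (nat_lit 0), (nat_lit 0)⟩) (BT.leaf ⟨(nat_lit 2), (nat_lit 13), (nat_lit 13), (nat_lit 0x9fc303c3b9088010299da9d9a5f1f5), (nat_lit 0), (nat_lit 0)⟩)) (BT.node (nat_lit 4023) (BT.leaf ⟨(nat_lit 2), (nat_lit 14), (nat_lit 14), (nat_lit 0x1bc36a44ddf92ae7a287ce8bd28bfdb), (nat_lit 0), (nat_lit 0)⟩) (BT.leaf ⟨(nat_lit 3), (nat_lit 13), (nat_lit 13), (nat_lit 0x12ac733706bf97d6fb8a4b695f165d2), (nat_lit 0x568735ff6d88e75cbb9d95d455eaf9), (nat_lit 0)⟩)))) (BT.node (nat_lit 4028)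 (BT.node (nat_lit 4026) (BT.node (nat_lit 4025) (BT.leaf ⟨(nat_lit 3), (nat_lit 13), (nat_lit 14), (nat_lit 0x13cdb18882aab7c50180472a0040880), (nat_lit 0x1d4532df8337fa18e17655d31ef42d2), (nat_lit 0)⟩) (BT.leaf ⟨(nat_lit 2), (nat_lit 14), (nat_lit 14), (nat_lit 0x4b411102f1e0290101208401801744), (nat_lit 0), (nat_lit 0)⟩)) (BT.node (nat_lit 4027) (BT.leaf ⟨(nat_lit 3), (nat_lit 14), (nat_lit 13), (nat_lit 0x1d4532df8337fa18e17655d31ef42d2), (nat_lit 0x13cdb18882aab7c50180472a0040880), (nat_lit 0)⟩) (BT.leaf ⟨(nat_lit 2), (nat_lit 12), (nat_lit 12), (nat_lit 0xa030021f5bc68106d48417214ca7f), (nat_lit 0), (nat_lit 0)⟩))) (BT.node (nat_lit 4030) (BT.node (nat_lit 4029) (BT.leaf ⟨(nat_lit 3), (nat_lit 12), (nat_lit 12), (nat_lit 0x2133a7c62abc3679b631022091c8a0), (nat_lit 0x11c8ea00993e10402f3b103d1c08ef5), (nat_lit 0)⟩) (BT.leaf ⟨(nat_lit 3), (nat_lit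 7), (nat_lit 14), (nat_lit 0x9752da5f9563982f9bc49e87d3fb70), (nat_lit 0x1b923191002323bab2a938a053ce818), (nat_lit 0)⟩)) (BT.node (nat_lit 4031) (BT.leaf ⟨(nat_lit 2), (nat_lit 14), (nat_lit 14), (nat_lit 0x100ca8422811002277ae0ce8c60433), (nat_lit 0), (nat_lit 0)⟩) (BT.leaf ⟨(nat_lit 3), (nat_lit 14), (nat_lit 7), (nat_lit 0x1b923191002323bab2a938a053ce818), (nat_lit 0x9752da5f9563982f9bc49e87d3fb70), (nat_lit 0)⟩)))))))
noncomputable def cP3968 : BT Pf := (BT.node (nat_lit 4000) (BT.node (nat_lit 3984) (BT.node (nat_lit 3976) (BT.node (nat_lit 3972) (BT.node (nat_lit 3970) (BT.node (nat_lit 3969) (BT.leaf (.inv (nat_lit 3967))) (BT.leaf (.rel (nat_lit 3728) (nat_lit 1) [(nat_lit 1173), (nat_lit 368)] [⟨(nat_lit 3729), [(nat_lit 2258)], [(nat_lit 450), (nat_lit 202)]⟩]))) (BT.node (nat_lit 3971) (BT.leaf (.rel (nat_lit 3878) (nat_lit 4) [(nat_lit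 216), (nat_lit 581)] [⟨(nat_lit 1562), [(nat_lit 935)], [(nat_lit 259), (nat_lit 936)]⟩, ⟨(nat_lit 3712), [(nat_lit 775)], [(nat_lit 527), (nat_lit 1100)]⟩])) (BT.leaf (.emul [(nat_lit 3191), (nat_lit 3670)])))) (BT.node (nat_lit 3974) (BT.node (nat_lit 3973) (BT.leaf (.emul [(nat_lit 3191), (nat_lit 3971)])) (BT.leaf (.rel (nat_lit 3962) (nat_lit 4) [(nat_lit 503), (nat_lit 762)] [⟨(nat_lit 3579), [(nat_lit 3195), (nat_lit 3972)], [(nat_lit 355), (nat_lit 676)]⟩, ⟨(nat_lit 3389), [(nat_lit 2376)], [(nat_lit 429), (nat_lit 293)]⟩]))) (BT.node (nat_lit 3975) (BT.leaf (.inv (nat_lit 3973))) (BT.leaf (.emul [(nat_lit 3740), (nat_lit 3720)]))))) (BT.node (nat_lit 3980) (BT.node (nat_lit 3978) (BT.node (nat_lit 3977) (BT.leaf (.rel (nat_lit 3876) (nat_lit 1) [(nat_lit 321), (nat_lit 222)] [⟨(nat_lit 3878), [(nat_lit 3975)], [(nat_lit 257), (nat_lit 1369)]⟩]))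 (BT.leaf (.inv (nat_lit 3976)))) (BT.node (nat_lit 3979) (BT.leaf (.rel (nat_lit 3868) (nat_lit 4) [(nat_lit 653), (nat_lit 652)] [⟨(nat_lit 1244), [(nat_lit 775)], [(nat_lit 487), (nat_lit 460)]⟩, ⟨(nat_lit 3806), [(nat_lit 775)], [(nat_lit 250), (nat_lit 389)]⟩])) (BT.leaf (.rel (nat_lit 3768) (nat_lit 0) [(nat_lit 1174), (nat_lit 578)] [⟨(nat_lit 3750), [(nat_lit 3580)], [(nat_lit 829), (nat_lit 529)]⟩])))) (BT.node (nat_lit 3982) (BT.node (nat_lit 3981) (BT.leaf (.rel (nat_lit 3751) (nat_lit 2) [(nat_lit 215), (nat_lit 751)] [⟨(nat_lit 3267), [(nat_lit 3756)], [(nat_lit 689), (nat_lit 270)]⟩, ⟨(nat_lit 3757), [(nat_lit 935)], [(nat_lit 97), (nat_lit 401)]⟩])) (BT.leaf (.rel (nat_lit 1155) (nat_lit 3) [(nat_lit 152), (nat_lit 1091)] [⟨(nat_lit 1684), [(nat_lit 935)], [(nat_lit 1041), (nat_lit 956)]⟩, ⟨(nat_lit 3844), [], [(nat_lit 883), (nat_lit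 173)]⟩]))) (BT.node (nat_lit 3983) (BT.leaf (.inv (nat_lit 3981))) (BT.leaf (.rel (nat_lit 3759) (nat_lit 5) [(nat_lit 285), (nat_lit 125)] [⟨(nat_lit 1459), [(nat_lit 935)], [(nat_lit 192), (nat_lit 797)]⟩, ⟨(nat_lit 3787), [], [(nat_lit 675), (nat_lit 375)]⟩])))))) (BT.node (nat_lit 3992) (BT.node (nat_lit 3988) (BT.node (nat_lit 3986) (BT.node (nat_lit 3985) (BT.leaf (.rel (nat_lit 3687) (nat_lit 3) [(nat_lit 351), (nat_lit 347)] [⟨(nat_lit 3259), [(nat_lit 775)], [(nat_lit 510), (nat_lit 224)]⟩, ⟨(nat_lit 3880), [(nat_lit 3839)], [(nat_lit 675), (nat_lit 864)]⟩])) (BT.leaf (.inv (nat_lit 3984)))) (BT.node (nat_lit 3987) (BT.leaf (.rel (nat_lit 3638) (nat_lit 4) [(nat_lit 165), (nat_lit 751)] [⟨(nat_lit 3042), [(nat_lit 2237)], [(nat_lit 195), (nat_lit 625)]⟩, ⟨(nat_lit 3892), [], [(nat_lit 215), (nat_lit 169)]⟩])) (BT.leaf (.inv (nat_lit 3986)))))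 (BT.node (nat_lit 3990) (BT.node (nat_lit 3989) (BT.leaf (.rel (nat_lit 3945) (nat_lit 3) [(nat_lit 380), (nat_lit 1165)] [⟨(nat_lit 2991), [(nat_lit 935)], [(nat_lit 216), (nat_lit 676)]⟩, ⟨(nat_lit 2896), [], [(nat_lit 473), (nat_lit 440)]⟩])) (BT.leaf (.inv (nat_lit 3988)))) (BT.node (nat_lit 3991) (BT.leaf (.rel (nat_lit 3199) (nat_lit 2) [(nat_lit 1235), (nat_lit 530)] [⟨(nat_lit 2139), [(nat_lit 2258)], [(nat_lit 281), (nat_lit 985)]⟩, ⟨(nat_lit 3198), [(nat_lit 1870)], [(nat_lit 522), (nat_lit 1583)]⟩])) (BT.leaf (.rel (nat_lit 3812) (nat_lit 0) [(nat_lit 902), (nat_lit 431)] [⟨(nat_lit 3876), [(nat_lit 3946)], [(nat_lit 574), (nat_lit 581)]⟩]))))) (BT.node (nat_lit 3996) (BT.node (nat_lit 3994) (BT.node (nat_lit 3993) (BT.leaf (.inv (nat_lit 3991))) (BT.leaf (.rel (nat_lit 3646) (nat_lit 0) [(nat_lit 483), (nat_lit 880)] [⟨(nat_lit 3618), [(nat_lit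 2167)], [(nat_lit 905), (nat_lit 835)]⟩]))) (BT.node (nat_lit 3995) (BT.leaf (.rel (nat_lit 3778) (nat_lit 4) [(nat_lit 783), (nat_lit 627)] [⟨(nat_lit 2632), [], [(nat_lit 544), (nat_lit 307)]⟩, ⟨(nat_lit 1887), [], [(nat_lit 1162), (nat_lit 1165)]⟩])) (BT.leaf (.inv (nat_lit 3994))))) (BT.node (nat_lit 3998) (BT.node (nat_lit 3997) (BT.leaf (.emul [(nat_lit 3613), (nat_lit 3600)])) (BT.leaf (.emul [(nat_lit 3594), (nat_lit 3996)]))) (BT.node (nat_lit 3999) (BT.leaf (.rel (nat_lit 3612) (nat_lit 1) [(nat_lit 271), (nat_lit 110)] [⟨(nat_lit 3987), [(nat_lit 3997)], [(nat_lit 1437), (nat_lit 236)]⟩])) (BT.leaf (.inv (nat_lit 3998)))))))) (BT.node (nat_lit 4016) (BT.node (nat_lit 4008) (BT.node (nat_lit 4004) (BT.node (nat_lit 4002) (BT.node (nat_lit 4001) (BT.leaf (.rel (nat_lit 3969) (nat_lit 0) [(nat_lit 212), (nat_lit 1871)] [⟨(nat_lit 3969), [(nat_lit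 3975)], [(nat_lit 1175), (nat_lit 500)]⟩])) (BT.leaf (.rel (nat_lit 3984) (nat_lit 1) [(nat_lit 2124), (nat_lit 368)] [⟨(nat_lit 3985), [(nat_lit 3605)], [(nat_lit 176), (nat_lit 431)]⟩]))) (BT.node (nat_lit 4003) (BT.leaf (.rel (nat_lit 3793) (nat_lit 2) [(nat_lit 292), (nat_lit 1537)] [⟨(nat_lit 909), [], [(nat_lit 422), (nat_lit 206)]⟩, ⟨(nat_lit 3792), [(nat_lit 775)], [(nat_lit 526), (nat_lit 252)]⟩])) (BT.leaf (.rel (nat_lit 3763) (nat_lit 4) [(nat_lit 178), (nat_lit 985)] [⟨(nat_lit 2059), [(nat_lit 2259)], [(nat_lit 300), (nat_lit 162)]⟩, ⟨(nat_lit 3824), [], [(nat_lit 2061), (nat_lit 1017)]⟩])))) (BT.node (nat_lit 4006) (BT.node (nat_lit 4005) (BT.leaf (.rel (nat_lit 3847) (nat_lit 1) [(nat_lit 282), (nat_lit 1017)] [⟨(nat_lit 4000), [], [(nat_lit 267), (nat_lit 751)]⟩])) (BT.leaf (.rel (nat_lit 3793) (nat_lit 2) [(nat_lit 782), (nat_lit 529)]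 [⟨(nat_lit 1554), [(nat_lit 935)], [(nat_lit 273), (nat_lit 628)]⟩, ⟨(nat_lit 3792), [(nat_lit 775)], [(nat_lit 96), (nat_lit 700)]⟩]))) (BT.node (nat_lit 4007) (BT.leaf (.rel (nat_lit 3713) (nat_lit 5) [(nat_lit 928), (nat_lit 892)] [⟨(nat_lit 2324), [], [(nat_lit 380), (nat_lit 170)]⟩, ⟨(nat_lit 3653), [(nat_lit 2311)], [(nat_lit 393), (nat_lit 127)]⟩])) (BT.leaf (.inv (nat_lit 4006)))))) (BT.node (nat_lit 4012) (BT.node (nat_lit 4010) (BT.node (nat_lit 4009) (BT.leaf (.rel (nat_lit 3603) (nat_lit 1) [(nat_lit 177), (nat_lit 628)] [⟨(nat_lit 3693), [(nat_lit 3724)], [(nat_lit 631), (nat_lit 1939)]⟩])) (BT.leaf (.dfn [(nat_lit 4), (nat_lit 1), (nat_lit 4), (nat_lit 1), (nat_lit 4), (nat_lit 1), (nat_lit 4), (nat_lit 1), (nat_lit 4), (nat_lit 1), (nat_lit 3), (nat_lit 1), (nat_lit 4), (nat_lit 1), (nat_lit 3), (nat_lit 1), (nat_lit 4)]))) (BT.node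 (nat_lit 4011) (BT.leaf (.cmp (nat_lit 4009) ⟨(nat_lit 4009), [(nat_lit 927)], [(nat_lit 1348)]⟩)) (BT.leaf (.inv (nat_lit 4009))))) (BT.node (nat_lit 4014) (BT.node (nat_lit 4013) (BT.leaf (.rel (nat_lit 4011) (nat_lit 4) [(nat_lit 520), (nat_lit 814)] [⟨(nat_lit 810), [(nat_lit 443)], [(nat_lit 781), (nat_lit 974)]⟩, ⟨(nat_lit 3752), [(nat_lit 322)], [(nat_lit 404), (nat_lit 1192)]⟩])) (BT.leaf (.emul [(nat_lit 3720), (nat_lit 3703)]))) (BT.node (nat_lit 4015) (BT.leaf (.emul [(nat_lit 3734), (nat_lit 4013)])) (BT.leaf (.cmp (nat_lit 4012) ⟨(nat_lit 4012), [(nat_lit 4014)], [(nat_lit 175), (nat_lit 892)]⟩)))))) (BT.node (nat_lit 4024) (BT.node (nat_lit 4020) (BT.node (nat_lit 4018) (BT.node (nat_lit 4017) (BT.leaf (.inv (nat_lit 4012))) (BT.leaf (.emul [(nat_lit 3730), (nat_lit 4013)]))) (BT.node (nat_lit 4019) (BT.leaf (.emul [(nat_lit 3734), (nat_lit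 4017)])) (BT.leaf (.cmp (nat_lit 4012) ⟨(nat_lit 4012), [(nat_lit 4018)], [(nat_lit 392), (nat_lit 109)]⟩)))) (BT.node (nat_lit 4022) (BT.node (nat_lit 4021) (BT.leaf (.emul [(nat_lit 3730), (nat_lit 3720)])) (BT.leaf (.emul [(nat_lit 3734), (nat_lit 4020)]))) (BT.node (nat_lit 4023) (BT.leaf (.cmp (nat_lit 4012) ⟨(nat_lit 4012), [(nat_lit 4021)], [(nat_lit 1041), (nat_lit 362)]⟩)) (BT.leaf (.rel (nat_lit 3744) (nat_lit 5) [(nat_lit 1174), (nat_lit 1369)] [⟨(nat_lit 998), [], [(nat_lit 510), (nat_lit 906)]⟩, ⟨(nat_lit 3745), [(nat_lit 935)], [(nat_lit 829), (nat_lit 234)]⟩]))))) (BT.node (nat_lit 4028) (BT.node (nat_lit 4026) (BT.node (nat_lit 4025) (BT.leaf (.rel (nat_lit 4011) (nat_lit 3) [(nat_lit 164), (nat_lit 956)] [⟨(nat_lit 967), [(nat_lit 937)], [(nat_lit 734), (nat_lit 802)]⟩, ⟨(nat_lit 3787), [(nat_lit 775)], [(nat_lit 451), (nat_lit 190)]⟩]))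 (BT.leaf (.cmp (nat_lit 4024) ⟨(nat_lit 4024), [(nat_lit 4020)], [(nat_lit 212), (nat_lit 222)]⟩))) (BT.node (nat_lit 4027) (BT.leaf (.inv (nat_lit 4024))) (BT.leaf (.emul [(nat_lit 3613), (nat_lit 3594)])))) (BT.node (nat_lit 4030) (BT.node (nat_lit 4029) (BT.leaf (.rel (nat_lit 3673) (nat_lit 1) [(nat_lit 630), (nat_lit 109)] [⟨(nat_lit 3673), [(nat_lit 4027)], [(nat_lit 175), (nat_lit 449)]⟩])) (BT.leaf (.rel (nat_lit 4011) (nat_lit 2) [(nat_lit 462), (nat_lit 525)] [⟨(nat_lit 1876), [(nat_lit 437)], [(nat_lit 167), (nat_lit 127)]⟩, ⟨(nat_lit 2028), [(nat_lit 2075)], [(nat_lit 526), (nat_lit 1503)]⟩]))) (BT.node (nat_lit 4031) (BT.leaf (.cmp (nat_lit 4029) ⟨(nat_lit 4029), [(nat_lit 935)], [(nat_lit 883), (nat_lit 1247)]⟩)) (BT.leaf (.inv (nat_lit 4029)))))))))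
noncomputable def cF4032 : BT Fc := (BT.node (nat_lit 4064) (BT.node (nat_lit 4048) (BT.node (nat_lit 4040) (BT.node (nat_lit 4036) (BT.node (nat_lit 4034) (BT.node (nat_lit 4033) (BT.leaf ⟨(nat_lit 3), (nat_lit 14), (nat_lit 12), (nat_lit 0xb4bbd738e7ce92c1d65693bbf0af32), (nat_lit 0x185663b962564ff5112fcd23e8d7927), (nat_lit 0)⟩) (BT.leaf ⟨(nat_lit 3), (nat_lit 12), (nat_lit 14), (nat_lit 0x185663b962564ff5112fcd23e8d7927), (nat_lit 0xb4bbd738e7ce92c1d65693bbf0af32), (nat_lit 0)⟩)) (BT.node (nat_lit 4035) (BT.leaf ⟨(nat_lit 3), (nat_lit 13), (nat_lit 13), (nat_lit 0x13a2803b9205918a01081abfd171901), (nat_lit 0x16a35a21f1810cca077a088655d1842), (nat_lit 0)⟩) (BT.leaf ⟨(nat_lit 3), (nat_lit 13), (nat_lit 14), (nat_lit 0x49c8792b25b571b802f35f9a5664c7), (nat_lit 0x10400c79deac05247030023b93953f3), (nat_lit 0)⟩))) (BT.node (nat_lit 4038) (BT.node (nat_lit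 4037) (BT.leaf ⟨(nat_lit 3), (nat_lit 14), (nat_lit 13), (nat_lit 0x10400c79deac05247030023b93953f3), (nat_lit 0x49c8792b25b571b802f35f9a5664c7), (nat_lit 0)⟩) (BT.leaf ⟨(nat_lit 3), (nat_lit 14), (nat_lit 7), (nat_lit 0x1a4f83744e9c6c99a87cf8dd9ba3e69), (nat_lit 0x5e626d179e9bdb7e1cedc9bd36a7db), (nat_lit 0)⟩)) (BT.node (nat_lit 4039) (BT.leaf ⟨(nat_lit 3), (nat_lit 7), (nat_lit 14), (nat_lit 0x5e626d179e9bdb7e1cedc9bd36a7db), (nat_lit 0x1a4f83744e9c6c99a87cf8dd9ba3e69), (nat_lit 0)⟩) (BT.leaf ⟨(nat_lit 3), (nat_lit 10), (nat_lit 10), (nat_lit 0xe36c6f8df0ba8865fcdf13eb7c7bfe), (nat_lit 0x10120040113d101c6d0068d0217a5d5), (nat_lit 0)⟩)))) (BT.node (nat_lit 4044) (BT.node (nat_lit 4042) (BT.node (nat_lit 4041) (BT.leaf ⟨(nat_lit 3), (nat_lit 14), (nat_lit 9), (nat_lit 0x1fd36a287deac727a26a2f32ad7a674), (nat_lit 0x407fa110d1a35680108ae791acf102), (nat_lit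 0)⟩) (BT.leaf ⟨(nat_lit 3), (nat_lit 9), (nat_lit 14), (nat_lit 0x407fa110d1a35680108ae791acf102), (nat_lit 0x1fd36a287deac727a26a2f32ad7a674), (nat_lit 0)⟩)) (BT.node (nat_lit 4043) (BT.leaf ⟨(nat_lit 3), (nat_lit 8), (nat_lit 14), (nat_lit 0x1cfa9d07ce54d245bf38c2ab4a6ceef), (nat_lit 0x66e38a879e7699a4bfeae61cf65673), (nat_lit 0)⟩) (BT.leaf ⟨(nat_lit 3), (nat_lit 14), (nat_lit 8), (nat_lit 0x66e38a879e7699a4bfeae61cf65673), (nat_lit 0x1cfa9d07ce54d245bf38c2ab4a6ceef), (nat_lit 0)⟩))) (BT.node (nat_lit 4046) (BT.node (nat_lit 4045) (BT.leaf ⟨(nat_lit 3), (nat_lit 13), (nat_lit 13), (nat_lit 0x1d447336c5737fdcb583d94aa75c8b9), (nat_lit 0x182df12367c6f84ad3e7378fcdd19e3), (nat_lit 0)⟩) (BT.leaf ⟨(nat_lit 3), (nat_lit 10), (nat_lit 10), (nat_lit 0x996f043dea37b2e45e9bd5edff45a8), (nat_lit 0x997e68cba69e2589f8cb1b74bc7f85), (nat_lit 0)⟩)) (BT.node (nat_lit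 4047) (BT.leaf ⟨(nat_lit 3), (nat_lit 3), (nat_lit 15), (nat_lit 0x1bd15c840020f8c00de8e8c97c97804), (nat_lit 0x1001001001001001001001001001001), (nat_lit 0)⟩) (BT.leaf ⟨(nat_lit 3), (nat_lit 15), (nat_lit 3), (nat_lit 0x1001001001001001001001001001001), (nat_lit 0x1bd15c840020f8c00de8e8c97c97804), (nat_lit 0)⟩))))) (BT.node (nat_lit 4056) (BT.node (nat_lit 4052) (BT.node (nat_lit 4050) (BT.node (nat_lit 4049) (BT.leaf ⟨(nat_lit 3), (nat_lit 14), (nat_lit 14), (nat_lit 0x11b9661bc46ddf66cf90746d8d71be3), (nat_lit 0x13cc41180f755a33a2802aa22048239), (nat_lit 0)⟩) (BT.leaf ⟨(nat_lit 3), (nat_lit 13), (nat_lit 13), (nat_lit 0x1013c48140087463b824e84f9c42006), (nat_lit 0x1088102200dce10101225be3c01082), (nat_lit 0)⟩)) (BT.node (nat_lit 4051) (BT.leaf ⟨(nat_lit 3), (nat_lit 7), (nat_lit 15), (nat_lit 0x102208073801083006b9cbf201c6af4), (nat_lit 0x774aadd546ce28ebd4b38a654e8eef),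 (nat_lit 0)⟩) (BT.leaf ⟨(nat_lit 3), (nat_lit 15), (nat_lit 7), (nat_lit 0x774aadd546ce28ebd4b38a654e8eef), (nat_lit 0x102208073801083006b9cbf201c6af4), (nat_lit 0)⟩))) (BT.node (nat_lit 4054) (BT.node (nat_lit 4053) (BT.leaf ⟨(nat_lit 3), (nat_lit 7), (nat_lit 15), (nat_lit 0x354c063a200410847f45c7a35af901), (nat_lit 0x12390801427f18ce281802214008110), (nat_lit 0)⟩) (BT.leaf ⟨(nat_lit 3), (nat_lit 15), (nat_lit 7), (nat_lit 0x12390801427f18ce281802214008110), (nat_lit 0x354c063a200410847f45c7a35af901), (nat_lit 0)⟩)) (BT.node (nat_lit 4055) (BT.leaf ⟨(nat_lit 2), (nat_lit 12), (nat_lit 12), (nat_lit 0xa24b088bc0420046fc811e1558a57), (nat_lit 0), (nat_lit 0)⟩) (BT.leaf ⟨(nat_lit 2), (nat_lit 12), (nat_lit 12), (nat_lit 0x1002f473a93c004103e3010103a3004), (nat_lit 0), (nat_lit 0)⟩)))) (BT.node (nat_lit 4060) (BT.node (nat_lit 4058) (BT.node (nat_lit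 4057) (BT.leaf ⟨(nat_lit 3), (nat_lit 7), (nat_lit 15), (nat_lit 0xc088010030aa408c63121043cedf8), (nat_lit 0x1a3480ff4210b8c179202093a2b9902), (nat_lit 0)⟩) (BT.leaf ⟨(nat_lit 3), (nat_lit 15), (nat_lit 7), (nat_lit 0x1a3480ff4210b8c179202093a2b9902), (nat_lit 0xc088010030aa408c63121043cedf8), (nat_lit 0)⟩)) (BT.node (nat_lit 4059) (BT.leaf ⟨(nat_lit 3), (nat_lit 15), (nat_lit 9), (nat_lit 0x97b2fec1c5887dafd19378b7c2fdd2), (nat_lit 0x1400c3f3021d5b721104204fd27814), (nat_lit 0)⟩) (BT.leaf ⟨(nat_lit 3), (nat_lit 9), (nat_lit 15), (nat_lit 0x1400c3f3021d5b721104204fd27814), (nat_lit 0x97b2fec1c5887dafd19378b7c2fdd2), (nat_lit 0)⟩))) (BT.node (nat_lit 4062) (BT.node (nat_lit 4061) (BT.leaf ⟨(nat_lit 2), (nat_lit 11), (nat_lit 11), (nat_lit 0x1a37c6534197f35c6f0d16effbc7dd2), (nat_lit 0), (nat_lit 0)⟩) (BT.leaf ⟨(nat_lit 3), (nat_lit 12), (nat_lit 5),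 (nat_lit 0x1e3f86f9d627eb72c2652f3e33c4d34), (nat_lit 0x17a2d419bea25da1ed6855cb4ae45ea), (nat_lit 0)⟩)) (BT.node (nat_lit 4063) (BT.leaf ⟨(nat_lit 3), (nat_lit 5), (nat_lit 12), (nat_lit 0x17a2d419bea25da1ed6855cb4ae45ea), (nat_lit 0x1e3f86f9d627eb72c2652f3e33c4d34), (nat_lit 0)⟩) (BT.leaf ⟨(nat_lit 3), (nat_lit 15), (nat_lit 15), (nat_lit 0x9782f8e6ba58b0de7b77152ad3fa5b), (nat_lit 0x10035c9e880997ff1e0082100697b46), (nat_lit 0)⟩)))))) (BT.node (nat_lit 4080) (BT.node (nat_lit 4072) (BT.node (nat_lit 4068) (BT.node (nat_lit 4066) (BT.node (nat_lit 4065) (BT.leaf ⟨(nat_lit 3), (nat_lit 9), (nat_lit 15), (nat_lit 0xee7652b9577ae51ca99570db0735ff), (nat_lit 0xf5749a36bab52cfa9d53ba7172c36c), (nat_lit 0)⟩) (BT.leaf ⟨(nat_lit 3), (nat_lit 15), (nat_lit 9), (nat_lit 0xf5749a36bab52cfa9d53ba7172c36c), (nat_lit 0xee7652b9577ae51ca99570db0735ff), (nat_lit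 0)⟩)) (BT.node (nat_lit 4067) (BT.leaf ⟨(nat_lit 3), (nat_lit 9), (nat_lit 15), (nat_lit 0xee7652b9577ae51ca99570db0735ff), (nat_lit 0xf5749a36bab52cfa9d53ba7172c36c), (nat_lit 0)⟩) (BT.leaf ⟨(nat_lit 2), (nat_lit 15), (nat_lit 15), (nat_lit 0xffa3947b8eed2629c63ae73cd43e73), (nat_lit 0), (nat_lit 0)⟩))) (BT.node (nat_lit 4070) (BT.node (nat_lit 4069) (BT.leaf ⟨(nat_lit 3), (nat_lit 8), (nat_lit 15), (nat_lit 0xf9f9f01400caf7c492b93421378104), (nat_lit 0x1571978fab620bd66127fb64ac97cc7), (nat_lit 0)⟩) (BT.leaf ⟨(nat_lit 2), (nat_lit 15), (nat_lit 15), (nat_lit 0xffa3947b0e6d26ae62cce73cd43d73), (nat_lit 0), (nat_lit 0)⟩)) (BT.node (nat_lit 4071) (BT.leaf ⟨(nat_lit 3), (nat_lit 15), (nat_lit 8), (nat_lit 0x1571978fab620bd66127fb64ac97cc7), (nat_lit 0xf9f9f01400caf7c492b93421378104), (nat_lit 0)⟩) (BT.leaf ⟨(nat_lit 3), (nat_lit 7), (nat_lit 15), (nat_lit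 0x24ee828111bf0051084ae49d58a08), (nat_lit 0x152c76b1391d27a4d3d82ec9aa4fc96), (nat_lit 0)⟩)))) (BT.node (nat_lit 4076) (BT.node (nat_lit 4074) (BT.node (nat_lit 4073) (BT.leaf ⟨(nat_lit 3), (nat_lit 15), (nat_lit 7), (nat_lit 0x152c76b1391d27a4d3d82ec9aa4fc96), (nat_lit 0x24ee828111bf0051084ae49d58a08), (nat_lit 0)⟩) (BT.leaf ⟨(nat_lit 3), (nat_lit 13), (nat_lit 15), (nat_lit 0x197e014016754be401e871b40300408), (nat_lit 0x1c877a1ceda92acbca6a6393d3787db), (nat_lit 0)⟩)) (BT.node (nat_lit 4075) (BT.leaf ⟨(nat_lit 2), (nat_lit 15), (nat_lit 15), (nat_lit 0x11ee3bbfe8e50cf164630e79cd43cf3), (nat_lit 0), (nat_lit 0)⟩) (BT.leaf ⟨(nat_lit 3), (nat_lit 15), (nat_lit 13), (nat_lit 0x1c877a1ceda92acbca6a6393d3787db), (nat_lit 0x197e014016754be401e871b40300408), (nat_lit 0)⟩))) (BT.node (nat_lit 4078) (BT.node (nat_lit 4077) (BT.leaf ⟨(nat_lit 3), (nat_lit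 15), (nat_lit 7), (nat_lit 0x8e6b4180ce86be0f084f8d20386880), (nat_lit 0x1bf255ef6fb6bd390ff49e9b533a44d), (nat_lit 0)⟩) (BT.leaf ⟨(nat_lit 3), (nat_lit 7), (nat_lit 15), (nat_lit 0x1bf255ef6fb6bd390ff49e9b533a44d), (nat_lit 0x8e6b4180ce86be0f084f8d20386880), (nat_lit 0)⟩)) (BT.node (nat_lit 4079) (BT.leaf ⟨(nat_lit 2), (nat_lit 15), (nat_lit 15), (nat_lit 0x151865f42e8e6ca8ce6968dd3b837c6), (nat_lit 0), (nat_lit 0)⟩) (BT.leaf ⟨(nat_lit 3), (nat_lit 15), (nat_lit 7), (nat_lit 0x1b042f8e6aca93f1635f714dc12f1bc), (nat_lit 0x11373a6d4a2fbc17a6b4e43fd37aef4), (nat_lit 0)⟩))))) (BT.node (nat_lit 4088) (BT.node (nat_lit 4084) (BT.node (nat_lit 4082) (BT.node (nat_lit 4081) (BT.leaf ⟨(nat_lit 3), (nat_lit 7), (nat_lit 15), (nat_lit 0x11373a6d4a2fbc17a6b4e43fd37aef4), (nat_lit 0x1b042f8e6aca93f1635f714dc12f1bc), (nat_lit 0)⟩) (BT.leaf ⟨(nat_lit 3), (nat_lit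 15), (nat_lit 7), (nat_lit 0xfcefc050dc90423189055205008210), (nat_lit 0x1466a33d8e0dd1cd97660f97ff34e46), (nat_lit 0)⟩)) (BT.node (nat_lit 4083) (BT.leaf ⟨(nat_lit 3), (nat_lit 7), (nat_lit 15), (nat_lit 0x1466a33d8e0dd1cd97660f97ff34e46), (nat_lit 0xfcefc050dc90423189055205008210), (nat_lit 0)⟩) (BT.leaf ⟨(nat_lit 3), (nat_lit 11), (nat_lit 15), (nat_lit 0x111204def9a142200420830cd7cf7a), (nat_lit 0x1fd171ce8300d7f469402104131d573), (nat_lit 0)⟩))) (BT.node (nat_lit 4086) (BT.node (nat_lit 4085) (BT.leaf ⟨(nat_lit 3), (nat_lit 15), (nat_lit 11), (nat_lit 0x1fd171ce8300d7f469402104131d573), (nat_lit 0x111204def9a142200420830cd7cf7a), (nat_lit 0)⟩) (BT.leaf ⟨(nat_lit 3), (nat_lit 7), (nat_lit 15), (nat_lit 0x1bd17a6f6ce92ad356b42f33d226fdb), (nat_lit 0x1042016b9fc702300480808e3697e5f), (nat_lit 0)⟩)) (BT.node (nat_lit 4087) (BT.leaf ⟨(nat_lit 3), (nat_lit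 15), (nat_lit 7), (nat_lit 0x1042016b9fc702300480808e3697e5f), (nat_lit 0x1bd17a6f6ce92ad356b42f33d226fdb), (nat_lit 0)⟩) (BT.leaf ⟨(nat_lit 3), (nat_lit 7), (nat_lit 15), (nat_lit 0x71608012221238480107e7e7772210), (nat_lit 0x6c943d1789bad37e6f5ce9c86559ce), (nat_lit 0)⟩)))) (BT.node (nat_lit 4092) (BT.node (nat_lit 4090) (BT.node (nat_lit 4089) (BT.leaf ⟨(nat_lit 3), (nat_lit 15), (nat_lit 7), (nat_lit 0x6c943d1789bad37e6f5ce9c86559ce), (nat_lit 0x71608012221238480107e7e7772210), (nat_lit 0)⟩) (BT.leaf ⟨(nat_lit 3), (nat_lit 15), (nat_lit 7), (nat_lit 0x10070009ebab102041e8a012032f873), (nat_lit 0x1c86ea9d56d8e28ea6582ab52e1e9f5), (nat_lit 0)⟩)) (BT.node (nat_lit 4091) (BT.leaf ⟨(nat_lit 3), (nat_lit 7), (nat_lit 15), (nat_lit 0x1c86ea9d56d8e28ea6582ab52e1e9f5), (nat_lit 0x10070009ebab102041e8a012032f873), (nat_lit 0)⟩) (BT.leaf ⟨(nat_lit 3), (nat_lit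 13), (nat_lit 13), (nat_lit 0xf634987ceadd12a374e3657fc65d19), (nat_lit 0x1ceb7a49e0217a3c69003aaae50025f), (nat_lit 0)⟩))) (BT.node (nat_lit 4094) (BT.node (nat_lit 4093) (BT.leaf ⟨(nat_lit 3), (nat_lit 9), (nat_lit 15), (nat_lit 0x17e08846338a840083f349f2389ff9d), (nat_lit 0x1001003e325fce8401d593c10010010), (nat_lit 0)⟩) (BT.leaf ⟨(nat_lit 3), (nat_lit 15), (nat_lit 9), (nat_lit 0x1001003e325fce8401d593c10010010), (nat_lit 0x17e08846338a840083f349f2389ff9d), (nat_lit 0)⟩)) (BT.node (nat_lit 4095) (BT.leaf ⟨(nat_lit 3), (nat_lit 7), (nat_lit 15), (nat_lit 0x2014018019e15f5f3201295ef06fc), (nat_lit 0x167b46d731aa405804e83000bc84120), (nat_lit 0)⟩) (BT.leaf ⟨(nat_lit 3), (nat_lit 15), (nat_lit 7), (nat_lit 0x167b46d731aa405804e83000bc84120), (nat_lit 0x2014018019e15f5f3201295ef06fc), (nat_lit 0)⟩)))))))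
noncomputable def cP4032 : BT Pf := (BT.node (nat_lit 4064) (BT.node (nat_lit 4048) (BT.node (nat_lit 4040) (BT.node (nat_lit 4036) (BT.node (nat_lit 4034) (BT.node (nat_lit 4033) (BT.leaf (.rel (nat_lit 3650) (nat_lit 4) [(nat_lit 1102), (nat_lit 294)] [⟨(nat_lit 3769), [(nat_lit 3488)], [(nat_lit 463), (nat_lit 557)]⟩, ⟨(nat_lit 4024), [(nat_lit 3720)], [(nat_lit 95), (nat_lit 497)]⟩])) (BT.leaf (.inv (nat_lit 4032)))) (BT.node (nat_lit 4035) (BT.leaf (.rel (nat_lit 3822) (nat_lit 3) [(nat_lit 1173), (nat_lit 1192)] [⟨(nat_lit 2942), [], [(nat_lit 629), (nat_lit 320)]⟩, ⟨(nat_lit 3926), [(nat_lit 935)], [(nat_lit 192), (nat_lit 694)]⟩])) (BT.leaf (.rel (nat_lit 4031) (nat_lit 3) [(nat_lit 942), (nat_lit 752)] [⟨(nat_lit 1231), [(nat_lit 935)], [(nat_lit 446), (nat_lit 372)]⟩, ⟨(nat_lit 3967), [(nat_lit 935)], [(nat_lit 95), (nat_lit 1871)]⟩]))))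 (BT.node (nat_lit 4038) (BT.node (nat_lit 4037) (BT.leaf (.inv (nat_lit 4035))) (BT.leaf (.rel (nat_lit 3853) (nat_lit 3) [(nat_lit 257), (nat_lit 572)] [⟨(nat_lit 3961), [(nat_lit 3917)], [(nat_lit 195), (nat_lit 1472)]⟩, ⟨(nat_lit 4035), [(nat_lit 3740)], [(nat_lit 1032), (nat_lit 693)]⟩]))) (BT.node (nat_lit 4039) (BT.leaf (.inv (nat_lit 4037))) (BT.leaf (.rel (nat_lit 3269) (nat_lit 1) [(nat_lit 358), (nat_lit 389)] [⟨(nat_lit 3269), [(nat_lit 3195)], [(nat_lit 423), (nat_lit 396)]⟩]))))) (BT.node (nat_lit 4044) (BT.node (nat_lit 4042) (BT.node (nat_lit 4041) (BT.leaf (.rel (nat_lit 3771) (nat_lit 0) [(nat_lit 1014), (nat_lit 559)] [⟨(nat_lit 4012), [], [(nat_lit 484), (nat_lit 808)]⟩])) (BT.leaf (.inv (nat_lit 4040)))) (BT.node (nat_lit 4043) (BT.leaf (.rel (nat_lit 4016) (nat_lit 4) [(nat_lit 575), (nat_lit 711)] [⟨(nat_lit 3805), [(nat_lit 4021)],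 [(nat_lit 763), (nat_lit 107)]⟩, ⟨(nat_lit 2010), [], [(nat_lit 1032), (nat_lit 372)]⟩])) (BT.leaf (.inv (nat_lit 4042))))) (BT.node (nat_lit 4046) (BT.node (nat_lit 4045) (BT.leaf (.rel (nat_lit 3881) (nat_lit 5) [(nat_lit 406), (nat_lit 1123)] [⟨(nat_lit 2019), [(nat_lit 2376)], [(nat_lit 164), (nat_lit 249)]⟩, ⟨(nat_lit 3833), [], [(nat_lit 526), (nat_lit 777)]⟩])) (BT.leaf (.rel (nat_lit 3199) (nat_lit 5) [(nat_lit 502), (nat_lit 500)] [⟨(nat_lit 2143), [(nat_lit 1870)], [(nat_lit 826), (nat_lit 108)]⟩, ⟨(nat_lit 3198), [(nat_lit 1870)], [(nat_lit 300), (nat_lit 864)]⟩]))) (BT.node (nat_lit 4047) (BT.leaf (.dfn [(nat_lit 3), (nat_lit 1), (nat_lit 4), (nat_lit 1), (nat_lit 4), (nat_lit 1), (nat_lit 4)])) (BT.leaf (.inv (nat_lit 4046))))))) (BT.node (nat_lit 4056) (BT.node (nat_lit 4052) (BT.node (nat_lit 4050) (BT.node (nat_lit 4049) (BT.leaf (.rel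 (nat_lit 4036) (nat_lit 1) [(nat_lit 241), (nat_lit 1021)] [⟨(nat_lit 4024), [(nat_lit 3720)], [(nat_lit 1106), (nat_lit 1329)]⟩])) (BT.leaf (.rel (nat_lit 4002) (nat_lit 1) [(nat_lit 469), (nat_lit 490)] [⟨(nat_lit 4000), [], [(nat_lit 446), (nat_lit 597)]⟩]))) (BT.node (nat_lit 4051) (BT.leaf (.rel (nat_lit 4047) (nat_lit 1) [(nat_lit 151), (nat_lit 1192)] [⟨(nat_lit 994), [(nat_lit 926)], [(nat_lit 826), (nat_lit 170)]⟩])) (BT.leaf (.inv (nat_lit 4050))))) (BT.node (nat_lit 4054) (BT.node (nat_lit 4053) (BT.leaf (.rel (nat_lit 4047) (nat_lit 1) [(nat_lit 216), (nat_lit 652)] [⟨(nat_lit 981), [(nat_lit 816)], [(nat_lit 695), (nat_lit 499)]⟩])) (BT.leaf (.inv (nat_lit 4052)))) (BT.node (nat_lit 4055) (BT.leaf (.emul [(nat_lit 3594), (nat_lit 4027)])) (BT.leaf (.emul [(nat_lit 3600), (nat_lit 4054)]))))) (BT.node (nat_lit 4060) (BT.node (nat_lit 4058)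 (BT.node (nat_lit 4057) (BT.leaf (.rel (nat_lit 4053) (nat_lit 4) [(nat_lit 216), (nat_lit 190)] [⟨(nat_lit 3667), [], [(nat_lit 567), (nat_lit 1036)]⟩, ⟨(nat_lit 3695), [(nat_lit 4055)], [(nat_lit 97), (nat_lit 472)]⟩])) (BT.leaf (.inv (nat_lit 4056)))) (BT.node (nat_lit 4059) (BT.leaf (.rel (nat_lit 2254) (nat_lit 0) [(nat_lit 450), (nat_lit 472)] [⟨(nat_lit 4046), [(nat_lit 938)], [(nat_lit 902), (nat_lit 202)]⟩])) (BT.leaf (.inv (nat_lit 4058))))) (BT.node (nat_lit 4062) (BT.node (nat_lit 4061) (BT.leaf (.emul [(nat_lit 3223), (nat_lit 3724)])) (BT.leaf (.rel (nat_lit 3437) (nat_lit 3) [(nat_lit 470), (nat_lit 1223)] [⟨(nat_lit 3777), [(nat_lit 4060)], [(nat_lit 900), (nat_lit 328)]⟩, ⟨(nat_lit 3872), [(nat_lit 3720)], [(nat_lit 945), (nat_lit 906)]⟩]))) (BT.node (nat_lit 4063) (BT.leaf (.inv (nat_lit 4061))) (BT.leaf (.rel (nat_lit 4058) (nat_lit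 5) [(nat_lit 240), (nat_lit 108)] [⟨(nat_lit 2518), [(nat_lit 2237)], [(nat_lit 387), (nat_lit 572)]⟩, ⟨(nat_lit 4056), [(nat_lit 935)], [(nat_lit 96), (nat_lit 126)]⟩]))))))) (BT.node (nat_lit 4080) (BT.node (nat_lit 4072) (BT.node (nat_lit 4068) (BT.node (nat_lit 4066) (BT.node (nat_lit 4065) (BT.leaf (.rel (nat_lit 4047) (nat_lit 1) [(nat_lit 178), (nat_lit 432)] [⟨(nat_lit 2515), [(nat_lit 937)], [(nat_lit 357), (nat_lit 712)]⟩])) (BT.leaf (.inv (nat_lit 4064)))) (BT.node (nat_lit 4067) (BT.leaf (.inv (nat_lit 4065))) (BT.leaf (.cmp (nat_lit 4066) ⟨(nat_lit 4059), [(nat_lit 2237)], [(nat_lit 619), (nat_lit 396)]⟩)))) (BT.node (nat_lit 4070) (BT.node (nat_lit 4069) (BT.leaf (.rel (nat_lit 4057) (nat_lit 1) [(nat_lit 1013), (nat_lit 390)] [⟨(nat_lit 1875), [(nat_lit 935)], [(nat_lit 461), (nat_lit 125)]⟩])) (BT.leaf (.cmp (nat_lit 4068) ⟨(nat_lit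 4068), [(nat_lit 1883)], [(nat_lit 914), (nat_lit 140)]⟩))) (BT.node (nat_lit 4071) (BT.leaf (.inv (nat_lit 4068))) (BT.leaf (.rel (nat_lit 4047) (nat_lit 3) [(nat_lit 544), (nat_lit 736)] [⟨(nat_lit 810), [(nat_lit 437)], [(nat_lit 216), (nat_lit 290)]⟩, ⟨(nat_lit 981), [(nat_lit 817)], [(nat_lit 503), (nat_lit 278)]⟩]))))) (BT.node (nat_lit 4076) (BT.node (nat_lit 4074) (BT.node (nat_lit 4073) (BT.leaf (.inv (nat_lit 4071))) (BT.leaf (.rel (nat_lit 4047) (nat_lit 2) [(nat_lit 473), (nat_lit 390)] [⟨(nat_lit 2515), [(nat_lit 750)], [(nat_lit 193), (nat_lit 499)]⟩, ⟨(nat_lit 3937), [(nat_lit 2549)], [(nat_lit 348), (nat_lit 472)]⟩]))) (BT.node (nat_lit 4075) (BT.leaf (.cmp (nat_lit 4073) ⟨(nat_lit 4073), [(nat_lit 3734)], [(nat_lit 787), (nat_lit 506)]⟩)) (BT.leaf (.inv (nat_lit 4073))))) (BT.node (nat_lit 4078) (BT.node (nat_lit 4077) (BT.leaf (.rel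 (nat_lit 2552) (nat_lit 5) [(nat_lit 1126), (nat_lit 375)] [⟨(nat_lit 2330), [(nat_lit 2167)], [(nat_lit 569), (nat_lit 288)]⟩, ⟨(nat_lit 4046), [(nat_lit 1029)], [(nat_lit 446), (nat_lit 107)]⟩])) (BT.leaf (.inv (nat_lit 4076)))) (BT.node (nat_lit 4079) (BT.leaf (.cmp (nat_lit 4077) ⟨(nat_lit 4052), [], [(nat_lit 653), (nat_lit 206)]⟩)) (BT.leaf (.rel (nat_lit 1319) (nat_lit 1) [(nat_lit 829), (nat_lit 752)] [⟨(nat_lit 4052), [(nat_lit 775)], [(nat_lit 511), (nat_lit 252)]⟩])))))) (BT.node (nat_lit 4088) (BT.node (nat_lit 4084) (BT.node (nat_lit 4082) (BT.node (nat_lit 4081) (BT.leaf (.inv (nat_lit 4079))) (BT.leaf (.rel (nat_lit 2475) (nat_lit 3) [(nat_lit 1099), (nat_lit 1192)] [⟨(nat_lit 2421), [], [(nat_lit 387), (nat_lit 785)]⟩, ⟨(nat_lit 4046), [(nat_lit 817)], [(nat_lit 128), (nat_lit 1329)]⟩]))) (BT.node (nat_lit 4083) (BT.leaf (.inv (nat_lit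 4081))) (BT.leaf (.rel (nat_lit 4058) (nat_lit 4) [(nat_lit 283), (nat_lit 1203)] [⟨(nat_lit 2419), [(nat_lit 2237)], [(nat_lit 92), (nat_lit 1036)]⟩, ⟨(nat_lit 3385), [], [(nat_lit 195), (nat_lit 700)]⟩])))) (BT.node (nat_lit 4086) (BT.node (nat_lit 4085) (BT.leaf (.inv (nat_lit 4083))) (BT.leaf (.rel (nat_lit 4053) (nat_lit 5) [(nat_lit 695), (nat_lit 581)] [⟨(nat_lit 1654), [(nat_lit 935)], [(nat_lit 1257), (nat_lit 813)]⟩, ⟨(nat_lit 836), [], [(nat_lit 423), (nat_lit 1410)]⟩]))) (BT.node (nat_lit 4087) (BT.leaf (.inv (nat_lit 4085))) (BT.leaf (.rel (nat_lit 4070) (nat_lit 2) [(nat_lit 1600), (nat_lit 870)] [⟨(nat_lit 2320), [], [(nat_lit 358), (nat_lit 1109)]⟩, ⟨(nat_lit 2547), [(nat_lit 2549)], [(nat_lit 166), (nat_lit 401)]⟩]))))) (BT.node (nat_lit 4092) (BT.node (nat_lit 4090) (BT.node (nat_lit 4089) (BT.leaf (.inv (nat_lit 4087))) (BT.leaf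 (.rel (nat_lit 1085) (nat_lit 0) [(nat_lit 1013), (nat_lit 1109)] [⟨(nat_lit 4046), [(nat_lit 750)], [(nat_lit 406), (nat_lit 478)]⟩]))) (BT.node (nat_lit 4091) (BT.leaf (.inv (nat_lit 4089))) (BT.leaf (.rel (nat_lit 4012) (nat_lit 1) [(nat_lit 43), (nat_lit 1256)] [⟨(nat_lit 4016), [(nat_lit 4010)], [(nat_lit 376), (nat_lit 1256)]⟩])))) (BT.node (nat_lit 4094) (BT.node (nat_lit 4093) (BT.leaf (.rel (nat_lit 4088) (nat_lit 2) [(nat_lit 827), (nat_lit 596)] [⟨(nat_lit 1414), [], [(nat_lit 787), (nat_lit 264)]⟩, ⟨(nat_lit 2698), [], [(nat_lit 915), (nat_lit 532)]⟩])) (BT.leaf (.inv (nat_lit 4092)))) (BT.node (nat_lit 4095) (BT.leaf (.rel (nat_lit 4089) (nat_lit 0) [(nat_lit 2061), (nat_lit 736)] [⟨(nat_lit 1264), [(nat_lit 935)], [(nat_lit 167), (nat_lit 682)]⟩])) (BT.leaf (.inv (nat_lit 4094)))))))))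
noncomputable def cF4096 : BT Fc := (BT.node (nat_lit 4128) (BT.node (nat_lit 4112) (BT.node (nat_lit 4104) (BT.node (nat_lit 4100) (BT.node (nat_lit 4098) (BT.node (nat_lit 4097) (BT.leaf ⟨(nat_lit 3), (nat_lit 15), (nat_lit 7), (nat_lit 0x420907f4200354a035f05eb8e74110), (nat_lit 0x1259f58084ae776f0018df849c052b1), (nat_lit 0)⟩) (BT.leaf ⟨(nat_lit 3), (nat_lit 7), (nat_lit 15), (nat_lit 0x1259f58084ae776f0018df849c052b1), (nat_lit 0x420907f4200354a035f05eb8e74110), (nat_lit 0)⟩)) (BT.node (nat_lit 4099) (BT.leaf ⟨(nat_lit 3), (nat_lit 15), (nat_lit 13), (nat_lit 0x127c018210224ba00be22021052f005), (nat_lit 0x892ef8f20400b9c6f63ae02af5402), (nat_lit 0)⟩) (BT.leaf ⟨(nat_lit 3), (nat_lit 13), (nat_lit 15), (nat_lit 0x892ef8f20400b9c6f63ae02af5402), (nat_lit 0x127c018210224ba00be22021052f005), (nat_lit 0)⟩))) (BT.node (nat_lit 4102) (BT.node (nat_lit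 4101) (BT.leaf ⟨(nat_lit 3), (nat_lit 8), (nat_lit 15), (nat_lit 0x5daf4dc887bfa18e5ea337ede741e8), (nat_lit 0xa37e0884af1eef04083ba42093c96), (nat_lit 0)⟩) (BT.leaf ⟨(nat_lit 3), (nat_lit 15), (nat_lit 8), (nat_lit 0xa37e0884af1eef04083ba42093c96), (nat_lit 0x5daf4dc887bfa18e5ea337ede741e8), (nat_lit 0)⟩)) (BT.node (nat_lit 4103) (BT.leaf ⟨(nat_lit 3), (nat_lit 15), (nat_lit 13), (nat_lit 0x1edccdce887b6a1695eabf15a2f62ae), (nat_lit 0xf8cde3a3f208da6cc6e7e6fadf1363), (nat_lit 0)⟩) (BT.leaf ⟨(nat_lit 3), (nat_lit 13), (nat_lit 15), (nat_lit 0xf8cde3a3f208da6cc6e7e6fadf1363), (nat_lit 0x1edccdce887b6a1695eabf15a2f62ae), (nat_lit 0)⟩)))) (BT.node (nat_lit 4108) (BT.node (nat_lit 4106) (BT.node (nat_lit 4105) (BT.leaf ⟨(nat_lit 3), (nat_lit 8), (nat_lit 15), (nat_lit 0x17dafadfba58b1c5370cbe96d0fa57), (nat_lit 0x10097a52fa007a20044082197dc689e), (nat_lit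 0)⟩) (BT.leaf ⟨(nat_lit 3), (nat_lit 15), (nat_lit 8), (nat_lit 0x10097a52fa007a20044082197dc689e), (nat_lit 0x17dafadfba58b1c5370cbe96d0fa57), (nat_lit 0)⟩)) (BT.node (nat_lit 4107) (BT.leaf ⟨(nat_lit 3), (nat_lit 15), (nat_lit 9), (nat_lit 0xb7d0fa5dcbe96eb2dd237897c7338a), (nat_lit 0x28229821ecc182e410f4fe0a25f220), (nat_lit 0)⟩) (BT.leaf ⟨(nat_lit 3), (nat_lit 9), (nat_lit 15), (nat_lit 0x28229821ecc182e410f4fe0a25f220), (nat_lit 0xb7d0fa5dcbe96eb2dd237897c7338a), (nat_lit 0)⟩))) (BT.node (nat_lit 4110) (BT.node (nat_lit 4109) (BT.leaf ⟨(nat_lit 3), (nat_lit 15), (nat_lit 8), (nat_lit 0x9fd2da5e71495cde37043f4647325d), (nat_lit 0x189580cf120164d25bde009082742), (nat_lit 0)⟩) (BT.leaf ⟨(nat_lit 3), (nat_lit 8), (nat_lit 15), (nat_lit 0x189580cf120164d25bde009082742), (nat_lit 0x9fd2da5e71495cde37043f4647325d), (nat_lit 0)⟩)) (BT.node (nat_lit 4111)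 (BT.leaf ⟨(nat_lit 3), (nat_lit 15), (nat_lit 13), (nat_lit 0xc7263ce8fd1721577515a57a0bb5ea), (nat_lit 0x11b91b3c3fc6e8df0f907d6b30f19bc), (nat_lit 0)⟩) (BT.leaf ⟨(nat_lit 3), (nat_lit 13), (nat_lit 15), (nat_lit 0x11b91b3c3fc6e8df0f907d6b30f19bc), (nat_lit 0xc7263ce8fd1721577515a57a0bb5ea), (nat_lit 0)⟩))))) (BT.node (nat_lit 4120) (BT.node (nat_lit 4116) (BT.node (nat_lit 4114) (BT.node (nat_lit 4113) (BT.leaf ⟨(nat_lit 3), (nat_lit 15), (nat_lit 11), (nat_lit 0x1e34202008e6400eabe325e2037a010), (nat_lit 0xb31e1ba394a78cad3e3f2145e373f3), (nat_lit 0)⟩) (BT.leaf ⟨(nat_lit 3), (nat_lit 11), (nat_lit 15), (nat_lit 0xb31e1ba394a78cad3e3f2145e373f3), (nat_lit 0x1e34202008e6400eabe325e2037a010), (nat_lit 0)⟩)) (BT.node (nat_lit 4115) (BT.leaf ⟨(nat_lit 3), (nat_lit 7), (nat_lit 15), (nat_lit 0xaedcb534d72ae57cab1ea2399dc95a), (nat_lit 0x41f1c002001037a08093d7a12f808),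 (nat_lit 0)⟩) (BT.leaf ⟨(nat_lit 3), (nat_lit 15), (nat_lit 7), (nat_lit 0x41f1c002001037a08093d7a12f808), (nat_lit 0xaedcb534d72ae57cab1ea2399dc95a), (nat_lit 0)⟩))) (BT.node (nat_lit 4118) (BT.node (nat_lit 4117) (BT.leaf ⟨(nat_lit 3), (nat_lit 7), (nat_lit 15), (nat_lit 0x123876c9c7b10798989e2ed2fb4f3a4), (nat_lit 0x1c694ca204fe481e18308a643c10820), (nat_lit 0)⟩) (BT.leaf ⟨(nat_lit 3), (nat_lit 15), (nat_lit 7), (nat_lit 0x1c694ca204fe481e18308a643c10820), (nat_lit 0x123876c9c7b10798989e2ed2fb4f3a4), (nat_lit 0)⟩)) (BT.node (nat_lit 4119) (BT.leaf ⟨(nat_lit 3), (nat_lit 13), (nat_lit 13), (nat_lit 0x1c37c2f8cd1bf3532b8d627e3465c6e), (nat_lit 0x1e3189f0d8ddeb532b8df0a5e465e8d), (nat_lit 0)⟩) (BT.leaf ⟨(nat_lit 3), (nat_lit 7), (nat_lit 15), (nat_lit 0x1ce97b8d8050017a5d581197e08404), (nat_lit 0x1c369a7adf19a37c6b8d7fde3d898cb), (nat_lit 0)⟩)))) (BT.node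 (nat_lit 4124) (BT.node (nat_lit 4122) (BT.node (nat_lit 4121) (BT.leaf ⟨(nat_lit 3), (nat_lit 15), (nat_lit 7), (nat_lit 0x1c369a7adf19a37c6b8d7fde3d898cb), (nat_lit 0x1ce97b8d8050017a5d581197e08404), (nat_lit 0)⟩) (BT.leaf ⟨(nat_lit 3), (nat_lit 15), (nat_lit 15), (nat_lit 0x1e372c78ff1232dff38d6265e6c6d34), (nat_lit 0x56a52be7efa8da6cbe23c71b9d1ae3), (nat_lit 0)⟩)) (BT.node (nat_lit 4123) (BT.leaf ⟨(nat_lit 3), (nat_lit 15), (nat_lit 7), (nat_lit 0x17c4abdde0210821d1bd84ac02044), (nat_lit 0x6c943c4ddc87397a4f4debad37a6fc), (nat_lit 0)⟩) (BT.leaf ⟨(nat_lit 3), (nat_lit 7), (nat_lit 15), (nat_lit 0x6c943c4ddc87397a4f4debad37a6fc), (nat_lit 0x17c4abdde0210821d1bd84ac02044), (nat_lit 0)⟩))) (BT.node (nat_lit 4126) (BT.node (nat_lit 4125) (BT.leaf ⟨(nat_lit 3), (nat_lit 10), (nat_lit 10), (nat_lit 0x1d99a3746f8d91bab747e899a59ad46), (nat_lit 0x1a79087e8402cbf002807aac0339d46),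 (nat_lit 0)⟩) (BT.leaf ⟨(nat_lit 3), (nat_lit 9), (nat_lit 15), (nat_lit 0x1010220067ceaf63bf89256050e8c9a), (nat_lit 0x1ee8482391819d16f8a0ad0d8c427c6), (nat_lit 0)⟩)) (BT.node (nat_lit 4127) (BT.leaf ⟨(nat_lit 3), (nat_lit 15), (nat_lit 9), (nat_lit 0x1ee8482391819d16f8a0ad0d8c427c6), (nat_lit 0x1010220067ceaf63bf89256050e8c9a), (nat_lit 0)⟩) (BT.leaf ⟨(nat_lit 3), (nat_lit 15), (nat_lit 15), (nat_lit 0x3378006409cf95e92b00811042024), (nat_lit 0x1e74e2bf3023041085f849e4fc0a463), (nat_lit 0)⟩)))))) (BT.node (nat_lit 4144) (BT.node (nat_lit 4136) (BT.node (nat_lit 4132) (BT.node (nat_lit 4130) (BT.node (nat_lit 4129) (BT.leaf ⟨(nat_lit 3), (nat_lit 15), (nat_lit 15), (nat_lit 0x1e74e2bf3023041085f849e4fc0a463), (nat_lit 0x3378006409cf95e92b00811042024), (nat_lit 0)⟩) (BT.leaf ⟨(nat_lit 2), (nat_lit 15), (nat_lit 15), (nat_lit 0x40841402404aecebc9cf1e00c01006),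 (nat_lit 0), (nat_lit 0)⟩)) (BT.node (nat_lit 4131) (BT.leaf ⟨(nat_lit 2), (nat_lit 15), (nat_lit 15), (nat_lit 0x11020a40f9bde82806028030383048), (nat_lit 0), (nat_lit 0)⟩) (BT.leaf ⟨(nat_lit 2), (nat_lit 15), (nat_lit 15), (nat_lit 0x1bf33a179fe9137edcabde1bd543af4), (nat_lit 0), (nat_lit 0)⟩))) (BT.node (nat_lit 4134) (BT.node (nat_lit 4133) (BT.leaf ⟨(nat_lit 3), (nat_lit 9), (nat_lit 15), (nat_lit 0x5d9d24bea9727e4e59e83d26ad8f7d), (nat_lit 0x100b9c3e1f1fbd896802bd4aee4e003), (nat_lit 0)⟩) (BT.leaf ⟨(nat_lit 3), (nat_lit 15), (nat_lit 9), (nat_lit 0x100b9c3e1f1fbd896802bd4aee4e003), (nat_lit 0x5d9d24bea9727e4e59e83d26ad8f7d), (nat_lit 0)⟩)) (BT.node (nat_lit 4135) (BT.leaf ⟨(nat_lit 3), (nat_lit 15), (nat_lit 10), (nat_lit 0x17a7a3c9f25c75200821403bd408809), (nat_lit 0x1e177e127019783a73eb0100623d80a), (nat_lit 0)⟩) (BT.leaf ⟨(nat_lit 3), (nat_lit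 10), (nat_lit 15), (nat_lit 0x1e177e127019783a73eb0100623d80a), (nat_lit 0x17a7a3c9f25c75200821403bd408809), (nat_lit 0)⟩)))) (BT.node (nat_lit 4140) (BT.node (nat_lit 4138) (BT.node (nat_lit 4137) (BT.leaf ⟨(nat_lit 3), (nat_lit 15), (nat_lit 15), (nat_lit 0x146655dd271493c73370f6e9752f05f), (nat_lit 0x11c5ff287ce71ca3bd5c8e6cd631da6), (nat_lit 0)⟩) (BT.leaf ⟨(nat_lit 3), (nat_lit 7), (nat_lit 15), (nat_lit 0x7150811027fd5927bf38c604395014), (nat_lit 0xf624e4dea97df60f6c1b62c4d3509e), (nat_lit 0)⟩)) (BT.node (nat_lit 4139) (BT.leaf ⟨(nat_lit 3), (nat_lit 15), (nat_lit 7), (nat_lit 0xf624e4dea97df60f6c1b62c4d3509e), (nat_lit 0x7150811027fd5927bf38c604395014), (nat_lit 0)⟩) (BT.leaf ⟨(nat_lit 3), (nat_lit 9), (nat_lit 15), (nat_lit 0x308447b0140601449656212093f85), (nat_lit 0x1b06b2fb75be95d0fb8a4ba399b862c), (nat_lit 0)⟩))) (BT.node (nat_lit 4142)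 (BT.node (nat_lit 4141) (BT.leaf ⟨(nat_lit 3), (nat_lit 15), (nat_lit 9), (nat_lit 0x1b06b2fb75be95d0fb8a4ba399b862c), (nat_lit 0x308447b0140601449656212093f85), (nat_lit 0)⟩) (BT.leaf ⟨(nat_lit 3), (nat_lit 15), (nat_lit 7), (nat_lit 0xf624d5b14d4e920f6c1c4f2f8bb69e), (nat_lit 0x1bc3fa44dde92acbca6a639ad0d97db), (nat_lit 0)⟩)) (BT.node (nat_lit 4143) (BT.leaf ⟨(nat_lit 3), (nat_lit 7), (nat_lit 15), (nat_lit 0x1bc3fa44dde92acbca6a639ad0d97db), (nat_lit 0xf624d5b14d4e920f6c1c4f2f8bb69e), (nat_lit 0)⟩) (BT.leaf ⟨(nat_lit 3), (nat_lit 13), (nat_lit 15), (nat_lit 0x1b904879d7e6141548188c7d5b9513f), (nat_lit 0x1c1be376668dd186587ca32cd6a3669), (nat_lit 0)⟩))))) (BT.node (nat_lit 4152) (BT.node (nat_lit 4148) (BT.node (nat_lit 4146) (BT.node (nat_lit 4145) (BT.leaf ⟨(nat_lit 3), (nat_lit 15), (nat_lit 13), (nat_lit 0x1c1be376668dd186587ca32cd6a3669), (nat_lit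 0x1b904879d7e6141548188c7d5b9513f), (nat_lit 0)⟩) (BT.leaf ⟨(nat_lit 3), (nat_lit 15), (nat_lit 5), (nat_lit 0x19629a265ba5e33d6f9d2f3a37c6ea2), (nat_lit 0x1365e19bc7cef891b3e37e6569b19e3), (nat_lit 0)⟩)) (BT.node (nat_lit 4147) (BT.leaf ⟨(nat_lit 3), (nat_lit 5), (nat_lit 15), (nat_lit 0x1365e19bc7cef891b3e37e6569b19e3), (nat_lit 0x19629a265ba5e33d6f9d2f3a37c6ea2), (nat_lit 0)⟩) (BT.leaf ⟨(nat_lit 2), (nat_lit 13), (nat_lit 13), (nat_lit 0x714e88fa3eba4cea0d5cb0f561ed4b), (nat_lit 0), (nat_lit 0)⟩))) (BT.node (nat_lit 4150) (BT.node (nat_lit 4149) (BT.leaf ⟨(nat_lit 3), (nat_lit 15), (nat_lit 14), (nat_lit 0x50346bb9ae60bf231026003548863a), (nat_lit 0x1c693f8208400865f03005008910060), (nat_lit 0)⟩) (BT.leaf ⟨(nat_lit 3), (nat_lit 14), (nat_lit 15), (nat_lit 0x1c693f8208400865f03005008910060), (nat_lit 0x50346bb9ae60bf231026003548863a), (nat_lit 0)⟩))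 (BT.node (nat_lit 4151) (BT.leaf ⟨(nat_lit 3), (nat_lit 8), (nat_lit 15), (nat_lit 0xf8df09e3787295f5a365c6569b1e0b), (nat_lit 0x1c6b9973ee762df9c53af74d25693a4), (nat_lit 0)⟩) (BT.leaf ⟨(nat_lit 3), (nat_lit 15), (nat_lit 8), (nat_lit 0x1c6b9973ee762df9c53af74d25693a4), (nat_lit 0xf8df09e3787295f5a365c6569b1e0b), (nat_lit 0)⟩)))) (BT.node (nat_lit 4156) (BT.node (nat_lit 4154) (BT.node (nat_lit 4153) (BT.leaf ⟨(nat_lit 2), (nat_lit 15), (nat_lit 15), (nat_lit 0x110a0240180100b7a1f09110383041), (nat_lit 0), (nat_lit 0)⟩) (BT.leaf ⟨(nat_lit 2), (nat_lit 15), (nat_lit 15), (nat_lit 0x1bf378179dea6cb90a6a5e93d143e74), (nat_lit 0), (nat_lit 0)⟩)) (BT.node (nat_lit 4155) (BT.leaf ⟨(nat_lit 2), (nat_lit 15), (nat_lit 15), (nat_lit 0x100901102105d1096c9c01401801003), (nat_lit 0), (nat_lit 0)⟩) (BT.leaf ⟨(nat_lit 3), (nat_lit 15), (nat_lit 7), (nat_lit 0x1e16043eb5620264b257091bf0ee818),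 (nat_lit 0x18548793f2decbfedcc724f9a4d792b), (nat_lit 0)⟩))) (BT.node (nat_lit 4158) (BT.node (nat_lit 4157) (BT.leaf ⟨(nat_lit 3), (nat_lit 7), (nat_lit 15), (nat_lit 0x18548793f2decbfedcc724f9a4d792b), (nat_lit 0x1e16043eb5620264b257091bf0ee818), (nat_lit 0)⟩) (BT.leaf ⟨(nat_lit 2), (nat_lit 15), (nat_lit 15), (nat_lit 0x5e77aefcde1137eda6afe99d143cf4), (nat_lit 0), (nat_lit 0)⟩)) (BT.node (nat_lit 4159) (BT.leaf ⟨(nat_lit 3), (nat_lit 9), (nat_lit 15), (nat_lit 0x11021d1e85bc23bc9a80896f9f12b), (nat_lit 0xc00f1a00500821eae73405636a37e8), (nat_lit 0)⟩) (BT.leaf ⟨(nat_lit 3), (nat_lit 15), (nat_lit 9), (nat_lit 0xc00f1a00500821eae73405636a37e8), (nat_lit 0x11021d1e85bc23bc9a80896f9f12b), (nat_lit 0)⟩)))))))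
noncomputable def cP4096 : BT Pf := (BT.node (nat_lit 4128) (BT.node (nat_lit 4112) (BT.node (nat_lit 4104) (BT.node (nat_lit 4100) (BT.node (nat_lit 4098) (BT.node (nat_lit 4097) (BT.leaf (.rel (nat_lit 3877) (nat_lit 0) [(nat_lit 520), (nat_lit 1100)] [⟨(nat_lit 4073), [(nat_lit 4013)], [(nat_lit 237), (nat_lit 478)]⟩])) (BT.leaf (.inv (nat_lit 4096)))) (BT.node (nat_lit 4099) (BT.leaf (.rel (nat_lit 3774) (nat_lit 0) [(nat_lit 915), (nat_lit 278)] [⟨(nat_lit 4071), [(nat_lit 775)], [(nat_lit 280), (nat_lit 532)]⟩])) (BT.leaf (.inv (nat_lit 4098))))) (BT.node (nat_lit 4102) (BT.node (nat_lit 4101) (BT.leaf (.rel (nat_lit 4089) (nat_lit 1) [(nat_lit 781), (nat_lit 777)] [⟨(nat_lit 1927), [(nat_lit 935)], [(nat_lit 19), (nat_lit 1279)]⟩])) (BT.leaf (.inv (nat_lit 4100)))) (BT.node (nat_lit 4103) (BT.leaf (.rel (nat_lit 3840) (nat_lit 5) [(nat_lit 781),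 (nat_lit 369)] [⟨(nat_lit 4002), [], [(nat_lit 92), (nat_lit 808)]⟩, ⟨(nat_lit 4073), [(nat_lit 3946)], [(nat_lit 152), (nat_lit 234)]⟩])) (BT.leaf (.inv (nat_lit 4102)))))) (BT.node (nat_lit 4108) (BT.node (nat_lit 4106) (BT.node (nat_lit 4105) (BT.leaf (.rel (nat_lit 4075) (nat_lit 1) [(nat_lit 1103), (nat_lit 235)] [⟨(nat_lit 3741), [(nat_lit 4013)], [(nat_lit 705), (nat_lit 141)]⟩])) (BT.leaf (.inv (nat_lit 4104)))) (BT.node (nat_lit 4107) (BT.leaf (.rel (nat_lit 3522) (nat_lit 4) [(nat_lit 176), (nat_lit 204)] [⟨(nat_lit 3303), [(nat_lit 3488)], [(nat_lit 523), (nat_lit 627)]⟩, ⟨(nat_lit 4071), [(nat_lit 935)], [(nat_lit 1026), (nat_lit 969)]⟩])) (BT.leaf (.inv (nat_lit 4106))))) (BT.node (nat_lit 4110) (BT.node (nat_lit 4109) (BT.leaf (.rel (nat_lit 1833) (nat_lit 2) [(nat_lit 675), (nat_lit 223)] [⟨(nat_lit 1379), [(nat_lit 935)], [(nat_lit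 209), (nat_lit 172)]⟩, ⟨(nat_lit 4050), [], [(nat_lit 2061), (nat_lit 605)]⟩])) (BT.leaf (.inv (nat_lit 4108)))) (BT.node (nat_lit 4111) (BT.leaf (.rel (nat_lit 3793) (nat_lit 0) [(nat_lit 911), (nat_lit 363)] [⟨(nat_lit 4050), [(nat_lit 935)], [(nat_lit 551), (nat_lit 1088)]⟩])) (BT.leaf (.inv (nat_lit 4110))))))) (BT.node (nat_lit 4120) (BT.node (nat_lit 4116) (BT.node (nat_lit 4114) (BT.node (nat_lit 4113) (BT.leaf (.rel (nat_lit 3290) (nat_lit 5) [(nat_lit 1099), (nat_lit 504)] [⟨(nat_lit 886), [(nat_lit 775)], [(nat_lit 1041), (nat_lit 737)]⟩, ⟨(nat_lit 4046), [(nat_lit 1029)], [(nat_lit 292), (nat_lit 740)]⟩])) (BT.leaf (.inv (nat_lit 4112)))) (BT.node (nat_lit 4115) (BT.leaf (.rel (nat_lit 4095) (nat_lit 4) [(nat_lit 250), (nat_lit 1939)] [⟨(nat_lit 2324), [(nat_lit 775)], [(nat_lit 258), (nat_lit 969)]⟩, ⟨(nat_lit 2849), [(nat_lit 2549)], [(nat_lit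 510), (nat_lit 694)]⟩])) (BT.leaf (.inv (nat_lit 4114))))) (BT.node (nat_lit 4118) (BT.node (nat_lit 4117) (BT.leaf (.rel (nat_lit 4102) (nat_lit 4) [(nat_lit 216), (nat_lit 604)] [⟨(nat_lit 3908), [(nat_lit 4014)], [(nat_lit 175), (nat_lit 263)]⟩, ⟨(nat_lit 1296), [(nat_lit 775)], [(nat_lit 945), (nat_lit 1192)]⟩])) (BT.leaf (.inv (nat_lit 4116)))) (BT.node (nat_lit 4119) (BT.leaf (.rel (nat_lit 4049) (nat_lit 1) [(nat_lit 774), (nat_lit 163)] [⟨(nat_lit 3970), [], [(nat_lit 675), (nat_lit 490)]⟩])) (BT.leaf (.rel (nat_lit 4117) (nat_lit 3) [(nat_lit 387), (nat_lit 1472)] [⟨(nat_lit 1753), [], [(nat_lit 261), (nat_lit 108)]⟩, ⟨(nat_lit 1699), [(nat_lit 935)], [(nat_lit 1004), (nat_lit 385)]⟩]))))) (BT.node (nat_lit 4124) (BT.node (nat_lit 4122) (BT.node (nat_lit 4121) (BT.leaf (.inv (nat_lit 4119))) (BT.leaf (.rel (nat_lit 4115) (nat_lit 2) [(nat_lit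 428), (nat_lit 652)] [⟨(nat_lit 1354), [(nat_lit 935)], [(nat_lit 467), (nat_lit 736)]⟩, ⟨(nat_lit 4050), [(nat_lit 775)], [(nat_lit 786), (nat_lit 1203)]⟩]))) (BT.node (nat_lit 4123) (BT.leaf (.rel (nat_lit 2797) (nat_lit 3) [(nat_lit 1087), (nat_lit 500)] [⟨(nat_lit 2487), [(nat_lit 2237)], [(nat_lit 503), (nat_lit 477)]⟩, ⟨(nat_lit 4056), [(nat_lit 935)], [(nat_lit 538), (nat_lit 597)]⟩])) (BT.leaf (.inv (nat_lit 4122))))) (BT.node (nat_lit 4126) (BT.node (nat_lit 4125) (BT.leaf (.rel (nat_lit 3935) (nat_lit 1) [(nat_lit 153), (nat_lit 225)] [⟨(nat_lit 3934), [(nat_lit 3594)], [(nat_lit 1201), (nat_lit 252)]⟩])) (BT.leaf (.rel (nat_lit 4096) (nat_lit 2) [(nat_lit 568), (nat_lit 1226)] [⟨(nat_lit 1532), [], [(nat_lit 466), (nat_lit 627)]⟩, ⟨(nat_lit 2263), [], [(nat_lit 282), (nat_lit 504)]⟩]))) (BT.node (nat_lit 4127) (BT.leaf (.inv (nat_lit 4125)))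 (BT.leaf (.rel (nat_lit 4086) (nat_lit 2) [(nat_lit 434), (nat_lit 1043)] [⟨(nat_lit 3775), [(nat_lit 935)], [(nat_lit 619), (nat_lit 205)]⟩, ⟨(nat_lit 4073), [(nat_lit 3740)], [(nat_lit 507), (nat_lit 736)]⟩]))))))) (BT.node (nat_lit 4144) (BT.node (nat_lit 4136) (BT.node (nat_lit 4132) (BT.node (nat_lit 4130) (BT.node (nat_lit 4129) (BT.leaf (.inv (nat_lit 4127))) (BT.leaf (.emul [(nat_lit 4078), (nat_lit 4069)]))) (BT.node (nat_lit 4131) (BT.leaf (.emul [(nat_lit 4078), (nat_lit 4129)])) (BT.leaf (.emul [(nat_lit 4078), (nat_lit 4130)])))) (BT.node (nat_lit 4134) (BT.node (nat_lit 4133) (BT.leaf (.rel (nat_lit 4127) (nat_lit 2) [(nat_lit 416), (nat_lit 533)] [⟨(nat_lit 4072), [(nat_lit 4131)], [(nat_lit 450), (nat_lit 125)]⟩, ⟨(nat_lit 2937), [(nat_lit 935)], [(nat_lit 151), (nat_lit 499)]⟩])) (BT.leaf (.inv (nat_lit 4132)))) (BT.node (nat_lit 4135)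 (BT.leaf (.rel (nat_lit 3203) (nat_lit 1) [(nat_lit 259), (nat_lit 372)] [⟨(nat_lit 4104), [(nat_lit 1870)], [(nat_lit 618), (nat_lit 605)]⟩])) (BT.leaf (.inv (nat_lit 4134)))))) (BT.node (nat_lit 4140) (BT.node (nat_lit 4138) (BT.node (nat_lit 4137) (BT.leaf (.rel (nat_lit 4047) (nat_lit 5) [(nat_lit 258), (nat_lit 269)] [⟨(nat_lit 867), [(nat_lit 456)], [(nat_lit 404), (nat_lit 737)]⟩, ⟨(nat_lit 4052), [(nat_lit 935)], [(nat_lit 1201), (nat_lit 499)]⟩])) (BT.leaf (.rel (nat_lit 4053) (nat_lit 0) [(nat_lit 292), (nat_lit 1123)] [⟨(nat_lit 1361), [], [(nat_lit 193), (nat_lit 891)]⟩]))) (BT.node (nat_lit 4139) (BT.leaf (.inv (nat_lit 4137))) (BT.leaf (.rel (nat_lit 4105) (nat_lit 1) [(nat_lit 1174), (nat_lit 1141)] [⟨(nat_lit 2802), [(nat_lit 1922)], [(nat_lit 2124), (nat_lit 204)]⟩])))) (BT.node (nat_lit 4142) (BT.node (nat_lit 4141) (BT.leaf (.inv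 (nat_lit 4139))) (BT.leaf (.rel (nat_lit 1675) (nat_lit 4) [(nat_lit 1004), (nat_lit 372)] [⟨(nat_lit 1815), [(nat_lit 935)], [(nat_lit 483), (nat_lit 870)]⟩, ⟨(nat_lit 4052), [(nat_lit 775)], [(nat_lit 348), (nat_lit 1036)]⟩]))) (BT.node (nat_lit 4143) (BT.leaf (.inv (nat_lit 4141))) (BT.leaf (.rel (nat_lit 4047) (nat_lit 4) [(nat_lit 733), (nat_lit 557)] [⟨(nat_lit 1086), [(nat_lit 679)], [(nat_lit 237), (nat_lit 985)]⟩, ⟨(nat_lit 3757), [], [(nat_lit 953), (nat_lit 1216)]⟩])))))) (BT.node (nat_lit 4152) (BT.node (nat_lit 4148) (BT.node (nat_lit 4146) (BT.node (nat_lit 4145) (BT.leaf (.inv (nat_lit 4143))) (BT.leaf (.rel (nat_lit 1359) (nat_lit 0) [(nat_lit 575), (nat_lit 717)] [⟨(nat_lit 4123), [(nat_lit 775)], [(nat_lit 689), (nat_lit 785)]⟩]))) (BT.node (nat_lit 4147) (BT.leaf (.inv (nat_lit 4145))) (BT.leaf (.emul [(nat_lit 3720), (nat_lit 3975)]))))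 (BT.node (nat_lit 4150) (BT.node (nat_lit 4149) (BT.leaf (.rel (nat_lit 4016) (nat_lit 2) [(nat_lit 174), (nat_lit 504)] [⟨(nat_lit 3762), [(nat_lit 4147)], [(nat_lit 130), (nat_lit 646)]⟩, ⟨(nat_lit 4082), [(nat_lit 935)], [(nat_lit 392), (nat_lit 1141)]⟩])) (BT.leaf (.inv (nat_lit 4148)))) (BT.node (nat_lit 4151) (BT.leaf (.rel (nat_lit 4140) (nat_lit 4) [(nat_lit 130), (nat_lit 1871)] [⟨(nat_lit 2818), [(nat_lit 2237)], [(nat_lit 970), (nat_lit 533)]⟩, ⟨(nat_lit 1854), [(nat_lit 775)], [(nat_lit 782), (nat_lit 1871)]⟩])) (BT.leaf (.inv (nat_lit 4150)))))) (BT.node (nat_lit 4156) (BT.node (nat_lit 4154) (BT.node (nat_lit 4153) (BT.leaf (.emul [(nat_lit 4069), (nat_lit 4067)])) (BT.leaf (.emul [(nat_lit 4078), (nat_lit 4152)]))) (BT.node (nat_lit 4155) (BT.leaf (.emul [(nat_lit 4074), (nat_lit 4153)])) (BT.leaf (.rel (nat_lit 2068) (nat_lit 5) [(nat_lit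 350), (nat_lit 628)] [⟨(nat_lit 4068), [(nat_lit 1870)], [(nat_lit 298), (nat_lit 1329)]⟩, ⟨(nat_lit 4063), [(nat_lit 4154)], [(nat_lit 151), (nat_lit 248)]⟩])))) (BT.node (nat_lit 4158) (BT.node (nat_lit 4157) (BT.leaf (.inv (nat_lit 4155))) (BT.leaf (.emul [(nat_lit 4074), (nat_lit 4129)]))) (BT.node (nat_lit 4159) (BT.leaf (.rel (nat_lit 4136) (nat_lit 3) [(nat_lit 348), (nat_lit 203)] [⟨(nat_lit 4133), [(nat_lit 4157)], [(nat_lit 335), (nat_lit 662)]⟩, ⟨(nat_lit 3122), [(nat_lit 2167)], [(nat_lit 544), (nat_lit 1043)]⟩])) (BT.leaf (.inv (nat_lit 4158)))))))))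
noncomputable def cF4160 : BT Fc := (BT.node (nat_lit 4192) (BT.node (nat_lit 4176) (BT.node (nat_lit 4168) (BT.node (nat_lit 4164) (BT.node (nat_lit 4162) (BT.node (nat_lit 4161) (BT.leaf ⟨(nat_lit 3), (nat_lit 11), (nat_lit 15), (nat_lit 0x13a3a8b1cb917ab05decbc0b4932de8), (nat_lit 0x977a2471e700480112d00dbd801882), (nat_lit 0)⟩) (BT.leaf ⟨(nat_lit 3), (nat_lit 15), (nat_lit 11), (nat_lit 0x977a2471e700480112d00dbd801882), (nat_lit 0x13a3a8b1cb917ab05decbc0b4932de8), (nat_lit 0)⟩)) (BT.node (nat_lit 4163) (BT.leaf ⟨(nat_lit 3), (nat_lit 15), (nat_lit 15), (nat_lit 0x137a4b41ed8327e4f77dd3d2fa4d3a4), (nat_lit 0x80a4e78f7c2aecebf382044b77b082), (nat_lit 0)⟩) (BT.leaf ⟨(nat_lit 3), (nat_lit 12), (nat_lit 12), (nat_lit 0x11de29b49f21572394639e70ce38da6), (nat_lit 0x20410f3b7c44ba3925e00a1077ade9), (nat_lit 0)⟩))) (BT.node (nat_lit 4166) (BT.node (nat_lit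 4165) (BT.leaf ⟨(nat_lit 3), (nat_lit 12), (nat_lit 15), (nat_lit 0x5bfe699543fad0208400a09003077a), (nat_lit 0xe93bd73e0f9ceab2eefb07ce39de15), (nat_lit 0)⟩) (BT.leaf ⟨(nat_lit 3), (nat_lit 15), (nat_lit 12), (nat_lit 0xe93bd73e0f9ceab2eefb07ce39de15), (nat_lit 0x5bfe699543fad0208400a09003077a), (nat_lit 0)⟩)) (BT.node (nat_lit 4167) (BT.leaf ⟨(nat_lit 2), (nat_lit 14), (nat_lit 14), (nat_lit 0x93d2dfb71cd465c527fcbfb052bcab), (nat_lit 0), (nat_lit 0)⟩) (BT.leaf ⟨(nat_lit 3), (nat_lit 13), (nat_lit 15), (nat_lit 0x8223d81892c030146fcf0a777993eb), (nat_lit 0x201073a100ae64f0023aa4012f801), (nat_lit 0)⟩)))) (BT.node (nat_lit 4172) (BT.node (nat_lit 4170) (BT.node (nat_lit 4169) (BT.leaf ⟨(nat_lit 3), (nat_lit 15), (nat_lit 13), (nat_lit 0x201073a100ae64f0023aa4012f801), (nat_lit 0x8223d81892c030146fcf0a777993eb), (nat_lit 0)⟩) (BT.leaf ⟨(nat_lit 3),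 (nat_lit 15), (nat_lit 10), (nat_lit 0x182ed45f8bd90f4cd9e8ea37a532dc8), (nat_lit 0xaba529b268dd3bab646e0cf6334f66), (nat_lit 0)⟩)) (BT.node (nat_lit 4171) (BT.leaf ⟨(nat_lit 3), (nat_lit 10), (nat_lit 15), (nat_lit 0xaba529b268dd3bab646e0cf6334f66), (nat_lit 0x182ed45f8bd90f4cd9e8ea37a532dc8), (nat_lit 0)⟩) (BT.leaf ⟨(nat_lit 3), (nat_lit 15), (nat_lit 9), (nat_lit 0x12f8303c30429fc50420532880127ad), (nat_lit 0x87a3881003e3080be28e48064f9d4), (nat_lit 0)⟩))) (BT.node (nat_lit 4174) (BT.node (nat_lit 4173) (BT.leaf ⟨(nat_lit 3), (nat_lit 9), (nat_lit 15), (nat_lit 0x87a3881003e3080be28e48064f9d4), (nat_lit 0x12f8303c30429fc50420532880127ad), (nat_lit 0)⟩) (BT.leaf ⟨(nat_lit 3), (nat_lit 15), (nat_lit 15), (nat_lit 0x32f2c534e1be33ced8dd1be3c5ba65), (nat_lit 0x1ee83e738ddf3679573ac74b48e7583), (nat_lit 0)⟩)) (BT.node (nat_lit 4175) (BT.leaf ⟨(nat_lit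 2), (nat_lit 10), (nat_lit 10), (nat_lit 0xa37e78592dcca0425701049fa75e0), (nat_lit 0), (nat_lit 0)⟩) (BT.leaf ⟨(nat_lit 2), (nat_lit 10), (nat_lit 10), (nat_lit 0x11eccdc718c71df654f350f0ce39b35), (nat_lit 0), (nat_lit 0)⟩))))) (BT.node (nat_lit 4184) (BT.node (nat_lit 4180) (BT.node (nat_lit 4178) (BT.node (nat_lit 4177) (BT.leaf ⟨(nat_lit 2), (nat_lit 10), (nat_lit 10), (nat_lit 0x1d180110000820239840010040101d5), (nat_lit 0), (nat_lit 0)⟩) (BT.leaf ⟨(nat_lit 2), (nat_lit 10), (nat_lit 10), (nat_lit 0x7d49022014018010030ecc0914ced4), (nat_lit 0), (nat_lit 0)⟩)) (BT.node (nat_lit 4179) (BT.leaf ⟨(nat_lit 3), (nat_lit 8), (nat_lit 15), (nat_lit 0xe292bfb71cc93f2fadfba4d7eb2a5f), (nat_lit 0x107bbee9e92d27876cbe62727313a6a), (nat_lit 0)⟩) (BT.leaf ⟨(nat_lit 3), (nat_lit 15), (nat_lit 8), (nat_lit 0x107bbee9e92d27876cbe62727313a6a), (nat_lit 0xe292bfb71cc93f2fadfba4d7eb2a5f),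 (nat_lit 0)⟩))) (BT.node (nat_lit 4182) (BT.node (nat_lit 4181) (BT.leaf ⟨(nat_lit 3), (nat_lit 13), (nat_lit 15), (nat_lit 0x1f37ce8b77fde2786f8ff1b1bac6e58), (nat_lit 0xc011020533083d690f048084305c8), (nat_lit 0)⟩) (BT.leaf ⟨(nat_lit 3), (nat_lit 15), (nat_lit 13), (nat_lit 0xc011020533083d690f048084305c8), (nat_lit 0x1f37ce8b77fde2786f8ff1b1bac6e58), (nat_lit 0)⟩)) (BT.node (nat_lit 4183) (BT.leaf ⟨(nat_lit 3), (nat_lit 15), (nat_lit 8), (nat_lit 0x1ceb1d615b07c6b9573e748ce83e732), (nat_lit 0x200021d50111cc97f8d80097df1f46), (nat_lit 0)⟩) (BT.leaf ⟨(nat_lit 3), (nat_lit 8), (nat_lit 15), (nat_lit 0x200021d50111cc97f8d80097df1f46), (nat_lit 0x1ceb1d615b07c6b9573e748ce83e732), (nat_lit 0)⟩)))) (BT.node (nat_lit 4188) (BT.node (nat_lit 4186) (BT.node (nat_lit 4185) (BT.leaf ⟨(nat_lit 3), (nat_lit 9), (nat_lit 15), (nat_lit 0x1570d7fdb27ecbc95e156e049c8796f),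 (nat_lit 0x96c2fa7facbb05c50e64ae6f10fa5e), (nat_lit 0)⟩) (BT.leaf ⟨(nat_lit 3), (nat_lit 15), (nat_lit 9), (nat_lit 0x96c2fa7facbb05c50e64ae6f10fa5e), (nat_lit 0x1570d7fdb27ecbc95e156e049c8796f), (nat_lit 0)⟩)) (BT.node (nat_lit 4187) (BT.leaf ⟨(nat_lit 3), (nat_lit 13), (nat_lit 15), (nat_lit 0x5bd0ff7a0a0900240c0d696a1d1840), (nat_lit 0x182df14a5598facf1f90efaf9dd1bc3), (nat_lit 0)⟩) (BT.leaf ⟨(nat_lit 3), (nat_lit 15), (nat_lit 13), (nat_lit 0x182df14a5598facf1f90efaf9dd1bc3), (nat_lit 0x5bd0ff7a0a0900240c0d696a1d1840), (nat_lit 0)⟩))) (BT.node (nat_lit 4190) (BT.node (nat_lit 4189) (BT.leaf ⟨(nat_lit 3), (nat_lit 15), (nat_lit 5), (nat_lit 0x10f6f65ea2ed782fc60bfd16a2f4568), (nat_lit 0x93d2bcab4fe6f10f85facbedc732df), (nat_lit 0)⟩) (BT.leaf ⟨(nat_lit 3), (nat_lit 5), (nat_lit 15), (nat_lit 0x93d2bcab4fe6f10f85facbedc732df), (nat_lit 0x10f6f65ea2ed782fc60bfd16a2f4568),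 (nat_lit 0)⟩)) (BT.node (nat_lit 4191) (BT.leaf ⟨(nat_lit 3), (nat_lit 15), (nat_lit 10), (nat_lit 0x100a49abd881095f894b6af63b904), (nat_lit 0x49c17fdbab84aed8b2fc2ab335113f), (nat_lit 0)⟩) (BT.leaf ⟨(nat_lit 3), (nat_lit 10), (nat_lit 15), (nat_lit 0x49c17fdbab84aed8b2fc2ab335113f), (nat_lit 0x100a49abd881095f894b6af63b904), (nat_lit 0)⟩)))))) (BT.node (nat_lit 4208) (BT.node (nat_lit 4200) (BT.node (nat_lit 4196) (BT.node (nat_lit 4194) (BT.node (nat_lit 4193) (BT.leaf ⟨(nat_lit 3), (nat_lit 11), (nat_lit 15), (nat_lit 0x15cc6ab5fb3c411dce8d05e42080940), (nat_lit 0x1d0ba274755ccd749f46197d39a31b2), (nat_lit 0)⟩) (BT.leaf ⟨(nat_lit 3), (nat_lit 15), (nat_lit 11), (nat_lit 0x1d0ba274755ccd749f46197d39a31b2), (nat_lit 0x15cc6ab5fb3c411dce8d05e42080940), (nat_lit 0)⟩)) (BT.node (nat_lit 4195) (BT.leaf ⟨(nat_lit 3), (nat_lit 15), (nat_lit 15), (nat_lit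 0x208606742aa6038688035fee842568), (nat_lit 0x1678a002f9d0b8ddce462058e8840d5), (nat_lit 0)⟩) (BT.leaf ⟨(nat_lit 2), (nat_lit 14), (nat_lit 14), (nat_lit 0x17a569751fd15a132de8f6f0f6fc1e8), (nat_lit 0), (nat_lit 0)⟩))) (BT.node (nat_lit 4198) (BT.node (nat_lit 4197) (BT.leaf ⟨(nat_lit 2), (nat_lit 14), (nat_lit 14), (nat_lit 0xabbdbf51b90996b45ea5a50f6fc4c7), (nat_lit 0), (nat_lit 0)⟩) (BT.leaf ⟨(nat_lit 2), (nat_lit 14), (nat_lit 14), (nat_lit 0x1d1041003e708092edea04475c09102), (nat_lit 0), (nat_lit 0)⟩)) (BT.node (nat_lit 4199) (BT.leaf ⟨(nat_lit 3), (nat_lit 15), (nat_lit 15), (nat_lit 0xaed4cd34ea2ae57cb96c4e5695c0b9), (nat_lit 0x1748de25d0bee29b821faca9fd6ffb7), (nat_lit 0)⟩) (BT.leaf ⟨(nat_lit 2), (nat_lit 14), (nat_lit 14), (nat_lit 0x24042082103f18aafba900d8c60674), (nat_lit 0), (nat_lit 0)⟩)))) (BT.node (nat_lit 4204) (BT.node (nat_lit 4202)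 (BT.node (nat_lit 4201) (BT.leaf ⟨(nat_lit 3), (nat_lit 15), (nat_lit 12), (nat_lit 0x1bd097880f1aae4803e3080022f4400), (nat_lit 0x19d0d96b44d5bf17a31c2f31368ba87), (nat_lit 0)⟩) (BT.leaf ⟨(nat_lit 3), (nat_lit 12), (nat_lit 15), (nat_lit 0x19d0d96b44d5bf17a31c2f31368ba87), (nat_lit 0x1bd097880f1aae4803e3080022f4400), (nat_lit 0)⟩)) (BT.node (nat_lit 4203) (BT.leaf ⟨(nat_lit 2), (nat_lit 12), (nat_lit 12), (nat_lit 0x100300500901102047e3841011a309e), (nat_lit 0), (nat_lit 0)⟩) (BT.leaf ⟨(nat_lit 3), (nat_lit 15), (nat_lit 15), (nat_lit 0x17492ba5ff6eb7db827f43e6f0734ab), (nat_lit 0xae558d3489a8e5dce275f256873751), (nat_lit 0)⟩))) (BT.node (nat_lit 4206) (BT.node (nat_lit 4205) (BT.leaf ⟨(nat_lit 3), (nat_lit 10), (nat_lit 10), (nat_lit 0x11c52ea029384b55d822dec40801f44), (nat_lit 0x97ee90e66bfb07dbb7049e9fc2fa5b), (nat_lit 0)⟩) (BT.leaf ⟨(nat_lit 3),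 (nat_lit 5), (nat_lit 15), (nat_lit 0xf8b05ae394ad8df9ba32b46f3f1cd9), (nat_lit 0x137a4d31391d27bbe89e97db064b0ed), (nat_lit 0)⟩)) (BT.node (nat_lit 4207) (BT.leaf ⟨(nat_lit 3), (nat_lit 15), (nat_lit 5), (nat_lit 0x137a4d31391d27bbe89e97db064b0ed), (nat_lit 0xf8b05ae394ad8df9ba32b46f3f1cd9), (nat_lit 0)⟩) (BT.leaf ⟨(nat_lit 3), (nat_lit 13), (nat_lit 13), (nat_lit 0xfafc290809082204088df9d3814496), (nat_lit 0x1de92016f0c1f3428433b501026f048), (nat_lit 0)⟩))))) (BT.node (nat_lit 4216) (BT.node (nat_lit 4212) (BT.node (nat_lit 4210) (BT.node (nat_lit 4209) (BT.leaf ⟨(nat_lit 3), (nat_lit 15), (nat_lit 15), (nat_lit 0x807f4204b1a17f4f200ce751b00280), (nat_lit 0xc70f47e8ad17a6f05ea87bedef6265), (nat_lit 0)⟩) (BT.leaf ⟨(nat_lit 3), (nat_lit 15), (nat_lit 15), (nat_lit 0x1b294cab1553ae55cabbb06ae0ad396), (nat_lit 0x100604420821ae5a35d56741ce8052f), (nat_lit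 0)⟩)) (BT.node (nat_lit 4211) (BT.leaf ⟨(nat_lit 2), (nat_lit 15), (nat_lit 15), (nat_lit 0x110a0240f9a1003005008310383048), (nat_lit 0), (nat_lit 0)⟩) (BT.leaf ⟨(nat_lit 3), (nat_lit 15), (nat_lit 15), (nat_lit 0x413fa500600356cf5736bf3a0a0646), (nat_lit 0x11035a044480655d18500836a0a0706), (nat_lit 0)⟩))) (BT.node (nat_lit 4214) (BT.node (nat_lit 4213) (BT.leaf ⟨(nat_lit 3), (nat_lit 15), (nat_lit 15), (nat_lit 0x442cf2e3ae60bc811012404132363a), (nat_lit 0x100412f021bd0012b90811ce4f100), (nat_lit 0)⟩) (BT.leaf ⟨(nat_lit 3), (nat_lit 15), (nat_lit 15), (nat_lit 0x1b50e7517de19d1354f4dedfd0bc9b2), (nat_lit 0x3e8e29953aba4f90eef3bb0f5ea9d4), (nat_lit 0)⟩)) (BT.node (nat_lit 4215) (BT.leaf ⟨(nat_lit 3), (nat_lit 15), (nat_lit 15), (nat_lit 0x1a4c65d46e0cabb34d19eadd1ba274e), (nat_lit 0x13d3f4202480f57399e342151900208), (nat_lit 0)⟩) (BT.leaf ⟨(nat_lit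 3), (nat_lit 14), (nat_lit 14), (nat_lit 0x1e33cef8f62774be6e8dd44ff865e58), (nat_lit 0x11cc085e808097e4f100e74005006f4), (nat_lit 0)⟩)))) (BT.node (nat_lit 4220) (BT.node (nat_lit 4218) (BT.node (nat_lit 4217) (BT.leaf ⟨(nat_lit 3), (nat_lit 15), (nat_lit 13), (nat_lit 0x11cfc692f200022f40047c608020002), (nat_lit 0x2433a4f383d5a06070d900a011c888), (nat_lit 0)⟩) (BT.leaf ⟨(nat_lit 3), (nat_lit 13), (nat_lit 15), (nat_lit 0x2433a4f383d5a06070d900a011c888), (nat_lit 0x11cfc692f200022f40047c608020002), (nat_lit 0)⟩)) (BT.node (nat_lit 4219) (BT.leaf ⟨(nat_lit 3), (nat_lit 15), (nat_lit 15), (nat_lit 0x93f1627f378dc1c525fd835952ba5b), (nat_lit 0xaa55ea99b06e595df51c4e5697ceca), (nat_lit 0)⟩) (BT.leaf ⟨(nat_lit 2), (nat_lit 15), (nat_lit 15), (nat_lit 0x90060044281de82821ff9a10783440), (nat_lit 0), (nat_lit 0)⟩))) (BT.node (nat_lit 4222) (BT.node (nat_lit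 4221) (BT.leaf ⟨(nat_lit 3), (nat_lit 15), (nat_lit 15), (nat_lit 0x13d10058dce751904220409fa1ea85f), (nat_lit 0x80339fe8b1a84197e9e17217deacf4), (nat_lit 0)⟩) (BT.leaf ⟨(nat_lit 3), (nat_lit 4), (nat_lit 16), (nat_lit 0x243e341e35f9d0aa882100d8d6f884), (nat_lit 0x1001001001001001001001001001001), (nat_lit 0)⟩)) (BT.node (nat_lit 4223) (BT.leaf ⟨(nat_lit 3), (nat_lit 16), (nat_lit 4), (nat_lit 0x1001001001001001001001001001001), (nat_lit 0x243e341e35f9d0aa882100d8d6f884), (nat_lit 0)⟩) (BT.leaf ⟨(nat_lit 3), (nat_lit 16), (nat_lit 8), (nat_lit 0x7a35cd0071ad1a01073841f8e0065f), (nat_lit 0x7a1a365fd734be005d584027a80402), (nat_lit 0)⟩)))))))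
noncomputable def cP4160 : BT Pf := (BT.node (nat_lit 4192) (BT.node (nat_lit 4176) (BT.node (nat_lit 4168) (BT.node (nat_lit 4164) (BT.node (nat_lit 4162) (BT.node (nat_lit 4161) (BT.leaf (.rel (nat_lit 4159) (nat_lit 0) [(nat_lit 470), (nat_lit 372)] [⟨(nat_lit 3522), [], [(nat_lit 462), (nat_lit 586)]⟩])) (BT.leaf (.inv (nat_lit 4160)))) (BT.node (nat_lit 4163) (BT.leaf (.rel (nat_lit 4075) (nat_lit 5) [(nat_lit 520), (nat_lit 363)] [⟨(nat_lit 3748), [(nat_lit 3730)], [(nat_lit 387), (nat_lit 1583)]⟩, ⟨(nat_lit 4104), [(nat_lit 2223)], [(nat_lit 774), (nat_lit 533)]⟩])) (BT.leaf (.rel (nat_lit 4028) (nat_lit 0) [(nat_lit 285), (nat_lit 1083)] [⟨(nat_lit 3906), [(nat_lit 3594)], [(nat_lit 271), (nat_lit 1871)]⟩])))) (BT.node (nat_lit 4166) (BT.node (nat_lit 4165) (BT.leaf (.rel (nat_lit 4051) (nat_lit 2) [(nat_lit 166), (nat_lit 736)] [⟨(nat_lit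 2219), [(nat_lit 935)], [(nat_lit 567), (nat_lit 878)]⟩, ⟨(nat_lit 3634), [], [(nat_lit 451), (nat_lit 529)]⟩])) (BT.leaf (.inv (nat_lit 4164)))) (BT.node (nat_lit 4167) (BT.leaf (.emul [(nat_lit 4019), (nat_lit 4030)])) (BT.leaf (.rel (nat_lit 4148) (nat_lit 5) [(nat_lit 284), (nat_lit 529)] [⟨(nat_lit 4037), [(nat_lit 4166), (nat_lit 4022)], [(nat_lit 462), (nat_lit 140)]⟩, ⟨(nat_lit 3775), [], [(nat_lit 43), (nat_lit 556)]⟩]))))) (BT.node (nat_lit 4172) (BT.node (nat_lit 4170) (BT.node (nat_lit 4169) (BT.leaf (.inv (nat_lit 4167))) (BT.leaf (.rel (nat_lit 3213) (nat_lit 5) [(nat_lit 915), (nat_lit 401)] [⟨(nat_lit 4104), [(nat_lit 2258)], [(nat_lit 574), (nat_lit 1369)]⟩, ⟨(nat_lit 4162), [(nat_lit 4131)], [(nat_lit 1175), (nat_lit 88)]⟩]))) (BT.node (nat_lit 4171) (BT.leaf (.inv (nat_lit 4169))) (BT.leaf (.rel (nat_lit 3804) (nat_lit 5) [(nat_lit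 618), (nat_lit 421)] [⟨(nat_lit 3886), [(nat_lit 3975)], [(nat_lit 208), (nat_lit 235)]⟩, ⟨(nat_lit 4087), [], [(nat_lit 913), (nat_lit 449)]⟩])))) (BT.node (nat_lit 4174) (BT.node (nat_lit 4173) (BT.leaf (.inv (nat_lit 4171))) (BT.leaf (.rel (nat_lit 4072) (nat_lit 3) [(nat_lit 1235), (nat_lit 368)] [⟨(nat_lit 1448), [(nat_lit 775)], [(nat_lit 298), (nat_lit 497)]⟩, ⟨(nat_lit 4119), [(nat_lit 775)], [(nat_lit 1257), (nat_lit 127)]⟩]))) (BT.node (nat_lit 4175) (BT.leaf (.emul [(nat_lit 3195), (nat_lit 3195)])) (BT.leaf (.emul [(nat_lit 3179), (nat_lit 3427)])))))) (BT.node (nat_lit 4184) (BT.node (nat_lit 4180) (BT.node (nat_lit 4178) (BT.node (nat_lit 4177) (BT.leaf (.emul [(nat_lit 3191), (nat_lit 4175)])) (BT.leaf (.emul [(nat_lit 3191), (nat_lit 4176)]))) (BT.node (nat_lit 4179) (BT.leaf (.rel (nat_lit 4134) (nat_lit 3) [(nat_lit 550), (nat_lit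 1043)] [⟨(nat_lit 3213), [(nat_lit 4174), (nat_lit 4177)], [(nat_lit 1189), (nat_lit 563)]⟩, ⟨(nat_lit 2139), [(nat_lit 1921)], [(nat_lit 1087), (nat_lit 972)]⟩])) (BT.leaf (.inv (nat_lit 4178))))) (BT.node (nat_lit 4182) (BT.node (nat_lit 4181) (BT.leaf (.rel (nat_lit 4093) (nat_lit 2) [(nat_lit 508), (nat_lit 1939)] [⟨(nat_lit 3224), [(nat_lit 2413)], [(nat_lit 434), (nat_lit 478)]⟩, ⟨(nat_lit 3817), [(nat_lit 3488)], [(nat_lit 257), (nat_lit 875)]⟩])) (BT.leaf (.inv (nat_lit 4180)))) (BT.node (nat_lit 4183) (BT.leaf (.rel (nat_lit 1912) (nat_lit 5) [(nat_lit 734), (nat_lit 1088)] [⟨(nat_lit 1262), [(nat_lit 775)], [(nat_lit 394), (nat_lit 225)]⟩, ⟨(nat_lit 4050), [], [(nat_lit 569), (nat_lit 190)]⟩])) (BT.leaf (.inv (nat_lit 4182)))))) (BT.node (nat_lit 4188) (BT.node (nat_lit 4186) (BT.node (nat_lit 4185) (BT.leaf (.rel (nat_lit 4093) (nat_lit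 1) [(nat_lit 335), (nat_lit 386)] [⟨(nat_lit 3156), [(nat_lit 2549)], [(nat_lit 166), (nat_lit 384)]⟩])) (BT.leaf (.inv (nat_lit 4184)))) (BT.node (nat_lit 4187) (BT.leaf (.rel (nat_lit 4088) (nat_lit 3) [(nat_lit 789), (nat_lit 605)] [⟨(nat_lit 2510), [(nat_lit 775)], [(nat_lit 207), (nat_lit 1192)]⟩, ⟨(nat_lit 3831), [(nat_lit 2549)], [(nat_lit 467), (nat_lit 1053)]⟩])) (BT.leaf (.inv (nat_lit 4186))))) (BT.node (nat_lit 4190) (BT.node (nat_lit 4189) (BT.leaf (.rel (nat_lit 3611) (nat_lit 0) [(nat_lit 151), (nat_lit 1472)] [⟨(nat_lit 4164), [(nat_lit 4054)], [(nat_lit 153), (nat_lit 1410)]⟩])) (BT.leaf (.inv (nat_lit 4188)))) (BT.node (nat_lit 4191) (BT.leaf (.rel (nat_lit 3184) (nat_lit 5) [(nat_lit 195), (nat_lit 555)] [⟨(nat_lit 1146), [(nat_lit 775)], [(nat_lit 619), (nat_lit 460)]⟩, ⟨(nat_lit 4087), [(nat_lit 935)], [(nat_lit 653), (nat_lit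 396)]⟩])) (BT.leaf (.inv (nat_lit 4190)))))))) (BT.node (nat_lit 4208) (BT.node (nat_lit 4200) (BT.node (nat_lit 4196) (BT.node (nat_lit 4194) (BT.node (nat_lit 4193) (BT.leaf (.rel (nat_lit 4120) (nat_lit 3) [(nat_lit 463), (nat_lit 624)] [⟨(nat_lit 2275), [(nat_lit 775)], [(nat_lit 551), (nat_lit 320)]⟩, ⟨(nat_lit 3217), [], [(nat_lit 902), (nat_lit 651)]⟩])) (BT.leaf (.inv (nat_lit 4192)))) (BT.node (nat_lit 4195) (BT.leaf (.rel (nat_lit 4121) (nat_lit 0) [(nat_lit 429), (nat_lit 127)] [⟨(nat_lit 4121), [(nat_lit 4074)], [(nat_lit 441), (nat_lit 278)]⟩])) (BT.leaf (.emul [(nat_lit 4019), (nat_lit 4025)])))) (BT.node (nat_lit 4198) (BT.node (nat_lit 4197) (BT.leaf (.emul [(nat_lit 4025), (nat_lit 4195)])) (BT.leaf (.emul [(nat_lit 4010), (nat_lit 4196)]))) (BT.node (nat_lit 4199) (BT.leaf (.rel (nat_lit 4148) (nat_lit 0) [(nat_lit 373), (nat_lit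 1211)] [⟨(nat_lit 4149), [(nat_lit 4197), (nat_lit 4022)], [(nat_lit 285), (nat_lit 1211)]⟩])) (BT.leaf (.emul [(nat_lit 4030), (nat_lit 4025)]))))) (BT.node (nat_lit 4204) (BT.node (nat_lit 4202) (BT.node (nat_lit 4201) (BT.leaf (.rel (nat_lit 4033) (nat_lit 0) [(nat_lit 492), (nat_lit 563)] [⟨(nat_lit 4149), [(nat_lit 4199), (nat_lit 4015)], [(nat_lit 364), (nat_lit 108)]⟩])) (BT.leaf (.inv (nat_lit 4200)))) (BT.node (nat_lit 4203) (BT.leaf (.emul [(nat_lit 3613), (nat_lit 3613)])) (BT.leaf (.rel (nat_lit 4200) (nat_lit 1) [(nat_lit 871), (nat_lit 740)] [⟨(nat_lit 4201), [(nat_lit 4202)], [(nat_lit 208)]⟩])))) (BT.node (nat_lit 4206) (BT.node (nat_lit 4205) (BT.leaf (.rel (nat_lit 4045) (nat_lit 1) [(nat_lit 266), (nat_lit 395)] [⟨(nat_lit 4045), [(nat_lit 3191)], [(nat_lit 194), (nat_lit 395)]⟩])) (BT.leaf (.rel (nat_lit 4185) (nat_lit 4) [(nat_lit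 483)] [⟨(nat_lit 2680), [(nat_lit 2413)], [(nat_lit 786), (nat_lit 431)]⟩, ⟨(nat_lit 1445), [], [(nat_lit 784), (nat_lit 868)]⟩]))) (BT.node (nat_lit 4207) (BT.leaf (.inv (nat_lit 4205))) (BT.leaf (.rel (nat_lit 3995) (nat_lit 0) [(nat_lit 741), (nat_lit 224)] [⟨(nat_lit 3994), [(nat_lit 2376)], [(nat_lit 250), (nat_lit 372)]⟩])))))) (BT.node (nat_lit 4216) (BT.node (nat_lit 4212) (BT.node (nat_lit 4210) (BT.node (nat_lit 4209) (BT.leaf (.rel (nat_lit 4140) (nat_lit 5) [(nat_lit 865), (nat_lit 379)] [⟨(nat_lit 2687), [], [(nat_lit 461), (nat_lit 225)]⟩, ⟨(nat_lit 4114), [(nat_lit 935)], [(nat_lit 493), (nat_lit 459)]⟩])) (BT.leaf (.rel (nat_lit 4070) (nat_lit 0) [(nat_lit 177), (nat_lit 646)] [⟨(nat_lit 4068), [(nat_lit 1870)], [(nat_lit 422), (nat_lit 835)]⟩]))) (BT.node (nat_lit 4211) (BT.leaf (.emul [(nat_lit 4069), (nat_lit 4069)])) (BT.leaf (.rel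 (nat_lit 4127) (nat_lit 0) [(nat_lit 463), (nat_lit 498)] [⟨(nat_lit 4128), [(nat_lit 4210)], [(nat_lit 215), (nat_lit 682)]⟩])))) (BT.node (nat_lit 4214) (BT.node (nat_lit 4213) (BT.leaf (.rel (nat_lit 4070) (nat_lit 1) [(nat_lit 1032), (nat_lit 572)] [⟨(nat_lit 4183), [(nat_lit 1883)], [(nat_lit 422)]⟩])) (BT.leaf (.rel (nat_lit 4144) (nat_lit 4) [(nat_lit 358), (nat_lit 140)] [⟨(nat_lit 3755), [(nat_lit 3931)], [(nat_lit 473), (nat_lit 1472)]⟩, ⟨(nat_lit 4184), [(nat_lit 2549)], [(nat_lit 298), (nat_lit 563)]⟩]))) (BT.node (nat_lit 4215) (BT.leaf (.rel (nat_lit 4141) (nat_lit 2) [(nat_lit 508), (nat_lit 222)] [⟨(nat_lit 3318), [(nat_lit 775)], [(nat_lit 761), (nat_lit 307)]⟩, ⟨(nat_lit 4113), [(nat_lit 3454)], [(nat_lit 97), (nat_lit 0)]⟩])) (BT.leaf (.rel (nat_lit 4032) (nat_lit 1) [(nat_lit 97), (nat_lit 808)] [⟨(nat_lit 4033), [(nat_lit 3605)],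 [(nat_lit 353), (nat_lit 1247)]⟩]))))) (BT.node (nat_lit 4220) (BT.node (nat_lit 4218) (BT.node (nat_lit 4217) (BT.leaf (.rel (nat_lit 3809) (nat_lit 1) [(nat_lit 741), (nat_lit 163)] [⟨(nat_lit 4184), [(nat_lit 2549)], [(nat_lit 928), (nat_lit 566)]⟩])) (BT.leaf (.inv (nat_lit 4216)))) (BT.node (nat_lit 4219) (BT.leaf (.rel (nat_lit 4047) (nat_lit 2) [(nat_lit 970), (nat_lit 968)] [⟨(nat_lit 2630), [(nat_lit 992)], [(nat_lit 291)]⟩, ⟨(nat_lit 4059), [(nat_lit 2237)], [(nat_lit 707), (nat_lit 762)]⟩])) (BT.leaf (.emul [(nat_lit 4069), (nat_lit 4074)])))) (BT.node (nat_lit 4222) (BT.node (nat_lit 4221) (BT.leaf (.rel (nat_lit 4218) (nat_lit 0) [(nat_lit 357), (nat_lit 712)] [⟨(nat_lit 4218), [(nat_lit 4219)], [(nat_lit 1103), (nat_lit 486)]⟩])) (BT.leaf (.dfn [(nat_lit 1), (nat_lit 4), (nat_lit 1), (nat_lit 3), (nat_lit 1), (nat_lit 3)]))) (BT.node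 (nat_lit 4223) (BT.leaf (.inv (nat_lit 4221))) (BT.leaf (.rel (nat_lit 2024) (nat_lit 2) [(nat_lit 256), (nat_lit 368)] [⟨(nat_lit 779), [(nat_lit 775)], [(nat_lit 1257), (nat_lit 236)]⟩, ⟨(nat_lit 4221), [(nat_lit 1548)], [(nat_lit 761), (nat_lit 1247)]⟩]))))))))
noncomputable def cF4224 : BT Fc := (BT.node (nat_lit 4256) (BT.node (nat_lit 4240) (BT.node (nat_lit 4232) (BT.node (nat_lit 4228) (BT.node (nat_lit 4226) (BT.node (nat_lit 4225) (BT.leaf ⟨(nat_lit 3), (nat_lit 8), (nat_lit 16), (nat_lit 0x7a1a365fd734be005d584027a80402), (nat_lit 0x7a35cd0071ad1a01073841f8e0065f), (nat_lit 0)⟩) (BT.leaf ⟨(nat_lit 2), (nat_lit 15), (nat_lit 15), (nat_lit 0xae35ca39172aec73396a68ee6c1abd), (nat_lit 0), (nat_lit 0)⟩)) (BT.node (nat_lit 4227) (BT.leaf ⟨(nat_lit 3), (nat_lit 15), (nat_lit 15), (nat_lit 0x100282405f3f34a0044d691002421f), (nat_lit 0x1edcf4751fd0996f4e0bbd57e1575e8),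 (nat_lit 0)⟩) (BT.leaf ⟨(nat_lit 3), (nat_lit 11), (nat_lit 16), (nat_lit 0xa1f726b4deabd0d931cfe945cbca6a), (nat_lit 0x1295d19e3c166f1f0c6e7e6f9de1a36), (nat_lit 0)⟩))) (BT.node (nat_lit 4230) (BT.node (nat_lit 4229) (BT.leaf ⟨(nat_lit 3), (nat_lit 16), (nat_lit 11), (nat_lit 0x1295d19e3c166f1f0c6e7e6f9de1a36), (nat_lit 0xa1f726b4deabd0d931cfe945cbca6a), (nat_lit 0)⟩) (BT.leaf ⟨(nat_lit 3), (nat_lit 9), (nat_lit 16), (nat_lit 0xee6ffeca6d82e51cc4d5705697cab9), (nat_lit 0xc4fc6179f5b1bbc28cbba5e745bf89), (nat_lit 0)⟩)) (BT.node (nat_lit 4231) (BT.leaf ⟨(nat_lit 3), (nat_lit 16), (nat_lit 9), (nat_lit 0xc4fc6179f5b1bbc28cbba5e745bf89), (nat_lit 0xee6ffeca6d82e51cc4d5705697cab9), (nat_lit 0)⟩) (BT.leaf ⟨(nat_lit 3), (nat_lit 14), (nat_lit 14), (nat_lit 0x1b065f627d3d679d254b9bc3b6d8c9f), (nat_lit 0x7150848e221d5b72014bf0fce31810), (nat_lit 0)⟩)))) (BT.node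 (nat_lit 4236) (BT.node (nat_lit 4234) (BT.node (nat_lit 4233) (BT.leaf ⟨(nat_lit 3), (nat_lit 15), (nat_lit 15), (nat_lit 0xd8df17e3786facf1be3efafcdd1acc), (nat_lit 0x1eeb9db3ae35de83e2d2749cab99615), (nat_lit 0)⟩) (BT.leaf ⟨(nat_lit 2), (nat_lit 11), (nat_lit 11), (nat_lit 0x9fd2bb5f49e9747325b7158b10fa5f), (nat_lit 0), (nat_lit 0)⟩)) (BT.node (nat_lit 4235) (BT.leaf ⟨(nat_lit 3), (nat_lit 11), (nat_lit 16), (nat_lit 0x17e305b1cf6e66e745e93d05daf5568), (nat_lit 0x1d58086e438bca8480140a04fefc110), (nat_lit 0)⟩) (BT.leaf ⟨(nat_lit 3), (nat_lit 16), (nat_lit 11), (nat_lit 0x1d58086e438bca8480140a04fefc110), (nat_lit 0x17e305b1cf6e66e745e93d05daf5568), (nat_lit 0)⟩))) (BT.node (nat_lit 4238) (BT.node (nat_lit 4237) (BT.leaf ⟨(nat_lit 3), (nat_lit 11), (nat_lit 16), (nat_lit 0x17e305b1cf6e66e745e93d05daf5568), (nat_lit 0x1d58086e438bca8480140a04fefc110),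 (nat_lit 0)⟩) (BT.leaf ⟨(nat_lit 2), (nat_lit 16), (nat_lit 16), (nat_lit 0x1a37c6265b1be7786979f5b74bc4b13), (nat_lit 0), (nat_lit 0)⟩)) (BT.node (nat_lit 4239) (BT.leaf ⟨(nat_lit 3), (nat_lit 9), (nat_lit 16), (nat_lit 0x125bbe89e1db6c4bb49e939b064fc8e), (nat_lit 0xaf5f38059348120247704896c8273e), (nat_lit 0)⟩) (BT.leaf ⟨(nat_lit 3), (nat_lit 16), (nat_lit 9), (nat_lit 0xaf5f38059348120247704896c8273e), (nat_lit 0x125bbe89e1db6c4bb49e939b064fc8e), (nat_lit 0)⟩))))) (BT.node (nat_lit 4248) (BT.node (nat_lit 4244) (BT.node (nat_lit 4242) (BT.node (nat_lit 4241) (BT.leaf ⟨(nat_lit 3), (nat_lit 9), (nat_lit 16), (nat_lit 0x5dbdbdf898f3a3f460b5a55a2f45a8), (nat_lit 0x1c1ba39b2cd2f63b30cbead467a7693), (nat_lit 0)⟩) (BT.leaf ⟨(nat_lit 3), (nat_lit 16), (nat_lit 9), (nat_lit 0x1c1ba39b2cd2f63b30cbead467a7693), (nat_lit 0x5dbdbdf898f3a3f460b5a55a2f45a8),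 (nat_lit 0)⟩)) (BT.node (nat_lit 4243) (BT.leaf ⟨(nat_lit 3), (nat_lit 16), (nat_lit 9), (nat_lit 0x1d1ba75ffe89f1aa369394b9199af06), (nat_lit 0x8400c090e5523954c63821d5828010), (nat_lit 0)⟩) (BT.leaf ⟨(nat_lit 3), (nat_lit 9), (nat_lit 16), (nat_lit 0x8400c090e5523954c63821d5828010), (nat_lit 0x1d1ba75ffe89f1aa369394b9199af06), (nat_lit 0)⟩))) (BT.node (nat_lit 4246) (BT.node (nat_lit 4245) (BT.leaf ⟨(nat_lit 2), (nat_lit 16), (nat_lit 16), (nat_lit 0xcbf00201500c03f40b94019cc2fbd5), (nat_lit 0), (nat_lit 0)⟩) (BT.leaf ⟨(nat_lit 3), (nat_lit 16), (nat_lit 7), (nat_lit 0x12590400a013e16f01270190212bab1), (nat_lit 0x5e465a65f122df5146eb1ae3589f8c), (nat_lit 0)⟩)) (BT.node (nat_lit 4247) (BT.leaf ⟨(nat_lit 3), (nat_lit 7), (nat_lit 16), (nat_lit 0x5e465a65f122df5146eb1ae3589f8c), (nat_lit 0x12590400a013e16f01270190212bab1), (nat_lit 0)⟩) (BT.leaf ⟨(nat_lit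 3), (nat_lit 16), (nat_lit 7), (nat_lit 0x774e89d71f47551b3d5a96656d336c), (nat_lit 0x1f18d90cbc8d7ffab74e94ad1ba207c), (nat_lit 0)⟩)))) (BT.node (nat_lit 4252) (BT.node (nat_lit 4250) (BT.node (nat_lit 4249) (BT.leaf ⟨(nat_lit 3), (nat_lit 7), (nat_lit 16), (nat_lit 0x1f18d90cbc8d7ffab74e94ad1ba207c), (nat_lit 0x774e89d71f47551b3d5a96656d336c), (nat_lit 0)⟩) (BT.leaf ⟨(nat_lit 3), (nat_lit 7), (nat_lit 16), (nat_lit 0x2ba7496210024ee808090fac0c6fc), (nat_lit 0x1e33c4f9dd45f35ff5d2e1a32dc6f85), (nat_lit 0)⟩)) (BT.node (nat_lit 4251) (BT.leaf ⟨(nat_lit 3), (nat_lit 16), (nat_lit 7), (nat_lit 0x1e33c4f9dd45f35ff5d2e1a32dc6f85), (nat_lit 0x2ba7496210024ee808090fac0c6fc), (nat_lit 0)⟩) (BT.leaf ⟨(nat_lit 3), (nat_lit 13), (nat_lit 13), (nat_lit 0x1e1465ea2f3a5e72c5d24cbeb7c7d34), (nat_lit 0xf8d0049e0217a00125fde8400eaab9), (nat_lit 0)⟩))) (BT.node (nat_lit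 4254) (BT.node (nat_lit 4253) (BT.leaf ⟨(nat_lit 2), (nat_lit 13), (nat_lit 13), (nat_lit 0x1bbce8b6c3afa4cea5d5cb07761e9d5), (nat_lit 0), (nat_lit 0)⟩) (BT.leaf ⟨(nat_lit 3), (nat_lit 15), (nat_lit 15), (nat_lit 0xee47315a576e5b13c4dea2aa6c1dff), (nat_lit 0xfa3de97c51c810ef54bc8064f901), (nat_lit 0)⟩)) (BT.node (nat_lit 4255) (BT.leaf ⟨(nat_lit 3), (nat_lit 16), (nat_lit 7), (nat_lit 0xa23d809811780eebeb0300237e00a), (nat_lit 0x1ae5c6e00a00bd2027e30e70221065f), (nat_lit 0)⟩) (BT.leaf ⟨(nat_lit 3), (nat_lit 7), (nat_lit 16), (nat_lit 0x1ae5c6e00a00bd2027e30e70221065f), (nat_lit 0xa23d809811780eebeb0300237e00a), (nat_lit 0)⟩)))))) (BT.node (nat_lit 4272) (BT.node (nat_lit 4264) (BT.node (nat_lit 4260) (BT.node (nat_lit 4258) (BT.node (nat_lit 4257) (BT.leaf ⟨(nat_lit 3), (nat_lit 16), (nat_lit 11), (nat_lit 0xae4021d58011cc205e84be08000be3), (nat_lit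 0x197e04402820d1a97fe3840e3700400), (nat_lit 0)⟩) (BT.leaf ⟨(nat_lit 3), (nat_lit 11), (nat_lit 16), (nat_lit 0x197e04402820d1a97fe3840e3700400), (nat_lit 0xae4021d58011cc205e84be08000be3), (nat_lit 0)⟩)) (BT.node (nat_lit 4259) (BT.leaf ⟨(nat_lit 3), (nat_lit 14), (nat_lit 14), (nat_lit 0x4ae4d6f04b6110061d104881002f3e), (nat_lit 0x27991dd410421f5c0824fd381447b), (nat_lit 0)⟩) (BT.leaf ⟨(nat_lit 3), (nat_lit 7), (nat_lit 16), (nat_lit 0x7a21ede84cbede745c8fd17818e5f8), (nat_lit 0x18569d738e7760eb2ba4e7c1f1690b7), (nat_lit 0)⟩))) (BT.node (nat_lit 4262) (BT.node (nat_lit 4261) (BT.leaf ⟨(nat_lit 3), (nat_lit 16), (nat_lit 7), (nat_lit 0x18569d738e7760eb2ba4e7c1f1690b7), (nat_lit 0x7a21ede84cbede745c8fd17818e5f8), (nat_lit 0)⟩) (BT.leaf ⟨(nat_lit 2), (nat_lit 11), (nat_lit 11), (nat_lit 0x4baf4c018e400c80f474bc01420f3b), (nat_lit 0), (nat_lit 0)⟩))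 (BT.node (nat_lit 4263) (BT.leaf ⟨(nat_lit 3), (nat_lit 7), (nat_lit 16), (nat_lit 0x1fa10205f3c6881403d59e94e908300), (nat_lit 0x19d28beb42f3b9390ef039df6d8e6f6), (nat_lit 0)⟩) (BT.leaf ⟨(nat_lit 3), (nat_lit 16), (nat_lit 7), (nat_lit 0x19d28beb42f3b9390ef039df6d8e6f6), (nat_lit 0x1fa10205f3c6881403d59e94e908300), (nat_lit 0)⟩)))) (BT.node (nat_lit 4268) (BT.node (nat_lit 4266) (BT.node (nat_lit 4265) (BT.leaf ⟨(nat_lit 3), (nat_lit 9), (nat_lit 16), (nat_lit 0x3e9b852f21e4ac9782f2df31eae32f), (nat_lit 0x1003a3020f1b7a239ef47c72790012f), (nat_lit 0)⟩) (BT.leaf ⟨(nat_lit 3), (nat_lit 16), (nat_lit 9), (nat_lit 0x1003a3020f1b7a239ef47c72790012f), (nat_lit 0x3e9b852f21e4ac9782f2df31eae32f), (nat_lit 0)⟩)) (BT.node (nat_lit 4267) (BT.leaf ⟨(nat_lit 3), (nat_lit 7), (nat_lit 16), (nat_lit 0x1e37cef898dc2dee9785d44c4f2c0cb), (nat_lit 0x1003004143e1417cba3f9b0cc21140),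 (nat_lit 0)⟩) (BT.leaf ⟨(nat_lit 3), (nat_lit 16), (nat_lit 7), (nat_lit 0x1003004143e1417cba3f9b0cc21140), (nat_lit 0x1e37cef898dc2dee9785d44c4f2c0cb), (nat_lit 0)⟩))) (BT.node (nat_lit 4270) (BT.node (nat_lit 4269) (BT.leaf ⟨(nat_lit 3), (nat_lit 7), (nat_lit 17), (nat_lit 0x14d3c6f8cf9b963d6f9de1a997c2c6e), (nat_lit 0x1001001001001001001001001001001), (nat_lit 0)⟩) (BT.leaf ⟨(nat_lit 2), (nat_lit 17), (nat_lit 17), (nat_lit 0x182d71bf37c2d8ff19e32b545dd1c6e), (nat_lit 0), (nat_lit 0)⟩)) (BT.node (nat_lit 4271) (BT.leaf ⟨(nat_lit 3), (nat_lit 17), (nat_lit 7), (nat_lit 0x1001001001001001001001001001001), (nat_lit 0x14d3c6f8cf9b963d6f9de1a997c2c6e), (nat_lit 0)⟩) (BT.leaf ⟨(nat_lit 3), (nat_lit 7), (nat_lit 17), (nat_lit 0x14d15c44d72dae6c1dff572399dcab1), (nat_lit 0x1ceab2e3a39d4eb9c583c2ace85bf3e), (nat_lit 0)⟩))))) (BT.node (nat_lit 4280) (BT.node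 (nat_lit 4276) (BT.node (nat_lit 4274) (BT.node (nat_lit 4273) (BT.leaf ⟨(nat_lit 3), (nat_lit 17), (nat_lit 7), (nat_lit 0x1ceab2e3a39d4eb9c583c2ace85bf3e), (nat_lit 0x14d15c44d72dae6c1dff572399dcab1), (nat_lit 0)⟩) (BT.leaf ⟨(nat_lit 3), (nat_lit 7), (nat_lit 17), (nat_lit 0x14d15c44d72dae6c1dff572399dcab1), (nat_lit 0x1ceab2e3a39d4eb9c583c2ace85bf3e), (nat_lit 0)⟩)) (BT.node (nat_lit 4275) (BT.leaf ⟨(nat_lit 2), (nat_lit 17), (nat_lit 17), (nat_lit 0x189d5c396d72ac55cd83772a65b6239), (nat_lit 0), (nat_lit 0)⟩) (BT.leaf ⟨(nat_lit 3), (nat_lit 7), (nat_lit 17), (nat_lit 0x974734ab4ae96cde38aa32979b835f), (nat_lit 0x1b065f0eda9727a4d3d883c5d9d2627), (nat_lit 0)⟩))) (BT.node (nat_lit 4278) (BT.node (nat_lit 4277) (BT.leaf ⟨(nat_lit 3), (nat_lit 17), (nat_lit 7), (nat_lit 0x1b065f0eda9727a4d3d883c5d9d2627), (nat_lit 0x974734ab4ae96cde38aa32979b835f),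 (nat_lit 0)⟩) (BT.leaf ⟨(nat_lit 3), (nat_lit 7), (nat_lit 17), (nat_lit 0x974734ab4ae96cde38aa32979b835f), (nat_lit 0x1b065f0eda9727a4d3d883c5d9d2627), (nat_lit 0)⟩)) (BT.node (nat_lit 4279) (BT.leaf ⟨(nat_lit 2), (nat_lit 17), (nat_lit 17), (nat_lit 0x1055c003023e32f48813a801480f3b), (nat_lit 0), (nat_lit 0)⟩) (BT.leaf ⟨(nat_lit 3), (nat_lit 13), (nat_lit 17), (nat_lit 0x1e77e6dd2f5a2dc65f89d1be369a6a2), (nat_lit 0x206b467435e243e34f3111200407ba), (nat_lit 0)⟩)))) (BT.node (nat_lit 4284) (BT.node (nat_lit 4282) (BT.node (nat_lit 4281) (BT.leaf ⟨(nat_lit 3), (nat_lit 17), (nat_lit 13), (nat_lit 0x206b467435e243e34f3111200407ba), (nat_lit 0x1e77e6dd2f5a2dc65f89d1be369a6a2), (nat_lit 0)⟩) (BT.leaf ⟨(nat_lit 3), (nat_lit 8), (nat_lit 17), (nat_lit 0x97638806804f844104240408af500a), (nat_lit 0x152db61d4cb03eaeae9387a7d4ee9c5), (nat_lit 0)⟩)) (BT.node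 (nat_lit 4283) (BT.leaf ⟨(nat_lit 3), (nat_lit 17), (nat_lit 8), (nat_lit 0x152db61d4cb03eaeae9387a7d4ee9c5), (nat_lit 0x97638806804f844104240408af500a), (nat_lit 0)⟩) (BT.leaf ⟨(nat_lit 3), (nat_lit 17), (nat_lit 17), (nat_lit 0xdb0e8f2146c714ebb8a1f5960ea0d5), (nat_lit 0x113543f2139cbd0bccabfb7bdb7aff4), (nat_lit 0)⟩))) (BT.node (nat_lit 4286) (BT.node (nat_lit 4285) (BT.leaf ⟨(nat_lit 3), (nat_lit 14), (nat_lit 17), (nat_lit 0x1d46fc7b73367a0bb5eac16ab932de8), (nat_lit 0xd7cc030005f918822e3c74ee680573), (nat_lit 0)⟩) (BT.leaf ⟨(nat_lit 3), (nat_lit 17), (nat_lit 14), (nat_lit 0xd7cc030005f918822e3c74ee680573), (nat_lit 0x1d46fc7b73367a0bb5eac16ab932de8), (nat_lit 0)⟩)) (BT.node (nat_lit 4287) (BT.leaf ⟨(nat_lit 3), (nat_lit 8), (nat_lit 18), (nat_lit 0x107989c9f1db37a5f49c9345d9d23d8), (nat_lit 0x1001001001001001001001001001001), (nat_lit 0)⟩) (BT.leaf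 ⟨(nat_lit 2), (nat_lit 18), (nat_lit 18), (nat_lit 0x1002024083d10822038da018032faf4), (nat_lit 0), (nat_lit 0)⟩)))))))
noncomputable def cP4224 : BT Pf := (BT.node (nat_lit 4256) (BT.node (nat_lit 4240) (BT.node (nat_lit 4232) (BT.node (nat_lit 4228) (BT.node (nat_lit 4226) (BT.node (nat_lit 4225) (BT.leaf (.inv (nat_lit 4223))) (BT.leaf (.emul [(nat_lit 4067), (nat_lit 4078)]))) (BT.node (nat_lit 4227) (BT.leaf (.rel (nat_lit 4136) (nat_lit 1) [(nat_lit 488), (nat_lit 163)] [⟨(nat_lit 4211), [(nat_lit 4225)], [(nat_lit 953), (nat_lit 235)]⟩])) (BT.leaf (.rel (nat_lit 4222) (nat_lit 1) [(nat_lit 783), (nat_lit 646)] [⟨(nat_lit 3396), [(nat_lit 1049)], [(nat_lit 463), (nat_lit 372)]⟩])))) (BT.node (nat_lit 4230) (BT.node (nat_lit 4229) (BT.leaf (.inv (nat_lit 4227))) (BT.leaf (.rel (nat_lit 4223) (nat_lit 1) [(nat_lit 92), (nat_lit 628)] [⟨(nat_lit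 2883), [(nat_lit 2210)], [(nat_lit 416), (nat_lit 497)]⟩]))) (BT.node (nat_lit 4231) (BT.leaf (.inv (nat_lit 4229))) (BT.leaf (.rel (nat_lit 4036) (nat_lit 0) [(nat_lit 256), (nat_lit 681)] [⟨(nat_lit 4024), [], [(nat_lit 1437), (nat_lit 512)]⟩]))))) (BT.node (nat_lit 4236) (BT.node (nat_lit 4234) (BT.node (nat_lit 4233) (BT.leaf (.rel (nat_lit 4128) (nat_lit 1) [(nat_lit 364), (nat_lit 498)] [⟨(nat_lit 4127), [(nat_lit 4067)], [(nat_lit 690), (nat_lit 205)]⟩])) (BT.leaf (.emul [(nat_lit 3264), (nat_lit 3215)]))) (BT.node (nat_lit 4235) (BT.leaf (.rel (nat_lit 4228) (nat_lit 4) [(nat_lit 130), (nat_lit 396)] [⟨(nat_lit 3438), [(nat_lit 4233)], [(nat_lit 167), (nat_lit 270)]⟩, ⟨(nat_lit 3299), [(nat_lit 935)], [(nat_lit 1106), (nat_lit 1165)]⟩])) (BT.leaf (.inv (nat_lit 4234))))) (BT.node (nat_lit 4238) (BT.node (nat_lit 4237) (BT.leaf (.inv (nat_lit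 4235))) (BT.leaf (.cmp (nat_lit 4236) ⟨(nat_lit 4227), [(nat_lit 3223)], [(nat_lit 94), (nat_lit 1256)]⟩))) (BT.node (nat_lit 4239) (BT.leaf (.rel (nat_lit 4228) (nat_lit 3) [(nat_lit 943), (nat_lit 1247)] [⟨(nat_lit 3550), [(nat_lit 3264)], [(nat_lit 240), (nat_lit 234)]⟩, ⟨(nat_lit 3004), [], [(nat_lit 1027), (nat_lit 491)]⟩])) (BT.leaf (.inv (nat_lit 4238))))))) (BT.node (nat_lit 4248) (BT.node (nat_lit 4244) (BT.node (nat_lit 4242) (BT.node (nat_lit 4241) (BT.leaf (.rel (nat_lit 4223) (nat_lit 1) [(nat_lit 567), (nat_lit 202)] [⟨(nat_lit 2569), [(nat_lit 2259)], [(nat_lit 902), (nat_lit 597)]⟩])) (BT.leaf (.inv (nat_lit 4240)))) (BT.node (nat_lit 4243) (BT.leaf (.rel (nat_lit 3126) (nat_lit 1) [(nat_lit 1012), (nat_lit 1140)] [⟨(nat_lit 4229), [(nat_lit 2311)], [(nat_lit 433), (nat_lit 584)]⟩])) (BT.leaf (.inv (nat_lit 4242))))) (BT.node (nat_lit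 4246) (BT.node (nat_lit 4245) (BT.leaf (.cmp (nat_lit 4243) ⟨(nat_lit 4238), [(nat_lit 2413)], [(nat_lit 527), (nat_lit 682)]⟩)) (BT.leaf (.rel (nat_lit 2257) (nat_lit 4) [(nat_lit 1242), (nat_lit 597)] [⟨(nat_lit 3056), [(nat_lit 2237)], [(nat_lit 746), (nat_lit 710)]⟩, ⟨(nat_lit 4221), [(nat_lit 834)], [(nat_lit 482), (nat_lit 646)]⟩]))) (BT.node (nat_lit 4247) (BT.leaf (.inv (nat_lit 4245))) (BT.leaf (.rel (nat_lit 2494) (nat_lit 4) [(nat_lit 416), (nat_lit 627)] [⟨(nat_lit 2681), [(nat_lit 2167)], [(nat_lit 508), (nat_lit 529)]⟩, ⟨(nat_lit 4246), [(nat_lit 775)], [(nat_lit 538), (nat_lit 1009)]⟩]))))) (BT.node (nat_lit 4252) (BT.node (nat_lit 4250) (BT.node (nat_lit 4249) (BT.leaf (.inv (nat_lit 4247))) (BT.leaf (.rel (nat_lit 4241) (nat_lit 4) [(nat_lit 433), (nat_lit 265)] [⟨(nat_lit 2337), [(nat_lit 2167)], [(nat_lit 521), (nat_lit 169)]⟩, ⟨(nat_lit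 1265), [(nat_lit 935)], [(nat_lit 197), (nat_lit 426)]⟩]))) (BT.node (nat_lit 4251) (BT.leaf (.inv (nat_lit 4249))) (BT.leaf (.rel (nat_lit 4143) (nat_lit 0) [(nat_lit 261), (nat_lit 557)] [⟨(nat_lit 4144), [(nat_lit 4152)], [(nat_lit 914), (nat_lit 557)]⟩])))) (BT.node (nat_lit 4254) (BT.node (nat_lit 4253) (BT.leaf (.emul [(nat_lit 3720), (nat_lit 3740)])) (BT.leaf (.rel (nat_lit 4203) (nat_lit 3) [(nat_lit 447), (nat_lit 604)] [⟨(nat_lit 4168), [(nat_lit 4152)], [(nat_lit 93)]⟩, ⟨(nat_lit 4143), [(nat_lit 4252)], [(nat_lit 1175), (nat_lit 307)]⟩]))) (BT.node (nat_lit 4255) (BT.leaf (.rel (nat_lit 1167) (nat_lit 0) [(nat_lit 675), (nat_lit 420)] [⟨(nat_lit 4246), [(nat_lit 775)], [(nat_lit 970), (nat_lit 1165)]⟩])) (BT.leaf (.inv (nat_lit 4254)))))))) (BT.node (nat_lit 4272) (BT.node (nat_lit 4264) (BT.node (nat_lit 4260) (BT.node (nat_lit 4258)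 (BT.node (nat_lit 4257) (BT.leaf (.rel (nat_lit 3438) (nat_lit 4) [(nat_lit 462), (nat_lit 249)] [⟨(nat_lit 1865), [], [(nat_lit 429), (nat_lit 173)]⟩, ⟨(nat_lit 4224), [(nat_lit 2075)], [(nat_lit 237), (nat_lit 497)]⟩])) (BT.leaf (.inv (nat_lit 4256)))) (BT.node (nat_lit 4259) (BT.leaf (.rel (nat_lit 4048) (nat_lit 0) [(nat_lit 175), (nat_lit 1226)] [⟨(nat_lit 4231), [(nat_lit 4030), (nat_lit 4010)], [(nat_lit 215), (nat_lit 236)]⟩])) (BT.leaf (.rel (nat_lit 4254) (nat_lit 0) [(nat_lit 707), (nat_lit 1083)] [⟨(nat_lit 1159), [(nat_lit 935)], [(nat_lit 579), (nat_lit 319)]⟩])))) (BT.node (nat_lit 4262) (BT.node (nat_lit 4261) (BT.leaf (.inv (nat_lit 4259))) (BT.leaf (.emul [(nat_lit 3264), (nat_lit 3223)]))) (BT.node (nat_lit 4263) (BT.leaf (.rel (nat_lit 4256) (nat_lit 5) [(nat_lit 296), (nat_lit 711)] [⟨(nat_lit 3338), [(nat_lit 4261)], [(nat_lit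 587), (nat_lit 475)]⟩, ⟨(nat_lit 983), [], [(nat_lit 673), (nat_lit 247)]⟩])) (BT.leaf (.inv (nat_lit 4262)))))) (BT.node (nat_lit 4268) (BT.node (nat_lit 4266) (BT.node (nat_lit 4265) (BT.leaf (.rel (nat_lit 4260) (nat_lit 5) [(nat_lit 513), (nat_lit 1088)] [⟨(nat_lit 2806), [(nat_lit 775)], [(nat_lit 356), (nat_lit 389)]⟩, ⟨(nat_lit 2169), [(nat_lit 2237)], [(nat_lit 502), (nat_lit 400)]⟩])) (BT.leaf (.inv (nat_lit 4264)))) (BT.node (nat_lit 4267) (BT.leaf (.rel (nat_lit 4223) (nat_lit 1) [(nat_lit 675), (nat_lit 291)] [⟨(nat_lit 2069), [], [(nat_lit 348), (nat_lit 252)]⟩])) (BT.leaf (.inv (nat_lit 4266))))) (BT.node (nat_lit 4270) (BT.node (nat_lit 4269) (BT.leaf (.dfn [(nat_lit 4), (nat_lit 1), (nat_lit 3), (nat_lit 1), (nat_lit 4), (nat_lit 1), (nat_lit 3), (nat_lit 1), (nat_lit 3), (nat_lit 1), (nat_lit 4), (nat_lit 1), (nat_lit 4), (nat_lit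 1), (nat_lit 4), (nat_lit 1), (nat_lit 4)])) (BT.leaf (.cmp (nat_lit 4268) ⟨(nat_lit 4268), [(nat_lit 935)], [(nat_lit 1308), (nat_lit 1140)]⟩))) (BT.node (nat_lit 4271) (BT.leaf (.inv (nat_lit 4268))) (BT.leaf (.rel (nat_lit 4270) (nat_lit 5) [(nat_lit 273), (nat_lit 294)] [⟨(nat_lit 1442), [(nat_lit 775)], [(nat_lit 272), (nat_lit 700)]⟩, ⟨(nat_lit 1510), [(nat_lit 775)], [(nat_lit 587), (nat_lit 400)]⟩])))))) (BT.node (nat_lit 4280) (BT.node (nat_lit 4276) (BT.node (nat_lit 4274) (BT.node (nat_lit 4273) (BT.leaf (.inv (nat_lit 4271))) (BT.leaf (.inv (nat_lit 4272)))) (BT.node (nat_lit 4275) (BT.leaf (.cmp (nat_lit 4273) ⟨(nat_lit 4268), [], [(nat_lit 759), (nat_lit 369)]⟩)) (BT.leaf (.rel (nat_lit 4270) (nat_lit 0) [(nat_lit 550), (nat_lit 384)] [⟨(nat_lit 1603), [], [(nat_lit 254), (nat_lit 236)]⟩])))) (BT.node (nat_lit 4278) (BT.node (nat_lit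 4277) (BT.leaf (.inv (nat_lit 4275))) (BT.leaf (.inv (nat_lit 4276)))) (BT.node (nat_lit 4279) (BT.leaf (.cmp (nat_lit 4277) ⟨(nat_lit 4268), [], [(nat_lit 387), (nat_lit 870)]⟩)) (BT.leaf (.rel (nat_lit 4270) (nat_lit 3) [(nat_lit 1189), (nat_lit 1021)] [⟨(nat_lit 2996), [(nat_lit 775)], [(nat_lit 447), (nat_lit 440)]⟩, ⟨(nat_lit 3789), [(nat_lit 2237)], [(nat_lit 469), (nat_lit 1376)]⟩]))))) (BT.node (nat_lit 4284) (BT.node (nat_lit 4282) (BT.node (nat_lit 4281) (BT.leaf (.inv (nat_lit 4279))) (BT.leaf (.rel (nat_lit 4280) (nat_lit 5) [(nat_lit 774), (nat_lit 289)] [⟨(nat_lit 3811), [(nat_lit 4021)], [(nat_lit 348), (nat_lit 379)]⟩, ⟨(nat_lit 2884), [(nat_lit 2237)], [(nat_lit 673), (nat_lit 88)]⟩]))) (BT.node (nat_lit 4283) (BT.leaf (.inv (nat_lit 4281))) (BT.leaf (.rel (nat_lit 4280) (nat_lit 1) [(nat_lit 1087), (nat_lit 1001)] [⟨(nat_lit 4279),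 [(nat_lit 3946)], [(nat_lit 513), (nat_lit 171)]⟩])))) (BT.node (nat_lit 4286) (BT.node (nat_lit 4285) (BT.leaf (.rel (nat_lit 4282) (nat_lit 0) [(nat_lit 97), (nat_lit 163)] [⟨(nat_lit 4042), [], [(nat_lit 295), (nat_lit 605)]⟩])) (BT.leaf (.inv (nat_lit 4284)))) (BT.node (nat_lit 4287) (BT.leaf (.dfn [(nat_lit 3), (nat_lit 1), (nat_lit 3), (nat_lit 1), (nat_lit 3), (nat_lit 1), (nat_lit 3), (nat_lit 1), (nat_lit 4), (nat_lit 1), (nat_lit 3), (nat_lit 1), (nat_lit 3), (nat_lit 1), (nat_lit 4), (nat_lit 1), (nat_lit 4), (nat_lit 1), (nat_lit 4), (nat_lit 1), (nat_lit 4)])) (BT.leaf (.cmp (nat_lit 4286) ⟨(nat_lit 4286), [(nat_lit 1846)], [(nat_lit 1189), (nat_lit 1223)]⟩))))))))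
noncomputable def cF4288 : BT Fc := (BT.node (nat_lit 4320) (BT.node (nat_lit 4304) (BT.node (nat_lit 4296) (BT.node (nat_lit 4292) (BT.node (nat_lit 4290) (BT.node (nat_lit 4289) (BT.leaf ⟨(nat_lit 3), (nat_lit 18), (nat_lit 8), (nat_lit 0x1001001001001001001001001001001), (nat_lit 0x107989c9f1db37a5f49c9345d9d23d8), (nat_lit 0)⟩) (BT.leaf ⟨(nat_lit 2), (nat_lit 18), (nat_lit 18), (nat_lit 0x1bd402809f1840420de90427512f001), (nat_lit 0), (nat_lit 0)⟩)) (BT.node (nat_lit 4291) (BT.leaf ⟨(nat_lit 3), (nat_lit 8), (nat_lit 18), (nat_lit 0x136652beb6c68d9663e7378f84f195a), (nat_lit 0x1467b35ffeadc18d94a5e841f349aae), (nat_lit 0)⟩) (BT.leaf ⟨(nat_lit 3), (nat_lit 18), (nat_lit 8), (nat_lit 0x1467b35ffeadc18d94a5e841f349aae), (nat_lit 0x136652beb6c68d9663e7378f84f195a), (nat_lit 0)⟩))) (BT.node (nat_lit 4294) (BT.node (nat_lit 4293) (BT.leaf ⟨(nat_lit 3),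 (nat_lit 8), (nat_lit 18), (nat_lit 0x136652beb6c68d9663e7378f84f195a), (nat_lit 0x1467b35ffeadc18d94a5e841f349aae), (nat_lit 0)⟩) (BT.leaf ⟨(nat_lit 2), (nat_lit 18), (nat_lit 18), (nat_lit 0xb30ad1bcc16fafc83e75c678de1a36), (nat_lit 0), (nat_lit 0)⟩)) (BT.node (nat_lit 4295) (BT.leaf ⟨(nat_lit 3), (nat_lit 18), (nat_lit 12), (nat_lit 0xf9df5fe36c6f84de7903c71b9e1be2), (nat_lit 0x197e0452f9001ce101e8881ae57a500), (nat_lit 0)⟩) (BT.leaf ⟨(nat_lit 3), (nat_lit 12), (nat_lit 18), (nat_lit 0x197e0452f9001ce101e8881ae57a500), (nat_lit 0xf9df5fe36c6f84de7903c71b9e1be2), (nat_lit 0)⟩)))) (BT.node (nat_lit 4300) (BT.node (nat_lit 4298) (BT.node (nat_lit 4297) (BT.leaf ⟨(nat_lit 3), (nat_lit 9), (nat_lit 19), (nat_lit 0xee746b5f2054008402f9d0406cf300), (nat_lit 0x1001001001001001001001001001001), (nat_lit 0)⟩) (BT.leaf ⟨(nat_lit 2), (nat_lit 19), (nat_lit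 19), (nat_lit 0x1edd32de03d172305de95a57e2f55ec), (nat_lit 0), (nat_lit 0)⟩)) (BT.node (nat_lit 4299) (BT.leaf ⟨(nat_lit 3), (nat_lit 19), (nat_lit 9), (nat_lit 0x1001001001001001001001001001001), (nat_lit 0xee746b5f2054008402f9d0406cf300), (nat_lit 0)⟩) (BT.leaf ⟨(nat_lit 2), (nat_lit 19), (nat_lit 19), (nat_lit 0x15a3f45c83d1782745e9b517b2f55f8), (nat_lit 0), (nat_lit 0)⟩))) (BT.node (nat_lit 4302) (BT.node (nat_lit 4301) (BT.leaf ⟨(nat_lit 3), (nat_lit 10), (nat_lit 20), (nat_lit 0x123aa5cbeb3cc4dec496d8327135627), (nat_lit 0x1001001001001001001001001001001), (nat_lit 0)⟩) (BT.leaf ⟨(nat_lit 3), (nat_lit 20), (nat_lit 10), (nat_lit 0x1001001001001001001001001001001), (nat_lit 0x123aa5cbeb3cc4dec496d8327135627), (nat_lit 0)⟩)) (BT.node (nat_lit 4303) (BT.leaf ⟨(nat_lit 2), (nat_lit 10), (nat_lit 10), (nat_lit 0x32ec6f85ba5e27d6b13a69f35ff78d), (nat_lit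 0), (nat_lit 0)⟩) (BT.leaf ⟨(nat_lit 2), (nat_lit 10), (nat_lit 10), (nat_lit 0xf5580220480a0100204a8c843f4600), (nat_lit 0), (nat_lit 0)⟩))))) (BT.node (nat_lit 4312) (BT.node (nat_lit 4308) (BT.node (nat_lit 4306) (BT.node (nat_lit 4305) (BT.leaf ⟨(nat_lit 2), (nat_lit 10), (nat_lit 10), (nat_lit 0x40bfa1002200be801801ab8e971908), (nat_lit 0), (nat_lit 0)⟩) (BT.leaf ⟨(nat_lit 3), (nat_lit 9), (nat_lit 19), (nat_lit 0x114ee4024440a65e1cbef5b08030022), (nat_lit 0x5bc225a8481de90ff067465017c860), (nat_lit 0)⟩)) (BT.node (nat_lit 4307) (BT.leaf ⟨(nat_lit 3), (nat_lit 19), (nat_lit 9), (nat_lit 0x5bc225a8481de90ff067465017c860), (nat_lit 0x114ee4024440a65e1cbef5b08030022), (nat_lit 0)⟩) (BT.leaf ⟨(nat_lit 3), (nat_lit 9), (nat_lit 19), (nat_lit 0x114ee4024440a65e1cbef5b08030022), (nat_lit 0x5bc225a8481de90ff067465017c860), (nat_lit 0)⟩))) (BT.node (nat_lit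 4310) (BT.node (nat_lit 4309) (BT.leaf ⟨(nat_lit 2), (nat_lit 19), (nat_lit 19), (nat_lit 0x11c716472f210cd43c538f6d2679bfe), (nat_lit 0), (nat_lit 0)⟩) (BT.leaf ⟨(nat_lit 3), (nat_lit 9), (nat_lit 20), (nat_lit 0xac6ffd83ea2be55c2bd576ee75cab9), (nat_lit 0x15cc17904c75fd1dcae3a013a08135f), (nat_lit 0)⟩)) (BT.node (nat_lit 4311) (BT.leaf ⟨(nat_lit 3), (nat_lit 20), (nat_lit 9), (nat_lit 0x15cc17904c75fd1dcae3a013a08135f), (nat_lit 0xac6ffd83ea2be55c2bd576ee75cab9), (nat_lit 0)⟩) (BT.leaf ⟨(nat_lit 3), (nat_lit 9), (nat_lit 20), (nat_lit 0xac6ffd83ea2be55c2bd576ee75cab9), (nat_lit 0x15cc17904c75fd1dcae3a013a08135f), (nat_lit 0)⟩)))) (BT.node (nat_lit 4316) (BT.node (nat_lit 4314) (BT.node (nat_lit 4313) (BT.leaf ⟨(nat_lit 2), (nat_lit 20), (nat_lit 19), (nat_lit 0x137bbd06032abe619850747ad022040), (nat_lit 0), (nat_lit 0)⟩) (BT.leaf ⟨(nat_lit 3), (nat_lit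 19), (nat_lit 10), (nat_lit 0x137bbd06032abe619850747ad022040), (nat_lit 0x123aa5cbeb3cc4dec496d8327135627), (nat_lit 0)⟩)) (BT.node (nat_lit 4315) (BT.leaf ⟨(nat_lit 3), (nat_lit 10), (nat_lit 19), (nat_lit 0x123aa5cbeb3cc4dec496d8327135627), (nat_lit 0x137bbd06032abe619850747ad022040), (nat_lit 0)⟩) (BT.leaf ⟨(nat_lit 2), (nat_lit 14), (nat_lit 14), (nat_lit 0x1100f4480805003f1d2f5e90828038d), (nat_lit 0), (nat_lit 0)⟩))) (BT.node (nat_lit 4318) (BT.node (nat_lit 4317) (BT.leaf ⟨(nat_lit 3), (nat_lit 14), (nat_lit 14), (nat_lit 0x9fdb85d29574652f8e643e17f161bc), (nat_lit 0xc73dbaaeea266efc176ad10f705de8), (nat_lit 0)⟩) (BT.leaf ⟨(nat_lit 2), (nat_lit 14), (nat_lit 14), (nat_lit 0x1d59080110a02401801049e71409110), (nat_lit 0), (nat_lit 0)⟩)) (BT.node (nat_lit 4319) (BT.leaf ⟨(nat_lit 3), (nat_lit 17), (nat_lit 17), (nat_lit 0x1570974c705edc09790f24e6bfed92d),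 (nat_lit 0x1caab2ad2c75cef9d732e34ceb9c1ce), (nat_lit 0)⟩) (BT.leaf ⟨(nat_lit 3), (nat_lit 15), (nat_lit 17), (nat_lit 0x73b6a517fb79d255b1cdf9fd17a6b4), (nat_lit 0x90219844e0c100210482801426f060), (nat_lit 0)⟩)))))) (BT.node (nat_lit 4336) (BT.node (nat_lit 4328) (BT.node (nat_lit 4324) (BT.node (nat_lit 4322) (BT.node (nat_lit 4321) (BT.leaf ⟨(nat_lit 3), (nat_lit 17), (nat_lit 15), (nat_lit 0x90219844e0c100210482801426f060), (nat_lit 0x73b6a517fb79d255b1cdf9fd17a6b4), (nat_lit 0)⟩) (BT.leaf ⟨(nat_lit 3), (nat_lit 12), (nat_lit 19), (nat_lit 0x16c65f49c91c27bbec9e9bd258bb41e), (nat_lit 0x167a4b4bed3d26a0f49f748279ec49c), (nat_lit 0)⟩)) (BT.node (nat_lit 4323) (BT.leaf ⟨(nat_lit 3), (nat_lit 19), (nat_lit 12), (nat_lit 0x167a4b4bed3d26a0f49f748279ec49c), (nat_lit 0x16c65f49c91c27bbec9e9bd258bb41e), (nat_lit 0)⟩) (BT.leaf ⟨(nat_lit 2), (nat_lit 12),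 (nat_lit 12), (nat_lit 0xa24b04821178004127811e14eea08), (nat_lit 0), (nat_lit 0)⟩))) (BT.node (nat_lit 4326) (BT.node (nat_lit 4325) (BT.leaf ⟨(nat_lit 3), (nat_lit 13), (nat_lit 19), (nat_lit 0x1d0ba7346e8f7ff49f44cd3296a3519), (nat_lit 0x410c068d210ee417d005c78e86ae46), (nat_lit 0)⟩) (BT.leaf ⟨(nat_lit 3), (nat_lit 19), (nat_lit 13), (nat_lit 0x410c068d210ee417d005c78e86ae46), (nat_lit 0x1d0ba7346e8f7ff49f44cd3296a3519), (nat_lit 0)⟩)) (BT.node (nat_lit 4327) (BT.leaf ⟨(nat_lit 3), (nat_lit 10), (nat_lit 21), (nat_lit 0x1756a59d56d87d4ee9c53ae654e8c3d), (nat_lit 0x1001001001001001001001001001001), (nat_lit 0)⟩) (BT.leaf ⟨(nat_lit 2), (nat_lit 10), (nat_lit 10), (nat_lit 0x191881100280442b9904d1a60090101), (nat_lit 0), (nat_lit 0)⟩)))) (BT.node (nat_lit 4332) (BT.node (nat_lit 4330) (BT.node (nat_lit 4329) (BT.leaf ⟨(nat_lit 2), (nat_lit 10), (nat_lit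 10), (nat_lit 0xf5580220420811002803c69005ce00), (nat_lit 0), (nat_lit 0)⟩) (BT.leaf ⟨(nat_lit 3), (nat_lit 21), (nat_lit 10), (nat_lit 0x1001001001001001001001001001001), (nat_lit 0x1756a59d56d87d4ee9c53ae654e8c3d), (nat_lit 0)⟩)) (BT.node (nat_lit 4331) (BT.leaf ⟨(nat_lit 2), (nat_lit 10), (nat_lit 10), (nat_lit 0x83d6a200489fc140608412f8fabc3), (nat_lit 0), (nat_lit 0)⟩) (BT.leaf ⟨(nat_lit 2), (nat_lit 10), (nat_lit 10), (nat_lit 0xf56ea9d438a747909556d86551b0d5), (nat_lit 0), (nat_lit 0)⟩))) (BT.node (nat_lit 4334) (BT.node (nat_lit 4333) (BT.leaf ⟨(nat_lit 2), (nat_lit 10), (nat_lit 10), (nat_lit 0xc70bcaf4de19d37e6b450fb937acf4), (nat_lit 0), (nat_lit 0)⟩) (BT.leaf ⟨(nat_lit 2), (nat_lit 10), (nat_lit 10), (nat_lit 0x29f5f85110123a7018010032045e0), (nat_lit 0), (nat_lit 0)⟩)) (BT.node (nat_lit 4335) (BT.leaf ⟨(nat_lit 3), (nat_lit 8), (nat_lit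 21), (nat_lit 0x996e978df0b4d32c7add1affbc4ea2), (nat_lit 0xb8fc851746cf88ad77d74678f05be1), (nat_lit 0)⟩) (BT.leaf ⟨(nat_lit 3), (nat_lit 21), (nat_lit 8), (nat_lit 0xb8fc851746cf88ad77d74678f05be1), (nat_lit 0x996e978df0b4d32c7add1affbc4ea2), (nat_lit 0)⟩))))) (BT.node (nat_lit 4344) (BT.node (nat_lit 4340) (BT.node (nat_lit 4338) (BT.node (nat_lit 4337) (BT.leaf ⟨(nat_lit 3), (nat_lit 8), (nat_lit 21), (nat_lit 0x996e978df0b4d32c7add1affbc4ea2), (nat_lit 0xb8fc851746cf88ad77d74678f05be1), (nat_lit 0)⟩) (BT.leaf ⟨(nat_lit 2), (nat_lit 21), (nat_lit 18), (nat_lit 0x9a8bc9ce957137726f650fbc35a6f5), (nat_lit 0), (nat_lit 0)⟩)) (BT.node (nat_lit 4339) (BT.leaf ⟨(nat_lit 3), (nat_lit 18), (nat_lit 10), (nat_lit 0x9a8bc9ce957137726f650fbc35a6f5), (nat_lit 0x1756a59d56d87d4ee9c53ae654e8c3d), (nat_lit 0)⟩) (BT.leaf ⟨(nat_lit 3), (nat_lit 10), (nat_lit 18),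 (nat_lit 0x1756a59d56d87d4ee9c53ae654e8c3d), (nat_lit 0x9a8bc9ce957137726f650fbc35a6f5), (nat_lit 0)⟩))) (BT.node (nat_lit 4342) (BT.node (nat_lit 4341) (BT.leaf ⟨(nat_lit 3), (nat_lit 12), (nat_lit 22), (nat_lit 0xf0c9071ada87d7b30a00408813f822), (nat_lit 0x1001001001001001001001001001001), (nat_lit 0)⟩) (BT.leaf ⟨(nat_lit 2), (nat_lit 12), (nat_lit 12), (nat_lit 0x10032fd00901102042f48401cf5cc01), (nat_lit 0), (nat_lit 0)⟩)) (BT.node (nat_lit 4343) (BT.leaf ⟨(nat_lit 2), (nat_lit 12), (nat_lit 12), (nat_lit 0xa04400c4ae820043eb811783a7785), (nat_lit 0), (nat_lit 0)⟩) (BT.leaf ⟨(nat_lit 3), (nat_lit 12), (nat_lit 19), (nat_lit 0x1825f120060a64500228a60841027f), (nat_lit 0x1963c48cb71be16370b7f19a37ced34), (nat_lit 0)⟩)))) (BT.node (nat_lit 4348) (BT.node (nat_lit 4346) (BT.node (nat_lit 4345) (BT.leaf ⟨(nat_lit 3), (nat_lit 19), (nat_lit 12), (nat_lit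 0x1963c48cb71be16370b7f19a37ced34), (nat_lit 0x1825f120060a64500228a60841027f), (nat_lit 0)⟩) (BT.leaf ⟨(nat_lit 3), (nat_lit 12), (nat_lit 19), (nat_lit 0x1825f120060a64500228a60841027f), (nat_lit 0x1963c48cb71be16370b7f19a37ced34), (nat_lit 0)⟩)) (BT.node (nat_lit 4347) (BT.leaf ⟨(nat_lit 2), (nat_lit 19), (nat_lit 22), (nat_lit 0x189e4b6c17b0c4c76f7d9bc5d9d249e), (nat_lit 0), (nat_lit 0)⟩) (BT.leaf ⟨(nat_lit 2), (nat_lit 22), (nat_lit 19), (nat_lit 0xae3c6472bd20249749f403cef7a9d4), (nat_lit 0), (nat_lit 0)⟩))) (BT.node (nat_lit 4350) (BT.node (nat_lit 4349) (BT.leaf ⟨(nat_lit 3), (nat_lit 12), (nat_lit 19), (nat_lit 0xf0c9071ada87d7b30a00408813f822), (nat_lit 0xae3c6472bd20249749f403cef7a9d4), (nat_lit 0)⟩) (BT.leaf ⟨(nat_lit 3), (nat_lit 14), (nat_lit 23), (nat_lit 0x1d994ca208a6084180280487d5e1822), (nat_lit 0x1001001001001001001001001001001),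 (nat_lit 0)⟩)) (BT.node (nat_lit 4351) (BT.leaf ⟨(nat_lit 3), (nat_lit 23), (nat_lit 14), (nat_lit 0x1001001001001001001001001001001), (nat_lit 0x1d994ca208a6084180280487d5e1822), (nat_lit 0)⟩) (BT.leaf ⟨(nat_lit 3), (nat_lit 15), (nat_lit 19), (nat_lit 0x7501092ebd29780184101280440f3b), (nat_lit 0x302d4195081de82421f5f211030240), (nat_lit 0)⟩)))))))
noncomputable def cP4288 : BT Pf := (BT.node (nat_lit 4320) (BT.node (nat_lit 4304) (BT.node (nat_lit 4296) (BT.node (nat_lit 4292) (BT.node (nat_lit 4290) (BT.node (nat_lit 4289) (BT.leaf (.inv (nat_lit 4286))) (BT.leaf (.cmp (nat_lit 4286) ⟨(nat_lit 4286), [(nat_lit 2075)], [(nat_lit 282), (nat_lit 400)]⟩))) (BT.node (nat_lit 4291) (BT.leaf (.rel (nat_lit 4288) (nat_lit 2) [(nat_lit 840), (nat_lit 972)] [⟨(nat_lit 2114), [(nat_lit 2258)], [(nat_lit 928), (nat_lit 1503)]⟩, ⟨(nat_lit 1898), [], [(nat_lit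 151), (nat_lit 566)]⟩])) (BT.leaf (.inv (nat_lit 4290))))) (BT.node (nat_lit 4294) (BT.node (nat_lit 4293) (BT.leaf (.inv (nat_lit 4291))) (BT.leaf (.cmp (nat_lit 4292) ⟨(nat_lit 4286), [(nat_lit 1883)], [(nat_lit 1041), (nat_lit 875)]⟩))) (BT.node (nat_lit 4295) (BT.leaf (.rel (nat_lit 3665) (nat_lit 0) [(nat_lit 905), (nat_lit 1100)] [⟨(nat_lit 4286), [], [(nat_lit 376), (nat_lit 712)]⟩])) (BT.leaf (.inv (nat_lit 4294)))))) (BT.node (nat_lit 4300) (BT.node (nat_lit 4298) (BT.node (nat_lit 4297) (BT.leaf (.dfn [(nat_lit 1), (nat_lit 4), (nat_lit 1), (nat_lit 4), (nat_lit 1), (nat_lit 3), (nat_lit 1), (nat_lit 3), (nat_lit 1), (nat_lit 3), (nat_lit 1), (nat_lit 4), (nat_lit 1), (nat_lit 4), (nat_lit 1), (nat_lit 4), (nat_lit 1), (nat_lit 4), (nat_lit 1), (nat_lit 3)])) (BT.leaf (.cmp (nat_lit 4296) ⟨(nat_lit 4296), [(nat_lit 2237)], [(nat_lit 194),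 (nat_lit 367)]⟩))) (BT.node (nat_lit 4299) (BT.leaf (.inv (nat_lit 4296))) (BT.leaf (.cmp (nat_lit 4296) ⟨(nat_lit 4296), [(nat_lit 2311)], [(nat_lit 539), (nat_lit 287)]⟩)))) (BT.node (nat_lit 4302) (BT.node (nat_lit 4301) (BT.leaf (.dfn [(nat_lit 4), (nat_lit 1), (nat_lit 3), (nat_lit 1), (nat_lit 3), (nat_lit 1), (nat_lit 3), (nat_lit 1), (nat_lit 4), (nat_lit 1), (nat_lit 4), (nat_lit 1), (nat_lit 4), (nat_lit 1), (nat_lit 4)])) (BT.leaf (.inv (nat_lit 4300)))) (BT.node (nat_lit 4303) (BT.leaf (.emul [(nat_lit 3191), (nat_lit 3195)])) (BT.leaf (.emul [(nat_lit 3195), (nat_lit 4302)])))))) (BT.node (nat_lit 4312) (BT.node (nat_lit 4308) (BT.node (nat_lit 4306) (BT.node (nat_lit 4305) (BT.leaf (.emul [(nat_lit 3195), (nat_lit 4303)])) (BT.leaf (.rel (nat_lit 4298) (nat_lit 5) [(nat_lit 299), (nat_lit 460)] [⟨(nat_lit 2444), [], [(nat_lit 695), (nat_lit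 170)]⟩, ⟨(nat_lit 2201), [], [(nat_lit 653), (nat_lit 936)]⟩]))) (BT.node (nat_lit 4307) (BT.leaf (.inv (nat_lit 4305))) (BT.leaf (.inv (nat_lit 4306))))) (BT.node (nat_lit 4310) (BT.node (nat_lit 4309) (BT.leaf (.cmp (nat_lit 4307) ⟨(nat_lit 4296), [], [(nat_lit 734), (nat_lit 1348)]⟩)) (BT.leaf (.rel (nat_lit 4301) (nat_lit 2) [(nat_lit 2061), (nat_lit 556)] [⟨(nat_lit 3183), [(nat_lit 4304), (nat_lit 4177)], [(nat_lit 567), (nat_lit 710)]⟩, ⟨(nat_lit 2587), [(nat_lit 2549)], [(nat_lit 376), (nat_lit 293)]⟩]))) (BT.node (nat_lit 4311) (BT.leaf (.inv (nat_lit 4309))) (BT.leaf (.inv (nat_lit 4310)))))) (BT.node (nat_lit 4316) (BT.node (nat_lit 4314) (BT.node (nat_lit 4313) (BT.leaf (.cmp (nat_lit 4311) ⟨(nat_lit 4296), [], [(nat_lit 335), (nat_lit 1192)]⟩)) (BT.leaf (.trans (nat_lit 4301) [(nat_lit 4312)] []))) (BT.node (nat_lit 4315) (BT.leaf (.trans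 (nat_lit 4300) [] [(nat_lit 4312)])) (BT.leaf (.emul [(nat_lit 4030), (nat_lit 4030)])))) (BT.node (nat_lit 4318) (BT.node (nat_lit 4317) (BT.leaf (.rel (nat_lit 4048) (nat_lit 5) [(nat_lit 1041), (nat_lit 694)] [⟨(nat_lit 4231), [(nat_lit 4315), (nat_lit 4022)], [(nat_lit 1201), (nat_lit 91)]⟩, ⟨(nat_lit 4215), [(nat_lit 4010)], [(nat_lit 446), (nat_lit 389)]⟩])) (BT.leaf (.emul [(nat_lit 4019), (nat_lit 4010)]))) (BT.node (nat_lit 4319) (BT.leaf (.rel (nat_lit 4285) (nat_lit 1) [(nat_lit 957), (nat_lit 532)] [⟨(nat_lit 4284), [(nat_lit 4317)], [(nat_lit 575), (nat_lit 684)]⟩])) (BT.leaf (.rel (nat_lit 4270) (nat_lit 3) [(nat_lit 1014), (nat_lit 395)] [⟨(nat_lit 1707), [(nat_lit 775)], [(nat_lit 284), (nat_lit 681)]⟩, ⟨(nat_lit 4142), [(nat_lit 935)], [(nat_lit 618), (nat_lit 89)]⟩]))))))) (BT.node (nat_lit 4336) (BT.node (nat_lit 4328) (BT.node (nat_lit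 4324) (BT.node (nat_lit 4322) (BT.node (nat_lit 4321) (BT.leaf (.inv (nat_lit 4319))) (BT.leaf (.rel (nat_lit 4313) (nat_lit 1) [(nat_lit 94), (nat_lit 1939)] [⟨(nat_lit 3935), [(nat_lit 3195), (nat_lit 3177)], [(nat_lit 194), (nat_lit 110)]⟩]))) (BT.node (nat_lit 4323) (BT.leaf (.inv (nat_lit 4321))) (BT.leaf (.emul [(nat_lit 3600), (nat_lit 3996)])))) (BT.node (nat_lit 4326) (BT.node (nat_lit 4325) (BT.leaf (.rel (nat_lit 4322) (nat_lit 3) [(nat_lit 695), (nat_lit 740)] [⟨(nat_lit 3638), [(nat_lit 4323)], [(nat_lit 256), (nat_lit 1329)]⟩, ⟨(nat_lit 3925), [(nat_lit 2237)], [(nat_lit 356), (nat_lit 1871)]⟩])) (BT.leaf (.inv (nat_lit 4324)))) (BT.node (nat_lit 4327) (BT.leaf (.dfn [(nat_lit 1), (nat_lit 4), (nat_lit 1), (nat_lit 4), (nat_lit 1), (nat_lit 3), (nat_lit 1), (nat_lit 3), (nat_lit 1), (nat_lit 4), (nat_lit 1), (nat_lit 4), (nat_lit 1),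 (nat_lit 3), (nat_lit 1), (nat_lit 3)])) (BT.leaf (.emul [(nat_lit 3179), (nat_lit 3426)]))))) (BT.node (nat_lit 4332) (BT.node (nat_lit 4330) (BT.node (nat_lit 4329) (BT.leaf (.emul [(nat_lit 3191), (nat_lit 4327)])) (BT.leaf (.inv (nat_lit 4326)))) (BT.node (nat_lit 4331) (BT.leaf (.emul [(nat_lit 3195), (nat_lit 4174)])) (BT.leaf (.emul [(nat_lit 3179), (nat_lit 3568)])))) (BT.node (nat_lit 4334) (BT.node (nat_lit 4333) (BT.leaf (.emul [(nat_lit 3191), (nat_lit 4331)])) (BT.leaf (.emul [(nat_lit 3191), (nat_lit 4332)]))) (BT.node (nat_lit 4335) (BT.leaf (.rel (nat_lit 4329) (nat_lit 2) [(nat_lit 829), (nat_lit 1140)] [⟨(nat_lit 3183), [(nat_lit 4330), (nat_lit 4333)], [(nat_lit 1027), (nat_lit 797)]⟩, ⟨(nat_lit 2364), [(nat_lit 2413)], [(nat_lit 451), (nat_lit 710)]⟩])) (BT.leaf (.inv (nat_lit 4334))))))) (BT.node (nat_lit 4344) (BT.node (nat_lit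 4340) (BT.node (nat_lit 4338) (BT.node (nat_lit 4337) (BT.leaf (.inv (nat_lit 4335))) (BT.leaf (.cmp (nat_lit 4336) ⟨(nat_lit 4286), [(nat_lit 1883)], [(nat_lit 502), (nat_lit 1478)]⟩))) (BT.node (nat_lit 4339) (BT.leaf (.trans (nat_lit 4329) [(nat_lit 4337)] [])) (BT.leaf (.trans (nat_lit 4326) [] [(nat_lit 4337)])))) (BT.node (nat_lit 4342) (BT.node (nat_lit 4341) (BT.leaf (.dfn [(nat_lit 1), (nat_lit 4), (nat_lit 1), (nat_lit 4), (nat_lit 1), (nat_lit 4), (nat_lit 1), (nat_lit 3), (nat_lit 1), (nat_lit 4), (nat_lit 1), (nat_lit 3), (nat_lit 1), (nat_lit 3), (nat_lit 1), (nat_lit 3), (nat_lit 1), (nat_lit 3)])) (BT.leaf (.emul [(nat_lit 3600), (nat_lit 3600)]))) (BT.node (nat_lit 4343) (BT.leaf (.emul [(nat_lit 3613), (nat_lit 4341)])) (BT.leaf (.rel (nat_lit 4322) (nat_lit 1) [(nat_lit 902), (nat_lit 109)] [⟨(nat_lit 3706), [(nat_lit 4342)], [(nat_lit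 1308), (nat_lit 1017)]⟩]))))) (BT.node (nat_lit 4348) (BT.node (nat_lit 4346) (BT.node (nat_lit 4345) (BT.leaf (.inv (nat_lit 4343))) (BT.leaf (.inv (nat_lit 4344)))) (BT.node (nat_lit 4347) (BT.leaf (.cmp (nat_lit 4345) ⟨(nat_lit 4340), [], [(nat_lit 970), (nat_lit 384)]⟩)) (BT.leaf (.einv (nat_lit 4346))))) (BT.node (nat_lit 4350) (BT.node (nat_lit 4349) (BT.leaf (.trans (nat_lit 4340) [] [(nat_lit 4347)])) (BT.leaf (.dfn [(nat_lit 1), (nat_lit 3), (nat_lit 1), (nat_lit 3), (nat_lit 1), (nat_lit 4), (nat_lit 1), (nat_lit 4), (nat_lit 1), (nat_lit 3), (nat_lit 1), (nat_lit 3), (nat_lit 1), (nat_lit 4), (nat_lit 1), (nat_lit 3), (nat_lit 1), (nat_lit 4), (nat_lit 1), (nat_lit 4), (nat_lit 1), (nat_lit 3)]))) (BT.node (nat_lit 4351) (BT.leaf (.inv (nat_lit 4349))) (BT.leaf (.rel (nat_lit 4325) (nat_lit 5) [(nat_lit 166), (nat_lit 270)] [⟨(nat_lit 3980),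 [], [(nat_lit 1308), (nat_lit 572)]⟩, ⟨(nat_lit 4167), [(nat_lit 3703)], [(nat_lit 1027), (nat_lit 556)]⟩]))))))))
noncomputable def cF4352 : BT Fc := (BT.node (nat_lit 4384) (BT.node (nat_lit 4368) (BT.node (nat_lit 4360) (BT.node (nat_lit 4356) (BT.node (nat_lit 4354) (BT.node (nat_lit 4353) (BT.leaf ⟨(nat_lit 3), (nat_lit 19), (nat_lit 15), (nat_lit 0x302d4195081de82421f5f211030240), (nat_lit 0x7501092ebd29780184101280440f3b), (nat_lit 0)⟩) (BT.leaf ⟨(nat_lit 2), (nat_lit 14), (nat_lit 14), (nat_lit 0x20eede024f02006028e9d2592bc7b), (nat_lit 0), (nat_lit 0)⟩)) (BT.node (nat_lit 4355) (BT.leaf ⟨(nat_lit 2), (nat_lit 14), (nat_lit 14), (nat_lit 0x1c1957546eadd1a52f42365466ff8cb), (nat_lit 0), (nat_lit 0)⟩) (BT.leaf ⟨(nat_lit 3), (nat_lit 8), (nat_lit 23), (nat_lit 0x66cbb5a8f6f7b2745c8fd131d32de0), (nat_lit 0x6bcc008283c243868c0ad08e540081), (nat_lit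 0)⟩))) (BT.node (nat_lit 4358) (BT.node (nat_lit 4357) (BT.leaf ⟨(nat_lit 3), (nat_lit 23), (nat_lit 8), (nat_lit 0x6bcc008283c243868c0ad08e540081), (nat_lit 0x66cbb5a8f6f7b2745c8fd131d32de0), (nat_lit 0)⟩) (BT.leaf ⟨(nat_lit 3), (nat_lit 8), (nat_lit 23), (nat_lit 0x66cbb5a8f6f7b2745c8fd131d32de0), (nat_lit 0x6bcc008283c243868c0ad08e540081), (nat_lit 0)⟩)) (BT.node (nat_lit 4359) (BT.leaf ⟨(nat_lit 2), (nat_lit 23), (nat_lit 14), (nat_lit 0xd19ec5ffe0c1f3a7546c8dd0ba37c6), (nat_lit 0), (nat_lit 0)⟩) (BT.leaf ⟨(nat_lit 3), (nat_lit 14), (nat_lit 14), (nat_lit 0x1d994ca208a6084180280487d5e1822), (nat_lit 0xd19ec5ffe0c1f3a7546c8dd0ba37c6), (nat_lit 0)⟩)))) (BT.node (nat_lit 4364) (BT.node (nat_lit 4362) (BT.node (nat_lit 4361) (BT.leaf ⟨(nat_lit 2), (nat_lit 10), (nat_lit 10), (nat_lit 0xc73f4751bd95a2e45a8bd37e0cda65), (nat_lit 0), (nat_lit 0)⟩) (BT.leaf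 ⟨(nat_lit 2), (nat_lit 10), (nat_lit 10), (nat_lit 0x2af54711041095d812804018013e1), (nat_lit 0), (nat_lit 0)⟩)) (BT.node (nat_lit 4363) (BT.leaf ⟨(nat_lit 3), (nat_lit 18), (nat_lit 18), (nat_lit 0x1600a010437a7c649f00297b7a809), (nat_lit 0x183bd2400896a3e6c330805035a0c0), (nat_lit 0)⟩) (BT.leaf ⟨(nat_lit 3), (nat_lit 19), (nat_lit 19), (nat_lit 0xaed2ec027c220af57440244b4eb902), (nat_lit 0x1de8a03a30836a10faf92df0ce200c0), (nat_lit 0)⟩))) (BT.node (nat_lit 4366) (BT.node (nat_lit 4365) (BT.leaf ⟨(nat_lit 3), (nat_lit 19), (nat_lit 19), (nat_lit 0xf8c401004beae400f3a00808097808), (nat_lit 0x1e17cefadf13e329a313ba5a37e6c6e), (nat_lit 0)⟩) (BT.leaf ⟨(nat_lit 3), (nat_lit 14), (nat_lit 24), (nat_lit 0x14120433b501097c84843e654a0040), (nat_lit 0x1001001001001001001001001001001), (nat_lit 0)⟩)) (BT.node (nat_lit 4367) (BT.leaf ⟨(nat_lit 3), (nat_lit 24),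 (nat_lit 14), (nat_lit 0x1001001001001001001001001001001), (nat_lit 0x14120433b501097c84843e654a0040), (nat_lit 0)⟩) (BT.leaf ⟨(nat_lit 2), (nat_lit 14), (nat_lit 14), (nat_lit 0x1bc0e76f5d699d0bca87956bd1357f4), (nat_lit 0), (nat_lit 0)⟩))))) (BT.node (nat_lit 4376) (BT.node (nat_lit 4372) (BT.node (nat_lit 4370) (BT.node (nat_lit 4369) (BT.leaf ⟨(nat_lit 3), (nat_lit 18), (nat_lit 19), (nat_lit 0x33a15ec4b6af403014809cfb78024), (nat_lit 0xd26b9c338ef1ef16335f219ce39bfe), (nat_lit 0)⟩) (BT.leaf ⟨(nat_lit 3), (nat_lit 19), (nat_lit 18), (nat_lit 0xd26b9c338ef1ef16335f219ce39bfe), (nat_lit 0x33a15ec4b6af403014809cfb78024), (nat_lit 0)⟩)) (BT.node (nat_lit 4371) (BT.leaf ⟨(nat_lit 2), (nat_lit 14), (nat_lit 14), (nat_lit 0x12ae8c9bc1cc96f2fdd27149752ba4f), (nat_lit 0), (nat_lit 0)⟩) (BT.leaf ⟨(nat_lit 2), (nat_lit 14), (nat_lit 14), (nat_lit 0xac626a99c4e5695cab8ea28e6ffd83),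 (nat_lit 0), (nat_lit 0)⟩))) (BT.node (nat_lit 4374) (BT.node (nat_lit 4373) (BT.leaf ⟨(nat_lit 2), (nat_lit 14), (nat_lit 14), (nat_lit 0x5bc97e1598e4b7ed82fb62dc29790f), (nat_lit 0), (nat_lit 0)⟩) (BT.leaf ⟨(nat_lit 3), (nat_lit 9), (nat_lit 24), (nat_lit 0x1e4231cf30e6d259ac73b4cff8cdc77), (nat_lit 0x10119d408a007a2015d5cbf8004f346), (nat_lit 0)⟩)) (BT.node (nat_lit 4375) (BT.leaf ⟨(nat_lit 3), (nat_lit 24), (nat_lit 9), (nat_lit 0x10119d408a007a2015d5cbf8004f346), (nat_lit 0x1e4231cf30e6d259ac73b4cff8cdc77), (nat_lit 0)⟩) (BT.leaf ⟨(nat_lit 3), (nat_lit 9), (nat_lit 24), (nat_lit 0x1e4231cf30e6d259ac73b4cff8cdc77), (nat_lit 0x10119d408a007a2015d5cbf8004f346), (nat_lit 0)⟩)))) (BT.node (nat_lit 4380) (BT.node (nat_lit 4378) (BT.node (nat_lit 4377) (BT.leaf ⟨(nat_lit 2), (nat_lit 24), (nat_lit 14), (nat_lit 0x189e4741e1da2793577d93cc4dd249c), (nat_lit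 0), (nat_lit 0)⟩) (BT.leaf ⟨(nat_lit 3), (nat_lit 14), (nat_lit 14), (nat_lit 0x14120433b501097c84843e654a0040), (nat_lit 0x189e4741e1da2793577d93cc4dd249c), (nat_lit 0)⟩)) (BT.node (nat_lit 4379) (BT.leaf ⟨(nat_lit 3), (nat_lit 15), (nat_lit 25), (nat_lit 0x7d7b302204043d3fc20da8880907ad), (nat_lit 0x1001001001001001001001001001001), (nat_lit 0)⟩) (BT.leaf ⟨(nat_lit 3), (nat_lit 25), (nat_lit 15), (nat_lit 0x1001001001001001001001001001001), (nat_lit 0x7d7b302204043d3fc20da8880907ad), (nat_lit 0)⟩))) (BT.node (nat_lit 4382) (BT.node (nat_lit 4381) (BT.leaf ⟨(nat_lit 2), (nat_lit 15), (nat_lit 15), (nat_lit 0xae15ea397737fd54a99a682e6c1eb9), (nat_lit 0), (nat_lit 0)⟩) (BT.leaf ⟨(nat_lit 2), (nat_lit 15), (nat_lit 15), (nat_lit 0x8e45cab8a697fd548e6772af6c1ab1), (nat_lit 0), (nat_lit 0)⟩)) (BT.node (nat_lit 4383) (BT.leaf ⟨(nat_lit 2), (nat_lit 15),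 (nat_lit 15), (nat_lit 0x903e68440830ccca860880123830c0), (nat_lit 0), (nat_lit 0)⟩) (BT.leaf ⟨(nat_lit 2), (nat_lit 15), (nat_lit 15), (nat_lit 0x100805102105bda4e12d405e3c01003), (nat_lit 0), (nat_lit 0)⟩)))))) (BT.node (nat_lit 4400) (BT.node (nat_lit 4392) (BT.node (nat_lit 4388) (BT.node (nat_lit 4386) (BT.node (nat_lit 4385) (BT.leaf ⟨(nat_lit 3), (nat_lit 15), (nat_lit 25), (nat_lit 0xc4fd6f858dc995c6979d1bf34658b7), (nat_lit 0x1cab1d6efe75cf96953a16e73b8d565), (nat_lit 0)⟩) (BT.leaf ⟨(nat_lit 3), (nat_lit 25), (nat_lit 15), (nat_lit 0x1cab1d6efe75cf96953a16e73b8d565), (nat_lit 0xc4fd6f858dc995c6979d1bf34658b7), (nat_lit 0)⟩)) (BT.node (nat_lit 4387) (BT.leaf ⟨(nat_lit 3), (nat_lit 15), (nat_lit 25), (nat_lit 0xc4fd6f858dc995c6979d1bf34658b7), (nat_lit 0x1cab1d6efe75cf96953a16e73b8d565), (nat_lit 0)⟩) (BT.leaf ⟨(nat_lit 2), (nat_lit 25), (nat_lit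 15), (nat_lit 0x2de9d73ae718579df3e5a41f3bd6ef), (nat_lit 0), (nat_lit 0)⟩))) (BT.node (nat_lit 4390) (BT.node (nat_lit 4389) (BT.leaf ⟨(nat_lit 3), (nat_lit 15), (nat_lit 15), (nat_lit 0x7d7b302204043d3fc20da8880907ad), (nat_lit 0x2de9d73ae718579df3e5a41f3bd6ef), (nat_lit 0)⟩) (BT.leaf ⟨(nat_lit 3), (nat_lit 15), (nat_lit 26), (nat_lit 0x1755c51d43a2f54cae58b4cdb0ee9c5), (nat_lit 0x1001001001001001001001001001001), (nat_lit 0)⟩)) (BT.node (nat_lit 4391) (BT.leaf ⟨(nat_lit 2), (nat_lit 26), (nat_lit 26), (nat_lit 0x339974e811e140447bbc0221f5818), (nat_lit 0), (nat_lit 0)⟩) (BT.leaf ⟨(nat_lit 3), (nat_lit 26), (nat_lit 15), (nat_lit 0x1001001001001001001001001001001), (nat_lit 0x1755c51d43a2f54cae58b4cdb0ee9c5), (nat_lit 0)⟩)))) (BT.node (nat_lit 4396) (BT.node (nat_lit 4394) (BT.node (nat_lit 4393) (BT.leaf ⟨(nat_lit 2), (nat_lit 15), (nat_lit 15),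 (nat_lit 0x1ced9d7bae65ceab2f2ae7d8eac18b7), (nat_lit 0), (nat_lit 0)⟩) (BT.leaf ⟨(nat_lit 2), (nat_lit 26), (nat_lit 26), (nat_lit 0x841eaa400bec0197a804419cd01204), (nat_lit 0), (nat_lit 0)⟩)) (BT.node (nat_lit 4395) (BT.leaf ⟨(nat_lit 3), (nat_lit 17), (nat_lit 26), (nat_lit 0x1fd3edaf495745f5a6f0df9c8543ed4), (nat_lit 0x1f6e97cc7cd20bc9590f25a49f0a93f), (nat_lit 0)⟩) (BT.leaf ⟨(nat_lit 2), (nat_lit 17), (nat_lit 17), (nat_lit 0x22041155f7424140480108280d7adf), (nat_lit 0), (nat_lit 0)⟩))) (BT.node (nat_lit 4398) (BT.node (nat_lit 4397) (BT.leaf ⟨(nat_lit 2), (nat_lit 17), (nat_lit 17), (nat_lit 0x1402eac04cbecea0089e841003f1b46), (nat_lit 0), (nat_lit 0)⟩) (BT.leaf ⟨(nat_lit 2), (nat_lit 17), (nat_lit 17), (nat_lit 0x17a8413e19384095da5d25a00803402), (nat_lit 0), (nat_lit 0)⟩)) (BT.node (nat_lit 4399) (BT.leaf ⟨(nat_lit 2), (nat_lit 17), (nat_lit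 17), (nat_lit 0xf56eada687a3e8ebe9346cdb0fad4b), (nat_lit 0), (nat_lit 0)⟩) (BT.leaf ⟨(nat_lit 2), (nat_lit 26), (nat_lit 26), (nat_lit 0xc01006000bef55027e8d3c88100a02), (nat_lit 0), (nat_lit 0)⟩))))) (BT.node (nat_lit 4408) (BT.node (nat_lit 4404) (BT.node (nat_lit 4402) (BT.node (nat_lit 4401) (BT.leaf ⟨(nat_lit 3), (nat_lit 26), (nat_lit 17), (nat_lit 0x1f6e97cc7cd20bc9590f25a49f0a93f), (nat_lit 0x1fd3edaf495745f5a6f0df9c8543ed4), (nat_lit 0)⟩) (BT.leaf ⟨(nat_lit 3), (nat_lit 17), (nat_lit 27), (nat_lit 0x1f199af461977ffb34a50f9d0ba7706), (nat_lit 0x1001001001001001001001001001001), (nat_lit 0)⟩)) (BT.node (nat_lit 4403) (BT.leaf ⟨(nat_lit 2), (nat_lit 17), (nat_lit 17), (nat_lit 0x2df0ae3af74cea6cf2ae35cfb9c07c), (nat_lit 0), (nat_lit 0)⟩) (BT.leaf ⟨(nat_lit 2), (nat_lit 17), (nat_lit 17), (nat_lit 0x19ceae349b4c1cc76c728e2ffa3dc63), (nat_lit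 0), (nat_lit 0)⟩))) (BT.node (nat_lit 4406) (BT.node (nat_lit 4405) (BT.leaf ⟨(nat_lit 2), (nat_lit 17), (nat_lit 17), (nat_lit 0x105d1a1f08937ad40c032a140a077a), (nat_lit 0), (nat_lit 0)⟩) (BT.leaf ⟨(nat_lit 3), (nat_lit 27), (nat_lit 17), (nat_lit 0x1001001001001001001001001001001), (nat_lit 0x1f199af461977ffb34a50f9d0ba7706), (nat_lit 0)⟩)) (BT.node (nat_lit 4407) (BT.leaf ⟨(nat_lit 2), (nat_lit 17), (nat_lit 17), (nat_lit 0x71488030eac241548500297e10824f), (nat_lit 0), (nat_lit 0)⟩) (BT.leaf ⟨(nat_lit 2), (nat_lit 17), (nat_lit 17), (nat_lit 0x1cfb0af3a39cceb9c732e354eb9d87c), (nat_lit 0), (nat_lit 0)⟩)))) (BT.node (nat_lit 4412) (BT.node (nat_lit 4410) (BT.node (nat_lit 4409) (BT.leaf ⟨(nat_lit 2), (nat_lit 17), (nat_lit 17), (nat_lit 0x9fcde0e6ba5b05c535f4be9796fcab), (nat_lit 0), (nat_lit 0)⟩) (BT.leaf ⟨(nat_lit 3), (nat_lit 17), (nat_lit 27),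 (nat_lit 0xd8cd7d689e63011ca80100600482df), (nat_lit 0xdc12ed1937896d6fec1f6e9fd27a1f), (nat_lit 0)⟩)) (BT.node (nat_lit 4411) (BT.leaf ⟨(nat_lit 3), (nat_lit 27), (nat_lit 17), (nat_lit 0xdc12ed1937896d6fec1f6e9fd27a1f), (nat_lit 0xd8cd7d689e63011ca80100600482df), (nat_lit 0)⟩) (BT.leaf ⟨(nat_lit 3), (nat_lit 17), (nat_lit 27), (nat_lit 0xd8cd7d689e63011ca80100600482df), (nat_lit 0xdc12ed1937896d6fec1f6e9fd27a1f), (nat_lit 0)⟩))) (BT.node (nat_lit 4414) (BT.node (nat_lit 4413) (BT.leaf ⟨(nat_lit 2), (nat_lit 17), (nat_lit 17), (nat_lit 0x19199af47e9cabba10cbe0c1f2ffd46), (nat_lit 0), (nat_lit 0)⟩) (BT.leaf ⟨(nat_lit 2), (nat_lit 17), (nat_lit 17), (nat_lit 0x1f6f5a674fe93d36a6e4df92af7b6f5), (nat_lit 0), (nat_lit 0)⟩)) (BT.node (nat_lit 4415) (BT.leaf ⟨(nat_lit 2), (nat_lit 27), (nat_lit 17), (nat_lit 0xd259d4d9e65ced690b7ddf5979d738), (nat_lit 0),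 (nat_lit 0)⟩) (BT.leaf ⟨(nat_lit 3), (nat_lit 17), (nat_lit 17), (nat_lit 0x1f199af461977ffb34a50f9d0ba7706), (nat_lit 0xd259d4d9e65ced690b7ddf5979d738), (nat_lit 0)⟩)))))))
noncomputable def cP4352 : BT Pf := (BT.node (nat_lit 4384) (BT.node (nat_lit 4368) (BT.node (nat_lit 4360) (BT.node (nat_lit 4356) (BT.node (nat_lit 4354) (BT.node (nat_lit 4353) (BT.leaf (.inv (nat_lit 4351))) (BT.leaf (.emul [(nat_lit 4010), (nat_lit 4030)]))) (BT.node (nat_lit 4355) (BT.leaf (.emul [(nat_lit 4030), (nat_lit 4353)])) (BT.leaf (.rel (nat_lit 4350) (nat_lit 4) [(nat_lit 1027), (nat_lit 455)] [⟨(nat_lit 4043), [(nat_lit 4354), (nat_lit 4022)], [(nat_lit 250), (nat_lit 475)]⟩, ⟨(nat_lit 2133), [], [(nat_lit 1175), (nat_lit 307)]⟩])))) (BT.node (nat_lit 4358) (BT.node (nat_lit 4357) (BT.leaf (.inv (nat_lit 4355))) (BT.leaf (.inv (nat_lit 4356)))) (BT.node (nat_lit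 4359) (BT.leaf (.cmp (nat_lit 4357) ⟨(nat_lit 4042), [], [(nat_lit 433), (nat_lit 162)]⟩)) (BT.leaf (.trans (nat_lit 4349) [] [(nat_lit 4358)]))))) (BT.node (nat_lit 4364) (BT.node (nat_lit 4362) (BT.node (nat_lit 4361) (BT.leaf (.emul [(nat_lit 3191), (nat_lit 4328)])) (BT.leaf (.emul [(nat_lit 3191), (nat_lit 4360)]))) (BT.node (nat_lit 4363) (BT.leaf (.rel (nat_lit 4338) (nat_lit 3) [(nat_lit 707), (nat_lit 651)] [⟨(nat_lit 3269), [(nat_lit 3195)], [(nat_lit 129), (nat_lit 367)]⟩, ⟨(nat_lit 4339), [(nat_lit 3195), (nat_lit 4361)], [(nat_lit 1106), (nat_lit 291)]⟩])) (BT.leaf (.rel (nat_lit 4313) (nat_lit 0) [(nat_lit 321), (nat_lit 880)] [⟨(nat_lit 4314), [(nat_lit 3195)], [(nat_lit 404), (nat_lit 455)]⟩])))) (BT.node (nat_lit 4366) (BT.node (nat_lit 4365) (BT.leaf (.rel (nat_lit 4313) (nat_lit 4) [(nat_lit 787), (nat_lit 581)] [⟨(nat_lit 4045),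 [], [(nat_lit 422), (nat_lit 333)]⟩, ⟨(nat_lit 4314), [(nat_lit 3177)], [(nat_lit 358), (nat_lit 581)]⟩])) (BT.leaf (.dfn [(nat_lit 4), (nat_lit 1), (nat_lit 4), (nat_lit 1), (nat_lit 3), (nat_lit 1), (nat_lit 4), (nat_lit 1), (nat_lit 4), (nat_lit 1), (nat_lit 4), (nat_lit 1), (nat_lit 3), (nat_lit 1), (nat_lit 3), (nat_lit 1), (nat_lit 3), (nat_lit 1), (nat_lit 4)]))) (BT.node (nat_lit 4367) (BT.leaf (.inv (nat_lit 4365))) (BT.leaf (.emul [(nat_lit 4022), (nat_lit 4010)])))))) (BT.node (nat_lit 4376) (BT.node (nat_lit 4372) (BT.node (nat_lit 4370) (BT.node (nat_lit 4369) (BT.leaf (.rel (nat_lit 4344) (nat_lit 3) [(nat_lit 416), (nat_lit 512)] [⟨(nat_lit 3673), [(nat_lit 4027)], [(nat_lit 915), (nat_lit 822)]⟩, ⟨(nat_lit 4295), [(nat_lit 3594)], [(nat_lit 176), (nat_lit 1605)]⟩])) (BT.leaf (.inv (nat_lit 4368)))) (BT.node (nat_lit 4371) (BT.leaf (.emul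 [(nat_lit 4022), (nat_lit 4030)])) (BT.leaf (.emul [(nat_lit 4030), (nat_lit 4370)])))) (BT.node (nat_lit 4374) (BT.node (nat_lit 4373) (BT.leaf (.emul [(nat_lit 4015), (nat_lit 4371)])) (BT.leaf (.rel (nat_lit 4366) (nat_lit 4) [(nat_lit 241), (nat_lit 1141)] [⟨(nat_lit 4011), [(nat_lit 4372), (nat_lit 4022)], [(nat_lit 620), (nat_lit 108)]⟩, ⟨(nat_lit 2721), [(nat_lit 859)], [(nat_lit 1106), (nat_lit 1109)]⟩]))) (BT.node (nat_lit 4375) (BT.leaf (.inv (nat_lit 4373))) (BT.leaf (.inv (nat_lit 4374)))))) (BT.node (nat_lit 4380) (BT.node (nat_lit 4378) (BT.node (nat_lit 4377) (BT.leaf (.cmp (nat_lit 4375) ⟨(nat_lit 4041), [(nat_lit 2167)], [(nat_lit 429), (nat_lit 906)]⟩)) (BT.leaf (.trans (nat_lit 4365) [] [(nat_lit 4376)]))) (BT.node (nat_lit 4379) (BT.leaf (.dfn [(nat_lit 1), (nat_lit 4), (nat_lit 1), (nat_lit 3), (nat_lit 1), (nat_lit 3), (nat_lit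 1), (nat_lit 3), (nat_lit 1), (nat_lit 4), (nat_lit 1), (nat_lit 4), (nat_lit 1), (nat_lit 4), (nat_lit 1), (nat_lit 3), (nat_lit 1), (nat_lit 3), (nat_lit 1), (nat_lit 3), (nat_lit 1), (nat_lit 3)])) (BT.leaf (.inv (nat_lit 4378))))) (BT.node (nat_lit 4382) (BT.node (nat_lit 4381) (BT.leaf (.emul [(nat_lit 4069), (nat_lit 4078)])) (BT.leaf (.emul [(nat_lit 4074), (nat_lit 4380)]))) (BT.node (nat_lit 4383) (BT.leaf (.emul [(nat_lit 4074), (nat_lit 4152)])) (BT.leaf (.emul [(nat_lit 4078), (nat_lit 4074)]))))))) (BT.node (nat_lit 4400) (BT.node (nat_lit 4392) (BT.node (nat_lit 4388) (BT.node (nat_lit 4386) (BT.node (nat_lit 4385) (BT.leaf (.rel (nat_lit 4379) (nat_lit 1) [(nat_lit 484), (nat_lit 710)] [⟨(nat_lit 4136), [(nat_lit 4383)], [(nat_lit 360), (nat_lit 1017)]⟩])) (BT.leaf (.inv (nat_lit 4384)))) (BT.node (nat_lit 4387) (BT.leaf (.inv (nat_lit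 4385))) (BT.leaf (.cmp (nat_lit 4386) ⟨(nat_lit 4136), [(nat_lit 4067)], [(nat_lit 295), (nat_lit 440)]⟩)))) (BT.node (nat_lit 4390) (BT.node (nat_lit 4389) (BT.leaf (.trans (nat_lit 4378) [] [(nat_lit 4387)])) (BT.leaf (.dfn [(nat_lit 4), (nat_lit 1), (nat_lit 4), (nat_lit 1), (nat_lit 4), (nat_lit 1), (nat_lit 4), (nat_lit 1), (nat_lit 3), (nat_lit 1), (nat_lit 3), (nat_lit 1), (nat_lit 3), (nat_lit 1), (nat_lit 4), (nat_lit 1), (nat_lit 4), (nat_lit 1), (nat_lit 4), (nat_lit 1), (nat_lit 4)]))) (BT.node (nat_lit 4391) (BT.leaf (.cmp (nat_lit 4389) ⟨(nat_lit 4389), [(nat_lit 4381)], [(nat_lit 1013), (nat_lit 1025)]⟩)) (BT.leaf (.inv (nat_lit 4389)))))) (BT.node (nat_lit 4396) (BT.node (nat_lit 4394) (BT.node (nat_lit 4393) (BT.leaf (.emul [(nat_lit 4069), (nat_lit 4219)])) (BT.leaf (.cmp (nat_lit 4389) ⟨(nat_lit 4389), [(nat_lit 4392)], [(nat_lit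 493), (nat_lit 968)]⟩))) (BT.node (nat_lit 4395) (BT.leaf (.rel (nat_lit 4391) (nat_lit 3) [(nat_lit 111), (nat_lit 465)] [⟨(nat_lit 4098), [(nat_lit 4153)], [(nat_lit 911), (nat_lit 972)]⟩, ⟨(nat_lit 4279), [(nat_lit 4252)], [(nat_lit 152), (nat_lit 1537)]⟩])) (BT.leaf (.emul [(nat_lit 4274), (nat_lit 4278)])))) (BT.node (nat_lit 4398) (BT.node (nat_lit 4397) (BT.leaf (.emul [(nat_lit 4274), (nat_lit 4395)])) (BT.leaf (.emul [(nat_lit 4274), (nat_lit 4274)]))) (BT.node (nat_lit 4399) (BT.leaf (.emul [(nat_lit 4274), (nat_lit 4397)])) (BT.leaf (.cmp (nat_lit 4394) ⟨(nat_lit 4394), [(nat_lit 4396), (nat_lit 4398)], [(nat_lit 463), (nat_lit 525)]⟩)))))) (BT.node (nat_lit 4408) (BT.node (nat_lit 4404) (BT.node (nat_lit 4402) (BT.node (nat_lit 4401) (BT.leaf (.inv (nat_lit 4394))) (BT.leaf (.dfn [(nat_lit 4), (nat_lit 1), (nat_lit 3), (nat_lit 1), (nat_lit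 3), (nat_lit 1), (nat_lit 4), (nat_lit 1), (nat_lit 3), (nat_lit 1), (nat_lit 3), (nat_lit 1), (nat_lit 4), (nat_lit 1), (nat_lit 4), (nat_lit 1), (nat_lit 3)]))) (BT.node (nat_lit 4403) (BT.leaf (.emul [(nat_lit 4278), (nat_lit 4278)])) (BT.leaf (.emul [(nat_lit 4274), (nat_lit 4269)])))) (BT.node (nat_lit 4406) (BT.node (nat_lit 4405) (BT.leaf (.emul [(nat_lit 4274), (nat_lit 4403)])) (BT.leaf (.inv (nat_lit 4401)))) (BT.node (nat_lit 4407) (BT.leaf (.emul [(nat_lit 4278), (nat_lit 4395)])) (BT.leaf (.emul [(nat_lit 4274), (nat_lit 4406)]))))) (BT.node (nat_lit 4412) (BT.node (nat_lit 4410) (BT.node (nat_lit 4409) (BT.leaf (.emul [(nat_lit 4274), (nat_lit 4407)])) (BT.leaf (.rel (nat_lit 4405) (nat_lit 1) [(nat_lit 226), (nat_lit 89)] [⟨(nat_lit 4318), [(nat_lit 4278)], [(nat_lit 285), (nat_lit 982)]⟩]))) (BT.node (nat_lit 4411) (BT.leaf (.inv (nat_lit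 4409))) (BT.leaf (.inv (nat_lit 4410))))) (BT.node (nat_lit 4414) (BT.node (nat_lit 4413) (BT.leaf (.emul [(nat_lit 4269), (nat_lit 4403)])) (BT.leaf (.emul [(nat_lit 4274), (nat_lit 4412)]))) (BT.node (nat_lit 4415) (BT.leaf (.cmp (nat_lit 4411) ⟨(nat_lit 4318), [(nat_lit 4413)], [(nat_lit 488), (nat_lit 1605)]⟩)) (BT.leaf (.trans (nat_lit 4401) [] [(nat_lit 4414)]))))))))
noncomputable def cF4416 : BT Fc := (BT.node (nat_lit 4448) (BT.node (nat_lit 4432) (BT.node (nat_lit 4424) (BT.node (nat_lit 4420) (BT.node (nat_lit 4418) (BT.node (nat_lit 4417) (BT.leaf ⟨(nat_lit 3), (nat_lit 18), (nat_lit 18), (nat_lit 0x75c05102404aedf08028051c79c5ea), (nat_lit 0x15a2e44e887bedf05a653d17a96919b), (nat_lit 0)⟩) (BT.leaf ⟨(nat_lit 3), (nat_lit 17), (nat_lit 28), (nat_lit 0x5e72c38df3a32f46b13d45e32377cd), (nat_lit 0x1001001001001001001001001001001), (nat_lit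 0)⟩)) (BT.node (nat_lit 4419) (BT.leaf ⟨(nat_lit 3), (nat_lit 28), (nat_lit 17), (nat_lit 0x1001001001001001001001001001001), (nat_lit 0x5e72c38df3a32f46b13d45e32377cd), (nat_lit 0)⟩) (BT.leaf ⟨(nat_lit 2), (nat_lit 17), (nat_lit 17), (nat_lit 0x1c372c7cdb1a2dfd6f8ff0a5e7cef8c), (nat_lit 0), (nat_lit 0)⟩))) (BT.node (nat_lit 4422) (BT.node (nat_lit 4421) (BT.leaf ⟨(nat_lit 2), (nat_lit 17), (nat_lit 17), (nat_lit 0x10421038dd72d18f4500bab0224033a), (nat_lit 0), (nat_lit 0)⟩) (BT.leaf ⟨(nat_lit 2), (nat_lit 17), (nat_lit 17), (nat_lit 0xe924f48e9389ab4f5b19356784f6c1), (nat_lit 0), (nat_lit 0)⟩)) (BT.node (nat_lit 4423) (BT.leaf ⟨(nat_lit 3), (nat_lit 18), (nat_lit 29), (nat_lit 0x11ec93de0051bf3a7496010060ee888), (nat_lit 0x1001001001001001001001001001001), (nat_lit 0)⟩) (BT.leaf ⟨(nat_lit 2), (nat_lit 18), (nat_lit 18), (nat_lit 0x1df74f3d891d2fa4e54b92d26a6f627),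 (nat_lit 0), (nat_lit 0)⟩)))) (BT.node (nat_lit 4428) (BT.node (nat_lit 4426) (BT.node (nat_lit 4425) (BT.leaf ⟨(nat_lit 3), (nat_lit 29), (nat_lit 18), (nat_lit 0x1001001001001001001001001001001), (nat_lit 0x11ec93de0051bf3a7496010060ee888), (nat_lit 0)⟩) (BT.leaf ⟨(nat_lit 2), (nat_lit 18), (nat_lit 18), (nat_lit 0xb307d12d35e0bf34b2f24e4acb7b96), (nat_lit 0), (nat_lit 0)⟩)) (BT.node (nat_lit 4427) (BT.leaf ⟨(nat_lit 2), (nat_lit 18), (nat_lit 18), (nat_lit 0x12035cc028081ce1038da0180204410), (nat_lit 0), (nat_lit 0)⟩) (BT.leaf ⟨(nat_lit 2), (nat_lit 18), (nat_lit 18), (nat_lit 0x131c9f90f65f9a6ae7db6e0e581792b), (nat_lit 0), (nat_lit 0)⟩))) (BT.node (nat_lit 4430) (BT.node (nat_lit 4429) (BT.leaf ⟨(nat_lit 2), (nat_lit 18), (nat_lit 18), (nat_lit 0xd8e373a37cfe4252be27c28d9f59e3), (nat_lit 0), (nat_lit 0)⟩) (BT.leaf ⟨(nat_lit 3), (nat_lit 12), (nat_lit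 29), (nat_lit 0xb8eb99086be440c04e82098ebfa140), (nat_lit 0x1366373c3f2078cde3e246ddf705acc), (nat_lit 0)⟩)) (BT.node (nat_lit 4431) (BT.leaf ⟨(nat_lit 3), (nat_lit 29), (nat_lit 12), (nat_lit 0x1366373c3f2078cde3e246ddf705acc), (nat_lit 0xb8eb99086be440c04e82098ebfa140), (nat_lit 0)⟩) (BT.leaf ⟨(nat_lit 3), (nat_lit 12), (nat_lit 29), (nat_lit 0xb8eb99086be440c04e82098ebfa140), (nat_lit 0x1366373c3f2078cde3e246ddf705acc), (nat_lit 0)⟩))))) (BT.node (nat_lit 4440) (BT.node (nat_lit 4436) (BT.node (nat_lit 4434) (BT.node (nat_lit 4433) (BT.leaf ⟨(nat_lit 2), (nat_lit 29), (nat_lit 18), (nat_lit 0x189d1cf51d94db15cabdbfe56a26bb9), (nat_lit 0), (nat_lit 0)⟩) (BT.leaf ⟨(nat_lit 3), (nat_lit 18), (nat_lit 18), (nat_lit 0x11ec93de0051bf3a7496010060ee888), (nat_lit 0x189d1cf51d94db15cabdbfe56a26bb9), (nat_lit 0)⟩)) (BT.node (nat_lit 4435) (BT.leaf ⟨(nat_lit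 3), (nat_lit 19), (nat_lit 30), (nat_lit 0x295d8128040184112d93808a38a5d), (nat_lit 0x1001001001001001001001001001001), (nat_lit 0)⟩) (BT.leaf ⟨(nat_lit 2), (nat_lit 19), (nat_lit 19), (nat_lit 0x11c679c7786714f39f906935cc39a87), (nat_lit 0), (nat_lit 0)⟩))) (BT.node (nat_lit 4438) (BT.node (nat_lit 4437) (BT.leaf ⟨(nat_lit 2), (nat_lit 19), (nat_lit 19), (nat_lit 0x11c439c638a7e41ff433ae71ef16673), (nat_lit 0), (nat_lit 0)⟩) (BT.leaf ⟨(nat_lit 2), (nat_lit 19), (nat_lit 19), (nat_lit 0x15a2f55c86397b2745a8bd3783f47b7), (nat_lit 0), (nat_lit 0)⟩)) (BT.node (nat_lit 4439) (BT.leaf ⟨(nat_lit 2), (nat_lit 19), (nat_lit 19), (nat_lit 0x1f18d907ca3329783742c8dd1fa2756), (nat_lit 0), (nat_lit 0)⟩) (BT.leaf ⟨(nat_lit 3), (nat_lit 30), (nat_lit 19), (nat_lit 0x1001001001001001001001001001001), (nat_lit 0x295d8128040184112d93808a38a5d), (nat_lit 0)⟩)))) (BT.node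 (nat_lit 4444) (BT.node (nat_lit 4442) (BT.node (nat_lit 4441) (BT.leaf ⟨(nat_lit 2), (nat_lit 19), (nat_lit 19), (nat_lit 0x15a3f4265bd96a2fc31cbc07a305ce8), (nat_lit 0), (nat_lit 0)⟩) (BT.leaf ⟨(nat_lit 2), (nat_lit 19), (nat_lit 19), (nat_lit 0x15a305ad2b50c73dbdec3d17a6f55f8), (nat_lit 0), (nat_lit 0)⟩)) (BT.node (nat_lit 4443) (BT.leaf ⟨(nat_lit 2), (nat_lit 17), (nat_lit 17), (nat_lit 0x1c356f880ce821050082110a0048081), (nat_lit 0), (nat_lit 0)⟩) (BT.leaf ⟨(nat_lit 2), (nat_lit 17), (nat_lit 17), (nat_lit 0x1041a36b971b082005d5a010059d480), (nat_lit 0), (nat_lit 0)⟩))) (BT.node (nat_lit 4446) (BT.node (nat_lit 4445) (BT.leaf ⟨(nat_lit 2), (nat_lit 17), (nat_lit 17), (nat_lit 0xe913549c91d27b13c9ab6307b6089e), (nat_lit 0), (nat_lit 0)⟩) (BT.leaf ⟨(nat_lit 3), (nat_lit 13), (nat_lit 28), (nat_lit 0x40a010068e210bc782257680801738), (nat_lit 0x3e9ea8d5bab0f4ebeef3aadb390d4b),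 (nat_lit 0)⟩)) (BT.node (nat_lit 4447) (BT.leaf ⟨(nat_lit 3), (nat_lit 28), (nat_lit 13), (nat_lit 0x3e9ea8d5bab0f4ebeef3aadb390d4b), (nat_lit 0x40a010068e210bc782257680801738), (nat_lit 0)⟩) (BT.leaf ⟨(nat_lit 3), (nat_lit 13), (nat_lit 28), (nat_lit 0x40a010068e210bc782257680801738), (nat_lit 0x3e9ea8d5bab0f4ebeef3aadb390d4b), (nat_lit 0)⟩)))))) (BT.node (nat_lit 4464) (BT.node (nat_lit 4456) (BT.node (nat_lit 4452) (BT.node (nat_lit 4450) (BT.node (nat_lit 4449) (BT.leaf ⟨(nat_lit 2), (nat_lit 28), (nat_lit 17), (nat_lit 0x6bc7d02f24f9a69792b25adc2ae32f), (nat_lit 0), (nat_lit 0)⟩) (BT.leaf ⟨(nat_lit 3), (nat_lit 17), (nat_lit 17), (nat_lit 0x5e72c38df3a32f46b13d45e32377cd), (nat_lit 0x6bc7d02f24f9a69792b25adc2ae32f), (nat_lit 0)⟩)) (BT.node (nat_lit 4451) (BT.leaf ⟨(nat_lit 2), (nat_lit 19), (nat_lit 19), (nat_lit 0xb31b802fc2a5bc8793f24e4b49592e),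 (nat_lit 0), (nat_lit 0)⟩) (BT.leaf ⟨(nat_lit 2), (nat_lit 19), (nat_lit 19), (nat_lit 0x5bcd792705e43d6612ec2a4b49f92b), (nat_lit 0), (nat_lit 0)⟩))) (BT.node (nat_lit 4454) (BT.node (nat_lit 4453) (BT.leaf ⟨(nat_lit 2), (nat_lit 19), (nat_lit 19), (nat_lit 0xbe4ad2b15711355ed34d728e54cd83), (nat_lit 0), (nat_lit 0)⟩) (BT.leaf ⟨(nat_lit 2), (nat_lit 19), (nat_lit 19), (nat_lit 0xa657cd8357a2e554c4d1cdae4ad3b9), (nat_lit 0), (nat_lit 0)⟩)) (BT.node (nat_lit 4455) (BT.leaf ⟨(nat_lit 2), (nat_lit 19), (nat_lit 19), (nat_lit 0x5694cbb95534d15c0b94723997cab1), (nat_lit 0), (nat_lit 0)⟩) (BT.leaf ⟨(nat_lit 2), (nat_lit 19), (nat_lit 19), (nat_lit 0x12693549f97d67989ec1efba7a6f496), (nat_lit 0), (nat_lit 0)⟩)))) (BT.node (nat_lit 4460) (BT.node (nat_lit 4458) (BT.node (nat_lit 4457) (BT.leaf ⟨(nat_lit 2), (nat_lit 19), (nat_lit 19), (nat_lit 0x1ce80878dde80048020000897c20008),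 (nat_lit 0), (nat_lit 0)⟩) (BT.leaf ⟨(nat_lit 3), (nat_lit 13), (nat_lit 30), (nat_lit 0x601401af18107a79c80105c356f888), (nat_lit 0xe357a50067427a01480a5f97e00873), (nat_lit 0)⟩)) (BT.node (nat_lit 4459) (BT.leaf ⟨(nat_lit 3), (nat_lit 30), (nat_lit 13), (nat_lit 0xe357a50067427a01480a5f97e00873), (nat_lit 0x601401af18107a79c80105c356f888), (nat_lit 0)⟩) (BT.leaf ⟨(nat_lit 3), (nat_lit 13), (nat_lit 30), (nat_lit 0x601401af18107a79c80105c356f888), (nat_lit 0xe357a50067427a01480a5f97e00873), (nat_lit 0)⟩))) (BT.node (nat_lit 4462) (BT.node (nat_lit 4461) (BT.leaf ⟨(nat_lit 2), (nat_lit 30), (nat_lit 19), (nat_lit 0x1fd28bc4dfb7ad36a6fc5e873b7aee4), (nat_lit 0), (nat_lit 0)⟩) (BT.leaf ⟨(nat_lit 3), (nat_lit 19), (nat_lit 19), (nat_lit 0x295d8128040184112d93808a38a5d), (nat_lit 0x1fd28bc4dfb7ad36a6fc5e873b7aee4), (nat_lit 0)⟩)) (BT.node (nat_lit 4463)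 (BT.leaf ⟨(nat_lit 3), (nat_lit 26), (nat_lit 31), (nat_lit 0x1bf37b6e4e43bc1351ced69b5143fdb), (nat_lit 0x1001001001001001001001001001001), (nat_lit 0)⟩) (BT.leaf ⟨(nat_lit 2), (nat_lit 26), (nat_lit 26), (nat_lit 0x655ea9c5bab0f6d31d5a963e8e89d7), (nat_lit 0), (nat_lit 0)⟩))))) (BT.node (nat_lit 4472) (BT.node (nat_lit 4468) (BT.node (nat_lit 4466) (BT.node (nat_lit 4465) (BT.leaf ⟨(nat_lit 2), (nat_lit 26), (nat_lit 26), (nat_lit 0x654205a8280143bd240090be430041), (nat_lit 0), (nat_lit 0)⟩) (BT.leaf ⟨(nat_lit 2), (nat_lit 26), (nat_lit 26), (nat_lit 0x1eb7c2ea2196ffac68b74cb4d3c6f9d), (nat_lit 0), (nat_lit 0)⟩)) (BT.node (nat_lit 4467) (BT.leaf ⟨(nat_lit 2), (nat_lit 26), (nat_lit 26), (nat_lit 0xf9fbe95aa2f365f1f907e6b30f1e0b), (nat_lit 0), (nat_lit 0)⟩) (BT.leaf ⟨(nat_lit 2), (nat_lit 26), (nat_lit 26), (nat_lit 0x1e43bebe294afacf195a6c73651b3e3),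 (nat_lit 0), (nat_lit 0)⟩))) (BT.node (nat_lit 4470) (BT.node (nat_lit 4469) (BT.leaf ⟨(nat_lit 2), (nat_lit 26), (nat_lit 26), (nat_lit 0x2dfc2f8f2f2c4fc6ea2ba4ffbe6d8d), (nat_lit 0), (nat_lit 0)⟩) (BT.leaf ⟨(nat_lit 2), (nat_lit 26), (nat_lit 26), (nat_lit 0x114c146d4061eb5102990409fde18a0), (nat_lit 0), (nat_lit 0)⟩)) (BT.node (nat_lit 4471) (BT.leaf ⟨(nat_lit 3), (nat_lit 31), (nat_lit 26), (nat_lit 0x1001001001001001001001001001001), (nat_lit 0x1bf37b6e4e43bc1351ced69b5143fdb), (nat_lit 0)⟩) (BT.leaf ⟨(nat_lit 2), (nat_lit 26), (nat_lit 26), (nat_lit 0x1f39973eacbc6bdd61539dceb954d9), (nat_lit 0), (nat_lit 0)⟩)))) (BT.node (nat_lit 4476) (BT.node (nat_lit 4474) (BT.node (nat_lit 4473) (BT.leaf ⟨(nat_lit 2), (nat_lit 26), (nat_lit 26), (nat_lit 0x1bf01447b81049d2bf32e9c820443eb), (nat_lit 0), (nat_lit 0)⟩) (BT.leaf ⟨(nat_lit 2), (nat_lit 26), (nat_lit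 26), (nat_lit 0x6f40408e64039d2b901097c01400), (nat_lit 0), (nat_lit 0)⟩)) (BT.node (nat_lit 4475) (BT.leaf ⟨(nat_lit 2), (nat_lit 26), (nat_lit 26), (nat_lit 0x15a3f4176bd93a2f05e998e7a2f519b), (nat_lit 0), (nat_lit 0)⟩) (BT.leaf ⟨(nat_lit 2), (nat_lit 26), (nat_lit 26), (nat_lit 0x14bf0afdb35f9a66393f1f44ad6612e), (nat_lit 0), (nat_lit 0)⟩))) (BT.node (nat_lit 4478) (BT.node (nat_lit 4477) (BT.leaf ⟨(nat_lit 2), (nat_lit 26), (nat_lit 26), (nat_lit 0x1a7bf42800be803003d548082339a02), (nat_lit 0), (nat_lit 0)⟩) (BT.leaf ⟨(nat_lit 2), (nat_lit 26), (nat_lit 26), (nat_lit 0x1eb78d45304843c10828da87d4503c3), (nat_lit 0), (nat_lit 0)⟩)) (BT.node (nat_lit 4479) (BT.leaf ⟨(nat_lit 3), (nat_lit 17), (nat_lit 31), (nat_lit 0xdb15de2772dd46ff8e6572ac554d34), (nat_lit 0x464fef5042f88408013a9e3097003), (nat_lit 0)⟩) (BT.leaf ⟨(nat_lit 3), (nat_lit 31), (nat_lit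 17), (nat_lit 0x464fef5042f88408013a9e3097003), (nat_lit 0xdb15de2772dd46ff8e6572ac554d34), (nat_lit 0)⟩)))))))
noncomputable def cP4416 : BT Pf := (BT.node (nat_lit 4448) (BT.node (nat_lit 4432) (BT.node (nat_lit 4424) (BT.node (nat_lit 4420) (BT.node (nat_lit 4418) (BT.node (nat_lit 4417) (BT.leaf (.rel (nat_lit 4368) (nat_lit 0) [(nat_lit 240), (nat_lit 263)] [⟨(nat_lit 4369), [(nat_lit 4297)], [(nat_lit 631), (nat_lit 891)]⟩])) (BT.leaf (.dfn [(nat_lit 1), (nat_lit 4), (nat_lit 1), (nat_lit 4), (nat_lit 1), (nat_lit 4)]))) (BT.node (nat_lit 4419) (BT.leaf (.inv (nat_lit 4417))) (BT.leaf (.emul [(nat_lit 4269), (nat_lit 4278)])))) (BT.node (nat_lit 4422) (BT.node (nat_lit 4421) (BT.leaf (.emul [(nat_lit 4278), (nat_lit 4419)])) (BT.leaf (.emul [(nat_lit 4274), (nat_lit 4420)]))) (BT.node (nat_lit 4423) (BT.leaf (.dfn [(nat_lit 1), (nat_lit 4), (nat_lit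 1), (nat_lit 3), (nat_lit 1), (nat_lit 3), (nat_lit 1), (nat_lit 3), (nat_lit 1), (nat_lit 3), (nat_lit 1), (nat_lit 4), (nat_lit 1), (nat_lit 4), (nat_lit 1), (nat_lit 4), (nat_lit 1), (nat_lit 4), (nat_lit 1), (nat_lit 4), (nat_lit 1), (nat_lit 3)])) (BT.leaf (.emul [(nat_lit 4289), (nat_lit 4293)]))))) (BT.node (nat_lit 4428) (BT.node (nat_lit 4426) (BT.node (nat_lit 4425) (BT.leaf (.inv (nat_lit 4422))) (BT.leaf (.emul [(nat_lit 4287), (nat_lit 4293)]))) (BT.node (nat_lit 4427) (BT.leaf (.emul [(nat_lit 4293), (nat_lit 4423)])) (BT.leaf (.emul [(nat_lit 4293), (nat_lit 4426)])))) (BT.node (nat_lit 4430) (BT.node (nat_lit 4429) (BT.leaf (.emul [(nat_lit 4287), (nat_lit 4427)])) (BT.leaf (.rel (nat_lit 4424) (nat_lit 3) [(nat_lit 178), (nat_lit 566)] [⟨(nat_lit 4294), [(nat_lit 4428)], [(nat_lit 787), (nat_lit 864)]⟩, ⟨(nat_lit 4028), [], [(nat_lit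 1195), (nat_lit 694)]⟩]))) (BT.node (nat_lit 4431) (BT.leaf (.inv (nat_lit 4429))) (BT.leaf (.inv (nat_lit 4430))))))) (BT.node (nat_lit 4440) (BT.node (nat_lit 4436) (BT.node (nat_lit 4434) (BT.node (nat_lit 4433) (BT.leaf (.cmp (nat_lit 4431) ⟨(nat_lit 4295), [(nat_lit 3594)], [(nat_lit 1014), (nat_lit 864)]⟩)) (BT.leaf (.trans (nat_lit 4422) [] [(nat_lit 4432)]))) (BT.node (nat_lit 4435) (BT.leaf (.dfn [(nat_lit 3), (nat_lit 1), (nat_lit 4), (nat_lit 1), (nat_lit 4), (nat_lit 1), (nat_lit 4), (nat_lit 1), (nat_lit 4)])) (BT.leaf (.emul [(nat_lit 4297), (nat_lit 4308)])))) (BT.node (nat_lit 4438) (BT.node (nat_lit 4437) (BT.leaf (.emul [(nat_lit 4297), (nat_lit 4435)])) (BT.leaf (.emul [(nat_lit 4308), (nat_lit 4436)]))) (BT.node (nat_lit 4439) (BT.leaf (.emul [(nat_lit 4297), (nat_lit 4297)])) (BT.leaf (.inv (nat_lit 4434)))))) (BT.node (nat_lit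 4444) (BT.node (nat_lit 4442) (BT.node (nat_lit 4441) (BT.leaf (.emul [(nat_lit 4308), (nat_lit 4308)])) (BT.leaf (.emul [(nat_lit 4308), (nat_lit 4435)]))) (BT.node (nat_lit 4443) (BT.leaf (.emul [(nat_lit 4269), (nat_lit 4404)])) (BT.leaf (.emul [(nat_lit 4274), (nat_lit 4442)])))) (BT.node (nat_lit 4446) (BT.node (nat_lit 4445) (BT.leaf (.emul [(nat_lit 4274), (nat_lit 4443)])) (BT.leaf (.rel (nat_lit 4418) (nat_lit 3) [(nat_lit 522), (nat_lit 91)] [⟨(nat_lit 4280), [(nat_lit 4444)], [(nat_lit 261), (nat_lit 559)]⟩, ⟨(nat_lit 3970), [], [(nat_lit 567), (nat_lit 91)]⟩]))) (BT.node (nat_lit 4447) (BT.leaf (.inv (nat_lit 4445))) (BT.leaf (.inv (nat_lit 4446)))))))) (BT.node (nat_lit 4464) (BT.node (nat_lit 4456) (BT.node (nat_lit 4452) (BT.node (nat_lit 4450) (BT.node (nat_lit 4449) (BT.leaf (.cmp (nat_lit 4447) ⟨(nat_lit 4279), [(nat_lit 3913)], [(nat_lit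 905), (nat_lit 684)]⟩)) (BT.leaf (.trans (nat_lit 4417) [] [(nat_lit 4448)]))) (BT.node (nat_lit 4451) (BT.leaf (.emul [(nat_lit 4308), (nat_lit 4440)])) (BT.leaf (.emul [(nat_lit 4297), (nat_lit 4450)])))) (BT.node (nat_lit 4454) (BT.node (nat_lit 4453) (BT.leaf (.emul [(nat_lit 4308), (nat_lit 4451)])) (BT.leaf (.emul [(nat_lit 4297), (nat_lit 4452)]))) (BT.node (nat_lit 4455) (BT.leaf (.emul [(nat_lit 4297), (nat_lit 4453)])) (BT.leaf (.emul [(nat_lit 4308), (nat_lit 4454)]))))) (BT.node (nat_lit 4460) (BT.node (nat_lit 4458) (BT.node (nat_lit 4457) (BT.leaf (.emul [(nat_lit 4308), (nat_lit 4455)])) (BT.leaf (.rel (nat_lit 4439) (nat_lit 2) [(nat_lit 349), (nat_lit 604)] [⟨(nat_lit 4325), [(nat_lit 4456), (nat_lit 4299)], [(nat_lit 574), (nat_lit 736)]⟩, ⟨(nat_lit 4049), [(nat_lit 3740)], [(nat_lit 19), (nat_lit 108)]⟩]))) (BT.node (nat_lit 4459)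 (BT.leaf (.inv (nat_lit 4457))) (BT.leaf (.inv (nat_lit 4458))))) (BT.node (nat_lit 4462) (BT.node (nat_lit 4461) (BT.leaf (.cmp (nat_lit 4459) ⟨(nat_lit 4324), [], [(nat_lit 991), (nat_lit 307)]⟩)) (BT.leaf (.trans (nat_lit 4434) [] [(nat_lit 4460)]))) (BT.node (nat_lit 4463) (BT.leaf (.dfn [(nat_lit 4), (nat_lit 1), (nat_lit 4), (nat_lit 1), (nat_lit 3), (nat_lit 1), (nat_lit 3), (nat_lit 1), (nat_lit 4), (nat_lit 1), (nat_lit 4), (nat_lit 1), (nat_lit 4), (nat_lit 1), (nat_lit 4), (nat_lit 1), (nat_lit 4)])) (BT.leaf (.emul [(nat_lit 4393), (nat_lit 4399)])))))) (BT.node (nat_lit 4472) (BT.node (nat_lit 4468) (BT.node (nat_lit 4466) (BT.node (nat_lit 4465) (BT.leaf (.emul [(nat_lit 4399), (nat_lit 4463)])) (BT.leaf (.emul [(nat_lit 4390), (nat_lit 4464)]))) (BT.node (nat_lit 4467) (BT.leaf (.emul [(nat_lit 4399), (nat_lit 4465)])) (BT.leaf (.emul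 [(nat_lit 4393), (nat_lit 4466)])))) (BT.node (nat_lit 4470) (BT.node (nat_lit 4469) (BT.leaf (.emul [(nat_lit 4399), (nat_lit 4467)])) (BT.leaf (.emul [(nat_lit 4393), (nat_lit 4390)]))) (BT.node (nat_lit 4471) (BT.leaf (.inv (nat_lit 4462))) (BT.leaf (.emul [(nat_lit 4390), (nat_lit 4399)]))))) (BT.node (nat_lit 4476) (BT.node (nat_lit 4474) (BT.node (nat_lit 4473) (BT.leaf (.emul [(nat_lit 4393), (nat_lit 4471)])) (BT.leaf (.emul [(nat_lit 4390), (nat_lit 4469)]))) (BT.node (nat_lit 4475) (BT.leaf (.emul [(nat_lit 4390), (nat_lit 4390)])) (BT.leaf (.emul [(nat_lit 4390), (nat_lit 4474)])))) (BT.node (nat_lit 4478) (BT.node (nat_lit 4477) (BT.leaf (.emul [(nat_lit 4390), (nat_lit 4471)])) (BT.leaf (.emul [(nat_lit 4390), (nat_lit 4463)]))) (BT.node (nat_lit 4479) (BT.leaf (.rel (nat_lit 4470) (nat_lit 4) [(nat_lit 416), (nat_lit 1088)] [⟨(nat_lit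 4400), [(nat_lit 4477), (nat_lit 4393)], [(nat_lit 250), (nat_lit 460)]⟩, ⟨(nat_lit 4449), [(nat_lit 4402), (nat_lit 4269)], [(nat_lit 815), (nat_lit 490)]⟩])) (BT.leaf (.inv (nat_lit 4478)))))))))
noncomputable def cF4480 : BT Fc := (BT.node (nat_lit 4512) (BT.node (nat_lit 4496) (BT.node (nat_lit 4488) (BT.node (nat_lit 4484) (BT.node (nat_lit 4482) (BT.node (nat_lit 4481) (BT.leaf ⟨(nat_lit 3), (nat_lit 17), (nat_lit 31), (nat_lit 0xdb15de2772dd46ff8e6572ac554d34), (nat_lit 0x464fef5042f88408013a9e3097003), (nat_lit 0)⟩) (BT.leaf ⟨(nat_lit 2), (nat_lit 31), (nat_lit 26), (nat_lit 0x19cf4f200b1b5185ca80c0017e7a210), (nat_lit 0), (nat_lit 0)⟩)) (BT.node (nat_lit 4483) (BT.leaf ⟨(nat_lit 3), (nat_lit 26), (nat_lit 26), (nat_lit 0x1bf37b6e4e43bc1351ced69b5143fdb), (nat_lit 0x19cf4f200b1b5185ca80c0017e7a210), (nat_lit 0)⟩) (BT.leaf ⟨(nat_lit 3), (nat_lit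 26), (nat_lit 26), (nat_lit 0x1b91082a902318c8879d0217e04848e), (nat_lit 0x17b3a14770290100300cf121115e904), (nat_lit 0)⟩))) (BT.node (nat_lit 4486) (BT.node (nat_lit 4485) (BT.leaf ⟨(nat_lit 4), (nat_lit 0), (nat_lit 0), (nat_lit 0x1001001001001001001001001001001), (nat_lit 0), (nat_lit 0)⟩) (BT.leaf ⟨(nat_lit 5), (nat_lit 0), (nat_lit 0), (nat_lit 0x1), (nat_lit 0), (nat_lit 0)⟩)) (BT.node (nat_lit 4487) (BT.leaf ⟨(nat_lit 4), (nat_lit 1), (nat_lit 0), (nat_lit 0x14bdcb12e35e4b495fdb2dfa88938fa), (nat_lit 0), (nat_lit 0)⟩) (BT.leaf ⟨(nat_lit 4), (nat_lit 3), (nat_lit 0), (nat_lit 0x1ad3bd04832bc18a04402de87c208c0), (nat_lit 0), (nat_lit 0)⟩)))) (BT.node (nat_lit 4492) (BT.node (nat_lit 4490) (BT.node (nat_lit 4489) (BT.leaf ⟨(nat_lit 4), (nat_lit 5), (nat_lit 0), (nat_lit 0x11345ca396d8ae0732bbbfe569cb2bd), (nat_lit 0), (nat_lit 0)⟩) (BT.leaf ⟨(nat_lit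 4), (nat_lit 9), (nat_lit 0), (nat_lit 0x1d1157669e84f63a71b2bfe32fe3693), (nat_lit 0), (nat_lit 0)⟩)) (BT.node (nat_lit 4491) (BT.leaf ⟨(nat_lit 4), (nat_lit 14), (nat_lit 0), (nat_lit 0xa39a5f008ae4100101000224f12f), (nat_lit 0), (nat_lit 0)⟩) (BT.leaf ⟨(nat_lit 4), (nat_lit 22), (nat_lit 0), (nat_lit 0x243e341e35f9d0aa882100d8d6f884), (nat_lit 0), (nat_lit 0)⟩))) (BT.node (nat_lit 4494) (BT.node (nat_lit 4493) (BT.leaf ⟨(nat_lit 4), (nat_lit 30), (nat_lit 0), (nat_lit 0x142d40602de100a044043e6575a4de), (nat_lit 0), (nat_lit 0)⟩) (BT.leaf ⟨(nat_lit 4), (nat_lit 41), (nat_lit 0), (nat_lit 0x197d6fcabd829752da4f43e95d3fb70), (nat_lit 0), (nat_lit 0)⟩)) (BT.node (nat_lit 4495) (BT.leaf ⟨(nat_lit 4), (nat_lit 53), (nat_lit 0), (nat_lit 0x1802a3300d3c902c6a01440811014f4), (nat_lit 0), (nat_lit 0)⟩) (BT.leaf ⟨(nat_lit 4), (nat_lit 71), (nat_lit 0), (nat_lit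 0x853f822da80c087c204407d4904be), (nat_lit 0), (nat_lit 0)⟩))))) (BT.node (nat_lit 4504) (BT.node (nat_lit 4500) (BT.node (nat_lit 4498) (BT.node (nat_lit 4497) (BT.leaf ⟨(nat_lit 4), (nat_lit 94), (nat_lit 0), (nat_lit 0x1d1c3e3d836591b49f06ead296a30cb), (nat_lit 0), (nat_lit 0)⟩) (BT.leaf ⟨(nat_lit 4), (nat_lit 117), (nat_lit 0), (nat_lit 0x14231a10f3aaa409011eac052476e4), (nat_lit 0), (nat_lit 0)⟩)) (BT.node (nat_lit 4499) (BT.leaf ⟨(nat_lit 4), (nat_lit 116), (nat_lit 0), (nat_lit 0x16a2b443d4caabaf05e82ed7aba8fe8), (nat_lit 0), (nat_lit 0)⟩) (BT.leaf ⟨(nat_lit 4), (nat_lit 149), (nat_lit 0), (nat_lit 0x127a47627d3d27d354de2eddf6a5b13), (nat_lit 0), (nat_lit 0)⟩))) (BT.node (nat_lit 4502) (BT.node (nat_lit 4501) (BT.leaf ⟨(nat_lit 4), (nat_lit 211), (nat_lit 0), (nat_lit 0x822982844172087c203ebb5010a99), (nat_lit 0), (nat_lit 0)⟩) (BT.leaf ⟨(nat_lit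 4), (nat_lit 270), (nat_lit 0), (nat_lit 0x1756a59d46d86572c1d53ea75ceebd5), (nat_lit 0), (nat_lit 0)⟩)) (BT.node (nat_lit 4503) (BT.leaf ⟨(nat_lit 4), (nat_lit 374), (nat_lit 0), (nat_lit 0x1cf16673d951ee3899b8671de29d5c), (nat_lit 0), (nat_lit 0)⟩) (BT.leaf ⟨(nat_lit 4), (nat_lit 469), (nat_lit 0), (nat_lit 0x16a3bd0602de50020c40867ad1202f9), (nat_lit 0), (nat_lit 0)⟩)))) (BT.node (nat_lit 4508) (BT.node (nat_lit 4506) (BT.node (nat_lit 4505) (BT.leaf ⟨(nat_lit 4), (nat_lit 628), (nat_lit 0), (nat_lit 0x1edf608e66e017e55a576be6f31625d), (nat_lit 0), (nat_lit 0)⟩) (BT.leaf ⟨(nat_lit 4), (nat_lit 782), (nat_lit 0), (nat_lit 0x420c0573205918904e86be411dc82f), (nat_lit 0), (nat_lit 0)⟩)) (BT.node (nat_lit 4507) (BT.leaf ⟨(nat_lit 4), (nat_lit 1042), (nat_lit 0), (nat_lit 0x1259d25b193989e4d69e7b0c4f60a6a), (nat_lit 0), (nat_lit 0)⟩) (BT.leaf ⟨(nat_lit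 4), (nat_lit 1268), (nat_lit 0), (nat_lit 0x151b49d19365d199af4e7b129734f44), (nat_lit 0), (nat_lit 0)⟩))) (BT.node (nat_lit 4510) (BT.node (nat_lit 4509) (BT.leaf ⟨(nat_lit 4), (nat_lit 1627), (nat_lit 0), (nat_lit 0x14ebdd73839d8566cd83e75cedd273e), (nat_lit 0), (nat_lit 0)⟩) (BT.leaf ⟨(nat_lit 4), (nat_lit 375), (nat_lit 0), (nat_lit 0xceb95615b07c6b9f63ae642dfbd73b), (nat_lit 0), (nat_lit 0)⟩)) (BT.node (nat_lit 4511) (BT.leaf ⟨(nat_lit 4), (nat_lit 470), (nat_lit 0), (nat_lit 0x420ee84801202104408e65bf093ab1), (nat_lit 0), (nat_lit 0)⟩) (BT.leaf ⟨(nat_lit 4), (nat_lit 631), (nat_lit 0), (nat_lit 0x6020f084103ee9b1fc635ea00400c0), (nat_lit 0), (nat_lit 0)⟩)))))) (BT.node (nat_lit 4528) (BT.node (nat_lit 4520) (BT.node (nat_lit 4516) (BT.node (nat_lit 4514) (BT.node (nat_lit 4513) (BT.leaf ⟨(nat_lit 4), (nat_lit 785), (nat_lit 0), (nat_lit 0x19a49392f2df4bdcb02f35fa889592e),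 (nat_lit 0), (nat_lit 0)⟩) (BT.leaf ⟨(nat_lit 4), (nat_lit 1049), (nat_lit 0), (nat_lit 0xcd6d37908673ce3899b8efb2839c73), (nat_lit 0), (nat_lit 0)⟩)) (BT.node (nat_lit 4515) (BT.leaf ⟨(nat_lit 4), (nat_lit 1274), (nat_lit 0), (nat_lit 0x17b095c0400841002f428ee811f3844), (nat_lit 0), (nat_lit 0)⟩) (BT.leaf ⟨(nat_lit 4), (nat_lit 1196), (nat_lit 0), (nat_lit 0x17e00c01202118f720307e604488410), (nat_lit 0), (nat_lit 0)⟩))) (BT.node (nat_lit 4518) (BT.node (nat_lit 4517) (BT.leaf ⟨(nat_lit 4), (nat_lit 959), (nat_lit 0), (nat_lit 0xf0df3ae3fc7295d1e0b7e6569f0be3), (nat_lit 0), (nat_lit 0)⟩) (BT.leaf ⟨(nat_lit 4), (nat_lit 795), (nat_lit 0), (nat_lit 0x12fad8a6a13d23989ba4939379ec59e), (nat_lit 0), (nat_lit 0)⟩)) (BT.node (nat_lit 4519) (BT.leaf ⟨(nat_lit 4), (nat_lit 641), (nat_lit 0), (nat_lit 0x1ce1f0f442057a80102293800f7b402), (nat_lit 0), (nat_lit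 0)⟩) (BT.leaf ⟨(nat_lit 4), (nat_lit 640), (nat_lit 0), (nat_lit 0x1bbce8e581ab52dea955e427561ee93), (nat_lit 0), (nat_lit 0)⟩)))) (BT.node (nat_lit 4524) (BT.node (nat_lit 4522) (BT.node (nat_lit 4521) (BT.leaf ⟨(nat_lit 4), (nat_lit 794), (nat_lit 0), (nat_lit 0x19d37b31c365b517a1cee43ad0bcff4), (nat_lit 0), (nat_lit 0)⟩) (BT.leaf ⟨(nat_lit 4), (nat_lit 766), (nat_lit 0), (nat_lit 0x221f5a08e9c77558c7bf0b020145e0), (nat_lit 0), (nat_lit 0)⟩)) (BT.node (nat_lit 4523) (BT.leaf ⟨(nat_lit 4), (nat_lit 612), (nat_lit 0), (nat_lit 0xff8bcfad4ca2df46f0df0be36c68cb), (nat_lit 0), (nat_lit 0)⟩) (BT.leaf ⟨(nat_lit 5), (nat_lit 1), (nat_lit 0), (nat_lit 0x80000000000000000000000000000000000000000000000000000000000000000000000000000000000000000000000000000000000000000000000000000000000000000000000000000000000000000000000000000000000000000000000000000000000000000000000000000000000000000000000000000000000001000000000000000000000000000000000000000000000000000000000000000000000000000000000000000000000000000000000000000000000000000000000000000000000000000000023),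 (nat_lit 0), (nat_lit 0)⟩))) (BT.node (nat_lit 4526) (BT.node (nat_lit 4525) (BT.leaf ⟨(nat_lit 4), (nat_lit 13), (nat_lit 0), (nat_lit 0x80a9d3d5408a02c6a01d3c8805c85f), (nat_lit 0), (nat_lit 0)⟩) (BT.leaf ⟨(nat_lit 4), (nat_lit 21), (nat_lit 0), (nat_lit 0x127e4f627d8323ad8c9cd3ddf6a5c9a), (nat_lit 0), (nat_lit 0)⟩)) (BT.node (nat_lit 4527) (BT.leaf ⟨(nat_lit 4), (nat_lit 28), (nat_lit 0), (nat_lit 0x1ced6973eacbbbe6cfbae558ea9d0b7), (nat_lit 0), (nat_lit 0)⟩) (BT.leaf ⟨(nat_lit 4), (nat_lit 39), (nat_lit 0), (nat_lit 0x24028210f3b04154811e540c00a24f), (nat_lit 0), (nat_lit 0)⟩))))) (BT.node (nat_lit 4536) (BT.node (nat_lit 4532) (BT.node (nat_lit 4530) (BT.node (nat_lit 4529) (BT.leaf ⟨(nat_lit 4), (nat_lit 49), (nat_lit 0), (nat_lit 0x1f199aca51961f3a71b2e857fda3546), (nat_lit 0), (nat_lit 0)⟩) (BT.leaf ⟨(nat_lit 4), (nat_lit 67), (nat_lit 0),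 (nat_lit 0x1bc00a4044080152d884e84411f3f89), (nat_lit 0), (nat_lit 0)⟩)) (BT.node (nat_lit 4531) (BT.leaf ⟨(nat_lit 4), (nat_lit 87), (nat_lit 0), (nat_lit 0x9aa6f496d3cf62d8c9cefbb064f89e), (nat_lit 0), (nat_lit 0)⟩) (BT.leaf ⟨(nat_lit 4), (nat_lit 123), (nat_lit 0), (nat_lit 0xf85f3be2fc6d8e37517efa569f59e3), (nat_lit 0), (nat_lit 0)⟩))) (BT.node (nat_lit 4534) (BT.node (nat_lit 4533) (BT.leaf ⟨(nat_lit 4), (nat_lit 159), (nat_lit 0), (nat_lit 0x17aafc4c73d05dae443dbc0996b45e9), (nat_lit 0), (nat_lit 0)⟩) (BT.leaf ⟨(nat_lit 4), (nat_lit 2), (nat_lit 0), (nat_lit 0xce9a4eeff75cc85b87ce71c6bbd63a), (nat_lit 0), (nat_lit 0)⟩)) (BT.node (nat_lit 4535) (BT.leaf ⟨(nat_lit 4), (nat_lit 4), (nat_lit 0), (nat_lit 0x1d100104220404801c02e70974eb882), (nat_lit 0), (nat_lit 0)⟩) (BT.leaf ⟨(nat_lit 4), (nat_lit 8), (nat_lit 0), (nat_lit 0xabbf42659d0b4b0597687b7a6fc5a8),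 (nat_lit 0), (nat_lit 0)⟩)))) (BT.node (nat_lit 4540) (BT.node (nat_lit 4538) (BT.node (nat_lit 4537) (BT.leaf ⟨(nat_lit 4), (nat_lit 12), (nat_lit 0), (nat_lit 0x152ceb9c532b754aae9387a7d72c0d5), (nat_lit 0), (nat_lit 0)⟩) (BT.leaf ⟨(nat_lit 4), (nat_lit 20), (nat_lit 0), (nat_lit 0x16c497acc2df31c95fdbd446be9793f), (nat_lit 0), (nat_lit 0)⟩)) (BT.node (nat_lit 4539) (BT.leaf ⟨(nat_lit 4), (nat_lit 27), (nat_lit 0), (nat_lit 0x5e72c38df3a32f46b13d45e32377cd), (nat_lit 0), (nat_lit 0)⟩) (BT.leaf ⟨(nat_lit 4), (nat_lit 38), (nat_lit 0), (nat_lit 0xa1e38c778c75731647bf215cd9a873), (nat_lit 0), (nat_lit 0)⟩))) (BT.node (nat_lit 4542) (BT.node (nat_lit 4541) (BT.leaf ⟨(nat_lit 4), (nat_lit 47), (nat_lit 0), (nat_lit 0xfae374a5fc7df5d1d17f20d8df3bf3), (nat_lit 0), (nat_lit 0)⟩) (BT.leaf ⟨(nat_lit 4), (nat_lit 65), (nat_lit 0), (nat_lit 0x821ea85fc019cd1053a4089034f546),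 (nat_lit 0), (nat_lit 0)⟩)) (BT.node (nat_lit 4543) (BT.leaf ⟨(nat_lit 4), (nat_lit 83), (nat_lit 0), (nat_lit 0x1cf9f3c9ae85bc00a00c4084112dc04), (nat_lit 0), (nat_lit 0)⟩) (BT.leaf ⟨(nat_lit 4), (nat_lit 118), (nat_lit 0), (nat_lit 0x1bbdb65d5d26e286ada6e42751ea9f5), (nat_lit 0), (nat_lit 0)⟩)))))))
noncomputable def cP4480 : BT Pf := (BT.node (nat_lit 4512) (BT.node (nat_lit 4496) (BT.node (nat_lit 4488) (BT.node (nat_lit 4484) (BT.node (nat_lit 4482) (BT.node (nat_lit 4481) (BT.leaf (.inv (nat_lit 4479))) (BT.leaf (.cmp (nat_lit 4480) ⟨(nat_lit 4394), [(nat_lit 4406)], [(nat_lit 900), (nat_lit 460)]⟩))) (BT.node (nat_lit 4483) (BT.leaf (.trans (nat_lit 4462) [] [(nat_lit 4481)])) (BT.leaf (.rel (nat_lit 4400) (nat_lit 5) [(nat_lit 781), (nat_lit 269)] [⟨(nat_lit 4449), [(nat_lit 4397)], [(nat_lit 945), (nat_lit 974)]⟩, ⟨(nat_lit 4394), [(nat_lit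 4397)], [(nat_lit 1292), (nat_lit 870)]⟩])))) (BT.node (nat_lit 4486) (BT.node (nat_lit 4485) (BT.leaf (.pt0)) (BT.leaf (.cov [] [⟨(nat_lit 44), (nat_lit 4484), []⟩]))) (BT.node (nat_lit 4487) (BT.leaf (.pt (nat_lit 4484) (nat_lit 3))) (BT.leaf (.pt (nat_lit 4486) (nat_lit 1)))))) (BT.node (nat_lit 4492) (BT.node (nat_lit 4490) (BT.node (nat_lit 4489) (BT.leaf (.pt (nat_lit 4487) (nat_lit 3))) (BT.leaf (.pt (nat_lit 4488) (nat_lit 1)))) (BT.node (nat_lit 4491) (BT.leaf (.pt (nat_lit 4489) (nat_lit 4))) (BT.leaf (.pt (nat_lit 4490) (nat_lit 1))))) (BT.node (nat_lit 4494) (BT.node (nat_lit 4493) (BT.leaf (.pt (nat_lit 4491) (nat_lit 4))) (BT.leaf (.pt (nat_lit 4492) (nat_lit 1)))) (BT.node (nat_lit 4495) (BT.leaf (.pt (nat_lit 4493) (nat_lit 4))) (BT.leaf (.pt (nat_lit 4494) (nat_lit 1))))))) (BT.node (nat_lit 4504) (BT.node (nat_lit 4500) (BT.node (nat_lit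 4498) (BT.node (nat_lit 4497) (BT.leaf (.pt (nat_lit 4495) (nat_lit 3))) (BT.leaf (.pt (nat_lit 4496) (nat_lit 1)))) (BT.node (nat_lit 4499) (BT.leaf (.pt (nat_lit 4497) (nat_lit 4))) (BT.leaf (.pt (nat_lit 4498) (nat_lit 1))))) (BT.node (nat_lit 4502) (BT.node (nat_lit 4501) (BT.leaf (.pt (nat_lit 4499) (nat_lit 4))) (BT.leaf (.pt (nat_lit 4500) (nat_lit 1)))) (BT.node (nat_lit 4503) (BT.leaf (.pt (nat_lit 4501) (nat_lit 3))) (BT.leaf (.pt (nat_lit 4502) (nat_lit 1)))))) (BT.node (nat_lit 4508) (BT.node (nat_lit 4506) (BT.node (nat_lit 4505) (BT.leaf (.pt (nat_lit 4503) (nat_lit 3))) (BT.leaf (.pt (nat_lit 4504) (nat_lit 1)))) (BT.node (nat_lit 4507) (BT.leaf (.pt (nat_lit 4505) (nat_lit 3))) (BT.leaf (.pt (nat_lit 4506) (nat_lit 1))))) (BT.node (nat_lit 4510) (BT.node (nat_lit 4509) (BT.leaf (.pt (nat_lit 4507) (nat_lit 3))) (BT.leaf (.pt (nat_lit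 4501) (nat_lit 4)))) (BT.node (nat_lit 4511) (BT.leaf (.pt (nat_lit 4509) (nat_lit 1))) (BT.leaf (.pt (nat_lit 4510) (nat_lit 4)))))))) (BT.node (nat_lit 4528) (BT.node (nat_lit 4520) (BT.node (nat_lit 4516) (BT.node (nat_lit 4514) (BT.node (nat_lit 4513) (BT.leaf (.pt (nat_lit 4511) (nat_lit 1))) (BT.leaf (.pt (nat_lit 4512) (nat_lit 4)))) (BT.node (nat_lit 4515) (BT.leaf (.pt (nat_lit 4513) (nat_lit 1))) (BT.leaf (.pt (nat_lit 4514) (nat_lit 4))))) (BT.node (nat_lit 4518) (BT.node (nat_lit 4517) (BT.leaf (.pt (nat_lit 4515) (nat_lit 1))) (BT.leaf (.pt (nat_lit 4516) (nat_lit 4)))) (BT.node (nat_lit 4519) (BT.leaf (.pt (nat_lit 4517) (nat_lit 1))) (BT.leaf (.pt (nat_lit 4518) (nat_lit 4)))))) (BT.node (nat_lit 4524) (BT.node (nat_lit 4522) (BT.node (nat_lit 4521) (BT.leaf (.pt (nat_lit 4519) (nat_lit 1))) (BT.leaf (.pt (nat_lit 4520) (nat_lit 4))))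 (BT.node (nat_lit 4523) (BT.leaf (.pt (nat_lit 4521) (nat_lit 1))) (BT.leaf (.cov [] [⟨(nat_lit 45), (nat_lit 4484), []⟩, ⟨(nat_lit 87), (nat_lit 4508), [(nat_lit 1189), (nat_lit 390)]⟩, ⟨(nat_lit 98), (nat_lit 4522), [(nat_lit 957), (nat_lit 1203)]⟩, ⟨(nat_lit 99), (nat_lit 4486), []⟩, ⟨(nat_lit 310), (nat_lit 4488), []⟩])))) (BT.node (nat_lit 4526) (BT.node (nat_lit 4525) (BT.leaf (.pt (nat_lit 4489) (nat_lit 3))) (BT.leaf (.pt (nat_lit 4524) (nat_lit 1)))) (BT.node (nat_lit 4527) (BT.leaf (.pt (nat_lit 4525) (nat_lit 3))) (BT.leaf (.pt (nat_lit 4526) (nat_lit 1))))))) (BT.node (nat_lit 4536) (BT.node (nat_lit 4532) (BT.node (nat_lit 4530) (BT.node (nat_lit 4529) (BT.leaf (.pt (nat_lit 4527) (nat_lit 4))) (BT.leaf (.pt (nat_lit 4528) (nat_lit 1)))) (BT.node (nat_lit 4531) (BT.leaf (.pt (nat_lit 4529) (nat_lit 4))) (BT.leaf (.pt (nat_lit 4530) (nat_lit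 1))))) (BT.node (nat_lit 4534) (BT.node (nat_lit 4533) (BT.leaf (.pt (nat_lit 4531) (nat_lit 4))) (BT.leaf (.pt (nat_lit 4484) (nat_lit 4)))) (BT.node (nat_lit 4535) (BT.leaf (.pt (nat_lit 4533) (nat_lit 1))) (BT.leaf (.pt (nat_lit 4534) (nat_lit 4)))))) (BT.node (nat_lit 4540) (BT.node (nat_lit 4538) (BT.node (nat_lit 4537) (BT.leaf (.pt (nat_lit 4535) (nat_lit 1))) (BT.leaf (.pt (nat_lit 4536) (nat_lit 4)))) (BT.node (nat_lit 4539) (BT.leaf (.pt (nat_lit 4537) (nat_lit 1))) (BT.leaf (.pt (nat_lit 4538) (nat_lit 4))))) (BT.node (nat_lit 4542) (BT.node (nat_lit 4541) (BT.leaf (.pt (nat_lit 4539) (nat_lit 1))) (BT.leaf (.pt (nat_lit 4540) (nat_lit 4)))) (BT.node (nat_lit 4543) (BT.leaf (.pt (nat_lit 4541) (nat_lit 1))) (BT.leaf (.pt (nat_lit 4542) (nat_lit 3)))))))))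
noncomputable def cF4544 : BT Fc := (BT.node (nat_lit 4576) (BT.node (nat_lit 4560) (BT.node (nat_lit 4552) (BT.node (nat_lit 4548) (BT.node (nat_lit 4546) (BT.node (nat_lit 4545) (BT.leaf ⟨(nat_lit 4), (nat_lit 150), (nat_lit 0), (nat_lit 0xa1f7a4f4da8c71351cee43ad17a1b2), (nat_lit 0), (nat_lit 0)⟩) (BT.leaf ⟨(nat_lit 4), (nat_lit 212), (nat_lit 0), (nat_lit 0x1b28ad5ff533ae57c8e6ea28e5b63b9), (nat_lit 0), (nat_lit 0)⟩)) (BT.node (nat_lit 4547) (BT.leaf ⟨(nat_lit 4), (nat_lit 271), (nat_lit 0), (nat_lit 0x1edef543d9d131ff419bea37a5575c8), (nat_lit 0), (nat_lit 0)⟩) (BT.leaf ⟨(nat_lit 4), (nat_lit 377), (nat_lit 0), (nat_lit 0x96fc4844208af40a00ce84810959d1), (nat_lit 0), (nat_lit 0)⟩))) (BT.node (nat_lit 4550) (BT.node (nat_lit 4549) (BT.leaf ⟨(nat_lit 4), (nat_lit 472), (nat_lit 0), (nat_lit 0x1d3957669d26cd7b3519e85f1b83646), (nat_lit 0), (nat_lit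 0)⟩) (BT.leaf ⟨(nat_lit 4), (nat_lit 634), (nat_lit 0), (nat_lit 0x1e17c6e8dcb1f3786d347fcc4fc4f9d), (nat_lit 0), (nat_lit 0)⟩)) (BT.node (nat_lit 4551) (BT.leaf ⟨(nat_lit 4), (nat_lit 788), (nat_lit 0), (nat_lit 0x1b2943c778c6d26ae47b7fd9ceb9da6), (nat_lit 0), (nat_lit 0)⟩) (BT.leaf ⟨(nat_lit 4), (nat_lit 1054), (nat_lit 0), (nat_lit 0xae6f41d502040100040e74007c6880), (nat_lit 0), (nat_lit 0)⟩)))) (BT.node (nat_lit 4556) (BT.node (nat_lit 4554) (BT.node (nat_lit 4553) (BT.leaf ⟨(nat_lit 4), (nat_lit 989), (nat_lit 0), (nat_lit 0x1dea6c8b7f74ceb9f583e74e9377f2a), (nat_lit 0), (nat_lit 0)⟩) (BT.leaf ⟨(nat_lit 4), (nat_lit 990), (nat_lit 0), (nat_lit 0x16a18e5f8ad10f4bb4e83d1722f47e8), (nat_lit 0), (nat_lit 0)⟩)) (BT.node (nat_lit 4555) (BT.leaf ⟨(nat_lit 4), (nat_lit 949), (nat_lit 0), (nat_lit 0x1401a3400c0197dc6c403d100608480), (nat_lit 0), (nat_lit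 0)⟩) (BT.leaf ⟨(nat_lit 4), (nat_lit 950), (nat_lit 0), (nat_lit 0x1fd28be749e9b937af21957f6d8e26a), (nat_lit 0), (nat_lit 0)⟩))) (BT.node (nat_lit 4558) (BT.node (nat_lit 4557) (BT.leaf ⟨(nat_lit 4), (nat_lit 1187), (nat_lit 0), (nat_lit 0xe2b167b7d8295d2fb5f9569fd6f85f), (nat_lit 0), (nat_lit 0)⟩) (BT.leaf ⟨(nat_lit 4), (nat_lit 1489), (nat_lit 0), (nat_lit 0x8da529e3efad8de1bf37d6f9e8bbe2), (nat_lit 0), (nat_lit 0)⟩)) (BT.node (nat_lit 4559) (BT.leaf ⟨(nat_lit 4), (nat_lit 1831), (nat_lit 0), (nat_lit 0x63996fc012ac6f01dd7d649d04496), (nat_lit 0), (nat_lit 0)⟩) (BT.leaf ⟨(nat_lit 4), (nat_lit 2251), (nat_lit 0), (nat_lit 0x1d599abd8e8f51b34fc6bfe32e52f66), (nat_lit 0), (nat_lit 0)⟩))))) (BT.node (nat_lit 4568) (BT.node (nat_lit 4564) (BT.node (nat_lit 4562) (BT.node (nat_lit 4561) (BT.leaf ⟨(nat_lit 4), (nat_lit 2646), (nat_lit 0), (nat_lit 0x8e75c95a532be626aa9bfeaf713ab8),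 (nat_lit 0), (nat_lit 0)⟩) (BT.leaf ⟨(nat_lit 4), (nat_lit 2736), (nat_lit 0), (nat_lit 0xb7d2eb704ff4652fb5fd832ad0f9bc), (nat_lit 0), (nat_lit 0)⟩)) (BT.node (nat_lit 4563) (BT.leaf ⟨(nat_lit 4), (nat_lit 2381), (nat_lit 0), (nat_lit 0x167b13cdeefb23a4fc1ed82c4ed8cbe), (nat_lit 0), (nat_lit 0)⟩) (BT.leaf ⟨(nat_lit 4), (nat_lit 1920), (nat_lit 0), (nat_lit 0x40b9c0227c24b7c7f440257a92e802), (nat_lit 0), (nat_lit 0)⟩))) (BT.node (nat_lit 4566) (BT.node (nat_lit 4565) (BT.leaf ⟨(nat_lit 4), (nat_lit 1594), (nat_lit 0), (nat_lit 0x1d580c24f02071428110025b90183f3), (nat_lit 0), (nat_lit 0)⟩) (BT.leaf ⟨(nat_lit 4), (nat_lit 1250), (nat_lit 0), (nat_lit 0x1f2c1cd9e75c68e7615ddfcfb9c0b7), (nat_lit 0), (nat_lit 0)⟩)) (BT.node (nat_lit 4567) (BT.leaf ⟨(nat_lit 4), (nat_lit 1022), (nat_lit 0), (nat_lit 0x3ead31d7cb0f55c5693ddf0f51b1d5), (nat_lit 0), (nat_lit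 0)⟩) (BT.leaf ⟨(nat_lit 4), (nat_lit 1021), (nat_lit 0), (nat_lit 0x16c44f26a626e924fc1eefbb074f49c), (nat_lit 0), (nat_lit 0)⟩)))) (BT.node (nat_lit 4572) (BT.node (nat_lit 4570) (BT.node (nat_lit 4569) (BT.leaf ⟨(nat_lit 4), (nat_lit 863), (nat_lit 0), (nat_lit 0xd8d1b1e37c3295f1accefaf9e8bc6e), (nat_lit 0), (nat_lit 0)⟩) (BT.leaf ⟨(nat_lit 4), (nat_lit 680), (nat_lit 0), (nat_lit 0x2423181102523828110dc8043ab210), (nat_lit 0), (nat_lit 0)⟩)) (BT.node (nat_lit 4571) (BT.leaf ⟨(nat_lit 4), (nat_lit 518), (nat_lit 0), (nat_lit 0x1fd28b9b29e9f6cbce74dc92af7aef6), (nat_lit 0), (nat_lit 0)⟩) (BT.leaf ⟨(nat_lit 4), (nat_lit 407), (nat_lit 0), (nat_lit 0x15ce3dc71ce71cb160edab866e31c33), (nat_lit 0), (nat_lit 0)⟩))) (BT.node (nat_lit 4574) (BT.node (nat_lit 4573) (BT.leaf ⟨(nat_lit 4), (nat_lit 300), (nat_lit 0), (nat_lit 0x16c5cb13f2de43f3482fab84bc96b2f),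 (nat_lit 0), (nat_lit 0)⟩) (BT.leaf ⟨(nat_lit 4), (nat_lit 301), (nat_lit 0), (nat_lit 0x1259f5a08090028040090500323da57), (nat_lit 0), (nat_lit 0)⟩)) (BT.node (nat_lit 4575) (BT.leaf ⟨(nat_lit 4), (nat_lit 408), (nat_lit 0), (nat_lit 0x86104534ffc68184be05172110060), (nat_lit 0), (nat_lit 0)⟩) (BT.leaf ⟨(nat_lit 4), (nat_lit 520), (nat_lit 0), (nat_lit 0x1bd790ef4957bf0bce749e9b90e7287), (nat_lit 0), (nat_lit 0)⟩)))))) (BT.node (nat_lit 4592) (BT.node (nat_lit 4584) (BT.node (nat_lit 4580) (BT.node (nat_lit 4578) (BT.node (nat_lit 4577) (BT.leaf ⟨(nat_lit 4), (nat_lit 681), (nat_lit 0), (nat_lit 0xa011053ace7a79202019e88110005f), (nat_lit 0), (nat_lit 0)⟩) (BT.leaf ⟨(nat_lit 4), (nat_lit 865), (nat_lit 0), (nat_lit 0x6be97ea2ab9f6f3482f25e5bed8e15), (nat_lit 0), (nat_lit 0)⟩)) (BT.node (nat_lit 4579) (BT.leaf ⟨(nat_lit 4), (nat_lit 213), (nat_lit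 0), (nat_lit 0x11c7c790204475c4112d805272f5202), (nat_lit 0), (nat_lit 0)⟩) (BT.leaf ⟨(nat_lit 4), (nat_lit 272), (nat_lit 0), (nat_lit 0x14bd7a1e8c00ce9a307380500680420), (nat_lit 0), (nat_lit 0)⟩))) (BT.node (nat_lit 4582) (BT.node (nat_lit 4581) (BT.leaf ⟨(nat_lit 4), (nat_lit 379), (nat_lit 0), (nat_lit 0x4ac020844080180a00c209d0b9f5ec), (nat_lit 0), (nat_lit 0)⟩) (BT.leaf ⟨(nat_lit 4), (nat_lit 474), (nat_lit 0), (nat_lit 0x4228063a9d15cc9002f209678c0300), (nat_lit 0), (nat_lit 0)⟩)) (BT.node (nat_lit 4583) (BT.leaf ⟨(nat_lit 4), (nat_lit 639), (nat_lit 0), (nat_lit 0xac626aa9ea2af57c8e6472a6765583), (nat_lit 0), (nat_lit 0)⟩) (BT.leaf ⟨(nat_lit 4), (nat_lit 793), (nat_lit 0), (nat_lit 0xb7cc04f3f746bd40088473f1848568), (nat_lit 0), (nat_lit 0)⟩)))) (BT.node (nat_lit 4588) (BT.node (nat_lit 4586) (BT.node (nat_lit 4585) (BT.leaf ⟨(nat_lit 4),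 (nat_lit 1003), (nat_lit 0), (nat_lit 0x12ae8bb1c39db90d96f0fb7bd626eb4), (nat_lit 0), (nat_lit 0)⟩) (BT.leaf ⟨(nat_lit 4), (nat_lit 1233), (nat_lit 0), (nat_lit 0x4af513962de3eaae370fb643e63e15), (nat_lit 0), (nat_lit 0)⟩)) (BT.node (nat_lit 4587) (BT.leaf ⟨(nat_lit 4), (nat_lit 1566), (nat_lit 0), (nat_lit 0x1200746081bd24f002bd11cceaab9), (nat_lit 0), (nat_lit 0)⟩) (BT.leaf ⟨(nat_lit 4), (nat_lit 1896), (nat_lit 0), (nat_lit 0x17aa63c3dea3edd695ecbd17a5575a8), (nat_lit 0), (nat_lit 0)⟩))) (BT.node (nat_lit 4590) (BT.node (nat_lit 4589) (BT.leaf ⟨(nat_lit 4), (nat_lit 2348), (nat_lit 0), (nat_lit 0x20b86c1e47220140088f8dee96f955), (nat_lit 0), (nat_lit 0)⟩) (BT.leaf ⟨(nat_lit 4), (nat_lit 2720), (nat_lit 0), (nat_lit 0x1d3957519d27d0b83744f8ccd5ec5ff), (nat_lit 0), (nat_lit 0)⟩)) (BT.node (nat_lit 4591) (BT.leaf ⟨(nat_lit 4), (nat_lit 2550), (nat_lit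 0), (nat_lit 0xfad661e346cd8de1bf3efae8df39bc), (nat_lit 0), (nat_lit 0)⟩) (BT.leaf ⟨(nat_lit 4), (nat_lit 2100), (nat_lit 0), (nat_lit 0x1239ec49ad8327313c96efae934f54b), (nat_lit 0), (nat_lit 0)⟩))))) (BT.node (nat_lit 4600) (BT.node (nat_lit 4596) (BT.node (nat_lit 4594) (BT.node (nat_lit 4593) (BT.leaf ⟨(nat_lit 4), (nat_lit 2099), (nat_lit 0), (nat_lit 0x1040f4420cbff8e00af4c01ae601404), (nat_lit 0), (nat_lit 0)⟩) (BT.leaf ⟨(nat_lit 4), (nat_lit 2549), (nat_lit 0), (nat_lit 0x13d34f202408821eaa10c009011005f), (nat_lit 0), (nat_lit 0)⟩)) (BT.node (nat_lit 4595) (BT.leaf ⟨(nat_lit 4), (nat_lit 2913), (nat_lit 0), (nat_lit 0x5e465f8cf12e35ff78df5b963c2f8f), (nat_lit 0), (nat_lit 0)⟩) (BT.leaf ⟨(nat_lit 4), (nat_lit 3252), (nat_lit 0), (nat_lit 0x81100280440c13fed4f5aa6410824), (nat_lit 0), (nat_lit 0)⟩))) (BT.node (nat_lit 4598) (BT.node (nat_lit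 4597) (BT.leaf ⟨(nat_lit 4), (nat_lit 3354), (nat_lit 0), (nat_lit 0x4bed8d5c25ba8b0a9af25cdc09f927), (nat_lit 0), (nat_lit 0)⟩) (BT.leaf ⟨(nat_lit 4), (nat_lit 3111), (nat_lit 0), (nat_lit 0x20410811013bd40280125c75239003), (nat_lit 0), (nat_lit 0)⟩)) (BT.node (nat_lit 4599) (BT.leaf ⟨(nat_lit 4), (nat_lit 3112), (nat_lit 0), (nat_lit 0x107acf49c92c3b6a5b134d537ad8ba4), (nat_lit 0), (nat_lit 0)⟩) (BT.leaf ⟨(nat_lit 4), (nat_lit 7), (nat_lit 0), (nat_lit 0xcd7654f3ae769b1647b8c7e41a4bfe), (nat_lit 0), (nat_lit 0)⟩)))) (BT.node (nat_lit 4604) (BT.node (nat_lit 4602) (BT.node (nat_lit 4601) (BT.leaf ⟨(nat_lit 4), (nat_lit 11), (nat_lit 0), (nat_lit 0x62fc72af3b238287568c60c048110), (nat_lit 0), (nat_lit 0)⟩) (BT.leaf ⟨(nat_lit 4), (nat_lit 18), (nat_lit 0), (nat_lit 0x49d97b70d4557095fdb35e5bed8e15), (nat_lit 0), (nat_lit 0)⟩)) (BT.node (nat_lit 4603)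 (BT.leaf ⟨(nat_lit 4), (nat_lit 2716), (nat_lit 0), (nat_lit 0x15a3f42d2bc131ed460b3377b18e5f8), (nat_lit 0), (nat_lit 0)⟩) (BT.leaf ⟨(nat_lit 4), (nat_lit 17), (nat_lit 0), (nat_lit 0xac55cbb9a688e54cb6cc4eaf7650e6), (nat_lit 0), (nat_lit 0)⟩))) (BT.node (nat_lit 4606) (BT.node (nat_lit 4605) (BT.leaf ⟨(nat_lit 4), (nat_lit 24), (nat_lit 0), (nat_lit 0x152ed88edd829a9d2496c4fdf6cf313), (nat_lit 0), (nat_lit 0)⟩) (BT.leaf ⟨(nat_lit 4), (nat_lit 34), (nat_lit 0), (nat_lit 0x75d010224baaec01c02205ce37b471), (nat_lit 0), (nat_lit 0)⟩)) (BT.node (nat_lit 4607) (BT.leaf ⟨(nat_lit 4), (nat_lit 45), (nat_lit 0), (nat_lit 0x1402cf7f4ae6423468d52044109035f), (nat_lit 0), (nat_lit 0)⟩) (BT.leaf ⟨(nat_lit 4), (nat_lit 60), (nat_lit 0), (nat_lit 0x1803f405fce6881020b941090101201), (nat_lit 0), (nat_lit 0)⟩)))))))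
noncomputable def cP4544 : BT Pf := (BT.node (nat_lit 4576) (BT.node (nat_lit 4560) (BT.node (nat_lit 4552) (BT.node (nat_lit 4548) (BT.node (nat_lit 4546) (BT.node (nat_lit 4545) (BT.leaf (.pt (nat_lit 4543) (nat_lit 1))) (BT.leaf (.pt (nat_lit 4544) (nat_lit 3)))) (BT.node (nat_lit 4547) (BT.leaf (.pt (nat_lit 4545) (nat_lit 1))) (BT.leaf (.pt (nat_lit 4546) (nat_lit 4))))) (BT.node (nat_lit 4550) (BT.node (nat_lit 4549) (BT.leaf (.pt (nat_lit 4547) (nat_lit 1))) (BT.leaf (.pt (nat_lit 4548) (nat_lit 3)))) (BT.node (nat_lit 4551) (BT.leaf (.pt (nat_lit 4549) (nat_lit 1))) (BT.leaf (.pt (nat_lit 4550) (nat_lit 3)))))) (BT.node (nat_lit 4556) (BT.node (nat_lit 4554) (BT.node (nat_lit 4553) (BT.leaf (.pt (nat_lit 4551) (nat_lit 1))) (BT.leaf (.pt (nat_lit 4552) (nat_lit 3)))) (BT.node (nat_lit 4555) (BT.leaf (.pt (nat_lit 4553) (nat_lit 1))) (BT.leaf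 (.pt (nat_lit 4554) (nat_lit 3))))) (BT.node (nat_lit 4558) (BT.node (nat_lit 4557) (BT.leaf (.pt (nat_lit 4555) (nat_lit 1))) (BT.leaf (.pt (nat_lit 4556) (nat_lit 3)))) (BT.node (nat_lit 4559) (BT.leaf (.pt (nat_lit 4557) (nat_lit 1))) (BT.leaf (.pt (nat_lit 4558) (nat_lit 3))))))) (BT.node (nat_lit 4568) (BT.node (nat_lit 4564) (BT.node (nat_lit 4562) (BT.node (nat_lit 4561) (BT.leaf (.pt (nat_lit 4559) (nat_lit 1))) (BT.leaf (.pt (nat_lit 4560) (nat_lit 4)))) (BT.node (nat_lit 4563) (BT.leaf (.pt (nat_lit 4561) (nat_lit 1))) (BT.leaf (.pt (nat_lit 4562) (nat_lit 3))))) (BT.node (nat_lit 4566) (BT.node (nat_lit 4565) (BT.leaf (.pt (nat_lit 4563) (nat_lit 1))) (BT.leaf (.pt (nat_lit 4564) (nat_lit 3)))) (BT.node (nat_lit 4567) (BT.leaf (.pt (nat_lit 4565) (nat_lit 1))) (BT.leaf (.pt (nat_lit 4566) (nat_lit 4)))))) (BT.node (nat_lit 4572) (BT.node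 (nat_lit 4570) (BT.node (nat_lit 4569) (BT.leaf (.pt (nat_lit 4567) (nat_lit 1))) (BT.leaf (.pt (nat_lit 4568) (nat_lit 4)))) (BT.node (nat_lit 4571) (BT.leaf (.pt (nat_lit 4569) (nat_lit 1))) (BT.leaf (.pt (nat_lit 4570) (nat_lit 3))))) (BT.node (nat_lit 4574) (BT.node (nat_lit 4573) (BT.leaf (.pt (nat_lit 4571) (nat_lit 1))) (BT.leaf (.pt (nat_lit 4572) (nat_lit 3)))) (BT.node (nat_lit 4575) (BT.leaf (.pt (nat_lit 4573) (nat_lit 1))) (BT.leaf (.pt (nat_lit 4574) (nat_lit 4)))))))) (BT.node (nat_lit 4592) (BT.node (nat_lit 4584) (BT.node (nat_lit 4580) (BT.node (nat_lit 4578) (BT.node (nat_lit 4577) (BT.leaf (.pt (nat_lit 4575) (nat_lit 1))) (BT.leaf (.pt (nat_lit 4576) (nat_lit 4)))) (BT.node (nat_lit 4579) (BT.leaf (.pt (nat_lit 4544) (nat_lit 4))) (BT.leaf (.pt (nat_lit 4578) (nat_lit 1))))) (BT.node (nat_lit 4582) (BT.node (nat_lit 4581) (BT.leaf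 (.pt (nat_lit 4579) (nat_lit 4))) (BT.leaf (.pt (nat_lit 4580) (nat_lit 1)))) (BT.node (nat_lit 4583) (BT.leaf (.pt (nat_lit 4581) (nat_lit 4))) (BT.leaf (.pt (nat_lit 4582) (nat_lit 1)))))) (BT.node (nat_lit 4588) (BT.node (nat_lit 4586) (BT.node (nat_lit 4585) (BT.leaf (.pt (nat_lit 4583) (nat_lit 3))) (BT.leaf (.pt (nat_lit 4584) (nat_lit 1)))) (BT.node (nat_lit 4587) (BT.leaf (.pt (nat_lit 4585) (nat_lit 4))) (BT.leaf (.pt (nat_lit 4586) (nat_lit 1))))) (BT.node (nat_lit 4590) (BT.node (nat_lit 4589) (BT.leaf (.pt (nat_lit 4587) (nat_lit 4))) (BT.leaf (.pt (nat_lit 4588) (nat_lit 1)))) (BT.node (nat_lit 4591) (BT.leaf (.pt (nat_lit 4589) (nat_lit 4))) (BT.leaf (.pt (nat_lit 4590) (nat_lit 1))))))) (BT.node (nat_lit 4600) (BT.node (nat_lit 4596) (BT.node (nat_lit 4594) (BT.node (nat_lit 4593) (BT.leaf (.pt (nat_lit 4591) (nat_lit 4))) (BT.leaf (.pt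 (nat_lit 4592) (nat_lit 1)))) (BT.node (nat_lit 4595) (BT.leaf (.pt (nat_lit 4593) (nat_lit 4))) (BT.leaf (.pt (nat_lit 4594) (nat_lit 1))))) (BT.node (nat_lit 4598) (BT.node (nat_lit 4597) (BT.leaf (.pt (nat_lit 4595) (nat_lit 4))) (BT.leaf (.pt (nat_lit 4596) (nat_lit 1)))) (BT.node (nat_lit 4599) (BT.leaf (.pt (nat_lit 4597) (nat_lit 3))) (BT.leaf (.pt (nat_lit 4534) (nat_lit 3)))))) (BT.node (nat_lit 4604) (BT.node (nat_lit 4602) (BT.node (nat_lit 4601) (BT.leaf (.pt (nat_lit 4599) (nat_lit 1))) (BT.leaf (.pt (nat_lit 4600) (nat_lit 4)))) (BT.node (nat_lit 4603) (BT.leaf (.pt (nat_lit 4597) (nat_lit 4))) (BT.leaf (.pt (nat_lit 4600) (nat_lit 3))))) (BT.node (nat_lit 4606) (BT.node (nat_lit 4605) (BT.leaf (.pt (nat_lit 4603) (nat_lit 1))) (BT.leaf (.pt (nat_lit 4604) (nat_lit 4)))) (BT.node (nat_lit 4607) (BT.leaf (.pt (nat_lit 4605) (nat_lit 1)))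 (BT.leaf (.pt (nat_lit 4606) (nat_lit 3)))))))))
noncomputable def cF4608 : BT Fc := (BT.node (nat_lit 4640) (BT.node (nat_lit 4624) (BT.node (nat_lit 4616) (BT.node (nat_lit 4612) (BT.node (nat_lit 4610) (BT.node (nat_lit 4609) (BT.leaf ⟨(nat_lit 4), (nat_lit 78), (nat_lit 0), (nat_lit 0xac40c00a013d3b7e408411cc92bc7b), (nat_lit 0), (nat_lit 0)⟩) (BT.leaf ⟨(nat_lit 4), (nat_lit 108), (nat_lit 0), (nat_lit 0x1d44bb19bbd3edd695c855d82ff45ec), (nat_lit 0), (nat_lit 0)⟩)) (BT.node (nat_lit 4611) (BT.leaf ⟨(nat_lit 4), (nat_lit 143), (nat_lit 0), (nat_lit 0x1d9ba3546e85f1ba25ff55dc199af47), (nat_lit 0), (nat_lit 0)⟩) (BT.leaf ⟨(nat_lit 4), (nat_lit 198), (nat_lit 0), (nat_lit 0x12fa4749f9343b66f6c183cc4cbb3a4), (nat_lit 0), (nat_lit 0)⟩))) (BT.node (nat_lit 4614) (BT.node (nat_lit 4613) (BT.leaf ⟨(nat_lit 4), (nat_lit 257), (nat_lit 0), (nat_lit 0xb7cc0568f74555400a083cd8c40884),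 (nat_lit 0), (nat_lit 0)⟩) (BT.leaf ⟨(nat_lit 4), (nat_lit 217), (nat_lit 0), (nat_lit 0x95c93848e6525b7e408012820eede0), (nat_lit 0), (nat_lit 0)⟩)) (BT.node (nat_lit 4615) (BT.leaf ⟨(nat_lit 4), (nat_lit 153), (nat_lit 0), (nat_lit 0x1004409d4bd208402a5e013e3020f3b), (nat_lit 0), (nat_lit 0)⟩) (BT.leaf ⟨(nat_lit 4), (nat_lit 152), (nat_lit 0), (nat_lit 0xd1b231b255dd3ba25ffe0dd0bb3693), (nat_lit 0), (nat_lit 0)⟩)))) (BT.node (nat_lit 4620) (BT.node (nat_lit 4618) (BT.node (nat_lit 4617) (BT.leaf ⟨(nat_lit 4), (nat_lit 216), (nat_lit 0), (nat_lit 0xbe42086032a87fbd440e0c9035a5a8), (nat_lit 0), (nat_lit 0)⟩) (BT.leaf ⟨(nat_lit 4), (nat_lit 275), (nat_lit 0), (nat_lit 0xee4804e81abfd1801086beb8f23102), (nat_lit 0), (nat_lit 0)⟩)) (BT.node (nat_lit 4619) (BT.leaf ⟨(nat_lit 4), (nat_lit 384), (nat_lit 0), (nat_lit 0x95d27d194bb8b13f8e66be96fdbb8a), (nat_lit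 0), (nat_lit 0)⟩) (BT.leaf ⟨(nat_lit 4), (nat_lit 480), (nat_lit 0), (nat_lit 0x49cd7b2f25a0bf515b198e43eae669), (nat_lit 0), (nat_lit 0)⟩))) (BT.node (nat_lit 4622) (BT.node (nat_lit 4621) (BT.leaf ⟨(nat_lit 4), (nat_lit 551), (nat_lit 0), (nat_lit 0x5dbdb99b55dd461ede098f82ff45ea), (nat_lit 0), (nat_lit 0)⟩) (BT.leaf ⟨(nat_lit 4), (nat_lit 426), (nat_lit 0), (nat_lit 0x1378287cde0c5bfbd4404806557cc33), (nat_lit 0), (nat_lit 0)⟩)) (BT.node (nat_lit 4623) (BT.leaf ⟨(nat_lit 4), (nat_lit 321), (nat_lit 0), (nat_lit 0x1803f40b9ce68210169e480882c6d46), (nat_lit 0), (nat_lit 0)⟩) (BT.leaf ⟨(nat_lit 4), (nat_lit 239), (nat_lit 0), (nat_lit 0x104008f568c7e741813f0300502872a), (nat_lit 0), (nat_lit 0)⟩))))) (BT.node (nat_lit 4632) (BT.node (nat_lit 4628) (BT.node (nat_lit 4626) (BT.node (nat_lit 4625) (BT.leaf ⟨(nat_lit 4), (nat_lit 2914), (nat_lit 0), (nat_lit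 0x1e1746d34cb0c4dff78df13eb786d8d), (nat_lit 0), (nat_lit 0)⟩) (BT.leaf ⟨(nat_lit 4), (nat_lit 3253), (nat_lit 0), (nat_lit 0x11f38844080512d80cf13cf95e9d1), (nat_lit 0), (nat_lit 0)⟩)) (BT.node (nat_lit 4627) (BT.leaf ⟨(nat_lit 4), (nat_lit 3465), (nat_lit 0), (nat_lit 0x100297873c00e3600af4d7397e08480), (nat_lit 0), (nat_lit 0)⟩) (BT.leaf ⟨(nat_lit 4), (nat_lit 3644), (nat_lit 0), (nat_lit 0x11355eaa9472ac5b62b9d72a67650b9), (nat_lit 0), (nat_lit 0)⟩))) (BT.node (nat_lit 4630) (BT.node (nat_lit 4629) (BT.leaf ⟨(nat_lit 4), (nat_lit 3616), (nat_lit 0), (nat_lit 0x6ca52f47f8cd1b8374466ba4fa7756), (nat_lit 0), (nat_lit 0)⟩) (BT.leaf ⟨(nat_lit 4), (nat_lit 3410), (nat_lit 0), (nat_lit 0x11c76547b8c71cf39a8766b8b2394f3), (nat_lit 0), (nat_lit 0)⟩)) (BT.node (nat_lit 4631) (BT.leaf ⟨(nat_lit 4), (nat_lit 3203), (nat_lit 0), (nat_lit 0xf8705b637e6f88de7e37c736652ba3),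 (nat_lit 0), (nat_lit 0)⟩) (BT.leaf ⟨(nat_lit 4), (nat_lit 2817), (nat_lit 0), (nat_lit 0x100080746081278040027c675440010), (nat_lit 0), (nat_lit 0)⟩)))) (BT.node (nat_lit 4636) (BT.node (nat_lit 4634) (BT.node (nat_lit 4633) (BT.leaf ⟨(nat_lit 4), (nat_lit 757), (nat_lit 0), (nat_lit 0x1749c6fcd16f4d3c6658f3b637513fe), (nat_lit 0), (nat_lit 0)⟩) (BT.leaf ⟨(nat_lit 4), (nat_lit 602), (nat_lit 0), (nat_lit 0x7144813f8c6062fc24ff3a0c02872a), (nat_lit 0), (nat_lit 0)⟩)) (BT.node (nat_lit 4635) (BT.leaf ⟨(nat_lit 4), (nat_lit 456), (nat_lit 0), (nat_lit 0x754800018e7e364f0020817a00412f), (nat_lit 0), (nat_lit 0)⟩) (BT.leaf ⟨(nat_lit 4), (nat_lit 358), (nat_lit 0), (nat_lit 0x108280482de87fbd19508090020c33), (nat_lit 0), (nat_lit 0)⟩))) (BT.node (nat_lit 4638) (BT.node (nat_lit 4637) (BT.leaf ⟨(nat_lit 4), (nat_lit 359), (nat_lit 0), (nat_lit 0x40971d7305e4058068d6bf9188059e),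 (nat_lit 0), (nat_lit 0)⟩) (BT.leaf ⟨(nat_lit 4), (nat_lit 457), (nat_lit 0), (nat_lit 0x174a55a5fd8296d2ba5d6bfedf16370), (nat_lit 0), (nat_lit 0)⟩)) (BT.node (nat_lit 4639) (BT.leaf ⟨(nat_lit 4), (nat_lit 605), (nat_lit 0), (nat_lit 0xe364060013d402106b90e702202400), (nat_lit 0), (nat_lit 0)⟩) (BT.leaf ⟨(nat_lit 4), (nat_lit 760), (nat_lit 0), (nat_lit 0x1b2b164778e71c6ae3fe0e6cd7398ed), (nat_lit 0), (nat_lit 0)⟩)))))) (BT.node (nat_lit 4656) (BT.node (nat_lit 4648) (BT.node (nat_lit 4644) (BT.node (nat_lit 4642) (BT.node (nat_lit 4641) (BT.leaf ⟨(nat_lit 4), (nat_lit 1009), (nat_lit 0), (nat_lit 0xbe75a060081103bd1954805bc21044), (nat_lit 0), (nat_lit 0)⟩) (BT.leaf ⟨(nat_lit 4), (nat_lit 1238), (nat_lit 0), (nat_lit 0xf5739a024096374f0b948082110200), (nat_lit 0), (nat_lit 0)⟩)) (BT.node (nat_lit 4643) (BT.leaf ⟨(nat_lit 4), (nat_lit 1574), (nat_lit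 0), (nat_lit 0x8d8de4d97cee8f05be2787df6373e1), (nat_lit 0), (nat_lit 0)⟩) (BT.leaf ⟨(nat_lit 4), (nat_lit 2347), (nat_lit 0), (nat_lit 0x100a80440d72d1a00af4cbf8020009e), (nat_lit 0), (nat_lit 0)⟩))) (BT.node (nat_lit 4646) (BT.node (nat_lit 4645) (BT.leaf ⟨(nat_lit 4), (nat_lit 2719), (nat_lit 0), (nat_lit 0x12ad6fa5fd8295dc525dcbf8b10f8e6), (nat_lit 0), (nat_lit 0)⟩) (BT.leaf ⟨(nat_lit 4), (nat_lit 3118), (nat_lit 0), (nat_lit 0x145e373e2efbf8de1bf37468d9f5be3), (nat_lit 0), (nat_lit 0)⟩)) (BT.node (nat_lit 4647) (BT.leaf ⟨(nat_lit 4), (nat_lit 2936), (nat_lit 0), (nat_lit 0x1410f8480801097ceb474690020cde), (nat_lit 0), (nat_lit 0)⟩) (BT.leaf ⟨(nat_lit 4), (nat_lit 2937), (nat_lit 0), (nat_lit 0x1e7751313f1be32c6b8df1e2de377ad), (nat_lit 0), (nat_lit 0)⟩)))) (BT.node (nat_lit 4652) (BT.node (nat_lit 4650) (BT.node (nat_lit 4649) (BT.leaf ⟨(nat_lit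 4), (nat_lit 3267), (nat_lit 0), (nat_lit 0x100af53e104401805012f1e75e4e002), (nat_lit 0), (nat_lit 0)⟩) (BT.leaf ⟨(nat_lit 4), (nat_lit 3485), (nat_lit 0), (nat_lit 0x14bdb812f21f6c47d12e2575735132f), (nat_lit 0), (nat_lit 0)⟩)) (BT.node (nat_lit 4651) (BT.leaf ⟨(nat_lit 4), (nat_lit 3655), (nat_lit 0), (nat_lit 0x1482789409d09f3c04257cf802024), (nat_lit 0), (nat_lit 0)⟩) (BT.leaf ⟨(nat_lit 4), (nat_lit 3748), (nat_lit 0), (nat_lit 0x104601954805bd7ceb4080e8f837cd), (nat_lit 0), (nat_lit 0)⟩))) (BT.node (nat_lit 4654) (BT.node (nat_lit 4653) (BT.leaf ⟨(nat_lit 4), (nat_lit 3766), (nat_lit 0), (nat_lit 0x1bd002746f1b000100010811cceaa00), (nat_lit 0), (nat_lit 0)⟩) (BT.leaf ⟨(nat_lit 4), (nat_lit 3765), (nat_lit 0), (nat_lit 0x1bd8812bbf1e108050123ae08a01744), (nat_lit 0), (nat_lit 0)⟩)) (BT.node (nat_lit 4655) (BT.leaf ⟨(nat_lit 4), (nat_lit 3722),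 (nat_lit 0), (nat_lit 0x714eadd5d26751eaf213ae8d9b6658), (nat_lit 0), (nat_lit 0)⟩) (BT.leaf ⟨(nat_lit 4), (nat_lit 3621), (nat_lit 0), (nat_lit 0x93d2da57a32976b2ec11cc17d2f65f), (nat_lit 0), (nat_lit 0)⟩))))) (BT.node (nat_lit 4664) (BT.node (nat_lit 4660) (BT.node (nat_lit 4658) (BT.node (nat_lit 4657) (BT.leaf ⟨(nat_lit 4), (nat_lit 210), (nat_lit 0), (nat_lit 0x2016ff0d500555b1fc61026beb4088), (nat_lit 0), (nat_lit 0)⟩) (BT.leaf ⟨(nat_lit 4), (nat_lit 269), (nat_lit 0), (nat_lit 0x1d1c10de90130055c00110200fc6201), (nat_lit 0), (nat_lit 0)⟩)) (BT.node (nat_lit 4659) (BT.leaf ⟨(nat_lit 4), (nat_lit 372), (nat_lit 0), (nat_lit 0x14652785f4af7492eb8acbe96d6f9bc), (nat_lit 0), (nat_lit 0)⟩) (BT.leaf ⟨(nat_lit 4), (nat_lit 467), (nat_lit 0), (nat_lit 0x17559d480fc7400f4346cbf4bf00408), (nat_lit 0), (nat_lit 0)⟩))) (BT.node (nat_lit 4662) (BT.node (nat_lit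 4661) (BT.leaf ⟨(nat_lit 4), (nat_lit 624), (nat_lit 0), (nat_lit 0x714180187e68409ff9d221b9127812), (nat_lit 0), (nat_lit 0)⟩) (BT.leaf ⟨(nat_lit 4), (nat_lit 778), (nat_lit 0), (nat_lit 0x1a36cf35f204500c00d5220410842e3), (nat_lit 0), (nat_lit 0)⟩)) (BT.node (nat_lit 4663) (BT.leaf ⟨(nat_lit 4), (nat_lit 1034), (nat_lit 0), (nat_lit 0x1eb78d3c30440a0122200c0a641810f), (nat_lit 0), (nat_lit 0)⟩) (BT.leaf ⟨(nat_lit 4), (nat_lit 1260), (nat_lit 0), (nat_lit 0x900208502de1010ffcd0c1ad1d1842), (nat_lit 0), (nat_lit 0)⟩)))) (BT.node (nat_lit 4668) (BT.node (nat_lit 4666) (BT.node (nat_lit 4665) (BT.leaf ⟨(nat_lit 4), (nat_lit 1611), (nat_lit 0), (nat_lit 0x14e9d2738c2b364e7732e74b4b8d73e), (nat_lit 0), (nat_lit 0)⟩) (BT.leaf ⟨(nat_lit 4), (nat_lit 1935), (nat_lit 0), (nat_lit 0x2200020009d1808200e74ae40112f), (nat_lit 0), (nat_lit 0)⟩)) (BT.node (nat_lit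 4667) (BT.leaf ⟨(nat_lit 4), (nat_lit 2394), (nat_lit 0), (nat_lit 0x125a4fdb193527313f7d7b1079d226a), (nat_lit 0), (nat_lit 0)⟩) (BT.leaf ⟨(nat_lit 4), (nat_lit 1048), (nat_lit 0), (nat_lit 0xf6360c9f9bd26989ba413d2720f77d), (nat_lit 0), (nat_lit 0)⟩))) (BT.node (nat_lit 4670) (BT.node (nat_lit 4669) (BT.leaf ⟨(nat_lit 4), (nat_lit 1273), (nat_lit 0), (nat_lit 0xce839c80fc67a20034613d80200c40), (nat_lit 0), (nat_lit 0)⟩) (BT.leaf ⟨(nat_lit 4), (nat_lit 1636), (nat_lit 0), (nat_lit 0x1ca8e2f9d7e723b72030022042fc090), (nat_lit 0), (nat_lit 0)⟩)) (BT.node (nat_lit 4671) (BT.leaf ⟨(nat_lit 4), (nat_lit 1957), (nat_lit 0), (nat_lit 0x8600de9103d1c20f3b02200fc63e2), (nat_lit 0), (nat_lit 0)⟩) (BT.leaf ⟨(nat_lit 4), (nat_lit 1768), (nat_lit 0), (nat_lit 0x43eae7db35e4fdcb02fd445bf34cc7), (nat_lit 0), (nat_lit 0)⟩)))))))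
noncomputable def cP4608 : BT Pf := (BT.node (nat_lit 4640) (BT.node (nat_lit 4624) (BT.node (nat_lit 4616) (BT.node (nat_lit 4612) (BT.node (nat_lit 4610) (BT.node (nat_lit 4609) (BT.leaf (.pt (nat_lit 4607) (nat_lit 1))) (BT.leaf (.pt (nat_lit 4608) (nat_lit 3)))) (BT.node (nat_lit 4611) (BT.leaf (.pt (nat_lit 4609) (nat_lit 1))) (BT.leaf (.pt (nat_lit 4610) (nat_lit 3))))) (BT.node (nat_lit 4614) (BT.node (nat_lit 4613) (BT.leaf (.pt (nat_lit 4611) (nat_lit 1))) (BT.leaf (.pt (nat_lit 4612) (nat_lit 4)))) (BT.node (nat_lit 4615) (BT.leaf (.pt (nat_lit 4613) (nat_lit 1))) (BT.leaf (.pt (nat_lit 4614) (nat_lit 4)))))) (BT.node (nat_lit 4620) (BT.node (nat_lit 4618) (BT.node (nat_lit 4617) (BT.leaf (.pt (nat_lit 4615) (nat_lit 1))) (BT.leaf (.pt (nat_lit 4616) (nat_lit 3)))) (BT.node (nat_lit 4619) (BT.leaf (.pt (nat_lit 4617) (nat_lit 1))) (BT.leaf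 (.pt (nat_lit 4618) (nat_lit 4))))) (BT.node (nat_lit 4622) (BT.node (nat_lit 4621) (BT.leaf (.pt (nat_lit 4619) (nat_lit 1))) (BT.leaf (.pt (nat_lit 4620) (nat_lit 4)))) (BT.node (nat_lit 4623) (BT.leaf (.pt (nat_lit 4621) (nat_lit 1))) (BT.leaf (.pt (nat_lit 4622) (nat_lit 3))))))) (BT.node (nat_lit 4632) (BT.node (nat_lit 4628) (BT.node (nat_lit 4626) (BT.node (nat_lit 4625) (BT.leaf (.pt (nat_lit 4589) (nat_lit 3))) (BT.leaf (.pt (nat_lit 4624) (nat_lit 1)))) (BT.node (nat_lit 4627) (BT.leaf (.pt (nat_lit 4625) (nat_lit 4))) (BT.leaf (.pt (nat_lit 4626) (nat_lit 1))))) (BT.node (nat_lit 4630) (BT.node (nat_lit 4629) (BT.leaf (.pt (nat_lit 4627) (nat_lit 4))) (BT.leaf (.pt (nat_lit 4628) (nat_lit 1)))) (BT.node (nat_lit 4631) (BT.leaf (.pt (nat_lit 4629) (nat_lit 3))) (BT.leaf (.pt (nat_lit 4630) (nat_lit 1)))))) (BT.node (nat_lit 4636) (BT.node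 (nat_lit 4634) (BT.node (nat_lit 4633) (BT.leaf (.pt (nat_lit 4583) (nat_lit 4))) (BT.leaf (.pt (nat_lit 4632) (nat_lit 1)))) (BT.node (nat_lit 4635) (BT.leaf (.pt (nat_lit 4633) (nat_lit 4))) (BT.leaf (.pt (nat_lit 4634) (nat_lit 1))))) (BT.node (nat_lit 4638) (BT.node (nat_lit 4637) (BT.leaf (.pt (nat_lit 4635) (nat_lit 3))) (BT.leaf (.pt (nat_lit 4636) (nat_lit 1)))) (BT.node (nat_lit 4639) (BT.leaf (.pt (nat_lit 4637) (nat_lit 4))) (BT.leaf (.pt (nat_lit 4638) (nat_lit 1)))))))) (BT.node (nat_lit 4656) (BT.node (nat_lit 4648) (BT.node (nat_lit 4644) (BT.node (nat_lit 4642) (BT.node (nat_lit 4641) (BT.leaf (.pt (nat_lit 4639) (nat_lit 4))) (BT.leaf (.pt (nat_lit 4640) (nat_lit 1)))) (BT.node (nat_lit 4643) (BT.leaf (.pt (nat_lit 4641) (nat_lit 4))) (BT.leaf (.pt (nat_lit 4587) (nat_lit 3))))) (BT.node (nat_lit 4646) (BT.node (nat_lit 4645) (BT.leaf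 (.pt (nat_lit 4643) (nat_lit 1))) (BT.leaf (.pt (nat_lit 4644) (nat_lit 4)))) (BT.node (nat_lit 4647) (BT.leaf (.pt (nat_lit 4645) (nat_lit 1))) (BT.leaf (.pt (nat_lit 4646) (nat_lit 3)))))) (BT.node (nat_lit 4652) (BT.node (nat_lit 4650) (BT.node (nat_lit 4649) (BT.leaf (.pt (nat_lit 4647) (nat_lit 1))) (BT.leaf (.pt (nat_lit 4648) (nat_lit 3)))) (BT.node (nat_lit 4651) (BT.leaf (.pt (nat_lit 4649) (nat_lit 1))) (BT.leaf (.pt (nat_lit 4650) (nat_lit 4))))) (BT.node (nat_lit 4654) (BT.node (nat_lit 4653) (BT.leaf (.pt (nat_lit 4651) (nat_lit 1))) (BT.leaf (.pt (nat_lit 4652) (nat_lit 4)))) (BT.node (nat_lit 4655) (BT.leaf (.pt (nat_lit 4653) (nat_lit 1))) (BT.leaf (.pt (nat_lit 4654) (nat_lit 4))))))) (BT.node (nat_lit 4664) (BT.node (nat_lit 4660) (BT.node (nat_lit 4658) (BT.node (nat_lit 4657) (BT.leaf (.pt (nat_lit 4499) (nat_lit 3))) (BT.leaf (.pt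 (nat_lit 4656) (nat_lit 1)))) (BT.node (nat_lit 4659) (BT.leaf (.pt (nat_lit 4657) (nat_lit 3))) (BT.leaf (.pt (nat_lit 4658) (nat_lit 1))))) (BT.node (nat_lit 4662) (BT.node (nat_lit 4661) (BT.leaf (.pt (nat_lit 4659) (nat_lit 3))) (BT.leaf (.pt (nat_lit 4660) (nat_lit 1)))) (BT.node (nat_lit 4663) (BT.leaf (.pt (nat_lit 4661) (nat_lit 3))) (BT.leaf (.pt (nat_lit 4662) (nat_lit 1)))))) (BT.node (nat_lit 4668) (BT.node (nat_lit 4666) (BT.node (nat_lit 4665) (BT.leaf (.pt (nat_lit 4663) (nat_lit 3))) (BT.leaf (.pt (nat_lit 4664) (nat_lit 1)))) (BT.node (nat_lit 4667) (BT.leaf (.pt (nat_lit 4665) (nat_lit 3))) (BT.leaf (.pt (nat_lit 4512) (nat_lit 3))))) (BT.node (nat_lit 4670) (BT.node (nat_lit 4669) (BT.leaf (.pt (nat_lit 4667) (nat_lit 1))) (BT.leaf (.pt (nat_lit 4668) (nat_lit 4)))) (BT.node (nat_lit 4671) (BT.leaf (.pt (nat_lit 4669) (nat_lit 1)))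 (BT.leaf (.pt (nat_lit 4670) (nat_lit 4)))))))))
noncomputable def cF4672 : BT Fc := (BT.node (nat_lit 4704) (BT.node (nat_lit 4688) (BT.node (nat_lit 4680) (BT.node (nat_lit 4676) (BT.node (nat_lit 4674) (BT.node (nat_lit 4673) (BT.leaf ⟨(nat_lit 4), (nat_lit 1417), (nat_lit 0), (nat_lit 0x1a37c60cb4ca2de377add45e34bcf0d), (nat_lit 0), (nat_lit 0)⟩) (BT.leaf ⟨(nat_lit 4), (nat_lit 1142), (nat_lit 0), (nat_lit 0xd7f2f8e6f6edc02fa5b9566f2b2d19), (nat_lit 0), (nat_lit 0)⟩)) (BT.node (nat_lit 4675) (BT.leaf ⟨(nat_lit 4), (nat_lit 894), (nat_lit 0), (nat_lit 0x1bc0bc9ce365b533a7f4957ad226b1c), (nat_lit 0), (nat_lit 0)⟩) (BT.leaf ⟨(nat_lit 4), (nat_lit 893), (nat_lit 0), (nat_lit 0x744ea3d5d26e28ebd4b6d8554faeef), (nat_lit 0), (nat_lit 0)⟩))) (BT.node (nat_lit 4678) (BT.node (nat_lit 4677) (BT.leaf ⟨(nat_lit 4), (nat_lit 1141), (nat_lit 0), (nat_lit 0x189e26a99b06ee7a8abd6d85685cdff),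 (nat_lit 0), (nat_lit 0)⟩) (BT.leaf ⟨(nat_lit 4), (nat_lit 1415), (nat_lit 0), (nat_lit 0x127c04f47e76805f125e202004ea003), (nat_lit 0), (nat_lit 0)⟩)) (BT.node (nat_lit 4679) (BT.leaf ⟨(nat_lit 4), (nat_lit 1766), (nat_lit 0), (nat_lit 0xd7eb98d52044409059e2026032363a), (nat_lit 0), (nat_lit 0)⟩) (BT.leaf ⟨(nat_lit 4), (nat_lit 2153), (nat_lit 0), (nat_lit 0x197dc6fe38050062052f68d082085d5), (nat_lit 0), (nat_lit 0)⟩)))) (BT.node (nat_lit 4684) (BT.node (nat_lit 4682) (BT.node (nat_lit 4681) (BT.leaf ⟨(nat_lit 5), (nat_lit 2), (nat_lit 0), (nat_lit 0x2000000000000000000000000000000000000000000000000000000000000000000000000000000000000000000000000000000000000000000000000000000100000000000000000000000000000000000000000000000000000000000000000000000002000000000000000000000000100000000000000000000000000000000000000000000000000000000000000000000000000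00000040000000000000000000000000000000000000000000000000000000000020000000000000000000000000000000000000000000000000000000000000000000000000000000000000000000000000000000000000000000000000000000000000000000000004000000000000000000000000000000000000000000000000000000000000000000000000000000000000000000000000000000000000000000000000000000000000000000000000000000000000000000000000000000002000000000000000000000000000000000000000000000000000000000000000000000000000000000000010000000000000000000000000000000000004000000000000000000000000000000000800000000000000000008000000000000000000000000000000001041133), (nat_lit 0), (nat_lit 0)⟩) (BT.leaf ⟨(nat_lit 2), (nat_lit 2), (nat_lit 2), (nat_lit 0x11ccea9004bef8c97ab901000401004), (nat_lit 0), (nat_lit 0)⟩)) (BT.node (nat_lit 4683) (BT.leaf ⟨(nat_lit 2), (nat_lit 2), (nat_lit 2), (nat_lit 0x401f19d525f1cd002b9f1bd18015e8),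 (nat_lit 0), (nat_lit 0)⟩) (BT.leaf ⟨(nat_lit 2), (nat_lit 2), (nat_lit 2), (nat_lit 0x1297235460f946465f47365d1157746), (nat_lit 0), (nat_lit 0)⟩))) (BT.node (nat_lit 4686) (BT.node (nat_lit 4685) (BT.leaf ⟨(nat_lit 2), (nat_lit 2), (nat_lit 2), (nat_lit 0x3b53549cd8327f13cde93d2f9d25b1), (nat_lit 0), (nat_lit 0)⟩) (BT.leaf ⟨(nat_lit 2), (nat_lit 2), (nat_lit 2), (nat_lit 0x4fe476e4221043ce81242005154811), (nat_lit 0), (nat_lit 0)⟩)) (BT.node (nat_lit 4687) (BT.leaf ⟨(nat_lit 4), (nat_lit 926), (nat_lit 0), (nat_lit 0x4010049ee740052f88025e043c6c73), (nat_lit 0), (nat_lit 0)⟩) (BT.leaf ⟨(nat_lit 4), (nat_lit 726), (nat_lit 0), (nat_lit 0x15ce388edce666eae47b8c6ffb16473), (nat_lit 0), (nat_lit 0)⟩))))) (BT.node (nat_lit 4696) (BT.node (nat_lit 4692) (BT.node (nat_lit 4690) (BT.node (nat_lit 4689) (BT.leaf ⟨(nat_lit 4), (nat_lit 570), (nat_lit 0), (nat_lit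 0x620824f020140481108c60c247210), (nat_lit 0), (nat_lit 0)⟩) (BT.leaf ⟨(nat_lit 4), (nat_lit 571), (nat_lit 0), (nat_lit 0x29f0a02005270115ea08401a3892d), (nat_lit 0), (nat_lit 0)⟩)) (BT.node (nat_lit 4691) (BT.leaf ⟨(nat_lit 4), (nat_lit 727), (nat_lit 0), (nat_lit 0x16a3bd4332debe50f848085f3520040), (nat_lit 0), (nat_lit 0)⟩) (BT.leaf ⟨(nat_lit 4), (nat_lit 951), (nat_lit 0), (nat_lit 0x182ff1be359878e3777d2b4f89f0bc3), (nat_lit 0), (nat_lit 0)⟩))) (BT.node (nat_lit 4694) (BT.node (nat_lit 4693) (BT.leaf ⟨(nat_lit 4), (nat_lit 1188), (nat_lit 0), (nat_lit 0x189e26abb532db3657512b4af55cb96), (nat_lit 0), (nat_lit 0)⟩) (BT.leaf ⟨(nat_lit 4), (nat_lit 1093), (nat_lit 0), (nat_lit 0x2799d52f84100202600bab203f1b8d), (nat_lit 0), (nat_lit 0)⟩)) (BT.node (nat_lit 4695) (BT.leaf ⟨(nat_lit 4), (nat_lit 825), (nat_lit 0), (nat_lit 0xf54e2a36cb0354ebd4bbaa7507d1f5),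 (nat_lit 0), (nat_lit 0)⟩) (BT.leaf ⟨(nat_lit 4), (nat_lit 659), (nat_lit 0), (nat_lit 0x90383044f9b1010f8482de108a03a3), (nat_lit 0), (nat_lit 0)⟩)))) (BT.node (nat_lit 4700) (BT.node (nat_lit 4698) (BT.node (nat_lit 4697) (BT.leaf ⟨(nat_lit 4), (nat_lit 494), (nat_lit 0), (nat_lit 0x49c7d02f5996c487b2f2de6bc95ea2), (nat_lit 0), (nat_lit 0)⟩) (BT.leaf ⟨(nat_lit 4), (nat_lit 493), (nat_lit 0), (nat_lit 0xac5548e62b4be76575157aa6713bb9), (nat_lit 0), (nat_lit 0)⟩)) (BT.node (nat_lit 4699) (BT.leaf ⟨(nat_lit 4), (nat_lit 658), (nat_lit 0), (nat_lit 0x17b095c9a208813c480c57a0192dbe7), (nat_lit 0), (nat_lit 0)⟩) (BT.leaf ⟨(nat_lit 4), (nat_lit 824), (nat_lit 0), (nat_lit 0xb4b77b49c7560f9df3aaca2de9d3a4), (nat_lit 0), (nat_lit 0)⟩))) (BT.node (nat_lit 4702) (BT.node (nat_lit 4701) (BT.leaf ⟨(nat_lit 4), (nat_lit 1092), (nat_lit 0), (nat_lit 0x97d2d85fd8295cde7b7aca9ff1635f),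 (nat_lit 0), (nat_lit 0)⟩) (BT.leaf ⟨(nat_lit 4), (nat_lit 1635), (nat_lit 0), (nat_lit 0x15952ba1f3789782fa5bf6f2af60dd2), (nat_lit 0), (nat_lit 0)⟩)) (BT.node (nat_lit 4703) (BT.leaf ⟨(nat_lit 4), (nat_lit 1956), (nat_lit 0), (nat_lit 0x17b2fc1764cb722b42d2f6f7aad460b), (nat_lit 0), (nat_lit 0)⟩) (BT.leaf ⟨(nat_lit 4), (nat_lit 2429), (nat_lit 0), (nat_lit 0x323dbebf0a12005009050ac52ba08), (nat_lit 0), (nat_lit 0)⟩)))))) (BT.node (nat_lit 4720) (BT.node (nat_lit 4712) (BT.node (nat_lit 4708) (BT.node (nat_lit 4706) (BT.node (nat_lit 4705) (BT.leaf ⟨(nat_lit 4), (nat_lit 2772), (nat_lit 0), (nat_lit 0x8487a7f4404825f024051b51e1fad), (nat_lit 0), (nat_lit 0)⟩) (BT.leaf ⟨(nat_lit 4), (nat_lit 1950), (nat_lit 0), (nat_lit 0xae42049e0090012fa00e75e34016f4), (nat_lit 0), (nat_lit 0)⟩)) (BT.node (nat_lit 4707) (BT.leaf ⟨(nat_lit 4), (nat_lit 2421), (nat_lit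 0), (nat_lit 0x8e4aae7410820b869af900283dd363), (nat_lit 0), (nat_lit 0)⟩) (BT.leaf ⟨(nat_lit 4), (nat_lit 2767), (nat_lit 0), (nat_lit 0x14be8033afc67a04f6b99010057a404), (nat_lit 0), (nat_lit 0)⟩))) (BT.node (nat_lit 4710) (BT.node (nat_lit 4709) (BT.leaf ⟨(nat_lit 4), (nat_lit 3163), (nat_lit 0), (nat_lit 0x19a7ab0cb94bf199af4e364f615707c), (nat_lit 0), (nat_lit 0)⟩) (BT.leaf ⟨(nat_lit 4), (nat_lit 158), (nat_lit 0), (nat_lit 0x108202408801217cf061801826f16f), (nat_lit 0), (nat_lit 0)⟩)) (BT.node (nat_lit 4711) (BT.leaf ⟨(nat_lit 4), (nat_lit 222), (nat_lit 0), (nat_lit 0x1f1ab441e35e55440882180b7d40480), (nat_lit 0), (nat_lit 0)⟩) (BT.leaf ⟨(nat_lit 4), (nat_lit 287), (nat_lit 0), (nat_lit 0xcd631ecaab90ceb9b49ce71cad30ed), (nat_lit 0), (nat_lit 0)⟩)))) (BT.node (nat_lit 4716) (BT.node (nat_lit 4714) (BT.node (nat_lit 4713) (BT.leaf ⟨(nat_lit 4),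 (nat_lit 396), (nat_lit 0), (nat_lit 0x14e9403d5d3c80b00546ce68805cb2f), (nat_lit 0), (nat_lit 0)⟩) (BT.leaf ⟨(nat_lit 4), (nat_lit 500), (nat_lit 0), (nat_lit 0x1ca80a13f91caa418050025e7631910), (nat_lit 0), (nat_lit 0)⟩)) (BT.node (nat_lit 4715) (BT.leaf ⟨(nat_lit 4), (nat_lit 223), (nat_lit 0), (nat_lit 0x775f5888013bf10400abc095c93c08), (nat_lit 0), (nat_lit 0)⟩) (BT.leaf ⟨(nat_lit 4), (nat_lit 638), (nat_lit 0), (nat_lit 0x21f1a00bd02024f0028e610002010), (nat_lit 0), (nat_lit 0)⟩))) (BT.node (nat_lit 4718) (BT.node (nat_lit 4717) (BT.leaf ⟨(nat_lit 4), (nat_lit 792), (nat_lit 0), (nat_lit 0x11c7654778c78b1a4c7b8e6cd73999b), (nat_lit 0), (nat_lit 0)⟩) (BT.leaf ⟨(nat_lit 4), (nat_lit 1060), (nat_lit 0), (nat_lit 0xf87f1e0b7e678e52b63378f89f1f7d), (nat_lit 0), (nat_lit 0)⟩)) (BT.node (nat_lit 4719) (BT.leaf ⟨(nat_lit 4), (nat_lit 1283), (nat_lit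 0), (nat_lit 0xb7ee925fd82e292da5d37887fdba4f), (nat_lit 0), (nat_lit 0)⟩) (BT.leaf ⟨(nat_lit 4), (nat_lit 1330), (nat_lit 0), (nat_lit 0x603fa646b3cb8c9002f9d04106a900), (nat_lit 0), (nat_lit 0)⟩))))) (BT.node (nat_lit 4728) (BT.node (nat_lit 4724) (BT.node (nat_lit 4722) (BT.node (nat_lit 4721) (BT.leaf ⟨(nat_lit 4), (nat_lit 1697), (nat_lit 0), (nat_lit 0x131fdbc3dbd17aafc5689d17a557176), (nat_lit 0), (nat_lit 0)⟩) (BT.leaf ⟨(nat_lit 4), (nat_lit 2036), (nat_lit 0), (nat_lit 0x1f6e26a6ade86cb7ad17dec73bfa6d4), (nat_lit 0), (nat_lit 0)⟩)) (BT.node (nat_lit 4723) (BT.leaf ⟨(nat_lit 4), (nat_lit 2365), (nat_lit 0), (nat_lit 0xf8638902044028eb92ddec01a4e002), (nat_lit 0), (nat_lit 0)⟩) (BT.leaf ⟨(nat_lit 4), (nat_lit 2366), (nat_lit 0), (nat_lit 0x568732b953389d5edff562be626ab8), (nat_lit 0), (nat_lit 0)⟩))) (BT.node (nat_lit 4726) (BT.node (nat_lit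 4725) (BT.leaf ⟨(nat_lit 4), (nat_lit 2731), (nat_lit 0), (nat_lit 0x1d3a046fc012820843eb563cc804028), (nat_lit 0), (nat_lit 0)⟩) (BT.leaf ⟨(nat_lit 4), (nat_lit 3131), (nat_lit 0), (nat_lit 0xab932decbd3d46fc568bd13a3f431c), (nat_lit 0), (nat_lit 0)⟩)) (BT.node (nat_lit 4727) (BT.leaf ⟨(nat_lit 4), (nat_lit 3364), (nat_lit 0), (nat_lit 0x20004200de8f8c10746bd010002001), (nat_lit 0), (nat_lit 0)⟩) (BT.leaf ⟨(nat_lit 4), (nat_lit 3573), (nat_lit 0), (nat_lit 0x20a01012ded7a8eb92d00c089f0a02), (nat_lit 0), (nat_lit 0)⟩)))) (BT.node (nat_lit 4732) (BT.node (nat_lit 4730) (BT.node (nat_lit 4729) (BT.leaf ⟨(nat_lit 4), (nat_lit 3695), (nat_lit 0), (nat_lit 0x4ac023e7409d080288400c4100a6f0), (nat_lit 0), (nat_lit 0)⟩) (BT.leaf ⟨(nat_lit 4), (nat_lit 3678), (nat_lit 0), (nat_lit 0xdc12bb8a0be976b2ec149e97a8c9bc), (nat_lit 0), (nat_lit 0)⟩)) (BT.node (nat_lit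 4731) (BT.leaf ⟨(nat_lit 4), (nat_lit 3539), (nat_lit 0), (nat_lit 0x12380a7567e62437213f49e0c0e2a10), (nat_lit 0), (nat_lit 0)⟩) (BT.leaf ⟨(nat_lit 4), (nat_lit 3327), (nat_lit 0), (nat_lit 0xc4fc68b78dd74be6d34cb05e7868cb), (nat_lit 0), (nat_lit 0)⟩))) (BT.node (nat_lit 4734) (BT.node (nat_lit 4733) (BT.leaf ⟨(nat_lit 4), (nat_lit 3049), (nat_lit 0), (nat_lit 0xdb0e2955d263e9ead4bcb075377a36), (nat_lit 0), (nat_lit 0)⟩) (BT.leaf ⟨(nat_lit 4), (nat_lit 2664), (nat_lit 0), (nat_lit 0x1ae60244068ce36801e867580297c80), (nat_lit 0), (nat_lit 0)⟩)) (BT.node (nat_lit 4735) (BT.leaf ⟨(nat_lit 4), (nat_lit 2271), (nat_lit 0), (nat_lit 0xb4b77e15f74e926cd8367473bbd07c), (nat_lit 0), (nat_lit 0)⟩) (BT.leaf ⟨(nat_lit 4), (nat_lit 2270), (nat_lit 0), (nat_lit 0x17800c1081110201400a090fae4b127), (nat_lit 0), (nat_lit 0)⟩)))))))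
noncomputable def cP4672 : BT Pf := (BT.node (nat_lit 4704) (BT.node (nat_lit 4688) (BT.node (nat_lit 4680) (BT.node (nat_lit 4676) (BT.node (nat_lit 4674) (BT.node (nat_lit 4673) (BT.leaf (.pt (nat_lit 4671) (nat_lit 1))) (BT.leaf (.pt (nat_lit 4672) (nat_lit 4)))) (BT.node (nat_lit 4675) (BT.leaf (.pt (nat_lit 4673) (nat_lit 1))) (BT.leaf (.pt (nat_lit 4674) (nat_lit 4))))) (BT.node (nat_lit 4678) (BT.node (nat_lit 4677) (BT.leaf (.pt (nat_lit 4675) (nat_lit 1))) (BT.leaf (.pt (nat_lit 4676) (nat_lit 3)))) (BT.node (nat_lit 4679) (BT.leaf (.pt (nat_lit 4677) (nat_lit 1))) (BT.leaf (.pt (nat_lit 4678) (nat_lit 4)))))) (BT.node (nat_lit 4684) (BT.node (nat_lit 4682) (BT.node (nat_lit 4681) (BT.leaf (.cov [] [⟨(nat_lit 113), (nat_lit 4484), []⟩, ⟨(nat_lit 251), (nat_lit 4532), [(nat_lit 1600), (nat_lit 556)]⟩, ⟨(nat_lit 262), (nat_lit 4577), [(nat_lit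 1106), (nat_lit 162)]⟩, ⟨(nat_lit 286), (nat_lit 4534), [(nat_lit 226), (nat_lit 877)]⟩, ⟨(nat_lit 297), (nat_lit 4598), [(nat_lit 207), (nat_lit 694)]⟩, ⟨(nat_lit 309), (nat_lit 4601), [(nat_lit 178), (nat_lit 224)]⟩, ⟨(nat_lit 366), (nat_lit 4602), [(nat_lit 673), (nat_lit 1849)]⟩, ⟨(nat_lit 383), (nat_lit 4575), [(nat_lit 258), (nat_lit 1605)]⟩, ⟨(nat_lit 535), (nat_lit 4623), [(nat_lit 902), (nat_lit 269)]⟩, ⟨(nat_lit 560), (nat_lit 4631), [(nat_lit 865), (nat_lit 808)]⟩, ⟨(nat_lit 577), (nat_lit 4642), [(nat_lit 782), (nat_lit 585)]⟩, ⟨(nat_lit 589), (nat_lit 4486), []⟩, ⟨(nat_lit 723), (nat_lit 4604), []⟩, ⟨(nat_lit 731), (nat_lit 4502), [(nat_lit 260), (nat_lit 398)]⟩, ⟨(nat_lit 769), (nat_lit 4535), []⟩, ⟨(nat_lit 1002), (nat_lit 4655), [(nat_lit 957), (nat_lit 328)]⟩, ⟨(nat_lit 1111), (nat_lit 4666), [(nat_lit 630), (nat_lit 263)]⟩, ⟨(nat_lit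 1389), (nat_lit 4679), [(nat_lit 1032), (nat_lit 1605)]⟩, ⟨(nat_lit 1820), (nat_lit 4488), []⟩, ⟨(nat_lit 2164), (nat_lit 4536), []⟩])) (BT.leaf (.emul [(nat_lit 131), (nat_lit 143)]))) (BT.node (nat_lit 4683) (BT.leaf (.emul [(nat_lit 210), (nat_lit 4681)])) (BT.leaf (.emul [(nat_lit 168), (nat_lit 4682)])))) (BT.node (nat_lit 4686) (BT.node (nat_lit 4685) (BT.leaf (.emul [(nat_lit 452), (nat_lit 4683)])) (BT.leaf (.emul [(nat_lit 143), (nat_lit 453)]))) (BT.node (nat_lit 4687) (BT.leaf (.pt (nat_lit 4577) (nat_lit 1))) (BT.leaf (.pt (nat_lit 4554) (nat_lit 4))))))) (BT.node (nat_lit 4696) (BT.node (nat_lit 4692) (BT.node (nat_lit 4690) (BT.node (nat_lit 4689) (BT.leaf (.pt (nat_lit 4687) (nat_lit 1))) (BT.leaf (.pt (nat_lit 4688) (nat_lit 3)))) (BT.node (nat_lit 4691) (BT.leaf (.pt (nat_lit 4689) (nat_lit 1))) (BT.leaf (.pt (nat_lit 4690) (nat_lit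 3))))) (BT.node (nat_lit 4694) (BT.node (nat_lit 4693) (BT.leaf (.pt (nat_lit 4691) (nat_lit 1))) (BT.leaf (.pt (nat_lit 4692) (nat_lit 3)))) (BT.node (nat_lit 4695) (BT.leaf (.pt (nat_lit 4693) (nat_lit 1))) (BT.leaf (.pt (nat_lit 4694) (nat_lit 4)))))) (BT.node (nat_lit 4700) (BT.node (nat_lit 4698) (BT.node (nat_lit 4697) (BT.leaf (.pt (nat_lit 4695) (nat_lit 1))) (BT.leaf (.pt (nat_lit 4696) (nat_lit 4)))) (BT.node (nat_lit 4699) (BT.leaf (.pt (nat_lit 4697) (nat_lit 1))) (BT.leaf (.pt (nat_lit 4698) (nat_lit 4))))) (BT.node (nat_lit 4702) (BT.node (nat_lit 4701) (BT.leaf (.pt (nat_lit 4699) (nat_lit 1))) (BT.leaf (.pt (nat_lit 4668) (nat_lit 3)))) (BT.node (nat_lit 4703) (BT.leaf (.pt (nat_lit 4701) (nat_lit 1))) (BT.leaf (.pt (nat_lit 4702) (nat_lit 3)))))))) (BT.node (nat_lit 4720) (BT.node (nat_lit 4712) (BT.node (nat_lit 4708) (BT.node (nat_lit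 4706) (BT.node (nat_lit 4705) (BT.leaf (.pt (nat_lit 4703) (nat_lit 1))) (BT.leaf (.pt (nat_lit 4508) (nat_lit 1)))) (BT.node (nat_lit 4707) (BT.leaf (.pt (nat_lit 4705) (nat_lit 3))) (BT.leaf (.pt (nat_lit 4706) (nat_lit 1))))) (BT.node (nat_lit 4710) (BT.node (nat_lit 4709) (BT.leaf (.pt (nat_lit 4707) (nat_lit 4))) (BT.leaf (.pt (nat_lit 4531) (nat_lit 3)))) (BT.node (nat_lit 4711) (BT.leaf (.pt (nat_lit 4709) (nat_lit 1))) (BT.leaf (.pt (nat_lit 4710) (nat_lit 4)))))) (BT.node (nat_lit 4716) (BT.node (nat_lit 4714) (BT.node (nat_lit 4713) (BT.leaf (.pt (nat_lit 4711) (nat_lit 1))) (BT.leaf (.pt (nat_lit 4712) (nat_lit 3)))) (BT.node (nat_lit 4715) (BT.leaf (.pt (nat_lit 4532) (nat_lit 1))) (BT.leaf (.pt (nat_lit 4581) (nat_lit 3))))) (BT.node (nat_lit 4718) (BT.node (nat_lit 4717) (BT.leaf (.pt (nat_lit 4715) (nat_lit 1))) (BT.leaf (.pt (nat_lit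 4716) (nat_lit 3)))) (BT.node (nat_lit 4719) (BT.leaf (.pt (nat_lit 4717) (nat_lit 1))) (BT.leaf (.pt (nat_lit 4718) (nat_lit 4))))))) (BT.node (nat_lit 4728) (BT.node (nat_lit 4724) (BT.node (nat_lit 4722) (BT.node (nat_lit 4721) (BT.leaf (.pt (nat_lit 4719) (nat_lit 1))) (BT.leaf (.pt (nat_lit 4720) (nat_lit 3)))) (BT.node (nat_lit 4723) (BT.leaf (.pt (nat_lit 4721) (nat_lit 1))) (BT.leaf (.pt (nat_lit 4722) (nat_lit 3))))) (BT.node (nat_lit 4726) (BT.node (nat_lit 4725) (BT.leaf (.pt (nat_lit 4723) (nat_lit 1))) (BT.leaf (.pt (nat_lit 4724) (nat_lit 4)))) (BT.node (nat_lit 4727) (BT.leaf (.pt (nat_lit 4725) (nat_lit 1))) (BT.leaf (.pt (nat_lit 4726) (nat_lit 4)))))) (BT.node (nat_lit 4732) (BT.node (nat_lit 4730) (BT.node (nat_lit 4729) (BT.leaf (.pt (nat_lit 4727) (nat_lit 1))) (BT.leaf (.pt (nat_lit 4728) (nat_lit 4)))) (BT.node (nat_lit 4731)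 (BT.leaf (.pt (nat_lit 4729) (nat_lit 1))) (BT.leaf (.pt (nat_lit 4730) (nat_lit 4))))) (BT.node (nat_lit 4734) (BT.node (nat_lit 4733) (BT.leaf (.pt (nat_lit 4731) (nat_lit 1))) (BT.leaf (.pt (nat_lit 4732) (nat_lit 4)))) (BT.node (nat_lit 4735) (BT.leaf (.pt (nat_lit 4733) (nat_lit 1))) (BT.leaf (.pt (nat_lit 4734) (nat_lit 4)))))))))
noncomputable def cF4736 : BT Fc := (BT.node (nat_lit 4768) (BT.node (nat_lit 4752) (BT.node (nat_lit 4744) (BT.node (nat_lit 4740) (BT.node (nat_lit 4738) (BT.node (nat_lit 4737) (BT.leaf ⟨(nat_lit 4), (nat_lit 2663), (nat_lit 0), (nat_lit 0x10bbd4de2debe7835a8090900a00c0), (nat_lit 0), (nat_lit 0)⟩) (BT.leaf ⟨(nat_lit 4), (nat_lit 2538), (nat_lit 0), (nat_lit 0x8ea82025e02000a5f201d195cc9e), (nat_lit 0), (nat_lit 0)⟩)) (BT.node (nat_lit 4739) (BT.leaf ⟨(nat_lit 4), (nat_lit 29), (nat_lit 0), (nat_lit 0x118da4c77ab98b3c86ca50f5ce39c53),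 (nat_lit 0), (nat_lit 0)⟩) (BT.leaf ⟨(nat_lit 4), (nat_lit 40), (nat_lit 0), (nat_lit 0x11375a6f4da8bd1356e450fbf3787db), (nat_lit 0), (nat_lit 0)⟩))) (BT.node (nat_lit 4742) (BT.node (nat_lit 4741) (BT.leaf ⟨(nat_lit 4), (nat_lit 50), (nat_lit 0), (nat_lit 0x160c3e615e35cfb995656742dda4cd9), (nat_lit 0), (nat_lit 0)⟩) (BT.leaf ⟨(nat_lit 4), (nat_lit 68), (nat_lit 0), (nat_lit 0x197f00073fc7006006b967540297c20), (nat_lit 0), (nat_lit 0)⟩)) (BT.node (nat_lit 4743) (BT.leaf ⟨(nat_lit 4), (nat_lit 89), (nat_lit 0), (nat_lit 0xb7eb40886c7ee8aa88235e20040cf3), (nat_lit 0), (nat_lit 0)⟩) (BT.leaf ⟨(nat_lit 4), (nat_lit 125), (nat_lit 0), (nat_lit 0x4b69792eab8e5887b7035fa8893acc), (nat_lit 0), (nat_lit 0)⟩)))) (BT.node (nat_lit 4748) (BT.node (nat_lit 4746) (BT.node (nat_lit 4745) (BT.leaf ⟨(nat_lit 4), (nat_lit 163), (nat_lit 0), (nat_lit 0x1bda7a72150f9d1356e4df9b5226ef5),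 (nat_lit 0), (nat_lit 0)⟩) (BT.leaf ⟨(nat_lit 4), (nat_lit 226), (nat_lit 0), (nat_lit 0x6093ab101295df580adf8020eec7b), (nat_lit 0), (nat_lit 0)⟩)) (BT.node (nat_lit 4747) (BT.leaf ⟨(nat_lit 4), (nat_lit 295), (nat_lit 0), (nat_lit 0x1d59a33d8e8e6cb23742d272968cdff), (nat_lit 0), (nat_lit 0)⟩) (BT.leaf ⟨(nat_lit 4), (nat_lit 403), (nat_lit 0), (nat_lit 0x744eeb8a6d875ed31c5d267d6a59d4), (nat_lit 0), (nat_lit 0)⟩))) (BT.node (nat_lit 4750) (BT.node (nat_lit 4749) (BT.leaf ⟨(nat_lit 4), (nat_lit 513), (nat_lit 0), (nat_lit 0x17b263ce8ea2ab932ad22ec66ef57b7), (nat_lit 0), (nat_lit 0)⟩) (BT.leaf ⟨(nat_lit 4), (nat_lit 676), (nat_lit 0), (nat_lit 0xe92a5c9cd8323a4fc9a2eddf6cf627), (nat_lit 0), (nat_lit 0)⟩)) (BT.node (nat_lit 4751) (BT.leaf ⟨(nat_lit 4), (nat_lit 552), (nat_lit 0), (nat_lit 0x107840882f8ca01b1980473ee8d7f0d), (nat_lit 0), (nat_lit 0)⟩)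 (BT.leaf ⟨(nat_lit 4), (nat_lit 710), (nat_lit 0), (nat_lit 0xee57cb96a69ae765627472a655ddff), (nat_lit 0), (nat_lit 0)⟩))))) (BT.node (nat_lit 4760) (BT.node (nat_lit 4756) (BT.node (nat_lit 4754) (BT.node (nat_lit 4753) (BT.leaf ⟨(nat_lit 4), (nat_lit 922), (nat_lit 0), (nat_lit 0x400083e3f1a200026f40051ce0012f), (nat_lit 0), (nat_lit 0)⟩) (BT.leaf ⟨(nat_lit 4), (nat_lit 1165), (nat_lit 0), (nat_lit 0x1bd95dc0225b273a2102005ce1f0f8f), (nat_lit 0), (nat_lit 0)⟩)) (BT.node (nat_lit 4755) (BT.leaf ⟨(nat_lit 4), (nat_lit 1456), (nat_lit 0), (nat_lit 0xc72d45ec98f7a21ede0c16ab8bb1e8), (nat_lit 0), (nat_lit 0)⟩) (BT.leaf ⟨(nat_lit 4), (nat_lit 1804), (nat_lit 0), (nat_lit 0xfadf0f7dfc6b8e37517c17e41f3acc), (nat_lit 0), (nat_lit 0)⟩))) (BT.node (nat_lit 4758) (BT.node (nat_lit 4757) (BT.leaf ⟨(nat_lit 4), (nat_lit 2217), (nat_lit 0), (nat_lit 0x255c1d48037a410a0100be3080c9f),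 (nat_lit 0), (nat_lit 0)⟩) (BT.leaf ⟨(nat_lit 4), (nat_lit 2629), (nat_lit 0), (nat_lit 0x811f3904935bc09580c00bd08e8c04), (nat_lit 0), (nat_lit 0)⟩)) (BT.node (nat_lit 4759) (BT.leaf ⟨(nat_lit 4), (nat_lit 3014), (nat_lit 0), (nat_lit 0x2e4736b9c4edb2fff5189b60d5c299), (nat_lit 0), (nat_lit 0)⟩) (BT.leaf ⟨(nat_lit 4), (nat_lit 88), (nat_lit 0), (nat_lit 0x14678376694b9a723742e8fa4c3e74e), (nat_lit 0), (nat_lit 0)⟩)))) (BT.node (nat_lit 4764) (BT.node (nat_lit 4762) (BT.node (nat_lit 4761) (BT.leaf ⟨(nat_lit 4), (nat_lit 124), (nat_lit 0), (nat_lit 0x1440f3b01200e3925ee8fe3010be2), (nat_lit 0), (nat_lit 0)⟩) (BT.leaf ⟨(nat_lit 4), (nat_lit 160), (nat_lit 0), (nat_lit 0x111203a3090183e696f08537b83140), (nat_lit 0), (nat_lit 0)⟩)) (BT.node (nat_lit 4763) (BT.leaf ⟨(nat_lit 4), (nat_lit 224), (nat_lit 0), (nat_lit 0x4b77b74420404b9c00608475df080a), (nat_lit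 0), (nat_lit 0)⟩) (BT.leaf ⟨(nat_lit 4), (nat_lit 291), (nat_lit 0), (nat_lit 0x14bcf438da01102006b9fc6cea08346), (nat_lit 0), (nat_lit 0)⟩))) (BT.node (nat_lit 4766) (BT.node (nat_lit 4765) (BT.leaf ⟨(nat_lit 4), (nat_lit 400), (nat_lit 0), (nat_lit 0x569f0bf394af9df5accfc7df6372e3), (nat_lit 0), (nat_lit 0)⟩) (BT.leaf ⟨(nat_lit 4), (nat_lit 508), (nat_lit 0), (nat_lit 0xae37a801e8f0063925ef1802402811), (nat_lit 0), (nat_lit 0)⟩)) (BT.node (nat_lit 4767) (BT.leaf ⟨(nat_lit 4), (nat_lit 672), (nat_lit 0), (nat_lit 0x174a37789f3ba8b46d34f182dfc68cb), (nat_lit 0), (nat_lit 0)⟩) (BT.leaf ⟨(nat_lit 4), (nat_lit 720), (nat_lit 0), (nat_lit 0x17d01673420805eaa20400c0197a04), (nat_lit 0), (nat_lit 0)⟩)))))) (BT.node (nat_lit 4784) (BT.node (nat_lit 4776) (BT.node (nat_lit 4772) (BT.node (nat_lit 4770) (BT.node (nat_lit 4769) (BT.leaf ⟨(nat_lit 4), (nat_lit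 563), (nat_lit 0), (nat_lit 0x83c692f008ae7a325f40002239810), (nat_lit 0), (nat_lit 0)⟩) (BT.leaf ⟨(nat_lit 4), (nat_lit 562), (nat_lit 0), (nat_lit 0x172305c3dbd9fa0bb5a8336abba8cc7), (nat_lit 0), (nat_lit 0)⟩)) (BT.node (nat_lit 4771) (BT.leaf ⟨(nat_lit 4), (nat_lit 719), (nat_lit 0), (nat_lit 0x10ce39ecaab98b231c533375ced3477), (nat_lit 0), (nat_lit 0)⟩) (BT.leaf ⟨(nat_lit 4), (nat_lit 859), (nat_lit 0), (nat_lit 0xe8db1be75988d9719e337936705f7d), (nat_lit 0), (nat_lit 0)⟩))) (BT.node (nat_lit 4774) (BT.node (nat_lit 4773) (BT.leaf ⟨(nat_lit 4), (nat_lit 1117), (nat_lit 0), (nat_lit 0x17e55fb7d8397c7321f3794652db70), (nat_lit 0), (nat_lit 0)⟩) (BT.leaf ⟨(nat_lit 4), (nat_lit 33), (nat_lit 0), (nat_lit 0x756f478d4be401f1880de80055c820), (nat_lit 0), (nat_lit 0)⟩)) (BT.node (nat_lit 4775) (BT.leaf ⟨(nat_lit 4), (nat_lit 44), (nat_lit 0), (nat_lit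 0x19d37b44dda8bd143f21de9bc0bccab), (nat_lit 0), (nat_lit 0)⟩) (BT.leaf ⟨(nat_lit 4), (nat_lit 58), (nat_lit 0), (nat_lit 0x15a263fb7b90996f64e83d16a2f460b), (nat_lit 0), (nat_lit 0)⟩)))) (BT.node (nat_lit 4780) (BT.node (nat_lit 4778) (BT.node (nat_lit 4777) (BT.leaf ⟨(nat_lit 4), (nat_lit 76), (nat_lit 0), (nat_lit 0x140208400fc6d1b5cc803d10072fc20), (nat_lit 0), (nat_lit 0)⟩) (BT.leaf ⟨(nat_lit 4), (nat_lit 105), (nat_lit 0), (nat_lit 0x167b4f49aefa5d9d2496d8389dec49e), (nat_lit 0), (nat_lit 0)⟩)) (BT.node (nat_lit 4779) (BT.leaf ⟨(nat_lit 4), (nat_lit 140), (nat_lit 0), (nat_lit 0x95f2fd194beb7d3fb5fd8287d2d9bc), (nat_lit 0), (nat_lit 0)⟩) (BT.leaf ⟨(nat_lit 4), (nat_lit 192), (nat_lit 0), (nat_lit 0x821011e3400811207e85019cf4f53a), (nat_lit 0), (nat_lit 0)⟩))) (BT.node (nat_lit 4782) (BT.node (nat_lit 4781) (BT.leaf ⟨(nat_lit 4), (nat_lit 95),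 (nat_lit 0), (nat_lit 0x11ca79bfe50f9cfc86caae757231c71), (nat_lit 0), (nat_lit 0)⟩) (BT.leaf ⟨(nat_lit 4), (nat_lit 130), (nat_lit 0), (nat_lit 0xee490110205402cf101ae641346ff4), (nat_lit 0), (nat_lit 0)⟩)) (BT.node (nat_lit 4783) (BT.leaf ⟨(nat_lit 4), (nat_lit 173), (nat_lit 0), (nat_lit 0x1d47dbe0bbd466ef05e84ca5d8f45f8), (nat_lit 0), (nat_lit 0)⟩) (BT.leaf ⟨(nat_lit 4), (nat_lit 236), (nat_lit 0), (nat_lit 0x1e3746b8df3be30bcd344cba8a3778f), (nat_lit 0), (nat_lit 0)⟩))))) (BT.node (nat_lit 4792) (BT.node (nat_lit 4788) (BT.node (nat_lit 4786) (BT.node (nat_lit 4785) (BT.leaf ⟨(nat_lit 4), (nat_lit 315), (nat_lit 0), (nat_lit 0x1d1bb374eeacabb49f0694a6cba3b46), (nat_lit 0), (nat_lit 0)⟩) (BT.leaf ⟨(nat_lit 4), (nat_lit 420), (nat_lit 0), (nat_lit 0xe8e373e2fc6569f0be394bdf5f5bf3), (nat_lit 0), (nat_lit 0)⟩)) (BT.node (nat_lit 4787) (BT.leaf ⟨(nat_lit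 4), (nat_lit 542), (nat_lit 0), (nat_lit 0x300c0155901f18422801102091c881), (nat_lit 0), (nat_lit 0)⟩) (BT.leaf ⟨(nat_lit 4), (nat_lit 702), (nat_lit 0), (nat_lit 0x821f5ab10120200c048111bf0eec08), (nat_lit 0), (nat_lit 0)⟩))) (BT.node (nat_lit 4790) (BT.node (nat_lit 4789) (BT.leaf ⟨(nat_lit 4), (nat_lit 905), (nat_lit 0), (nat_lit 0xc031d500202357fa6462000bcc0104), (nat_lit 0), (nat_lit 0)⟩) (BT.leaf ⟨(nat_lit 4), (nat_lit 1565), (nat_lit 0), (nat_lit 0xf9d71cd974782de1bf346ddf68bca5), (nat_lit 0), (nat_lit 0)⟩)) (BT.node (nat_lit 4791) (BT.leaf ⟨(nat_lit 4), (nat_lit 1895), (nat_lit 0), (nat_lit 0x714eaf21d2675db61d146c75377995), (nat_lit 0), (nat_lit 0)⟩) (BT.leaf ⟨(nat_lit 4), (nat_lit 1931), (nat_lit 0), (nat_lit 0x44346940c8d8e880ce8204c0171920), (nat_lit 0), (nat_lit 0)⟩)))) (BT.node (nat_lit 4796) (BT.node (nat_lit 4794) (BT.node (nat_lit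 4793) (BT.leaf ⟨(nat_lit 4), (nat_lit 1607), (nat_lit 0), (nat_lit 0x17a8413e104402b7b01220527021744), (nat_lit 0), (nat_lit 0)⟩) (BT.leaf ⟨(nat_lit 4), (nat_lit 1608), (nat_lit 0), (nat_lit 0x997c68cbf5bf35898b7f0affb46f8c), (nat_lit 0), (nat_lit 0)⟩)) (BT.node (nat_lit 4795) (BT.leaf ⟨(nat_lit 4), (nat_lit 1932), (nat_lit 0), (nat_lit 0x1cc89390801295df5de0f0a823a7028), (nat_lit 0), (nat_lit 0)⟩) (BT.leaf ⟨(nat_lit 4), (nat_lit 2392), (nat_lit 0), (nat_lit 0x1ce840020003d19000404beae7c6c9e), (nat_lit 0), (nat_lit 0)⟩))) (BT.node (nat_lit 4798) (BT.node (nat_lit 4797) (BT.leaf ⟨(nat_lit 4), (nat_lit 2194), (nat_lit 0), (nat_lit 0x87dc55d2d8296dafd654bf8b13fa5e), (nat_lit 0), (nat_lit 0)⟩) (BT.leaf ⟨(nat_lit 4), (nat_lit 2195), (nat_lit 0), (nat_lit 0x300d788183c28279fc61099d040280), (nat_lit 0), (nat_lit 0)⟩)) (BT.node (nat_lit 4799) (BT.leaf ⟨(nat_lit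 4), (nat_lit 2343), (nat_lit 0), (nat_lit 0x1d0803004408053c4844108af402c9a), (nat_lit 0), (nat_lit 0)⟩) (BT.leaf ⟨(nat_lit 4), (nat_lit 1893), (nat_lit 0), (nat_lit 0x19a47d5b165e4b9cb10f27eb30d7d5c), (nat_lit 0), (nat_lit 0)⟩)))))))
noncomputable def cP4736 : BT Pf := (BT.node (nat_lit 4768) (BT.node (nat_lit 4752) (BT.node (nat_lit 4744) (BT.node (nat_lit 4740) (BT.node (nat_lit 4738) (BT.node (nat_lit 4737) (BT.leaf (.pt (nat_lit 4735) (nat_lit 1))) (BT.leaf (.pt (nat_lit 4736) (nat_lit 4)))) (BT.node (nat_lit 4739) (BT.leaf (.pt (nat_lit 4491) (nat_lit 3))) (BT.leaf (.pt (nat_lit 4738) (nat_lit 1))))) (BT.node (nat_lit 4742) (BT.node (nat_lit 4741) (BT.leaf (.pt (nat_lit 4739) (nat_lit 3))) (BT.leaf (.pt (nat_lit 4740) (nat_lit 1)))) (BT.node (nat_lit 4743) (BT.leaf (.pt (nat_lit 4741) (nat_lit 4))) (BT.leaf (.pt (nat_lit 4742) (nat_lit 1))))))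 (BT.node (nat_lit 4748) (BT.node (nat_lit 4746) (BT.node (nat_lit 4745) (BT.leaf (.pt (nat_lit 4743) (nat_lit 4))) (BT.leaf (.pt (nat_lit 4744) (nat_lit 1)))) (BT.node (nat_lit 4747) (BT.leaf (.pt (nat_lit 4745) (nat_lit 4))) (BT.leaf (.pt (nat_lit 4746) (nat_lit 1))))) (BT.node (nat_lit 4750) (BT.node (nat_lit 4749) (BT.leaf (.pt (nat_lit 4747) (nat_lit 4))) (BT.leaf (.pt (nat_lit 4748) (nat_lit 1)))) (BT.node (nat_lit 4751) (BT.leaf (.pt (nat_lit 4620) (nat_lit 3))) (BT.leaf (.pt (nat_lit 4750) (nat_lit 1))))))) (BT.node (nat_lit 4760) (BT.node (nat_lit 4756) (BT.node (nat_lit 4754) (BT.node (nat_lit 4753) (BT.leaf (.pt (nat_lit 4751) (nat_lit 4))) (BT.leaf (.pt (nat_lit 4752) (nat_lit 1)))) (BT.node (nat_lit 4755) (BT.leaf (.pt (nat_lit 4753) (nat_lit 4))) (BT.leaf (.pt (nat_lit 4754) (nat_lit 1))))) (BT.node (nat_lit 4758) (BT.node (nat_lit 4757)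 (BT.leaf (.pt (nat_lit 4755) (nat_lit 4))) (BT.leaf (.pt (nat_lit 4756) (nat_lit 1)))) (BT.node (nat_lit 4759) (BT.leaf (.pt (nat_lit 4757) (nat_lit 3))) (BT.leaf (.pt (nat_lit 4741) (nat_lit 3)))))) (BT.node (nat_lit 4764) (BT.node (nat_lit 4762) (BT.node (nat_lit 4761) (BT.leaf (.pt (nat_lit 4759) (nat_lit 1))) (BT.leaf (.pt (nat_lit 4760) (nat_lit 3)))) (BT.node (nat_lit 4763) (BT.leaf (.pt (nat_lit 4761) (nat_lit 1))) (BT.leaf (.pt (nat_lit 4762) (nat_lit 4))))) (BT.node (nat_lit 4766) (BT.node (nat_lit 4765) (BT.leaf (.pt (nat_lit 4763) (nat_lit 1))) (BT.leaf (.pt (nat_lit 4764) (nat_lit 4)))) (BT.node (nat_lit 4767) (BT.leaf (.pt (nat_lit 4765) (nat_lit 1))) (BT.leaf (.pt (nat_lit 4766) (nat_lit 4)))))))) (BT.node (nat_lit 4784) (BT.node (nat_lit 4776) (BT.node (nat_lit 4772) (BT.node (nat_lit 4770) (BT.node (nat_lit 4769) (BT.leaf (.pt (nat_lit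 4767) (nat_lit 1))) (BT.leaf (.pt (nat_lit 4768) (nat_lit 4)))) (BT.node (nat_lit 4771) (BT.leaf (.pt (nat_lit 4769) (nat_lit 1))) (BT.leaf (.pt (nat_lit 4770) (nat_lit 3))))) (BT.node (nat_lit 4774) (BT.node (nat_lit 4773) (BT.leaf (.pt (nat_lit 4771) (nat_lit 1))) (BT.leaf (.pt (nat_lit 4604) (nat_lit 3)))) (BT.node (nat_lit 4775) (BT.leaf (.pt (nat_lit 4773) (nat_lit 1))) (BT.leaf (.pt (nat_lit 4774) (nat_lit 3)))))) (BT.node (nat_lit 4780) (BT.node (nat_lit 4778) (BT.node (nat_lit 4777) (BT.leaf (.pt (nat_lit 4775) (nat_lit 1))) (BT.leaf (.pt (nat_lit 4776) (nat_lit 4)))) (BT.node (nat_lit 4779) (BT.leaf (.pt (nat_lit 4777) (nat_lit 1))) (BT.leaf (.pt (nat_lit 4778) (nat_lit 3))))) (BT.node (nat_lit 4782) (BT.node (nat_lit 4781) (BT.leaf (.pt (nat_lit 4495) (nat_lit 4))) (BT.leaf (.pt (nat_lit 4780) (nat_lit 1)))) (BT.node (nat_lit 4783) (BT.leaf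 (.pt (nat_lit 4781) (nat_lit 4))) (BT.leaf (.pt (nat_lit 4782) (nat_lit 1))))))) (BT.node (nat_lit 4792) (BT.node (nat_lit 4788) (BT.node (nat_lit 4786) (BT.node (nat_lit 4785) (BT.leaf (.pt (nat_lit 4783) (nat_lit 4))) (BT.leaf (.pt (nat_lit 4784) (nat_lit 1)))) (BT.node (nat_lit 4787) (BT.leaf (.pt (nat_lit 4785) (nat_lit 4))) (BT.leaf (.pt (nat_lit 4786) (nat_lit 1))))) (BT.node (nat_lit 4790) (BT.node (nat_lit 4789) (BT.leaf (.pt (nat_lit 4787) (nat_lit 3))) (BT.leaf (.pt (nat_lit 4585) (nat_lit 3)))) (BT.node (nat_lit 4791) (BT.leaf (.pt (nat_lit 4789) (nat_lit 1))) (BT.leaf (.pt (nat_lit 4790) (nat_lit 3)))))) (BT.node (nat_lit 4796) (BT.node (nat_lit 4794) (BT.node (nat_lit 4793) (BT.leaf (.pt (nat_lit 4791) (nat_lit 1))) (BT.leaf (.pt (nat_lit 4792) (nat_lit 3)))) (BT.node (nat_lit 4795) (BT.leaf (.pt (nat_lit 4793) (nat_lit 1))) (BT.leaf (.pt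 (nat_lit 4794) (nat_lit 3))))) (BT.node (nat_lit 4798) (BT.node (nat_lit 4797) (BT.leaf (.pt (nat_lit 4795) (nat_lit 1))) (BT.leaf (.pt (nat_lit 4796) (nat_lit 3)))) (BT.node (nat_lit 4799) (BT.leaf (.pt (nat_lit 4797) (nat_lit 1))) (BT.leaf (.pt (nat_lit 4798) (nat_lit 3)))))))))
noncomputable def cF4800 : BT Fc := (BT.node (nat_lit 4832) (BT.node (nat_lit 4816) (BT.node (nat_lit 4808) (BT.node (nat_lit 4804) (BT.node (nat_lit 4802) (BT.node (nat_lit 4801) (BT.leaf ⟨(nat_lit 4), (nat_lit 1562), (nat_lit 0), (nat_lit 0xc00c0908c77e00875627fb9247210), (nat_lit 0), (nat_lit 0)⟩) (BT.leaf ⟨(nat_lit 4), (nat_lit 1561), (nat_lit 0), (nat_lit 0x9ff2f8e6c58dc1afd65d8297fdbadf), (nat_lit 0), (nat_lit 0)⟩)) (BT.node (nat_lit 4803) (BT.leaf ⟨(nat_lit 4), (nat_lit 172), (nat_lit 0), (nat_lit 0x8e7dd674105c344228090022279b63), (nat_lit 0), (nat_lit 0)⟩) (BT.leaf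 ⟨(nat_lit 4), (nat_lit 235), (nat_lit 0), (nat_lit 0x1800f4073fc7002086b99014bd7a402), (nat_lit 0), (nat_lit 0)⟩))) (BT.node (nat_lit 4806) (BT.node (nat_lit 4805) (BT.leaf ⟨(nat_lit 4), (nat_lit 313), (nat_lit 0), (nat_lit 0x151a8cf4294bf1b49f06365d5ba3335), (nat_lit 0), (nat_lit 0)⟩) (BT.leaf ⟨(nat_lit 4), (nat_lit 418), (nat_lit 0), (nat_lit 0x1ad17a6f450f1377b4f4365bf378517), (nat_lit 0), (nat_lit 0)⟩)) (BT.node (nat_lit 4807) (BT.leaf ⟨(nat_lit 4), (nat_lit 537), (nat_lit 0), (nat_lit 0x87d3f9bcc5896d2badf1cdb068cb8a), (nat_lit 0), (nat_lit 0)⟩) (BT.leaf ⟨(nat_lit 4), (nat_lit 697), (nat_lit 0), (nat_lit 0x8e5dcdff6d8ae15caf91ccaa4ad6ca), (nat_lit 0), (nat_lit 0)⟩)))) (BT.node (nat_lit 4812) (BT.node (nat_lit 4810) (BT.node (nat_lit 4809) (BT.leaf ⟨(nat_lit 4), (nat_lit 896), (nat_lit 0), (nat_lit 0x1ee969732ddf5970a8b79b3ceb9d87c), (nat_lit 0),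 (nat_lit 0)⟩) (BT.leaf ⟨(nat_lit 4), (nat_lit 1143), (nat_lit 0), (nat_lit 0x11b8ad3e294ae8fc83639b3df5f5a36), (nat_lit 0), (nat_lit 0)⟩)) (BT.node (nat_lit 4811) (BT.leaf ⟨(nat_lit 4), (nat_lit 1420), (nat_lit 0), (nat_lit 0x5e7fa7db36473b7b4f4df8a1f5a6f5), (nat_lit 0), (nat_lit 0)⟩) (BT.leaf ⟨(nat_lit 4), (nat_lit 1771), (nat_lit 0), (nat_lit 0x821f5848012220eef85df802093f4e), (nat_lit 0), (nat_lit 0)⟩))) (BT.node (nat_lit 4814) (BT.node (nat_lit 4813) (BT.leaf ⟨(nat_lit 4), (nat_lit 2161), (nat_lit 0), (nat_lit 0xc02806462020bc8063a300443fa102), (nat_lit 0), (nat_lit 0)⟩) (BT.leaf ⟨(nat_lit 4), (nat_lit 2593), (nat_lit 0), (nat_lit 0x1ee850674104210602803013cfe3081), (nat_lit 0), (nat_lit 0)⟩)) (BT.node (nat_lit 4815) (BT.leaf ⟨(nat_lit 4), (nat_lit 2972), (nat_lit 0), (nat_lit 0xb4ba8de8bd53a0bb7b755d6a2f631c), (nat_lit 0), (nat_lit 0)⟩) (BT.leaf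 ⟨(nat_lit 4), (nat_lit 3039), (nat_lit 0), (nat_lit 0x1467e374236551ba387c55dd5ba3744), (nat_lit 0), (nat_lit 0)⟩))))) (BT.node (nat_lit 4824) (BT.node (nat_lit 4820) (BT.node (nat_lit 4818) (BT.node (nat_lit 4817) (BT.leaf ⟨(nat_lit 4), (nat_lit 2733), (nat_lit 0), (nat_lit 0x398ad2bb89aae554bb9172db3a8e27), (nat_lit 0), (nat_lit 0)⟩) (BT.leaf ⟨(nat_lit 4), (nat_lit 2375), (nat_lit 0), (nat_lit 0xc01047e8d3d6350205f172901014f4), (nat_lit 0), (nat_lit 0)⟩)) (BT.node (nat_lit 4819) (BT.leaf ⟨(nat_lit 4), (nat_lit 2376), (nat_lit 0), (nat_lit 0xb8db1d17efaf85d1be38dde40ad3f3), (nat_lit 0), (nat_lit 0)⟩) (BT.leaf ⟨(nat_lit 4), (nat_lit 2127), (nat_lit 0), (nat_lit 0x1e35c6d34f3ba8932e8d8dd960bcb13), (nat_lit 0), (nat_lit 0)⟩))) (BT.node (nat_lit 4822) (BT.node (nat_lit 4821) (BT.leaf ⟨(nat_lit 4), (nat_lit 1753), (nat_lit 0), (nat_lit 0x1d1bb3706ead297a387c364abb34dff),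 (nat_lit 0), (nat_lit 0)⟩) (BT.leaf ⟨(nat_lit 4), (nat_lit 1400), (nat_lit 0), (nat_lit 0x738bcfdb89bfd1356f4364a1f5a6e4), (nat_lit 0), (nat_lit 0)⟩)) (BT.node (nat_lit 4823) (BT.leaf ⟨(nat_lit 4), (nat_lit 2162), (nat_lit 0), (nat_lit 0x8814c822043b501802421e7d450060), (nat_lit 0), (nat_lit 0)⟩) (BT.leaf ⟨(nat_lit 4), (nat_lit 2594), (nat_lit 0), (nat_lit 0x4ac939af2dfa8b34b2f21f5709692e), (nat_lit 0), (nat_lit 0)⟩)))) (BT.node (nat_lit 4828) (BT.node (nat_lit 4826) (BT.node (nat_lit 4825) (BT.leaf ⟨(nat_lit 4), (nat_lit 2971), (nat_lit 0), (nat_lit 0xcebf1c01804d1839d2f80827a80400), (nat_lit 0), (nat_lit 0)⟩) (BT.leaf ⟨(nat_lit 4), (nat_lit 3159), (nat_lit 0), (nat_lit 0x4aef610400896f7873e80805002806), (nat_lit 0), (nat_lit 0)⟩)) (BT.node (nat_lit 4827) (BT.leaf ⟨(nat_lit 4), (nat_lit 2761), (nat_lit 0), (nat_lit 0xb31e1be17c6f89f9ca53788dbf1f90),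 (nat_lit 0), (nat_lit 0)⟩) (BT.leaf ⟨(nat_lit 4), (nat_lit 2412), (nat_lit 0), (nat_lit 0x14652be5fc59749afb70379b052ea5f), (nat_lit 0), (nat_lit 0)⟩))) (BT.node (nat_lit 4830) (BT.node (nat_lit 4829) (BT.leaf ⟨(nat_lit 4), (nat_lit 1975), (nat_lit 0), (nat_lit 0x1d9ae40208a608a5f021f5a181e1830), (nat_lit 0), (nat_lit 0)⟩) (BT.leaf ⟨(nat_lit 4), (nat_lit 1655), (nat_lit 0), (nat_lit 0x1e3386c6ef3b635c68cbf5b963c6bfe), (nat_lit 0), (nat_lit 0)⟩)) (BT.node (nat_lit 4831) (BT.leaf ⟨(nat_lit 4), (nat_lit 1286), (nat_lit 0), (nat_lit 0x155ec9a0280937873e009011023e7), (nat_lit 0), (nat_lit 0)⟩) (BT.leaf ⟨(nat_lit 4), (nat_lit 1064), (nat_lit 0), (nat_lit 0x1cebc6a007c7d1a398010081024f010), (nat_lit 0), (nat_lit 0)⟩)))))) (BT.node (nat_lit 4848) (BT.node (nat_lit 4840) (BT.node (nat_lit 4836) (BT.node (nat_lit 4834) (BT.node (nat_lit 4833) (BT.leaf ⟨(nat_lit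 4), (nat_lit 1065), (nat_lit 0), (nat_lit 0x160d58aa92b589d7ca99bfeee55ec4d), (nat_lit 0), (nat_lit 0)⟩) (BT.leaf ⟨(nat_lit 4), (nat_lit 1287), (nat_lit 0), (nat_lit 0x1d9a8cf423659a6a307cbfed1bab4a5), (nat_lit 0), (nat_lit 0)⟩)) (BT.node (nat_lit 4835) (BT.leaf ⟨(nat_lit 4), (nat_lit 1657), (nat_lit 0), (nat_lit 0xa3c2bebdf80620449624e77558848), (nat_lit 0), (nat_lit 0)⟩) (BT.leaf ⟨(nat_lit 4), (nat_lit 1977), (nat_lit 0), (nat_lit 0x16c663b962de4b49590f24e0bd667db), (nat_lit 0), (nat_lit 0)⟩))) (BT.node (nat_lit 4838) (BT.node (nat_lit 4837) (BT.leaf ⟨(nat_lit 4), (nat_lit 2455), (nat_lit 0), (nat_lit 0xc4ee9179f9b1bb46f9df1effbc2b8d), (nat_lit 0), (nat_lit 0)⟩) (BT.leaf ⟨(nat_lit 4), (nat_lit 2791), (nat_lit 0), (nat_lit 0x480100a80400d5dc9cf1e75f7b042), (nat_lit 0), (nat_lit 0)⟩)) (BT.node (nat_lit 4839) (BT.leaf ⟨(nat_lit 4), (nat_lit 3188), (nat_lit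 0), (nat_lit 0x1d5be364668c32ea307c3657ffa3f4e), (nat_lit 0), (nat_lit 0)⟩) (BT.leaf ⟨(nat_lit 4), (nat_lit 3398), (nat_lit 0), (nat_lit 0x73b7b6f5df89ab5a6e4364a1ffa2f4), (nat_lit 0), (nat_lit 0)⟩)))) (BT.node (nat_lit 4844) (BT.node (nat_lit 4842) (BT.node (nat_lit 4841) (BT.leaf ⟨(nat_lit 4), (nat_lit 3580), (nat_lit 0), (nat_lit 0x1eeab448011060279f0d83c213e3280), (nat_lit 0), (nat_lit 0)⟩) (BT.leaf ⟨(nat_lit 4), (nat_lit 3698), (nat_lit 0), (nat_lit 0xc4ed8bd8d3d2fa4fba483d89c4f496), (nat_lit 0), (nat_lit 0)⟩)) (BT.node (nat_lit 4843) (BT.leaf ⟨(nat_lit 4), (nat_lit 3676), (nat_lit 0), (nat_lit 0x17492fe2c0beb7dc51bccbe9793fd19), (nat_lit 0), (nat_lit 0)⟩) (BT.leaf ⟨(nat_lit 4), (nat_lit 3534), (nat_lit 0), (nat_lit 0x1f8c4f42068ccea0438dcbf01039e00), (nat_lit 0), (nat_lit 0)⟩))) (BT.node (nat_lit 4846) (BT.node (nat_lit 4845) (BT.leaf ⟨(nat_lit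 4), (nat_lit 3320), (nat_lit 0), (nat_lit 0xf8c01200e8d1cc02080e741012f9d5), (nat_lit 0), (nat_lit 0)⟩) (BT.leaf ⟨(nat_lit 4), (nat_lit 664), (nat_lit 0), (nat_lit 0x109f0c71205bd8ebf3802400c96c9c), (nat_lit 0), (nat_lit 0)⟩)) (BT.node (nat_lit 4847) (BT.leaf ⟨(nat_lit 4), (nat_lit 835), (nat_lit 0), (nat_lit 0x1104249a2084ac02abdde096c0a024), (nat_lit 0), (nat_lit 0)⟩) (BT.leaf ⟨(nat_lit 4), (nat_lit 1101), (nat_lit 0), (nat_lit 0x11377a6e4da9bf143eb4de05e5357f4), (nat_lit 0), (nat_lit 0)⟩))))) (BT.node (nat_lit 4856) (BT.node (nat_lit 4852) (BT.node (nat_lit 4850) (BT.node (nat_lit 4849) (BT.leaf ⟨(nat_lit 4), (nat_lit 120), (nat_lit 0), (nat_lit 0x14bc97e1598e5bf515b121e4b493fdb), (nat_lit 0), (nat_lit 0)⟩) (BT.leaf ⟨(nat_lit 4), (nat_lit 84), (nat_lit 0), (nat_lit 0x12fbb3028da8a64fac2021e8838d5c8), (nat_lit 0), (nat_lit 0)⟩)) (BT.node (nat_lit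 4851) (BT.leaf ⟨(nat_lit 4), (nat_lit 85), (nat_lit 0), (nat_lit 0x1278405e8de9ce900040572f8c97f8d), (nat_lit 0), (nat_lit 0)⟩) (BT.leaf ⟨(nat_lit 4), (nat_lit 121), (nat_lit 0), (nat_lit 0xbe554b96a69b2958e27572aefa8c4d), (nat_lit 0), (nat_lit 0)⟩))) (BT.node (nat_lit 4854) (BT.node (nat_lit 4853) (BT.leaf ⟨(nat_lit 4), (nat_lit 154), (nat_lit 0), (nat_lit 0x303e3674e1b5a0417ba9e621040280), (nat_lit 0), (nat_lit 0)⟩) (BT.leaf ⟨(nat_lit 4), (nat_lit 218), (nat_lit 0), (nat_lit 0xd2639473ce78b2ae4339e7e4143bfe), (nat_lit 0), (nat_lit 0)⟩)) (BT.node (nat_lit 4855) (BT.leaf ⟨(nat_lit 4), (nat_lit 278), (nat_lit 0), (nat_lit 0x1f3ab0cba8c6ca52aaea33a4fe3744), (nat_lit 0), (nat_lit 0)⟩) (BT.leaf ⟨(nat_lit 4), (nat_lit 387), (nat_lit 0), (nat_lit 0x1edd3fadf4bb97d2fd65a3296ee905f), (nat_lit 0), (nat_lit 0)⟩)))) (BT.node (nat_lit 4860) (BT.node (nat_lit 4858)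 (BT.node (nat_lit 4857) (BT.leaf ⟨(nat_lit 4), (nat_lit 484), (nat_lit 0), (nat_lit 0x1d45dc95a5777fd58e27a68ae75ca39), (nat_lit 0), (nat_lit 0)⟩) (BT.leaf ⟨(nat_lit 4), (nat_lit 650), (nat_lit 0), (nat_lit 0xc4ee938de1a2dec6a65a699623778f), (nat_lit 0), (nat_lit 0)⟩)) (BT.node (nat_lit 4859) (BT.leaf ⟨(nat_lit 4), (nat_lit 807), (nat_lit 0), (nat_lit 0x167880902300b8c6ae46c740bddc908), (nat_lit 0), (nat_lit 0)⟩) (BT.leaf ⟨(nat_lit 4), (nat_lit 1077), (nat_lit 0), (nat_lit 0x1f1a4d83e65de99d3a4c75ceb9c7ba), (nat_lit 0), (nat_lit 0)⟩))) (BT.node (nat_lit 4862) (BT.node (nat_lit 4861) (BT.leaf ⟨(nat_lit 4), (nat_lit 1306), (nat_lit 0), (nat_lit 0x1d1d2f08101200c00be2082014809d4), (nat_lit 0), (nat_lit 0)⟩) (BT.leaf ⟨(nat_lit 4), (nat_lit 3572), (nat_lit 0), (nat_lit 0x1c35ff78c2f3e27e6d348dd96132f9d), (nat_lit 0), (nat_lit 0)⟩)) (BT.node (nat_lit 4863)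 (BT.leaf ⟨(nat_lit 4), (nat_lit 3694), (nat_lit 0), (nat_lit 0x569f0e0b7e6b30f1b638dcb8df1517), (nat_lit 0), (nat_lit 0)⟩) (BT.leaf ⟨(nat_lit 4), (nat_lit 3762), (nat_lit 0), (nat_lit 0x1b2a3da878c71cab9c77ab8d25ff433), (nat_lit 0), (nat_lit 0)⟩)))))))
noncomputable def cP4800 : BT Pf := (BT.node (nat_lit 4832) (BT.node (nat_lit 4816) (BT.node (nat_lit 4808) (BT.node (nat_lit 4804) (BT.node (nat_lit 4802) (BT.node (nat_lit 4801) (BT.leaf (.pt (nat_lit 4799) (nat_lit 1))) (BT.leaf (.pt (nat_lit 4800) (nat_lit 4)))) (BT.node (nat_lit 4803) (BT.leaf (.pt (nat_lit 4781) (nat_lit 3))) (BT.leaf (.pt (nat_lit 4802) (nat_lit 1))))) (BT.node (nat_lit 4806) (BT.node (nat_lit 4805) (BT.leaf (.pt (nat_lit 4803) (nat_lit 4))) (BT.leaf (.pt (nat_lit 4804) (nat_lit 1)))) (BT.node (nat_lit 4807) (BT.leaf (.pt (nat_lit 4805) (nat_lit 3))) (BT.leaf (.pt (nat_lit 4806)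 (nat_lit 1)))))) (BT.node (nat_lit 4812) (BT.node (nat_lit 4810) (BT.node (nat_lit 4809) (BT.leaf (.pt (nat_lit 4807) (nat_lit 4))) (BT.leaf (.pt (nat_lit 4808) (nat_lit 1)))) (BT.node (nat_lit 4811) (BT.leaf (.pt (nat_lit 4809) (nat_lit 4))) (BT.leaf (.pt (nat_lit 4810) (nat_lit 1))))) (BT.node (nat_lit 4814) (BT.node (nat_lit 4813) (BT.leaf (.pt (nat_lit 4811) (nat_lit 3))) (BT.leaf (.pt (nat_lit 4812) (nat_lit 1)))) (BT.node (nat_lit 4815) (BT.leaf (.pt (nat_lit 4813) (nat_lit 4))) (BT.leaf (.pt (nat_lit 4814) (nat_lit 1))))))) (BT.node (nat_lit 4824) (BT.node (nat_lit 4820) (BT.node (nat_lit 4818) (BT.node (nat_lit 4817) (BT.leaf (.pt (nat_lit 4815) (nat_lit 3))) (BT.leaf (.pt (nat_lit 4816) (nat_lit 1)))) (BT.node (nat_lit 4819) (BT.leaf (.pt (nat_lit 4817) (nat_lit 3))) (BT.leaf (.pt (nat_lit 4818) (nat_lit 1))))) (BT.node (nat_lit 4822) (BT.node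 (nat_lit 4821) (BT.leaf (.pt (nat_lit 4819) (nat_lit 4))) (BT.leaf (.pt (nat_lit 4820) (nat_lit 1)))) (BT.node (nat_lit 4823) (BT.leaf (.pt (nat_lit 4811) (nat_lit 4))) (BT.leaf (.pt (nat_lit 4822) (nat_lit 1)))))) (BT.node (nat_lit 4828) (BT.node (nat_lit 4826) (BT.node (nat_lit 4825) (BT.leaf (.pt (nat_lit 4813) (nat_lit 3))) (BT.leaf (.pt (nat_lit 4824) (nat_lit 1)))) (BT.node (nat_lit 4827) (BT.leaf (.pt (nat_lit 4825) (nat_lit 3))) (BT.leaf (.pt (nat_lit 4826) (nat_lit 1))))) (BT.node (nat_lit 4830) (BT.node (nat_lit 4829) (BT.leaf (.pt (nat_lit 4827) (nat_lit 3))) (BT.leaf (.pt (nat_lit 4828) (nat_lit 1)))) (BT.node (nat_lit 4831) (BT.leaf (.pt (nat_lit 4829) (nat_lit 4))) (BT.leaf (.pt (nat_lit 4830) (nat_lit 1)))))))) (BT.node (nat_lit 4848) (BT.node (nat_lit 4840) (BT.node (nat_lit 4836) (BT.node (nat_lit 4834) (BT.node (nat_lit 4833) (BT.leaf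 (.pt (nat_lit 4831) (nat_lit 3))) (BT.leaf (.pt (nat_lit 4832) (nat_lit 1)))) (BT.node (nat_lit 4835) (BT.leaf (.pt (nat_lit 4833) (nat_lit 3))) (BT.leaf (.pt (nat_lit 4834) (nat_lit 1))))) (BT.node (nat_lit 4838) (BT.node (nat_lit 4837) (BT.leaf (.pt (nat_lit 4835) (nat_lit 3))) (BT.leaf (.pt (nat_lit 4836) (nat_lit 1)))) (BT.node (nat_lit 4839) (BT.leaf (.pt (nat_lit 4837) (nat_lit 4))) (BT.leaf (.pt (nat_lit 4838) (nat_lit 1)))))) (BT.node (nat_lit 4844) (BT.node (nat_lit 4842) (BT.node (nat_lit 4841) (BT.leaf (.pt (nat_lit 4839) (nat_lit 3))) (BT.leaf (.pt (nat_lit 4840) (nat_lit 1)))) (BT.node (nat_lit 4843) (BT.leaf (.pt (nat_lit 4841) (nat_lit 4))) (BT.leaf (.pt (nat_lit 4842) (nat_lit 1))))) (BT.node (nat_lit 4846) (BT.node (nat_lit 4845) (BT.leaf (.pt (nat_lit 4843) (nat_lit 3))) (BT.leaf (.pt (nat_lit 4713) (nat_lit 1)))) (BT.node (nat_lit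 4847) (BT.leaf (.pt (nat_lit 4845) (nat_lit 3))) (BT.leaf (.pt (nat_lit 4846) (nat_lit 1))))))) (BT.node (nat_lit 4856) (BT.node (nat_lit 4852) (BT.node (nat_lit 4850) (BT.node (nat_lit 4849) (BT.leaf (.pt (nat_lit 4614) (nat_lit 3))) (BT.leaf (.pt (nat_lit 4848) (nat_lit 1)))) (BT.node (nat_lit 4851) (BT.leaf (.pt (nat_lit 4849) (nat_lit 3))) (BT.leaf (.pt (nat_lit 4850) (nat_lit 1))))) (BT.node (nat_lit 4854) (BT.node (nat_lit 4853) (BT.leaf (.pt (nat_lit 4851) (nat_lit 3))) (BT.leaf (.pt (nat_lit 4852) (nat_lit 1)))) (BT.node (nat_lit 4855) (BT.leaf (.pt (nat_lit 4853) (nat_lit 3))) (BT.leaf (.pt (nat_lit 4854) (nat_lit 1)))))) (BT.node (nat_lit 4860) (BT.node (nat_lit 4858) (BT.node (nat_lit 4857) (BT.leaf (.pt (nat_lit 4855) (nat_lit 4))) (BT.leaf (.pt (nat_lit 4856) (nat_lit 1)))) (BT.node (nat_lit 4859) (BT.leaf (.pt (nat_lit 4857) (nat_lit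 3))) (BT.leaf (.pt (nat_lit 4858) (nat_lit 1))))) (BT.node (nat_lit 4862) (BT.node (nat_lit 4861) (BT.leaf (.pt (nat_lit 4859) (nat_lit 3))) (BT.leaf (.pt (nat_lit 4726) (nat_lit 3)))) (BT.node (nat_lit 4863) (BT.leaf (.pt (nat_lit 4861) (nat_lit 1))) (BT.leaf (.pt (nat_lit 4862) (nat_lit 3)))))))))
noncomputable def cF4864 : BT Fc := (BT.node (nat_lit 4896) (BT.node (nat_lit 4880) (BT.node (nat_lit 4872) (BT.node (nat_lit 4868) (BT.node (nat_lit 4866) (BT.node (nat_lit 4865) (BT.leaf ⟨(nat_lit 4), (nat_lit 3775), (nat_lit 0), (nat_lit 0x4adb86a22df6c663b96ab83ebed93f), (nat_lit 0), (nat_lit 0)⟩) (BT.leaf ⟨(nat_lit 4), (nat_lit 3710), (nat_lit 0), (nat_lit 0x12001000811cc10746de97a24f78d), (nat_lit 0), (nat_lit 0)⟩)) (BT.node (nat_lit 4867) (BT.leaf ⟨(nat_lit 4), (nat_lit 3600), (nat_lit 0), (nat_lit 0x6cbeda6a2f3137726f0de873bfa6b4), (nat_lit 0),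 (nat_lit 0)⟩) (BT.leaf ⟨(nat_lit 4), (nat_lit 3601), (nat_lit 0), (nat_lit 0xd1a0144071b4019d073d7380200420), (nat_lit 0), (nat_lit 0)⟩))) (BT.node (nat_lit 4870) (BT.node (nat_lit 4869) (BT.leaf ⟨(nat_lit 4), (nat_lit 3711), (nat_lit 0), (nat_lit 0x1b28ad2b95328e713dffd73d457cd34), (nat_lit 0), (nat_lit 0)⟩) (BT.leaf ⟨(nat_lit 4), (nat_lit 3704), (nat_lit 0), (nat_lit 0x11c496f8f04410af510210475e01738), (nat_lit 0), (nat_lit 0)⟩)) (BT.node (nat_lit 4871) (BT.leaf ⟨(nat_lit 4), (nat_lit 3589), (nat_lit 0), (nat_lit 0x60044480f74204404f3104a03868a0), (nat_lit 0), (nat_lit 0)⟩) (BT.leaf ⟨(nat_lit 4), (nat_lit 3379), (nat_lit 0), (nat_lit 0xbd6610fc2ba899796f25c4fc96cc7), (nat_lit 0), (nat_lit 0)⟩)))) (BT.node (nat_lit 4876) (BT.node (nat_lit 4874) (BT.node (nat_lit 4873) (BT.leaf ⟨(nat_lit 4), (nat_lit 3148), (nat_lit 0), (nat_lit 0x1077a803bd20160090125c75010f3b),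 (nat_lit 0), (nat_lit 0)⟩) (BT.leaf ⟨(nat_lit 4), (nat_lit 2751), (nat_lit 0), (nat_lit 0xe8df5cd9c16f0d1b46e7cfdf5661e3), (nat_lit 0), (nat_lit 0)⟩)) (BT.node (nat_lit 4875) (BT.leaf ⟨(nat_lit 4), (nat_lit 2399), (nat_lit 0), (nat_lit 0x1e255e92b409d08030447ce0539f5ec), (nat_lit 0), (nat_lit 0)⟩) (BT.leaf ⟨(nat_lit 4), (nat_lit 2128), (nat_lit 0), (nat_lit 0x2004441e1219d0aa88235e205b18c0), (nat_lit 0), (nat_lit 0)⟩))) (BT.node (nat_lit 4878) (BT.node (nat_lit 4877) (BT.leaf ⟨(nat_lit 4), (nat_lit 2570), (nat_lit 0), (nat_lit 0x4b734acc2df855cb12f35f572d893f), (nat_lit 0), (nat_lit 0)⟩) (BT.leaf ⟨(nat_lit 4), (nat_lit 2940), (nat_lit 0), (nat_lit 0x2a0401809125a3defce64030441dd), (nat_lit 0), (nat_lit 0)⟩)) (BT.node (nat_lit 4879) (BT.leaf ⟨(nat_lit 4), (nat_lit 3074), (nat_lit 0), (nat_lit 0x73a9d7baddf5966cf38e65cef9577a), (nat_lit 0), (nat_lit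 0)⟩) (BT.leaf ⟨(nat_lit 4), (nat_lit 2682), (nat_lit 0), (nat_lit 0x5e7d6bfecb1e1532e8df3b1bae970d), (nat_lit 0), (nat_lit 0)⟩))))) (BT.node (nat_lit 4888) (BT.node (nat_lit 4884) (BT.node (nat_lit 4882) (BT.node (nat_lit 4881) (BT.leaf ⟨(nat_lit 4), (nat_lit 2292), (nat_lit 0), (nat_lit 0x4439524f120048286e4f3a052319c5), (nat_lit 0), (nat_lit 0)⟩) (BT.leaf ⟨(nat_lit 4), (nat_lit 1861), (nat_lit 0), (nat_lit 0xbd97cc735fa89cb12fab85bc96b70), (nat_lit 0), (nat_lit 0)⟩)) (BT.node (nat_lit 4883) (BT.leaf ⟨(nat_lit 4), (nat_lit 1521), (nat_lit 0), (nat_lit 0x11ce31c71c58a1ed3573ab9e40cdcf3), (nat_lit 0), (nat_lit 0)⟩) (BT.leaf ⟨(nat_lit 4), (nat_lit 52), (nat_lit 0), (nat_lit 0x7a1694c72ed722f05e8bd4996d44e8), (nat_lit 0), (nat_lit 0)⟩))) (BT.node (nat_lit 4886) (BT.node (nat_lit 4885) (BT.leaf ⟨(nat_lit 4), (nat_lit 70), (nat_lit 0), (nat_lit 0x90104220400f7b402bd475c96c9c),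 (nat_lit 0), (nat_lit 0)⟩) (BT.leaf ⟨(nat_lit 4), (nat_lit 92), (nat_lit 0), (nat_lit 0x1cebdd3a4c7585777f1ae7736569732), (nat_lit 0), (nat_lit 0)⟩)) (BT.node (nat_lit 4887) (BT.leaf ⟨(nat_lit 4), (nat_lit 128), (nat_lit 0), (nat_lit 0x86395e9012ae020801e77e324f901), (nat_lit 0), (nat_lit 0)⟩) (BT.leaf ⟨(nat_lit 4), (nat_lit 169), (nat_lit 0), (nat_lit 0x9fe8cb8a4af5952da4fd8287c737b7), (nat_lit 0), (nat_lit 0)⟩)))) (BT.node (nat_lit 4892) (BT.node (nat_lit 4890) (BT.node (nat_lit 4889) (BT.leaf ⟨(nat_lit 4), (nat_lit 232), (nat_lit 0), (nat_lit 0x123a4fe272ed27acf4bed83df6a5c96), (nat_lit 0), (nat_lit 0)⟩) (BT.leaf ⟨(nat_lit 4), (nat_lit 307), (nat_lit 0), (nat_lit 0x4a38806bd49777b4023ae408012bb), (nat_lit 0), (nat_lit 0)⟩)) (BT.node (nat_lit 4891) (BT.leaf ⟨(nat_lit 4), (nat_lit 414), (nat_lit 0), (nat_lit 0x1756a59d56d87d4ee9c53ae654e8c3d), (nat_lit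 0), (nat_lit 0)⟩) (BT.leaf ⟨(nat_lit 4), (nat_lit 532), (nat_lit 0), (nat_lit 0x120040e7447220b869af10822050080), (nat_lit 0), (nat_lit 0)⟩))) (BT.node (nat_lit 4894) (BT.node (nat_lit 4893) (BT.leaf ⟨(nat_lit 4), (nat_lit 692), (nat_lit 0), (nat_lit 0x4ace8824008052f6404108413782bd), (nat_lit 0), (nat_lit 0)⟩) (BT.leaf ⟨(nat_lit 4), (nat_lit 886), (nat_lit 0), (nat_lit 0x4b900ab8003bd480803022f8840f8c), (nat_lit 0), (nat_lit 0)⟩)) (BT.node (nat_lit 4895) (BT.leaf ⟨(nat_lit 4), (nat_lit 1134), (nat_lit 0), (nat_lit 0x4bab090f3bca81813f02206154810), (nat_lit 0), (nat_lit 0)⟩) (BT.leaf ⟨(nat_lit 4), (nat_lit 378), (nat_lit 0), (nat_lit 0x1a8a377adb1ba37c665816fe77c7f0d), (nat_lit 0), (nat_lit 0)⟩)))))) (BT.node (nat_lit 4912) (BT.node (nat_lit 4904) (BT.node (nat_lit 4900) (BT.node (nat_lit 4898) (BT.node (nat_lit 4897) (BT.leaf ⟨(nat_lit 4), (nat_lit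 473), (nat_lit 0), (nat_lit 0x1bbf9f738f75cc96961516ee938d53a), (nat_lit 0), (nat_lit 0)⟩) (BT.leaf ⟨(nat_lit 4), (nat_lit 637), (nat_lit 0), (nat_lit 0xdb15cab84734d17c8e6533d4558abb), (nat_lit 0), (nat_lit 0)⟩)) (BT.node (nat_lit 4899) (BT.leaf ⟨(nat_lit 4), (nat_lit 791), (nat_lit 0), (nat_lit 0x9ff8d02804443d101f55320c0108a0), (nat_lit 0), (nat_lit 0)⟩) (BT.leaf ⟨(nat_lit 4), (nat_lit 1058), (nat_lit 0), (nat_lit 0x97f7a0800040040878d25fd195c840), (nat_lit 0), (nat_lit 0)⟩))) (BT.node (nat_lit 4902) (BT.node (nat_lit 4901) (BT.leaf ⟨(nat_lit 4), (nat_lit 1281), (nat_lit 0), (nat_lit 0x1a8a97b962df57093b7025f31cd792d), (nat_lit 0), (nat_lit 0)⟩) (BT.leaf ⟨(nat_lit 4), (nat_lit 1647), (nat_lit 0), (nat_lit 0x5e4e76f6d699d18e6f550e9ab7a6e4), (nat_lit 0), (nat_lit 0)⟩)) (BT.node (nat_lit 4903) (BT.leaf ⟨(nat_lit 4), (nat_lit 1967), (nat_lit 0), (nat_lit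 0x11cbc84738c75cf653fe50ecd638c33), (nat_lit 0), (nat_lit 0)⟩) (BT.leaf ⟨(nat_lit 4), (nat_lit 2446), (nat_lit 0), (nat_lit 0x84125c8061b51101f5044a6490020), (nat_lit 0), (nat_lit 0)⟩)))) (BT.node (nat_lit 4908) (BT.node (nat_lit 4906) (BT.node (nat_lit 4905) (BT.leaf ⟨(nat_lit 4), (nat_lit 2784), (nat_lit 0), (nat_lit 0x75e38902005e3c21003045272f5012), (nat_lit 0), (nat_lit 0)⟩) (BT.leaf ⟨(nat_lit 4), (nat_lit 2766), (nat_lit 0), (nat_lit 0x3e96632f25e43c93b7098e5bf5102f), (nat_lit 0), (nat_lit 0)⟩)) (BT.node (nat_lit 4907) (BT.leaf ⟨(nat_lit 4), (nat_lit 2420), (nat_lit 0), (nat_lit 0x1edef52659d17a6fc43d98fd47f45e8), (nat_lit 0), (nat_lit 0)⟩) (BT.leaf ⟨(nat_lit 4), (nat_lit 2419), (nat_lit 0), (nat_lit 0x1595a4f32c758543e7baa75cab9d8b7), (nat_lit 0), (nat_lit 0)⟩))) (BT.node (nat_lit 4910) (BT.node (nat_lit 4909) (BT.leaf ⟨(nat_lit 4), (nat_lit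 2147), (nat_lit 0), (nat_lit 0xa03f4201b1af550005fa7490104300), (nat_lit 0), (nat_lit 0)⟩) (BT.leaf ⟨(nat_lit 4), (nat_lit 2456), (nat_lit 0), (nat_lit 0x127840400080022398017c6010012b9), (nat_lit 0), (nat_lit 0)⟩)) (BT.node (nat_lit 4911) (BT.leaf ⟨(nat_lit 4), (nat_lit 2206), (nat_lit 0), (nat_lit 0xf89663e12b4f0e8bf7d7c68dbf1ba3), (nat_lit 0), (nat_lit 0)⟩) (BT.leaf ⟨(nat_lit 4), (nat_lit 1798), (nat_lit 0), (nat_lit 0x1d1d57335bffd1aa307c68c6cbb3744), (nat_lit 0), (nat_lit 0)⟩))))) (BT.node (nat_lit 4920) (BT.node (nat_lit 4916) (BT.node (nat_lit 4914) (BT.node (nat_lit 4913) (BT.leaf ⟨(nat_lit 4), (nat_lit 1450), (nat_lit 0), (nat_lit 0xcebf1c2080427a2040168d01039eb9), (nat_lit 0), (nat_lit 0)⟩) (BT.leaf ⟨(nat_lit 4), (nat_lit 1449), (nat_lit 0), (nat_lit 0x2df5158df1e32f46f9d7fdf3589fad), (nat_lit 0), (nat_lit 0)⟩)) (BT.node (nat_lit 4915) (BT.leaf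 ⟨(nat_lit 4), (nat_lit 1797), (nat_lit 0), (nat_lit 0x118c398ed8a71cb653497fca1f39c71), (nat_lit 0), (nat_lit 0)⟩) (BT.leaf ⟨(nat_lit 4), (nat_lit 2204), (nat_lit 0), (nat_lit 0x4fdb812d21ecbfede6925c3eb5102f), (nat_lit 0), (nat_lit 0)⟩))) (BT.node (nat_lit 4918) (BT.node (nat_lit 4917) (BT.leaf ⟨(nat_lit 4), (nat_lit 2623), (nat_lit 0), (nat_lit 0x1d1c40f8c2020264f81125c10401821), (nat_lit 0), (nat_lit 0)⟩) (BT.leaf ⟨(nat_lit 4), (nat_lit 2604), (nat_lit 0), (nat_lit 0x14672fa7f6be9750f85f4ae96db84ab), (nat_lit 0), (nat_lit 0)⟩)) (BT.node (nat_lit 4919) (BT.leaf ⟨(nat_lit 4), (nat_lit 2174), (nat_lit 0), (nat_lit 0x822f0127df8023c2f4e4ae77414108), (nat_lit 0), (nat_lit 0)⟩) (BT.leaf ⟨(nat_lit 4), (nat_lit 1779), (nat_lit 0), (nat_lit 0x19cfc843350f8b3653498a6ffa39d5c), (nat_lit 0), (nat_lit 0)⟩)))) (BT.node (nat_lit 4924) (BT.node (nat_lit 4922) (BT.node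 (nat_lit 4921) (BT.leaf ⟨(nat_lit 4), (nat_lit 1428), (nat_lit 0), (nat_lit 0x1c681402021fd98902208a6090306d4), (nat_lit 0), (nat_lit 0)⟩) (BT.leaf ⟨(nat_lit 4), (nat_lit 1147), (nat_lit 0), (nat_lit 0x1365b1d17598e8df39bc94bdf7c815a), (nat_lit 0), (nat_lit 0)⟩)) (BT.node (nat_lit 4923) (BT.leaf ⟨(nat_lit 4), (nat_lit 900), (nat_lit 0), (nat_lit 0x1467a3b35bffd5ba307c94a32cd9669), (nat_lit 0), (nat_lit 0)⟩) (BT.leaf ⟨(nat_lit 4), (nat_lit 899), (nat_lit 0), (nat_lit 0x197cf4404d73f8eeac025e900208073), (nat_lit 0), (nat_lit 0)⟩))) (BT.node (nat_lit 4926) (BT.node (nat_lit 4925) (BT.leaf ⟨(nat_lit 4), (nat_lit 1146), (nat_lit 0), (nat_lit 0x1bd8d96e450e73bedcab5e89ab7844d), (nat_lit 0), (nat_lit 0)⟩) (BT.leaf ⟨(nat_lit 4), (nat_lit 1425), (nat_lit 0), (nat_lit 0x17aaf07513377b0bb60b5a53a0f443d), (nat_lit 0), (nat_lit 0)⟩)) (BT.node (nat_lit 4927) (BT.leaf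 ⟨(nat_lit 4), (nat_lit 1776), (nat_lit 0), (nat_lit 0x13678d33addf4eb957385a5ceac1b49), (nat_lit 0), (nat_lit 0)⟩) (BT.leaf ⟨(nat_lit 4), (nat_lit 2169), (nat_lit 0), (nat_lit 0xd8c40c1e2ab5a3868c047224140480), (nat_lit 0), (nat_lit 0)⟩)))))))
noncomputable def cP4864 : BT Pf := (BT.node (nat_lit 4896) (BT.node (nat_lit 4880) (BT.node (nat_lit 4872) (BT.node (nat_lit 4868) (BT.node (nat_lit 4866) (BT.node (nat_lit 4865) (BT.leaf (.pt (nat_lit 4863) (nat_lit 1))) (BT.leaf (.pt (nat_lit 4864) (nat_lit 4)))) (BT.node (nat_lit 4867) (BT.leaf (.pt (nat_lit 4865) (nat_lit 1))) (BT.leaf (.pt (nat_lit 4866) (nat_lit 3))))) (BT.node (nat_lit 4870) (BT.node (nat_lit 4869) (BT.leaf (.pt (nat_lit 4867) (nat_lit 1))) (BT.leaf (.pt (nat_lit 4868) (nat_lit 3)))) (BT.node (nat_lit 4871) (BT.leaf (.pt (nat_lit 4869) (nat_lit 1))) (BT.leaf (.pt (nat_lit 4870) (nat_lit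 3)))))) (BT.node (nat_lit 4876) (BT.node (nat_lit 4874) (BT.node (nat_lit 4873) (BT.leaf (.pt (nat_lit 4871) (nat_lit 1))) (BT.leaf (.pt (nat_lit 4872) (nat_lit 3)))) (BT.node (nat_lit 4875) (BT.leaf (.pt (nat_lit 4873) (nat_lit 1))) (BT.leaf (.pt (nat_lit 4819) (nat_lit 3))))) (BT.node (nat_lit 4878) (BT.node (nat_lit 4877) (BT.leaf (.pt (nat_lit 4875) (nat_lit 1))) (BT.leaf (.pt (nat_lit 4876) (nat_lit 3)))) (BT.node (nat_lit 4879) (BT.leaf (.pt (nat_lit 4877) (nat_lit 1))) (BT.leaf (.pt (nat_lit 4878) (nat_lit 4))))))) (BT.node (nat_lit 4888) (BT.node (nat_lit 4884) (BT.node (nat_lit 4882) (BT.node (nat_lit 4881) (BT.leaf (.pt (nat_lit 4879) (nat_lit 1))) (BT.leaf (.pt (nat_lit 4880) (nat_lit 4)))) (BT.node (nat_lit 4883) (BT.leaf (.pt (nat_lit 4881) (nat_lit 1))) (BT.leaf (.pt (nat_lit 4493) (nat_lit 3))))) (BT.node (nat_lit 4886) (BT.node (nat_lit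 4885) (BT.leaf (.pt (nat_lit 4883) (nat_lit 1))) (BT.leaf (.pt (nat_lit 4884) (nat_lit 3)))) (BT.node (nat_lit 4887) (BT.leaf (.pt (nat_lit 4885) (nat_lit 1))) (BT.leaf (.pt (nat_lit 4886) (nat_lit 4)))))) (BT.node (nat_lit 4892) (BT.node (nat_lit 4890) (BT.node (nat_lit 4889) (BT.leaf (.pt (nat_lit 4887) (nat_lit 1))) (BT.leaf (.pt (nat_lit 4888) (nat_lit 4)))) (BT.node (nat_lit 4891) (BT.leaf (.pt (nat_lit 4889) (nat_lit 1))) (BT.leaf (.pt (nat_lit 4890) (nat_lit 4))))) (BT.node (nat_lit 4894) (BT.node (nat_lit 4893) (BT.leaf (.pt (nat_lit 4891) (nat_lit 1))) (BT.leaf (.pt (nat_lit 4892) (nat_lit 3)))) (BT.node (nat_lit 4895) (BT.leaf (.pt (nat_lit 4893) (nat_lit 1))) (BT.leaf (.pt (nat_lit 4579) (nat_lit 3)))))))) (BT.node (nat_lit 4912) (BT.node (nat_lit 4904) (BT.node (nat_lit 4900) (BT.node (nat_lit 4898) (BT.node (nat_lit 4897) (BT.leaf (.pt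 (nat_lit 4895) (nat_lit 1))) (BT.leaf (.pt (nat_lit 4896) (nat_lit 4)))) (BT.node (nat_lit 4899) (BT.leaf (.pt (nat_lit 4897) (nat_lit 1))) (BT.leaf (.pt (nat_lit 4898) (nat_lit 3))))) (BT.node (nat_lit 4902) (BT.node (nat_lit 4901) (BT.leaf (.pt (nat_lit 4899) (nat_lit 1))) (BT.leaf (.pt (nat_lit 4900) (nat_lit 3)))) (BT.node (nat_lit 4903) (BT.leaf (.pt (nat_lit 4901) (nat_lit 1))) (BT.leaf (.pt (nat_lit 4902) (nat_lit 4)))))) (BT.node (nat_lit 4908) (BT.node (nat_lit 4906) (BT.node (nat_lit 4905) (BT.leaf (.pt (nat_lit 4903) (nat_lit 1))) (BT.leaf (.pt (nat_lit 4904) (nat_lit 4)))) (BT.node (nat_lit 4907) (BT.leaf (.pt (nat_lit 4905) (nat_lit 1))) (BT.leaf (.pt (nat_lit 4906) (nat_lit 4))))) (BT.node (nat_lit 4910) (BT.node (nat_lit 4909) (BT.leaf (.pt (nat_lit 4907) (nat_lit 1))) (BT.leaf (.pt (nat_lit 4835) (nat_lit 4)))) (BT.node (nat_lit 4911)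 (BT.leaf (.pt (nat_lit 4909) (nat_lit 1))) (BT.leaf (.pt (nat_lit 4910) (nat_lit 4))))))) (BT.node (nat_lit 4920) (BT.node (nat_lit 4916) (BT.node (nat_lit 4914) (BT.node (nat_lit 4913) (BT.leaf (.pt (nat_lit 4911) (nat_lit 1))) (BT.leaf (.pt (nat_lit 4912) (nat_lit 4)))) (BT.node (nat_lit 4915) (BT.leaf (.pt (nat_lit 4913) (nat_lit 1))) (BT.leaf (.pt (nat_lit 4914) (nat_lit 3))))) (BT.node (nat_lit 4918) (BT.node (nat_lit 4917) (BT.leaf (.pt (nat_lit 4915) (nat_lit 1))) (BT.leaf (.pt (nat_lit 4916) (nat_lit 3)))) (BT.node (nat_lit 4919) (BT.leaf (.pt (nat_lit 4917) (nat_lit 1))) (BT.leaf (.pt (nat_lit 4918) (nat_lit 4)))))) (BT.node (nat_lit 4924) (BT.node (nat_lit 4922) (BT.node (nat_lit 4921) (BT.leaf (.pt (nat_lit 4919) (nat_lit 1))) (BT.leaf (.pt (nat_lit 4920) (nat_lit 3)))) (BT.node (nat_lit 4923) (BT.leaf (.pt (nat_lit 4921) (nat_lit 1))) (BT.leaf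 (.pt (nat_lit 4922) (nat_lit 4))))) (BT.node (nat_lit 4926) (BT.node (nat_lit 4925) (BT.leaf (.pt (nat_lit 4923) (nat_lit 1))) (BT.leaf (.pt (nat_lit 4924) (nat_lit 3)))) (BT.node (nat_lit 4927) (BT.leaf (.pt (nat_lit 4925) (nat_lit 1))) (BT.leaf (.pt (nat_lit 4926) (nat_lit 4)))))))))
noncomputable def cF4928 : BT Fc := (BT.node (nat_lit 4960) (BT.node (nat_lit 4944) (BT.node (nat_lit 4936) (BT.node (nat_lit 4932) (BT.node (nat_lit 4930) (BT.node (nat_lit 4929) (BT.leaf ⟨(nat_lit 4), (nat_lit 2568), (nat_lit 0), (nat_lit 0x17e2b45c8bd182d695ecbd3d46f55e0), (nat_lit 0), (nat_lit 0)⟩) (BT.leaf ⟨(nat_lit 4), (nat_lit 2124), (nat_lit 0), (nat_lit 0x1420803013bd64f811bd275010801), (nat_lit 0), (nat_lit 0)⟩)) (BT.node (nat_lit 4931) (BT.leaf ⟨(nat_lit 4), (nat_lit 1751), (nat_lit 0), (nat_lit 0x210d7880110280aab63ce93ceb47ba), (nat_lit 0), (nat_lit 0)⟩)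 (BT.leaf ⟨(nat_lit 4), (nat_lit 1398), (nat_lit 0), (nat_lit 0x145ffa31c39c6cb7b6f0ce91377a6fc), (nat_lit 0), (nat_lit 0)⟩))) (BT.node (nat_lit 4934) (BT.node (nat_lit 4933) (BT.leaf ⟨(nat_lit 4), (nat_lit 1910), (nat_lit 0), (nat_lit 0x1f8dc6c01840bd22060013d75604500), (nat_lit 0), (nat_lit 0)⟩) (BT.leaf ⟨(nat_lit 4), (nat_lit 1581), (nat_lit 0), (nat_lit 0x1a7a4e496b3d6c64f77d13ce924fcbe), (nat_lit 0), (nat_lit 0)⟩)) (BT.node (nat_lit 4935) (BT.leaf ⟨(nat_lit 4), (nat_lit 1244), (nat_lit 0), (nat_lit 0x1fa0cdda89d07a2fc568bd37a263de0), (nat_lit 0), (nat_lit 0)⟩) (BT.leaf ⟨(nat_lit 4), (nat_lit 1015), (nat_lit 0), (nat_lit 0x2064f92e012f8810a01bd275020901), (nat_lit 0), (nat_lit 0)⟩)))) (BT.node (nat_lit 4940) (BT.node (nat_lit 4938) (BT.node (nat_lit 4937) (BT.leaf ⟨(nat_lit 4), (nat_lit 376), (nat_lit 0), (nat_lit 0x6f1f1bc35c7295f17e3598fccad3a3),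 (nat_lit 0), (nat_lit 0)⟩) (BT.leaf ⟨(nat_lit 4), (nat_lit 471), (nat_lit 0), (nat_lit 0x14bc95b962de49c7d3705986bc8782f), (nat_lit 0), (nat_lit 0)⟩)) (BT.node (nat_lit 4939) (BT.leaf ⟨(nat_lit 4), (nat_lit 633), (nat_lit 0), (nat_lit 0xbd0bcef5d6945d351ceda9c877e44d), (nat_lit 0), (nat_lit 0)⟩) (BT.leaf ⟨(nat_lit 4), (nat_lit 787), (nat_lit 0), (nat_lit 0x1c68878285329fc90420da80c010860), (nat_lit 0), (nat_lit 0)⟩))) (BT.node (nat_lit 4942) (BT.node (nat_lit 4941) (BT.leaf ⟨(nat_lit 4), (nat_lit 1053), (nat_lit 0), (nat_lit 0xb4af6176ea2c73f419bbd33a3dbde0), (nat_lit 0), (nat_lit 0)⟩) (BT.leaf ⟨(nat_lit 4), (nat_lit 1277), (nat_lit 0), (nat_lit 0x11c810a5e01300420f3bbd27524fab8), (nat_lit 0), (nat_lit 0)⟩)) (BT.node (nat_lit 4943) (BT.leaf ⟨(nat_lit 4), (nat_lit 1642), (nat_lit 0), (nat_lit 0x11cc97a000117a04074693c1020025f), (nat_lit 0), (nat_lit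 0)⟩) (BT.leaf ⟨(nat_lit 4), (nat_lit 1963), (nat_lit 0), (nat_lit 0xf624f89ed82e93138ed93d67b4f496), (nat_lit 0), (nat_lit 0)⟩))))) (BT.node (nat_lit 4952) (BT.node (nat_lit 4948) (BT.node (nat_lit 4946) (BT.node (nat_lit 4945) (BT.leaf ⟨(nat_lit 4), (nat_lit 2022), (nat_lit 0), (nat_lit 0x19a4969276e0cbc17cc7c2a4fc979af), (nat_lit 0), (nat_lit 0)⟩) (BT.leaf ⟨(nat_lit 4), (nat_lit 731), (nat_lit 0), (nat_lit 0xa12b80881002958c7be9de140c6fc), (nat_lit 0), (nat_lit 0)⟩)) (BT.node (nat_lit 4947) (BT.leaf ⟨(nat_lit 4), (nat_lit 575), (nat_lit 0), (nat_lit 0xcd5ec7563641f323766e9dd1fa3346), (nat_lit 0), (nat_lit 0)⟩) (BT.leaf ⟨(nat_lit 4), (nat_lit 438), (nat_lit 0), (nat_lit 0x18b12de5f95697d2f25daca17d2b8e6), (nat_lit 0), (nat_lit 0)⟩))) (BT.node (nat_lit 4950) (BT.node (nat_lit 4949) (BT.leaf ⟨(nat_lit 4), (nat_lit 336), (nat_lit 0), (nat_lit 0x1ce377f32b07eeb95349aca2dd9d1ce),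 (nat_lit 0), (nat_lit 0)⟩) (BT.leaf ⟨(nat_lit 4), (nat_lit 335), (nat_lit 0), (nat_lit 0xf85663e22b46f1d1e0bfc6fcdb1beb), (nat_lit 0), (nat_lit 0)⟩)) (BT.node (nat_lit 4951) (BT.leaf ⟨(nat_lit 4), (nat_lit 437), (nat_lit 0), (nat_lit 0x7a19d4808101cd7a402fc780200eb9), (nat_lit 0), (nat_lit 0)⟩) (BT.leaf ⟨(nat_lit 4), (nat_lit 572), (nat_lit 0), (nat_lit 0x131ed8b9624e4b997b70ab80bd6616f), (nat_lit 0), (nat_lit 0)⟩)))) (BT.node (nat_lit 4956) (BT.node (nat_lit 4954) (BT.node (nat_lit 4953) (BT.leaf ⟨(nat_lit 4), (nat_lit 728), (nat_lit 0), (nat_lit 0x18b19af9086714e7999bab918f6547b), (nat_lit 0), (nat_lit 0)⟩) (BT.leaf ⟨(nat_lit 4), (nat_lit 954), (nat_lit 0), (nat_lit 0x96ce8a040884afc480457a210123e7), (nat_lit 0), (nat_lit 0)⟩)) (BT.node (nat_lit 4955) (BT.leaf ⟨(nat_lit 4), (nat_lit 1191), (nat_lit 0), (nat_lit 0xae7652992b5d45588e657aee45caf9),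 (nat_lit 0), (nat_lit 0)⟩) (BT.leaf ⟨(nat_lit 4), (nat_lit 1495), (nat_lit 0), (nat_lit 0x1001a338dfc70117a402c01020f4420), (nat_lit 0), (nat_lit 0)⟩))) (BT.node (nat_lit 4958) (BT.node (nat_lit 4957) (BT.leaf ⟨(nat_lit 4), (nat_lit 1735), (nat_lit 0), (nat_lit 0x4fc178fa6e0cbf0a9af25a4b96610f), (nat_lit 0), (nat_lit 0)⟩) (BT.leaf ⟨(nat_lit 4), (nat_lit 1378), (nat_lit 0), (nat_lit 0x20a013e1045bd80301225a108eba5d), (nat_lit 0), (nat_lit 0)⟩)) (BT.node (nat_lit 4959) (BT.leaf ⟨(nat_lit 4), (nat_lit 1379), (nat_lit 0), (nat_lit 0x6032335f240354a0300fe95cc17e3a), (nat_lit 0), (nat_lit 0)⟩) (BT.leaf ⟨(nat_lit 4), (nat_lit 1736), (nat_lit 0), (nat_lit 0x13d0bcfdb39dbd28be74fe9bd655ed4), (nat_lit 0), (nat_lit 0)⟩)))))) (BT.node (nat_lit 4976) (BT.node (nat_lit 4968) (BT.node (nat_lit 4964) (BT.node (nat_lit 4962) (BT.node (nat_lit 4961) (BT.leaf ⟨(nat_lit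 4), (nat_lit 1987), (nat_lit 0), (nat_lit 0x1a78bb4de74967b13c96d83df64f5b1), (nat_lit 0), (nat_lit 0)⟩) (BT.leaf ⟨(nat_lit 4), (nat_lit 2468), (nat_lit 0), (nat_lit 0x95e55a5f6e0b7d3f85fd838b10fd65), (nat_lit 0), (nat_lit 0)⟩)) (BT.node (nat_lit 4963) (BT.leaf ⟨(nat_lit 4), (nat_lit 2803), (nat_lit 0), (nat_lit 0x2bc7abb25b2700301208408841002), (nat_lit 0), (nat_lit 0)⟩) (BT.leaf ⟨(nat_lit 4), (nat_lit 3197), (nat_lit 0), (nat_lit 0x1410f8c0080903bd048084e8d7c96f), (nat_lit 0), (nat_lit 0)⟩))) (BT.node (nat_lit 4966) (BT.node (nat_lit 4965) (BT.leaf ⟨(nat_lit 4), (nat_lit 3199), (nat_lit 0), (nat_lit 0x1d58d9742e8dd13a3e93bfe1f2a37c6), (nat_lit 0), (nat_lit 0)⟩) (BT.leaf ⟨(nat_lit 4), (nat_lit 2805), (nat_lit 0), (nat_lit 0xdb17c8b9472ac5cb2a9bfea655eab9), (nat_lit 0), (nat_lit 0)⟩)) (BT.node (nat_lit 4967) (BT.leaf ⟨(nat_lit 4), (nat_lit 2804), (nat_lit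 0), (nat_lit 0x10f7dbde9ad0ab8cdce8bd931ef07e8), (nat_lit 0), (nat_lit 0)⟩) (BT.leaf ⟨(nat_lit 4), (nat_lit 3198), (nat_lit 0), (nat_lit 0x4115e80c408050021d1bd9cf802884), (nat_lit 0), (nat_lit 0)⟩)))) (BT.node (nat_lit 4972) (BT.node (nat_lit 4970) (BT.node (nat_lit 4969) (BT.leaf ⟨(nat_lit 4), (nat_lit 3325), (nat_lit 0), (nat_lit 0xd7f2fadf0be97ab2d1949e6f3dbe2c), (nat_lit 0), (nat_lit 0)⟩) (BT.leaf ⟨(nat_lit 4), (nat_lit 168), (nat_lit 0), (nat_lit 0x2814018011107b869af472213dd155), (nat_lit 0), (nat_lit 0)⟩)) (BT.node (nat_lit 4971) (BT.leaf ⟨(nat_lit 4), (nat_lit 231), (nat_lit 0), (nat_lit 0xe58735836d8aa7a8a99472569dcab1), (nat_lit 0), (nat_lit 0)⟩) (BT.leaf ⟨(nat_lit 4), (nat_lit 305), (nat_lit 0), (nat_lit 0x4b7a278f3ae20b7b4022057a809738), (nat_lit 0), (nat_lit 0)⟩))) (BT.node (nat_lit 4974) (BT.node (nat_lit 4973) (BT.leaf ⟨(nat_lit 4),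 (nat_lit 412), (nat_lit 0), (nat_lit 0x1401dc910c744808402f204413468d5), (nat_lit 0), (nat_lit 0)⟩) (BT.leaf ⟨(nat_lit 4), (nat_lit 527), (nat_lit 0), (nat_lit 0xd199ae930f832fa17c6ecdc1ba21b2), (nat_lit 0), (nat_lit 0)⟩)) (BT.node (nat_lit 4975) (BT.leaf ⟨(nat_lit 4), (nat_lit 687), (nat_lit 0), (nat_lit 0x28010822da808018420ecd720faf1a), (nat_lit 0), (nat_lit 0)⟩) (BT.leaf ⟨(nat_lit 4), (nat_lit 877), (nat_lit 0), (nat_lit 0xa002fa049e9518f1e9e7aa84100202), (nat_lit 0), (nat_lit 0)⟩))))) (BT.node (nat_lit 4984) (BT.node (nat_lit 4980) (BT.node (nat_lit 4978) (BT.node (nat_lit 4977) (BT.leaf ⟨(nat_lit 4), (nat_lit 1126), (nat_lit 0), (nat_lit 0x152cfa9d53af757779557aa654e8f21), (nat_lit 0), (nat_lit 0)⟩) (BT.leaf ⟨(nat_lit 4), (nat_lit 1390), (nat_lit 0), (nat_lit 0x1b04734ab4ba96d0fd19cbe95c2f9bc), (nat_lit 0), (nat_lit 0)⟩)) (BT.node (nat_lit 4979)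 (BT.leaf ⟨(nat_lit 4), (nat_lit 1465), (nat_lit 0), (nat_lit 0xd1a80600fc74be0009ecbf0417a402), (nat_lit 0), (nat_lit 0)⟩) (BT.leaf ⟨(nat_lit 4), (nat_lit 1193), (nat_lit 0), (nat_lit 0x17fd4cabb2b513554abd72dd44732f9), (nat_lit 0), (nat_lit 0)⟩))) (BT.node (nat_lit 4982) (BT.node (nat_lit 4981) (BT.leaf ⟨(nat_lit 4), (nat_lit 956), (nat_lit 0), (nat_lit 0x4aeae3702dfa8997e6972c49c96acc), (nat_lit 0), (nat_lit 0)⟩) (BT.leaf ⟨(nat_lit 4), (nat_lit 632), (nat_lit 0), (nat_lit 0x10000110008008040746011279f1801), (nat_lit 0), (nat_lit 0)⟩)) (BT.node (nat_lit 4983) (BT.leaf ⟨(nat_lit 4), (nat_lit 786), (nat_lit 0), (nat_lit 0x1d3b7e3eb013cc958c0801006084048), (nat_lit 0), (nat_lit 0)⟩) (BT.leaf ⟨(nat_lit 4), (nat_lit 1050), (nat_lit 0), (nat_lit 0x1d100304200640809022e7080801082), (nat_lit 0), (nat_lit 0)⟩)))) (BT.node (nat_lit 4988) (BT.node (nat_lit 4986)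 (BT.node (nat_lit 4985) (BT.leaf ⟨(nat_lit 4), (nat_lit 2398), (nat_lit 0), (nat_lit 0x1c356f955500d8c404f3f7420be31af), (nat_lit 0), (nat_lit 0)⟩) (BT.leaf ⟨(nat_lit 4), (nat_lit 2750), (nat_lit 0), (nat_lit 0xd279f07cc2bde9690b7f74e9377d3a), (nat_lit 0), (nat_lit 0)⟩)) (BT.node (nat_lit 4987) (BT.leaf ⟨(nat_lit 4), (nat_lit 2801), (nat_lit 0), (nat_lit 0x11c95c00125c206009013a97a420f47), (nat_lit 0), (nat_lit 0)⟩) (BT.leaf ⟨(nat_lit 4), (nat_lit 636), (nat_lit 0), (nat_lit 0x8da8b9e36c6f0fbeae37d6e8e373e2), (nat_lit 0), (nat_lit 0)⟩))) (BT.node (nat_lit 4990) (BT.node (nat_lit 4989) (BT.leaf ⟨(nat_lit 4), (nat_lit 790), (nat_lit 0), (nat_lit 0x42158f8501295c051dd7d606104088), (nat_lit 0), (nat_lit 0)⟩) (BT.leaf ⟨(nat_lit 4), (nat_lit 1057), (nat_lit 0), (nat_lit 0x14020009e803f8da3073c0100b2fb8d), (nat_lit 0), (nat_lit 0)⟩)) (BT.node (nat_lit 4991)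 (BT.leaf ⟨(nat_lit 4), (nat_lit 1280), (nat_lit 0), (nat_lit 0x19cd0405fb1af5540300c009034f201), (nat_lit 0), (nat_lit 0)⟩) (BT.leaf ⟨(nat_lit 4), (nat_lit 1401), (nat_lit 0), (nat_lit 0xd26c187c16ece969615749eeb77d65), (nat_lit 0), (nat_lit 0)⟩)))))))
noncomputable def cP4928 : BT Pf := (BT.node (nat_lit 4960) (BT.node (nat_lit 4944) (BT.node (nat_lit 4936) (BT.node (nat_lit 4932) (BT.node (nat_lit 4930) (BT.node (nat_lit 4929) (BT.leaf (.pt (nat_lit 4646) (nat_lit 4))) (BT.leaf (.pt (nat_lit 4928) (nat_lit 1)))) (BT.node (nat_lit 4931) (BT.leaf (.pt (nat_lit 4929) (nat_lit 3))) (BT.leaf (.pt (nat_lit 4930) (nat_lit 1))))) (BT.node (nat_lit 4934) (BT.node (nat_lit 4933) (BT.leaf (.pt (nat_lit 4722) (nat_lit 4))) (BT.leaf (.pt (nat_lit 4932) (nat_lit 1)))) (BT.node (nat_lit 4935) (BT.leaf (.pt (nat_lit 4933) (nat_lit 4))) (BT.leaf (.pt (nat_lit 4934)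 (nat_lit 1)))))) (BT.node (nat_lit 4940) (BT.node (nat_lit 4938) (BT.node (nat_lit 4937) (BT.leaf (.pt (nat_lit 4546) (nat_lit 3))) (BT.leaf (.pt (nat_lit 4936) (nat_lit 1)))) (BT.node (nat_lit 4939) (BT.leaf (.pt (nat_lit 4937) (nat_lit 4))) (BT.leaf (.pt (nat_lit 4938) (nat_lit 1))))) (BT.node (nat_lit 4942) (BT.node (nat_lit 4941) (BT.leaf (.pt (nat_lit 4939) (nat_lit 4))) (BT.leaf (.pt (nat_lit 4940) (nat_lit 1)))) (BT.node (nat_lit 4943) (BT.leaf (.pt (nat_lit 4941) (nat_lit 4))) (BT.leaf (.pt (nat_lit 4942) (nat_lit 1))))))) (BT.node (nat_lit 4952) (BT.node (nat_lit 4948) (BT.node (nat_lit 4946) (BT.node (nat_lit 4945) (BT.leaf (.pt (nat_lit 4943) (nat_lit 3))) (BT.leaf (.pt (nat_lit 4516) (nat_lit 3)))) (BT.node (nat_lit 4947) (BT.leaf (.pt (nat_lit 4945) (nat_lit 1))) (BT.leaf (.pt (nat_lit 4946) (nat_lit 3))))) (BT.node (nat_lit 4950) (BT.node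 (nat_lit 4949) (BT.leaf (.pt (nat_lit 4947) (nat_lit 1))) (BT.leaf (.pt (nat_lit 4948) (nat_lit 4)))) (BT.node (nat_lit 4951) (BT.leaf (.pt (nat_lit 4949) (nat_lit 1))) (BT.leaf (.pt (nat_lit 4950) (nat_lit 3)))))) (BT.node (nat_lit 4956) (BT.node (nat_lit 4954) (BT.node (nat_lit 4953) (BT.leaf (.pt (nat_lit 4951) (nat_lit 1))) (BT.leaf (.pt (nat_lit 4952) (nat_lit 4)))) (BT.node (nat_lit 4955) (BT.leaf (.pt (nat_lit 4953) (nat_lit 1))) (BT.leaf (.pt (nat_lit 4954) (nat_lit 4))))) (BT.node (nat_lit 4958) (BT.node (nat_lit 4957) (BT.leaf (.pt (nat_lit 4591) (nat_lit 3))) (BT.leaf (.pt (nat_lit 4956) (nat_lit 1)))) (BT.node (nat_lit 4959) (BT.leaf (.pt (nat_lit 4957) (nat_lit 3))) (BT.leaf (.pt (nat_lit 4958) (nat_lit 1)))))))) (BT.node (nat_lit 4976) (BT.node (nat_lit 4968) (BT.node (nat_lit 4964) (BT.node (nat_lit 4962) (BT.node (nat_lit 4961) (BT.leaf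 (.pt (nat_lit 4959) (nat_lit 4))) (BT.leaf (.pt (nat_lit 4960) (nat_lit 1)))) (BT.node (nat_lit 4963) (BT.leaf (.pt (nat_lit 4961) (nat_lit 4))) (BT.leaf (.pt (nat_lit 4962) (nat_lit 1))))) (BT.node (nat_lit 4966) (BT.node (nat_lit 4965) (BT.leaf (.pt (nat_lit 4963) (nat_lit 4))) (BT.leaf (.pt (nat_lit 4964) (nat_lit 1)))) (BT.node (nat_lit 4967) (BT.leaf (.pt (nat_lit 4965) (nat_lit 4))) (BT.leaf (.pt (nat_lit 4966) (nat_lit 1)))))) (BT.node (nat_lit 4972) (BT.node (nat_lit 4970) (BT.node (nat_lit 4969) (BT.leaf (.pt (nat_lit 4967) (nat_lit 3))) (BT.leaf (.pt (nat_lit 4886) (nat_lit 3)))) (BT.node (nat_lit 4971) (BT.leaf (.pt (nat_lit 4969) (nat_lit 1))) (BT.leaf (.pt (nat_lit 4970) (nat_lit 4))))) (BT.node (nat_lit 4974) (BT.node (nat_lit 4973) (BT.leaf (.pt (nat_lit 4971) (nat_lit 1))) (BT.leaf (.pt (nat_lit 4972) (nat_lit 3)))) (BT.node (nat_lit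 4975) (BT.leaf (.pt (nat_lit 4973) (nat_lit 1))) (BT.leaf (.pt (nat_lit 4974) (nat_lit 4))))))) (BT.node (nat_lit 4984) (BT.node (nat_lit 4980) (BT.node (nat_lit 4978) (BT.node (nat_lit 4977) (BT.leaf (.pt (nat_lit 4975) (nat_lit 1))) (BT.leaf (.pt (nat_lit 4976) (nat_lit 3)))) (BT.node (nat_lit 4979) (BT.leaf (.pt (nat_lit 4977) (nat_lit 1))) (BT.leaf (.pt (nat_lit 4978) (nat_lit 3))))) (BT.node (nat_lit 4982) (BT.node (nat_lit 4981) (BT.leaf (.pt (nat_lit 4979) (nat_lit 1))) (BT.leaf (.pt (nat_lit 4937) (nat_lit 3)))) (BT.node (nat_lit 4983) (BT.leaf (.pt (nat_lit 4981) (nat_lit 1))) (BT.leaf (.pt (nat_lit 4982) (nat_lit 3)))))) (BT.node (nat_lit 4988) (BT.node (nat_lit 4986) (BT.node (nat_lit 4985) (BT.leaf (.pt (nat_lit 4874) (nat_lit 4))) (BT.leaf (.pt (nat_lit 4984) (nat_lit 1)))) (BT.node (nat_lit 4987) (BT.leaf (.pt (nat_lit 4985) (nat_lit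 4))) (BT.leaf (.pt (nat_lit 4896) (nat_lit 3))))) (BT.node (nat_lit 4990) (BT.node (nat_lit 4989) (BT.leaf (.pt (nat_lit 4987) (nat_lit 1))) (BT.leaf (.pt (nat_lit 4988) (nat_lit 4)))) (BT.node (nat_lit 4991) (BT.leaf (.pt (nat_lit 4989) (nat_lit 1))) (BT.leaf (.pt (nat_lit 4990) (nat_lit 4)))))))))
noncomputable def cF4992 : BT Fc := (BT.node (nat_lit 5024) (BT.node (nat_lit 5008) (BT.node (nat_lit 5000) (BT.node (nat_lit 4996) (BT.node (nat_lit 4994) (BT.node (nat_lit 4993) (BT.leaf ⟨(nat_lit 4), (nat_lit 1754), (nat_lit 0), (nat_lit 0x16c74f54bd8367a4f8ed749271ec313), (nat_lit 0), (nat_lit 0)⟩) (BT.leaf ⟨(nat_lit 4), (nat_lit 2129), (nat_lit 0), (nat_lit 0xe595ed341cd7fd5deb9772aa6c1f51), (nat_lit 0), (nat_lit 0)⟩)) (BT.node (nat_lit 4995) (BT.leaf ⟨(nat_lit 4), (nat_lit 2571), (nat_lit 0), (nat_lit 0x1403fa63a9d04806a82f77260346b5f), (nat_lit 0),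 (nat_lit 0)⟩) (BT.leaf ⟨(nat_lit 4), (nat_lit 2942), (nat_lit 0), (nat_lit 0x10110225bbd9e24427420481115e806), (nat_lit 0), (nat_lit 0)⟩))) (BT.node (nat_lit 4998) (BT.node (nat_lit 4997) (BT.leaf ⟨(nat_lit 4), (nat_lit 3269), (nat_lit 0), (nat_lit 0x1d9810299044f0f8d4200480c13fdc8), (nat_lit 0), (nat_lit 0)⟩) (BT.leaf ⟨(nat_lit 4), (nat_lit 895), (nat_lit 0), (nat_lit 0x282104533eaf0c1802404243d3f828), (nat_lit 0), (nat_lit 0)⟩)) (BT.node (nat_lit 4999) (BT.leaf ⟨(nat_lit 4), (nat_lit 991), (nat_lit 0), (nat_lit 0x179da5e013e33a388104327e391d4), (nat_lit 0), (nat_lit 0)⟩) (BT.leaf ⟨(nat_lit 4), (nat_lit 992), (nat_lit 0), (nat_lit 0x1012805d58101cc4f7e371b00a10410), (nat_lit 0), (nat_lit 0)⟩)))) (BT.node (nat_lit 5004) (BT.node (nat_lit 5002) (BT.node (nat_lit 5001) (BT.leaf ⟨(nat_lit 4), (nat_lit 1224), (nat_lit 0), (nat_lit 0x11b8bcfadf3b636e978971ba8b2c785),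 (nat_lit 0), (nat_lit 0)⟩) (BT.leaf ⟨(nat_lit 4), (nat_lit 1552), (nat_lit 0), (nat_lit 0x56ba8e27553ae55caf96d83985ca99), (nat_lit 0), (nat_lit 0)⟩)) (BT.node (nat_lit 5003) (BT.leaf ⟨(nat_lit 4), (nat_lit 1886), (nat_lit 0), (nat_lit 0x6572c3d53ea744eea366d875ea59c5), (nat_lit 0), (nat_lit 0)⟩) (BT.leaf ⟨(nat_lit 4), (nat_lit 2105), (nat_lit 0), (nat_lit 0x16a1695f8b905daf51e8bd8abba8de8), (nat_lit 0), (nat_lit 0)⟩))) (BT.node (nat_lit 5006) (BT.node (nat_lit 5005) (BT.leaf ⟨(nat_lit 4), (nat_lit 1656), (nat_lit 0), (nat_lit 0x17a6f019bbf17a21edeafd0c72e4176), (nat_lit 0), (nat_lit 0)⟩) (BT.leaf ⟨(nat_lit 4), (nat_lit 1976), (nat_lit 0), (nat_lit 0x80902220d3d4e8f1a01fd090339a10), (nat_lit 0), (nat_lit 0)⟩)) (BT.node (nat_lit 5007) (BT.leaf ⟨(nat_lit 4), (nat_lit 2226), (nat_lit 0), (nat_lit 0x9747338ad83eddafb70c586f2b2a7f), (nat_lit 0), (nat_lit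 0)⟩) (BT.leaf ⟨(nat_lit 4), (nat_lit 2635), (nat_lit 0), (nat_lit 0x157339b498a71ca31c71c58a1ed30ed), (nat_lit 0), (nat_lit 0)⟩))))) (BT.node (nat_lit 5016) (BT.node (nat_lit 5012) (BT.node (nat_lit 5010) (BT.node (nat_lit 5009) (BT.leaf ⟨(nat_lit 4), (nat_lit 2986), (nat_lit 0), (nat_lit 0xe591ce27532db226f51571ae4733b9), (nat_lit 0), (nat_lit 0)⟩) (BT.leaf ⟨(nat_lit 4), (nat_lit 3006), (nat_lit 0), (nat_lit 0x17a7c625e203d1f9d92e570f8a4f821), (nat_lit 0), (nat_lit 0)⟩)) (BT.node (nat_lit 5011) (BT.leaf ⟨(nat_lit 4), (nat_lit 3007), (nat_lit 0), (nat_lit 0x15a1400a0301079b1955f8c3011ce74), (nat_lit 0), (nat_lit 0)⟩) (BT.leaf ⟨(nat_lit 4), (nat_lit 3306), (nat_lit 0), (nat_lit 0x1a4fa75ff365d1a8caaef8cd1bb3646), (nat_lit 0), (nat_lit 0)⟩))) (BT.node (nat_lit 5014) (BT.node (nat_lit 5013) (BT.leaf ⟨(nat_lit 4), (nat_lit 3414), (nat_lit 0), (nat_lit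 0xf56c6b009e88830069e400841401e3), (nat_lit 0), (nat_lit 0)⟩) (BT.leaf ⟨(nat_lit 4), (nat_lit 3451), (nat_lit 0), (nat_lit 0x127a398807c60095c9d5400100806f4), (nat_lit 0), (nat_lit 0)⟩)) (BT.node (nat_lit 5015) (BT.leaf ⟨(nat_lit 4), (nat_lit 3452), (nat_lit 0), (nat_lit 0xc4fc29798dda37e6fadf1e2dec6b8d), (nat_lit 0), (nat_lit 0)⟩) (BT.leaf ⟨(nat_lit 4), (nat_lit 3635), (nat_lit 0), (nat_lit 0x8801a028044b44149cf1e04b7b3e1), (nat_lit 0), (nat_lit 0)⟩)))) (BT.node (nat_lit 5020) (BT.node (nat_lit 5018) (BT.node (nat_lit 5017) (BT.leaf ⟨(nat_lit 4), (nat_lit 3719), (nat_lit 0), (nat_lit 0xa23dbeb811bf00c10824e95fc2848), (nat_lit 0), (nat_lit 0)⟩) (BT.leaf ⟨(nat_lit 4), (nat_lit 3735), (nat_lit 0), (nat_lit 0xbf34ea22df31d9790f24f8556652f), (nat_lit 0), (nat_lit 0)⟩)) (BT.node (nat_lit 5019) (BT.leaf ⟨(nat_lit 4), (nat_lit 3637), (nat_lit 0), (nat_lit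 0x400020100800215c9d57c6802f478d), (nat_lit 0), (nat_lit 0)⟩) (BT.leaf ⟨(nat_lit 4), (nat_lit 3454), (nat_lit 0), (nat_lit 0x8d96660b8dcf0ff1ae37c66f1f9ba3), (nat_lit 0), (nat_lit 0)⟩))) (BT.node (nat_lit 5022) (BT.node (nat_lit 5021) (BT.leaf ⟨(nat_lit 5), (nat_lit 3), (nat_lit 0), (nat_lit 0x400000000000000000000000000000002100000000000020000000000000000000000000080000000000000000000000000000000000004000000000000000000000000000000000000000000000000000020000001000000000000000000000000000000000000000000004000000000000040000000000000000000000000000000000800000000000000000000000000000000000000000000000000000000200000800000000020000000000000000000040000000000000000000000000000000000000000000000000000000000000000000000000000000000000000000000000000000000000000002000000000200000080000000000000000000000140000000000000000000000400000002000000000000000000000000000000000040002000201000000000040000000080000000000000100000004000020000000000000000000000000000000000400000000000000000000010000400000000000000000000000000000000000000100000000000000000000000000001000000000000000000000000800000000000000080000001000000000000000000000000000000000000000000000001),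 (nat_lit 0), (nat_lit 0)⟩) (BT.leaf ⟨(nat_lit 4), (nat_lit 2380), (nat_lit 0), (nat_lit 0x422040087d695ef01dd24e0240c048), (nat_lit 0), (nat_lit 0)⟩)) (BT.node (nat_lit 5023) (BT.leaf ⟨(nat_lit 4), (nat_lit 1996), (nat_lit 0), (nat_lit 0x3ead893f2de6bc8782f24ff6c97acc), (nat_lit 0), (nat_lit 0)⟩) (BT.leaf ⟨(nat_lit 4), (nat_lit 1673), (nat_lit 0), (nat_lit 0x169b6519b8671ee3be738e714e79c63), (nat_lit 0), (nat_lit 0)⟩)))))) (BT.node (nat_lit 5040) (BT.node (nat_lit 5032) (BT.node (nat_lit 5028) (BT.node (nat_lit 5026) (BT.node (nat_lit 5025) (BT.leaf ⟨(nat_lit 4), (nat_lit 1300), (nat_lit 0), (nat_lit 0x80097880020401f19d58e6006f4040), (nat_lit 0), (nat_lit 0)⟩) (BT.leaf ⟨(nat_lit 4), (nat_lit 1301), (nat_lit 0), (nat_lit 0x2e6c1af9553d455c2b17734d3652bd), (nat_lit 0), (nat_lit 0)⟩)) (BT.node (nat_lit 5027) (BT.leaf ⟨(nat_lit 4), (nat_lit 1674), (nat_lit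 0), (nat_lit 0x42081573209918c0300772480a0110), (nat_lit 0), (nat_lit 0)⟩) (BT.leaf ⟨(nat_lit 4), (nat_lit 1999), (nat_lit 0), (nat_lit 0x10204f401809ae57a65f881201a3073), (nat_lit 0), (nat_lit 0)⟩))) (BT.node (nat_lit 5030) (BT.node (nat_lit 5029) (BT.leaf ⟨(nat_lit 4), (nat_lit 2477), (nat_lit 0), (nat_lit 0x87ca070686690028048881f3420844), (nat_lit 0), (nat_lit 0)⟩) (BT.leaf ⟨(nat_lit 4), (nat_lit 2554), (nat_lit 0), (nat_lit 0x1b06d8c9a1db27d89e27d3ddf44f26a), (nat_lit 0), (nat_lit 0)⟩)) (BT.node (nat_lit 5031) (BT.leaf ⟨(nat_lit 4), (nat_lit 3334), (nat_lit 0), (nat_lit 0x1a37e6bfeb1a99637313f19e37cef85), (nat_lit 0), (nat_lit 0)⟩) (BT.leaf ⟨(nat_lit 4), (nat_lit 3063), (nat_lit 0), (nat_lit 0x127c0281101275040901f184ba39201), (nat_lit 0), (nat_lit 0)⟩)))) (BT.node (nat_lit 5036) (BT.node (nat_lit 5034) (BT.node (nat_lit 5033) (BT.leaf ⟨(nat_lit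 4), (nat_lit 3064), (nat_lit 0), (nat_lit 0x137a202400910ccb7da832a183e6ba3), (nat_lit 0), (nat_lit 0)⟩) (BT.leaf ⟨(nat_lit 4), (nat_lit 3315), (nat_lit 0), (nat_lit 0x4088214022191b1d59e202c0080108), (nat_lit 0), (nat_lit 0)⟩)) (BT.node (nat_lit 5035) (BT.leaf ⟨(nat_lit 4), (nat_lit 3020), (nat_lit 0), (nat_lit 0x127e39001013bd44080320275020811), (nat_lit 0), (nat_lit 0)⟩) (BT.leaf ⟨(nat_lit 4), (nat_lit 3021), (nat_lit 0), (nat_lit 0x126af6014018110e8f42de00908273e), (nat_lit 0), (nat_lit 0)⟩))) (BT.node (nat_lit 5038) (BT.node (nat_lit 5037) (BT.leaf ⟨(nat_lit 4), (nat_lit 2909), (nat_lit 0), (nat_lit 0x6cbedff439c5e77a26ade13d3726fc), (nat_lit 0), (nat_lit 0)⟩) (BT.leaf ⟨(nat_lit 4), (nat_lit 2544), (nat_lit 0), (nat_lit 0xab8cdde05a57e3f45a84cbedef643d), (nat_lit 0), (nat_lit 0)⟩)) (BT.node (nat_lit 5039) (BT.leaf ⟨(nat_lit 4), (nat_lit 2093),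 (nat_lit 0), (nat_lit 0x1f3637789cb0e37468cb4cbeb7c28b7), (nat_lit 0), (nat_lit 0)⟩) (BT.leaf ⟨(nat_lit 4), (nat_lit 1732), (nat_lit 0), (nat_lit 0x1055c2013a97a44080301240600805), (nat_lit 0), (nat_lit 0)⟩))))) (BT.node (nat_lit 5048) (BT.node (nat_lit 5044) (BT.node (nat_lit 5042) (BT.node (nat_lit 5041) (BT.leaf ⟨(nat_lit 4), (nat_lit 1372), (nat_lit 0), (nat_lit 0x2bc2c08019d3b9904801295d041dd), (nat_lit 0), (nat_lit 0)⟩) (BT.leaf ⟨(nat_lit 4), (nat_lit 1115), (nat_lit 0), (nat_lit 0x1bda8be74de1bd77a26a9e8738d92f4), (nat_lit 0), (nat_lit 0)⟩)) (BT.node (nat_lit 5043) (BT.leaf ⟨(nat_lit 4), (nat_lit 855), (nat_lit 0), (nat_lit 0x1a7904546c00901eaa029e8c0140204), (nat_lit 0), (nat_lit 0)⟩) (BT.leaf ⟨(nat_lit 4), (nat_lit 854), (nat_lit 0), (nat_lit 0x3b5ff4730e6a1e29c639e769a19b35), (nat_lit 0), (nat_lit 0)⟩))) (BT.node (nat_lit 5046) (BT.node (nat_lit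 5045) (BT.leaf ⟨(nat_lit 4), (nat_lit 1114), (nat_lit 0), (nat_lit 0x241400c0f8c2084241e9e7ee840480), (nat_lit 0), (nat_lit 0)⟩) (BT.leaf ⟨(nat_lit 4), (nat_lit 1371), (nat_lit 0), (nat_lit 0xaa558a99bffb2873751572af55daf9), (nat_lit 0), (nat_lit 0)⟩)) (BT.node (nat_lit 5047) (BT.leaf ⟨(nat_lit 4), (nat_lit 1731), (nat_lit 0), (nat_lit 0x17a04000208127a0001057275410746), (nat_lit 0), (nat_lit 0)⟩) (BT.leaf ⟨(nat_lit 4), (nat_lit 2092), (nat_lit 0), (nat_lit 0x182cf19bc74656971be2787f8fbebe1), (nat_lit 0), (nat_lit 0)⟩)))) (BT.node (nat_lit 5052) (BT.node (nat_lit 5050) (BT.node (nat_lit 5049) (BT.leaf ⟨(nat_lit 4), (nat_lit 2543), (nat_lit 0), (nat_lit 0x84104be0440c3b35c87860913f860), (nat_lit 0), (nat_lit 0)⟩) (BT.leaf ⟨(nat_lit 4), (nat_lit 2677), (nat_lit 0), (nat_lit 0x80597a4040417d020b94214e8f1b00), (nat_lit 0), (nat_lit 0)⟩)) (BT.node (nat_lit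 5051) (BT.leaf ⟨(nat_lit 4), (nat_lit 2286), (nat_lit 0), (nat_lit 0xaa7cebf3221b924701142104028012), (nat_lit 0), (nat_lit 0)⟩) (BT.leaf ⟨(nat_lit 4), (nat_lit 2285), (nat_lit 0), (nat_lit 0xac44400c210820eec7b09125b7e3eb), (nat_lit 0), (nat_lit 0)⟩))) (BT.node (nat_lit 5054) (BT.node (nat_lit 5053) (BT.leaf ⟨(nat_lit 4), (nat_lit 2676), (nat_lit 0), (nat_lit 0x10cc286b4746104212f9091de822140), (nat_lit 0), (nat_lit 0)⟩) (BT.leaf ⟨(nat_lit 4), (nat_lit 3068), (nat_lit 0), (nat_lit 0x114fd69f57860a3b35c804808810ed4), (nat_lit 0), (nat_lit 0)⟩)) (BT.node (nat_lit 5055) (BT.leaf ⟨(nat_lit 4), (nat_lit 2840), (nat_lit 0), (nat_lit 0x17b022005de0af482477049268e8be7), (nat_lit 0), (nat_lit 0)⟩) (BT.leaf ⟨(nat_lit 4), (nat_lit 2497), (nat_lit 0), (nat_lit 0x131c9fe69fb643e97b701f40bdcb12e), (nat_lit 0), (nat_lit 0)⟩)))))))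
noncomputable def cP4992 : BT Pf := (BT.node (nat_lit 5024) (BT.node (nat_lit 5008) (BT.node (nat_lit 5000) (BT.node (nat_lit 4996) (BT.node (nat_lit 4994) (BT.node (nat_lit 4993) (BT.leaf (.pt (nat_lit 4991) (nat_lit 1))) (BT.leaf (.pt (nat_lit 4992) (nat_lit 3)))) (BT.node (nat_lit 4995) (BT.leaf (.pt (nat_lit 4993) (nat_lit 1))) (BT.leaf (.pt (nat_lit 4994) (nat_lit 3))))) (BT.node (nat_lit 4998) (BT.node (nat_lit 4997) (BT.leaf (.pt (nat_lit 4995) (nat_lit 1))) (BT.leaf (.pt (nat_lit 4807) (nat_lit 3)))) (BT.node (nat_lit 4999) (BT.leaf (.pt (nat_lit 4997) (nat_lit 1))) (BT.leaf (.pt (nat_lit 4998) (nat_lit 3)))))) (BT.node (nat_lit 5004) (BT.node (nat_lit 5002) (BT.node (nat_lit 5001) (BT.leaf (.pt (nat_lit 4999) (nat_lit 1))) (BT.leaf (.pt (nat_lit 5000) (nat_lit 4)))) (BT.node (nat_lit 5003) (BT.leaf (.pt (nat_lit 5001) (nat_lit 1))) (BT.leaf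 (.pt (nat_lit 5002) (nat_lit 3))))) (BT.node (nat_lit 5006) (BT.node (nat_lit 5005) (BT.leaf (.pt (nat_lit 4829) (nat_lit 3))) (BT.leaf (.pt (nat_lit 5004) (nat_lit 1)))) (BT.node (nat_lit 5007) (BT.leaf (.pt (nat_lit 5005) (nat_lit 4))) (BT.leaf (.pt (nat_lit 5006) (nat_lit 1))))))) (BT.node (nat_lit 5016) (BT.node (nat_lit 5012) (BT.node (nat_lit 5010) (BT.node (nat_lit 5009) (BT.leaf (.pt (nat_lit 5007) (nat_lit 3))) (BT.leaf (.pt (nat_lit 5008) (nat_lit 1)))) (BT.node (nat_lit 5011) (BT.leaf (.pt (nat_lit 5009) (nat_lit 3))) (BT.leaf (.pt (nat_lit 5010) (nat_lit 1))))) (BT.node (nat_lit 5014) (BT.node (nat_lit 5013) (BT.leaf (.pt (nat_lit 5011) (nat_lit 3))) (BT.leaf (.pt (nat_lit 5012) (nat_lit 1)))) (BT.node (nat_lit 5015) (BT.leaf (.pt (nat_lit 5013) (nat_lit 3))) (BT.leaf (.pt (nat_lit 5014) (nat_lit 1)))))) (BT.node (nat_lit 5020) (BT.node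 (nat_lit 5018) (BT.node (nat_lit 5017) (BT.leaf (.pt (nat_lit 5015) (nat_lit 3))) (BT.leaf (.pt (nat_lit 5016) (nat_lit 1)))) (BT.node (nat_lit 5019) (BT.leaf (.pt (nat_lit 5017) (nat_lit 4))) (BT.leaf (.pt (nat_lit 5018) (nat_lit 1))))) (BT.node (nat_lit 5022) (BT.node (nat_lit 5021) (BT.leaf (.cov [] [⟨(nat_lit 323), (nat_lit 4484), []⟩, ⟨(nat_lit 337), (nat_lit 4521), [(nat_lit 1600), (nat_lit 1140)]⟩, ⟨(nat_lit 354), (nat_lit 4686), [(nat_lit 211), (nat_lit 1009)]⟩, ⟨(nat_lit 365), (nat_lit 4700), [(nat_lit 466), (nat_lit 170)]⟩, ⟨(nat_lit 374), (nat_lit 4704), [(nat_lit 167), (nat_lit 498)]⟩, ⟨(nat_lit 382), (nat_lit 4708), [(nat_lit 321), (nat_lit 533)]⟩, ⟨(nat_lit 388), (nat_lit 4713), [(nat_lit 359), (nat_lit 385)]⟩, ⟨(nat_lit 397), (nat_lit 4714), [(nat_lit 321), (nat_lit 802)]⟩, ⟨(nat_lit 407), (nat_lit 4737), [(nat_lit 1126), (nat_lit 347)]⟩,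 ⟨(nat_lit 425), (nat_lit 4749), [(nat_lit 941), (nat_lit 173)]⟩, ⟨(nat_lit 442), (nat_lit 4758), [(nat_lit 167), (nat_lit 0)]⟩, ⟨(nat_lit 448), (nat_lit 4772), [(nat_lit 1103), (nat_lit 581)]⟩, ⟨(nat_lit 464), (nat_lit 4779), [(nat_lit 825), (nat_lit 142)]⟩, ⟨(nat_lit 471), (nat_lit 4788), [(nat_lit 1027), (nat_lit 431)]⟩, ⟨(nat_lit 476), (nat_lit 4668), [(nat_lit 350), (nat_lit 249)]⟩, ⟨(nat_lit 485), (nat_lit 4698), [(nat_lit 267), (nat_lit 498)]⟩, ⟨(nat_lit 489), (nat_lit 4801), [(nat_lit 484), (nat_lit 171)]⟩, ⟨(nat_lit 494), (nat_lit 4821), [(nat_lit 284), (nat_lit 1369)]⟩, ⟨(nat_lit 501), (nat_lit 4823), [(nat_lit 336), (nat_lit 395)]⟩, ⟨(nat_lit 505), (nat_lit 4711), [(nat_lit 1014), (nat_lit 1141)]⟩, ⟨(nat_lit 509), (nat_lit 4844), [(nat_lit 446), (nat_lit 140)]⟩, ⟨(nat_lit 514), (nat_lit 4618), [(nat_lit 507), (nat_lit 460)]⟩, ⟨(nat_lit 515),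 (nat_lit 4847), [(nat_lit 227), (nat_lit 1478)]⟩, ⟨(nat_lit 524), (nat_lit 4860), [(nat_lit 945), (nat_lit 874)]⟩, ⟨(nat_lit 531), (nat_lit 4874), [(nat_lit 942), (nat_lit 498)]⟩, ⟨(nat_lit 534), (nat_lit 4882), [(nat_lit 96), (nat_lit 1369)]⟩, ⟨(nat_lit 603), (nat_lit 4894), [(nat_lit 406), (nat_lit 379)]⟩, ⟨(nat_lit 617), (nat_lit 4908), [(nat_lit 526), (nat_lit 985)]⟩, ⟨(nat_lit 724), (nat_lit 4927), [(nat_lit 348), (nat_lit 1136)]⟩, ⟨(nat_lit 725), (nat_lit 4931), [(nat_lit 381), (nat_lit 1472)]⟩, ⟨(nat_lit 730), (nat_lit 4935), [(nat_lit 254), (nat_lit 625)]⟩, ⟨(nat_lit 745), (nat_lit 4944), [(nat_lit 394), (nat_lit 1211)]⟩, ⟨(nat_lit 748), (nat_lit 4955), [(nat_lit 630), (nat_lit 835)]⟩, ⟨(nat_lit 753), (nat_lit 4968), [(nat_lit 258), (nat_lit 676)]⟩, ⟨(nat_lit 757), (nat_lit 4980), [(nat_lit 352), (nat_lit 974)]⟩, ⟨(nat_lit 765), (nat_lit 4983),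 [(nat_lit 284), (nat_lit 398)]⟩, ⟨(nat_lit 788), (nat_lit 4986), [(nat_lit 673), (nat_lit 320)]⟩, ⟨(nat_lit 804), (nat_lit 4996), [(nat_lit 335), (nat_lit 279)]⟩, ⟨(nat_lit 810), (nat_lit 5003), [(nat_lit 226), (nat_lit 1091)]⟩, ⟨(nat_lit 820), (nat_lit 5019), [(nat_lit 1026), (nat_lit 985)]⟩])) (BT.leaf (.pt (nat_lit 4562) (nat_lit 4)))) (BT.node (nat_lit 5023) (BT.leaf (.pt (nat_lit 5021) (nat_lit 1))) (BT.leaf (.pt (nat_lit 5022) (nat_lit 4)))))))) (BT.node (nat_lit 5040) (BT.node (nat_lit 5032) (BT.node (nat_lit 5028) (BT.node (nat_lit 5026) (BT.node (nat_lit 5025) (BT.leaf (.pt (nat_lit 5023) (nat_lit 1))) (BT.leaf (.pt (nat_lit 5024) (nat_lit 3)))) (BT.node (nat_lit 5027) (BT.leaf (.pt (nat_lit 5025) (nat_lit 1))) (BT.leaf (.pt (nat_lit 5026) (nat_lit 4))))) (BT.node (nat_lit 5030) (BT.node (nat_lit 5029) (BT.leaf (.pt (nat_lit 5027) (nat_lit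 1))) (BT.leaf (.pt (nat_lit 5028) (nat_lit 3)))) (BT.node (nat_lit 5031) (BT.leaf (.pt (nat_lit 4967) (nat_lit 4))) (BT.leaf (.pt (nat_lit 5030) (nat_lit 1)))))) (BT.node (nat_lit 5036) (BT.node (nat_lit 5034) (BT.node (nat_lit 5033) (BT.leaf (.pt (nat_lit 5031) (nat_lit 3))) (BT.leaf (.pt (nat_lit 4629) (nat_lit 4)))) (BT.node (nat_lit 5035) (BT.leaf (.pt (nat_lit 5033) (nat_lit 1))) (BT.leaf (.pt (nat_lit 5034) (nat_lit 3))))) (BT.node (nat_lit 5038) (BT.node (nat_lit 5037) (BT.leaf (.pt (nat_lit 5035) (nat_lit 1))) (BT.leaf (.pt (nat_lit 5036) (nat_lit 3)))) (BT.node (nat_lit 5039) (BT.leaf (.pt (nat_lit 5037) (nat_lit 1))) (BT.leaf (.pt (nat_lit 5038) (nat_lit 4))))))) (BT.node (nat_lit 5048) (BT.node (nat_lit 5044) (BT.node (nat_lit 5042) (BT.node (nat_lit 5041) (BT.leaf (.pt (nat_lit 5039) (nat_lit 1))) (BT.leaf (.pt (nat_lit 5040) (nat_lit 4))))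 (BT.node (nat_lit 5043) (BT.leaf (.pt (nat_lit 5041) (nat_lit 1))) (BT.leaf (.pt (nat_lit 5042) (nat_lit 4))))) (BT.node (nat_lit 5046) (BT.node (nat_lit 5045) (BT.leaf (.pt (nat_lit 5043) (nat_lit 1))) (BT.leaf (.pt (nat_lit 5044) (nat_lit 4)))) (BT.node (nat_lit 5047) (BT.leaf (.pt (nat_lit 5045) (nat_lit 1))) (BT.leaf (.pt (nat_lit 5046) (nat_lit 4)))))) (BT.node (nat_lit 5052) (BT.node (nat_lit 5050) (BT.node (nat_lit 5049) (BT.leaf (.pt (nat_lit 5047) (nat_lit 1))) (BT.leaf (.pt (nat_lit 5048) (nat_lit 3)))) (BT.node (nat_lit 5051) (BT.leaf (.pt (nat_lit 5049) (nat_lit 1))) (BT.leaf (.pt (nat_lit 5050) (nat_lit 4))))) (BT.node (nat_lit 5054) (BT.node (nat_lit 5053) (BT.leaf (.pt (nat_lit 5051) (nat_lit 1))) (BT.leaf (.pt (nat_lit 5052) (nat_lit 4)))) (BT.node (nat_lit 5055) (BT.leaf (.pt (nat_lit 5053) (nat_lit 1))) (BT.leaf (.pt (nat_lit 5054)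 (nat_lit 4)))))))))
noncomputable def cF5056 : BT Fc := (BT.node (nat_lit 5088) (BT.node (nat_lit 5072) (BT.node (nat_lit 5064) (BT.node (nat_lit 5060) (BT.node (nat_lit 5058) (BT.node (nat_lit 5057) (BT.leaf ⟨(nat_lit 4), (nat_lit 2024), (nat_lit 0), (nat_lit 0xe28e8b6c3a96991b43d1f475f49f21), (nat_lit 0), (nat_lit 0)⟩) (BT.leaf ⟨(nat_lit 4), (nat_lit 1690), (nat_lit 0), (nat_lit 0x93c086e4023d58090308c7ca89fc10), (nat_lit 0), (nat_lit 0)⟩)) (BT.node (nat_lit 5059) (BT.leaf ⟨(nat_lit 4), (nat_lit 1320), (nat_lit 0), (nat_lit 0x114e79d5c0e79cf6562c8c75cd43c72), (nat_lit 0), (nat_lit 0)⟩) (BT.leaf ⟨(nat_lit 4), (nat_lit 528), (nat_lit 0), (nat_lit 0x10052f6f5e7600c20801f1802410811), (nat_lit 0), (nat_lit 0)⟩))) (BT.node (nat_lit 5062) (BT.node (nat_lit 5061) (BT.leaf ⟨(nat_lit 4), (nat_lit 688), (nat_lit 0), (nat_lit 0x1e3746fadf3ba8b2c38df18994bc8b7),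 (nat_lit 0), (nat_lit 0)⟩) (BT.leaf ⟨(nat_lit 4), (nat_lit 879), (nat_lit 0), (nat_lit 0x8005ca40420804f1e9e9e8f5597a20), (nat_lit 0), (nat_lit 0)⟩)) (BT.node (nat_lit 5063) (BT.leaf ⟨(nat_lit 4), (nat_lit 1128), (nat_lit 0), (nat_lit 0x9a8bcfdbda8bd0e76f49e9bf35a6e4), (nat_lit 0), (nat_lit 0)⟩) (BT.leaf ⟨(nat_lit 4), (nat_lit 1395), (nat_lit 0), (nat_lit 0xf63234a5ecd51ba17c6e0c1f1a3669), (nat_lit 0), (nat_lit 0)⟩)))) (BT.node (nat_lit 5068) (BT.node (nat_lit 5066) (BT.node (nat_lit 5065) (BT.leaf ⟨(nat_lit 4), (nat_lit 3389), (nat_lit 0), (nat_lit 0x1fd255b1c39dbdb726f02f3bd37aaf4), (nat_lit 0), (nat_lit 0)⟩) (BT.leaf ⟨(nat_lit 4), (nat_lit 3171), (nat_lit 0), (nat_lit 0x1e2786f8c71affbd6e8d2f3961328b7), (nat_lit 0), (nat_lit 0)⟩)) (BT.node (nat_lit 5067) (BT.leaf ⟨(nat_lit 4), (nat_lit 2774), (nat_lit 0), (nat_lit 0x96cde565cbfeddc525dc59b0655a4f),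 (nat_lit 0), (nat_lit 0)⟩) (BT.leaf ⟨(nat_lit 4), (nat_lit 2431), (nat_lit 0), (nat_lit 0x11c7652878c6cd639477c591cda4873), (nat_lit 0), (nat_lit 0)⟩))) (BT.node (nat_lit 5070) (BT.node (nat_lit 5069) (BT.leaf ⟨(nat_lit 4), (nat_lit 2432), (nat_lit 0), (nat_lit 0xf85b1fe37e7365f1e0b94a78cde236), (nat_lit 0), (nat_lit 0)⟩) (BT.leaf ⟨(nat_lit 4), (nat_lit 25), (nat_lit 0), (nat_lit 0x19d04841ef75f18c008835ed8d6ff0d), (nat_lit 0), (nat_lit 0)⟩)) (BT.node (nat_lit 5071) (BT.leaf ⟨(nat_lit 4), (nat_lit 35), (nat_lit 0), (nat_lit 0x13d10058da7417cf1e73a8c80597a04), (nat_lit 0), (nat_lit 0)⟩) (BT.leaf ⟨(nat_lit 4), (nat_lit 46), (nat_lit 0), (nat_lit 0xcd7a2669e84d19ec1b2a8dc186587c), (nat_lit 0), (nat_lit 0)⟩))))) (BT.node (nat_lit 5080) (BT.node (nat_lit 5076) (BT.node (nat_lit 5074) (BT.node (nat_lit 5073) (BT.leaf ⟨(nat_lit 4), (nat_lit 62), (nat_lit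 0), (nat_lit 0x11cc0873a009e342025f800081003e3), (nat_lit 0), (nat_lit 0)⟩) (BT.leaf ⟨(nat_lit 4), (nat_lit 80), (nat_lit 0), (nat_lit 0x197f5ce00fc7756978738010059d404), (nat_lit 0), (nat_lit 0)⟩)) (BT.node (nat_lit 5075) (BT.leaf ⟨(nat_lit 4), (nat_lit 113), (nat_lit 0), (nat_lit 0xb7eb40c06c6200c0088f746bcaaa80), (nat_lit 0), (nat_lit 0)⟩) (BT.leaf ⟨(nat_lit 4), (nat_lit 147), (nat_lit 0), (nat_lit 0x1cc99d6efa74d279f565f75c6bbd4d9), (nat_lit 0), (nat_lit 0)⟩))) (BT.node (nat_lit 5078) (BT.node (nat_lit 5077) (BT.leaf ⟨(nat_lit 4), (nat_lit 207), (nat_lit 0), (nat_lit 0x1d3affe46a8df19ec1b2e0dd099ae93), (nat_lit 0), (nat_lit 0)⟩) (BT.leaf ⟨(nat_lit 4), (nat_lit 266), (nat_lit 0), (nat_lit 0x1ad3bd43332a87dd1848e0c5bca0240), (nat_lit 0), (nat_lit 0)⟩)) (BT.node (nat_lit 5079) (BT.leaf ⟨(nat_lit 4), (nat_lit 367), (nat_lit 0), (nat_lit 0x1b920848e38bd5808f9d220fcd27c63),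 (nat_lit 0), (nat_lit 0)⟩) (BT.leaf ⟨(nat_lit 4), (nat_lit 463), (nat_lit 0), (nat_lit 0x1a34a035fae6421807f4220412cf0d5), (nat_lit 0), (nat_lit 0)⟩)))) (BT.node (nat_lit 5084) (BT.node (nat_lit 5082) (BT.node (nat_lit 5081) (BT.leaf ⟨(nat_lit 4), (nat_lit 617), (nat_lit 0), (nat_lit 0x995695e93377e2e45e82edfa2f07b7), (nat_lit 0), (nat_lit 0)⟩) (BT.leaf ⟨(nat_lit 4), (nat_lit 771), (nat_lit 0), (nat_lit 0x127acf496d829aaa5b132eddf64f8ed), (nat_lit 0), (nat_lit 0)⟩)) (BT.node (nat_lit 5083) (BT.leaf ⟨(nat_lit 4), (nat_lit 1023), (nat_lit 0), (nat_lit 0x1ceb9c349acbcee6cf2a39d8556971a), (nat_lit 0), (nat_lit 0)⟩) (BT.leaf ⟨(nat_lit 4), (nat_lit 1427), (nat_lit 0), (nat_lit 0x1ceef4ab825d1ca4f811082407a3801), (nat_lit 0), (nat_lit 0)⟩))) (BT.node (nat_lit 5086) (BT.node (nat_lit 5085) (BT.leaf ⟨(nat_lit 4), (nat_lit 1778), (nat_lit 0), (nat_lit 0x140307060809035a77a083f357c96f),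 (nat_lit 0), (nat_lit 0)⟩) (BT.leaf ⟨(nat_lit 4), (nat_lit 2173), (nat_lit 0), (nat_lit 0x10420409e801006eac02d72bd300346), (nat_lit 0), (nat_lit 0)⟩)) (BT.node (nat_lit 5087) (BT.leaf ⟨(nat_lit 4), (nat_lit 2091), (nat_lit 0), (nat_lit 0x178093f4e0900a0eec7b92c42158a57), (nat_lit 0), (nat_lit 0)⟩) (BT.leaf ⟨(nat_lit 4), (nat_lit 2542), (nat_lit 0), (nat_lit 0x3b7bee27d8327e4e17692d269ec4de), (nat_lit 0), (nat_lit 0)⟩)))))) (BT.node (nat_lit 5104) (BT.node (nat_lit 5096) (BT.node (nat_lit 5092) (BT.node (nat_lit 5090) (BT.node (nat_lit 5089) (BT.leaf ⟨(nat_lit 4), (nat_lit 2906), (nat_lit 0), (nat_lit 0x1570d796f6e19a49590f25d854938fa), (nat_lit 0), (nat_lit 0)⟩) (BT.leaf ⟨(nat_lit 4), (nat_lit 2976), (nat_lit 0), (nat_lit 0x87c60093a9bd55c47225c40420a5e), (nat_lit 0), (nat_lit 0)⟩)) (BT.node (nat_lit 5091) (BT.leaf ⟨(nat_lit 4), (nat_lit 2977), (nat_lit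 0), (nat_lit 0x281b1adf2aa300c07c6ce9200d7884), (nat_lit 0), (nat_lit 0)⟩) (BT.leaf ⟨(nat_lit 4), (nat_lit 392), (nat_lit 0), (nat_lit 0x1d38d90cb94bd0be33467b0cd783519), (nat_lit 0), (nat_lit 0)⟩))) (BT.node (nat_lit 5094) (BT.node (nat_lit 5093) (BT.leaf ⟨(nat_lit 4), (nat_lit 1612), (nat_lit 0), (nat_lit 0x180039c04a5f080f4346fc797e00410), (nat_lit 0), (nat_lit 0)⟩) (BT.leaf ⟨(nat_lit 4), (nat_lit 1936), (nat_lit 0), (nat_lit 0x1295d1be37e71b9f09e3fc6569f3acc), (nat_lit 0), (nat_lit 0)⟩)) (BT.node (nat_lit 5095) (BT.leaf ⟨(nat_lit 4), (nat_lit 2397), (nat_lit 0), (nat_lit 0x191880ce8221400c00d520840b46900), (nat_lit 0), (nat_lit 0)⟩) (BT.leaf ⟨(nat_lit 4), (nat_lit 2101), (nat_lit 0), (nat_lit 0x745f3f8900881095f4220896ef6014), (nat_lit 0), (nat_lit 0)⟩)))) (BT.node (nat_lit 5100) (BT.node (nat_lit 5098) (BT.node (nat_lit 5097) (BT.leaf ⟨(nat_lit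 4), (nat_lit 2102), (nat_lit 0), (nat_lit 0x7524f8110037a52f401403bd480881), (nat_lit 0), (nat_lit 0)⟩) (BT.leaf ⟨(nat_lit 4), (nat_lit 2551), (nat_lit 0), (nat_lit 0x18029d300500822c6bd540280908200), (nat_lit 0), (nat_lit 0)⟩)) (BT.node (nat_lit 5099) (BT.leaf ⟨(nat_lit 4), (nat_lit 1593), (nat_lit 0), (nat_lit 0xcd439bfe8e71c63be738a70ced362c), (nat_lit 0), (nat_lit 0)⟩) (BT.leaf ⟨(nat_lit 4), (nat_lit 1662), (nat_lit 0), (nat_lit 0x880181f54fe481e1f668a7723d6820), (nat_lit 0), (nat_lit 0)⟩))) (BT.node (nat_lit 5102) (BT.node (nat_lit 5101) (BT.leaf ⟨(nat_lit 4), (nat_lit 1661), (nat_lit 0), (nat_lit 0x1a7a4b49ad823b64fc1e627df6cf54b), (nat_lit 0), (nat_lit 0)⟩) (BT.leaf ⟨(nat_lit 4), (nat_lit 1981), (nat_lit 0), (nat_lit 0x1c37d6e8dcb032fc6d8d627f37c4dd2), (nat_lit 0), (nat_lit 0)⟩)) (BT.node (nat_lit 5103) (BT.leaf ⟨(nat_lit 4), (nat_lit 2464),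 (nat_lit 0), (nat_lit 0x1eeb9573bddee90e7615e7dce83e63a), (nat_lit 0), (nat_lit 0)⟩) (BT.leaf ⟨(nat_lit 4), (nat_lit 2321), (nat_lit 0), (nat_lit 0x4afc4f422088112d884e7cf9c029d1), (nat_lit 0), (nat_lit 0)⟩))))) (BT.node (nat_lit 5112) (BT.node (nat_lit 5108) (BT.node (nat_lit 5106) (BT.node (nat_lit 5105) (BT.leaf ⟨(nat_lit 4), (nat_lit 1879), (nat_lit 0), (nat_lit 0x14be102f4a00ce8f440280397f00346), (nat_lit 0), (nat_lit 0)⟩) (BT.leaf ⟨(nat_lit 4), (nat_lit 1544), (nat_lit 0), (nat_lit 0xc02a01e8e204ea12e8020077a901), (nat_lit 0), (nat_lit 0)⟩)) (BT.node (nat_lit 5107) (BT.leaf ⟨(nat_lit 4), (nat_lit 1543), (nat_lit 0), (nat_lit 0x2bc2de0e9d0202447bdf877444208), (nat_lit 0), (nat_lit 0)⟩) (BT.leaf ⟨(nat_lit 4), (nat_lit 2802), (nat_lit 0), (nat_lit 0x1780f42d298f6a0cdce8ad17b0bb751), (nat_lit 0), (nat_lit 0)⟩))) (BT.node (nat_lit 5110) (BT.node (nat_lit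 5109) (BT.leaf ⟨(nat_lit 4), (nat_lit 2861), (nat_lit 0), (nat_lit 0x6004141e47224040088ad0d8fdd1af), (nat_lit 0), (nat_lit 0)⟩) (BT.leaf ⟨(nat_lit 4), (nat_lit 2511), (nat_lit 0), (nat_lit 0x191865b35bfeabba3e930f9d1bab3d8), (nat_lit 0), (nat_lit 0)⟩)) (BT.node (nat_lit 5111) (BT.leaf ⟨(nat_lit 4), (nat_lit 279), (nat_lit 0), (nat_lit 0x1c6890022440280fac20da843d3f820), (nat_lit 0), (nat_lit 0)⟩) (BT.leaf ⟨(nat_lit 4), (nat_lit 388), (nat_lit 0), (nat_lit 0xbd143cabde9ad0bc9ceda9bc37b4f4), (nat_lit 0), (nat_lit 0)⟩)))) (BT.node (nat_lit 5116) (BT.node (nat_lit 5114) (BT.node (nat_lit 5113) (BT.leaf ⟨(nat_lit 4), (nat_lit 486), (nat_lit 0), (nat_lit 0x1ae55c36c572a6558e275774d17c8e6), (nat_lit 0), (nat_lit 0)⟩) (BT.leaf ⟨(nat_lit 4), (nat_lit 587), (nat_lit 0), (nat_lit 0x12737b0424bbce1014025764b4eb802), (nat_lit 0), (nat_lit 0)⟩)) (BT.node (nat_lit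 5115) (BT.leaf ⟨(nat_lit 4), (nat_lit 586), (nat_lit 0), (nat_lit 0xf619af4ea337fe52aaed275183e706), (nat_lit 0), (nat_lit 0)⟩) (BT.leaf ⟨(nat_lit 4), (nat_lit 742), (nat_lit 0), (nat_lit 0x10f4ebeef32b754ead4bd27960eeb8a), (nat_lit 0), (nat_lit 0)⟩))) (BT.node (nat_lit 5118) (BT.node (nat_lit 5117) (BT.leaf ⟨(nat_lit 4), (nat_lit 976), (nat_lit 0), (nat_lit 0x13a3fa2e3281918821802104028063a), (nat_lit 0), (nat_lit 0)⟩) (BT.leaf ⟨(nat_lit 4), (nat_lit 1211), (nat_lit 0), (nat_lit 0x220eec08e652592bde0210821f5848), (nat_lit 0), (nat_lit 0)⟩)) (BT.node (nat_lit 5119) (BT.leaf ⟨(nat_lit 4), (nat_lit 1527), (nat_lit 0), (nat_lit 0x19d3726b439d45e7a1b24d5f6ffa6f0), (nat_lit 0), (nat_lit 0)⟩) (BT.leaf ⟨(nat_lit 4), (nat_lit 1865), (nat_lit 0), (nat_lit 0xf624fd9e9352f84f41e4d527a6f3a4), (nat_lit 0), (nat_lit 0)⟩)))))))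
noncomputable def cP5056 : BT Pf := (BT.node (nat_lit 5088) (BT.node (nat_lit 5072) (BT.node (nat_lit 5064) (BT.node (nat_lit 5060) (BT.node (nat_lit 5058) (BT.node (nat_lit 5057) (BT.leaf (.pt (nat_lit 5055) (nat_lit 1))) (BT.leaf (.pt (nat_lit 5056) (nat_lit 3)))) (BT.node (nat_lit 5059) (BT.leaf (.pt (nat_lit 5057) (nat_lit 1))) (BT.leaf (.pt (nat_lit 4972) (nat_lit 4))))) (BT.node (nat_lit 5062) (BT.node (nat_lit 5061) (BT.leaf (.pt (nat_lit 5059) (nat_lit 1))) (BT.leaf (.pt (nat_lit 5060) (nat_lit 4)))) (BT.node (nat_lit 5063) (BT.leaf (.pt (nat_lit 5061) (nat_lit 1))) (BT.leaf (.pt (nat_lit 5062) (nat_lit 4)))))) (BT.node (nat_lit 5068) (BT.node (nat_lit 5066) (BT.node (nat_lit 5065) (BT.leaf (.pt (nat_lit 4870) (nat_lit 4))) (BT.leaf (.pt (nat_lit 5064) (nat_lit 1)))) (BT.node (nat_lit 5067) (BT.leaf (.pt (nat_lit 5065) (nat_lit 3))) (BT.leaf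 (.pt (nat_lit 5066) (nat_lit 1))))) (BT.node (nat_lit 5070) (BT.node (nat_lit 5069) (BT.leaf (.pt (nat_lit 5067) (nat_lit 3))) (BT.leaf (.pt (nat_lit 4601) (nat_lit 1)))) (BT.node (nat_lit 5071) (BT.leaf (.pt (nat_lit 5069) (nat_lit 3))) (BT.leaf (.pt (nat_lit 5070) (nat_lit 1))))))) (BT.node (nat_lit 5080) (BT.node (nat_lit 5076) (BT.node (nat_lit 5074) (BT.node (nat_lit 5073) (BT.leaf (.pt (nat_lit 5071) (nat_lit 3))) (BT.leaf (.pt (nat_lit 5072) (nat_lit 1)))) (BT.node (nat_lit 5075) (BT.leaf (.pt (nat_lit 5073) (nat_lit 4))) (BT.leaf (.pt (nat_lit 5074) (nat_lit 1))))) (BT.node (nat_lit 5078) (BT.node (nat_lit 5077) (BT.leaf (.pt (nat_lit 5075) (nat_lit 4))) (BT.leaf (.pt (nat_lit 5076) (nat_lit 1)))) (BT.node (nat_lit 5079) (BT.leaf (.pt (nat_lit 5077) (nat_lit 4))) (BT.leaf (.pt (nat_lit 5078) (nat_lit 1)))))) (BT.node (nat_lit 5084) (BT.node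 (nat_lit 5082) (BT.node (nat_lit 5081) (BT.leaf (.pt (nat_lit 5079) (nat_lit 4))) (BT.leaf (.pt (nat_lit 5080) (nat_lit 1)))) (BT.node (nat_lit 5083) (BT.leaf (.pt (nat_lit 5081) (nat_lit 3))) (BT.leaf (.pt (nat_lit 4920) (nat_lit 4))))) (BT.node (nat_lit 5086) (BT.node (nat_lit 5085) (BT.leaf (.pt (nat_lit 5083) (nat_lit 1))) (BT.leaf (.pt (nat_lit 5084) (nat_lit 4)))) (BT.node (nat_lit 5087) (BT.leaf (.pt (nat_lit 5046) (nat_lit 3))) (BT.leaf (.pt (nat_lit 5086) (nat_lit 1)))))))) (BT.node (nat_lit 5104) (BT.node (nat_lit 5096) (BT.node (nat_lit 5092) (BT.node (nat_lit 5090) (BT.node (nat_lit 5089) (BT.leaf (.pt (nat_lit 5087) (nat_lit 3))) (BT.leaf (.pt (nat_lit 5088) (nat_lit 1)))) (BT.node (nat_lit 5091) (BT.leaf (.pt (nat_lit 5089) (nat_lit 3))) (BT.leaf (.pt (nat_lit 4696) (nat_lit 3))))) (BT.node (nat_lit 5094) (BT.node (nat_lit 5093) (BT.leaf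 (.pt (nat_lit 4663) (nat_lit 4))) (BT.leaf (.pt (nat_lit 5092) (nat_lit 1)))) (BT.node (nat_lit 5095) (BT.leaf (.pt (nat_lit 5093) (nat_lit 4))) (BT.leaf (.pt (nat_lit 5094) (nat_lit 1)))))) (BT.node (nat_lit 5100) (BT.node (nat_lit 5098) (BT.node (nat_lit 5097) (BT.leaf (.pt (nat_lit 5095) (nat_lit 3))) (BT.leaf (.pt (nat_lit 5096) (nat_lit 1)))) (BT.node (nat_lit 5099) (BT.leaf (.pt (nat_lit 4564) (nat_lit 4))) (BT.leaf (.pt (nat_lit 5098) (nat_lit 1))))) (BT.node (nat_lit 5102) (BT.node (nat_lit 5101) (BT.leaf (.pt (nat_lit 5099) (nat_lit 4))) (BT.leaf (.pt (nat_lit 5100) (nat_lit 1)))) (BT.node (nat_lit 5103) (BT.leaf (.pt (nat_lit 5101) (nat_lit 4))) (BT.leaf (.pt (nat_lit 5102) (nat_lit 1))))))) (BT.node (nat_lit 5112) (BT.node (nat_lit 5108) (BT.node (nat_lit 5106) (BT.node (nat_lit 5105) (BT.leaf (.pt (nat_lit 5103) (nat_lit 4))) (BT.leaf (.pt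 (nat_lit 5104) (nat_lit 1)))) (BT.node (nat_lit 5107) (BT.leaf (.pt (nat_lit 5105) (nat_lit 4))) (BT.leaf (.pt (nat_lit 4961) (nat_lit 3))))) (BT.node (nat_lit 5110) (BT.node (nat_lit 5109) (BT.leaf (.pt (nat_lit 5107) (nat_lit 1))) (BT.leaf (.pt (nat_lit 5108) (nat_lit 4)))) (BT.node (nat_lit 5111) (BT.leaf (.pt (nat_lit 4853) (nat_lit 4))) (BT.leaf (.pt (nat_lit 5110) (nat_lit 1)))))) (BT.node (nat_lit 5116) (BT.node (nat_lit 5114) (BT.node (nat_lit 5113) (BT.leaf (.pt (nat_lit 5111) (nat_lit 4))) (BT.leaf (.pt (nat_lit 5112) (nat_lit 1)))) (BT.node (nat_lit 5115) (BT.leaf (.pt (nat_lit 5113) (nat_lit 4))) (BT.leaf (.pt (nat_lit 5114) (nat_lit 1))))) (BT.node (nat_lit 5118) (BT.node (nat_lit 5117) (BT.leaf (.pt (nat_lit 5115) (nat_lit 4))) (BT.leaf (.pt (nat_lit 5116) (nat_lit 1)))) (BT.node (nat_lit 5119) (BT.leaf (.pt (nat_lit 5117) (nat_lit 3)))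 (BT.leaf (.pt (nat_lit 5118) (nat_lit 1)))))))))

end CF.Dce.J4
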