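import Cfsg.Agent.Dce.Defs

set_option autoImplicit false
set_option maxRecDepth 1000000
set_option maxHeartbeats 0
set_option Elab.async false

namespace CF.Dce.J4
open CF.Comp

noncomputable def cF5120 : BT Fc := (BT.node (nat_lit 5152) (BT.node (nat_lit 5136) (BT.node (nat_lit 5128) (BT.node (nat_lit 5124) (BT.node (nat_lit 5122) (BT.node (nat_lit 5121) (BT.leaf ⟨(nat_lit 4), (nat_lit 2300), (nat_lit 0), (nat_lit 0x1d58e2f2a028140083f3061e7772210), (nat_lit 0), (nat_lit 0)⟩) (BT.leaf ⟨(nat_lit 4), (nat_lit 2688), (nat_lit 0), (nat_lit 0xf0e29ed4440a649076606043f8d024), (nat_lit 0), (nat_lit 0)⟩)) (BT.node (nat_lit 5123) (BT.leaf ⟨(nat_lit 4), (nat_lit 3078), (nat_lit 0), (nat_lit 0xfac050084100612bde0e6442158efc), (nat_lit 0), (nat_lit 0)⟩) (BT.leaf ⟨(nat_lit 4), (nat_lit 2897), (nat_lit 0), (nat_lit 0xb4b8d58339c1f39f4d9e642df9d53a), (nat_lit 0), (nat_lit 0)⟩))) (BT.node (nat_lit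 5126) (BT.node (nat_lit 5125) (BT.leaf ⟨(nat_lit 4), (nat_lit 2898), (nat_lit 0), (nat_lit 0x17a801a02dec00bc7812e890080525d), (nat_lit 0), (nat_lit 0)⟩) (BT.leaf ⟨(nat_lit 4), (nat_lit 3242), (nat_lit 0), (nat_lit 0x1d59ec74ea33f1affaaee8991aa31b2), (nat_lit 0), (nat_lit 0)⟩)) (BT.node (nat_lit 5127) (BT.leaf ⟨(nat_lit 4), (nat_lit 3448), (nat_lit 0), (nat_lit 0x716d365871475c7d1957aadb0aa9dd), (nat_lit 0), (nat_lit 0)⟩) (BT.leaf ⟨(nat_lit 4), (nat_lit 3577), (nat_lit 0), (nat_lit 0x902a3280411fa27a2107ab802c685f), (nat_lit 0), (nat_lit 0)⟩)))) (BT.node (nat_lit 5132) (BT.node (nat_lit 5130) (BT.node (nat_lit 5129) (BT.leaf ⟨(nat_lit 4), (nat_lit 3367), (nat_lit 0), (nat_lit 0x10ce29e2c8f6ff839c713371ded355c), (nat_lit 0), (nat_lit 0)⟩) (BT.leaf ⟨(nat_lit 4), (nat_lit 3134), (nat_lit 0), (nat_lit 0x17a96943d98f82eb45a8337d47dbde0), (nat_lit 0), (nat_lit 0)⟩)) (BT.node (nat_lit 5131)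 (BT.leaf ⟨(nat_lit 4), (nat_lit 2735), (nat_lit 0), (nat_lit 0xe4fc0125d1c8808014bc205f11d4), (nat_lit 0), (nat_lit 0)⟩) (BT.leaf ⟨(nat_lit 4), (nat_lit 2379), (nat_lit 0), (nat_lit 0x97fdb9bc71487d2ba5d4bc96f2fb70), (nat_lit 0), (nat_lit 0)⟩))) (BT.node (nat_lit 5134) (BT.node (nat_lit 5133) (BT.leaf ⟨(nat_lit 4), (nat_lit 1919), (nat_lit 0), (nat_lit 0x1279ec5b1a9627a4d0ed9bc9aa4fd9e), (nat_lit 0), (nat_lit 0)⟩) (BT.leaf ⟨(nat_lit 4), (nat_lit 1592), (nat_lit 0), (nat_lit 0x10cd20041280141d18409bc300b7995), (nat_lit 0), (nat_lit 0)⟩)) (BT.node (nat_lit 5135) (BT.leaf ⟨(nat_lit 4), (nat_lit 1249), (nat_lit 0), (nat_lit 0xcd557693c8d9a7e3346ead7fdec742), (nat_lit 0), (nat_lit 0)⟩) (BT.leaf ⟨(nat_lit 4), (nat_lit 3464), (nat_lit 0), (nat_lit 0x402740d5600ee71d59e22040746d73), (nat_lit 0), (nat_lit 0)⟩))))) (BT.node (nat_lit 5144) (BT.node (nat_lit 5140) (BT.node (nat_lit 5138) (BT.node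 (nat_lit 5137) (BT.leaf ⟨(nat_lit 4), (nat_lit 3643), (nat_lit 0), (nat_lit 0x123a0879d8c7b90480102200c0e2a10), (nat_lit 0), (nat_lit 0)⟩) (BT.leaf ⟨(nat_lit 4), (nat_lit 3652), (nat_lit 0), (nat_lit 0x5db05fe83370f6e47516396a2742d2), (nat_lit 0), (nat_lit 0)⟩)) (BT.node (nat_lit 5139) (BT.leaf ⟨(nat_lit 4), (nat_lit 3478), (nat_lit 0), (nat_lit 0x1134d97f439dbd8bca6a639bd67a287), (nat_lit 0), (nat_lit 0)⟩) (BT.leaf ⟨(nat_lit 4), (nat_lit 3479), (nat_lit 0), (nat_lit 0x56bf1f909b278df12367c26f305bc3), (nat_lit 0), (nat_lit 0)⟩))) (BT.node (nat_lit 5142) (BT.node (nat_lit 5141) (BT.leaf ⟨(nat_lit 4), (nat_lit 3653), (nat_lit 0), (nat_lit 0x75c035ea044028812bb7c210a38f38), (nat_lit 0), (nat_lit 0)⟩) (BT.leaf ⟨(nat_lit 4), (nat_lit 3739), (nat_lit 0), (nat_lit 0x7149f811060fcc480108c64400c5f8), (nat_lit 0), (nat_lit 0)⟩)) (BT.node (nat_lit 5143) (BT.leaf ⟨(nat_lit 4), (nat_lit 3752),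 (nat_lit 0), (nat_lit 0x11ce38c7b337b29a4da68c78b239453), (nat_lit 0), (nat_lit 0)⟩) (BT.leaf ⟨(nat_lit 4), (nat_lit 3659), (nat_lit 0), (nat_lit 0x4bf3490f98e4b9b82cc72da889f9af), (nat_lit 0), (nat_lit 0)⟩)))) (BT.node (nat_lit 5148) (BT.node (nat_lit 5146) (BT.node (nat_lit 5145) (BT.leaf ⟨(nat_lit 4), (nat_lit 3495), (nat_lit 0), (nat_lit 0x56a26aa947389d58ab972cee54cf51), (nat_lit 0), (nat_lit 0)⟩) (BT.leaf ⟨(nat_lit 4), (nat_lit 3276), (nat_lit 0), (nat_lit 0x1297a22aef8dd9b237477b1c1b34d19), (nat_lit 0), (nat_lit 0)⟩)) (BT.node (nat_lit 5147) (BT.leaf ⟨(nat_lit 4), (nat_lit 2957), (nat_lit 0), (nat_lit 0x127c4f5b1d83a7a4777d7b0c4cbb41e), (nat_lit 0), (nat_lit 0)⟩) (BT.leaf ⟨(nat_lit 4), (nat_lit 2756), (nat_lit 0), (nat_lit 0x11ca3bd73c58cd5a4da633718f39d5c), (nat_lit 0), (nat_lit 0)⟩))) (BT.node (nat_lit 5150) (BT.node (nat_lit 5149) (BT.leaf ⟨(nat_lit 4), (nat_lit 2406), (nat_lit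 0), (nat_lit 0x10f4bb7e898f82eb45e93376a2747b7), (nat_lit 0), (nat_lit 0)⟩) (BT.leaf ⟨(nat_lit 4), (nat_lit 59), (nat_lit 0), (nat_lit 0x241083f306004028756f3b18e082a9), (nat_lit 0), (nat_lit 0)⟩)) (BT.node (nat_lit 5151) (BT.leaf ⟨(nat_lit 4), (nat_lit 77), (nat_lit 0), (nat_lit 0x32cbcb8da69962e970df3be32377ad), (nat_lit 0), (nat_lit 0)⟩) (BT.leaf ⟨(nat_lit 4), (nat_lit 106), (nat_lit 0), (nat_lit 0x151997a2017278d00a007ab4e908240), (nat_lit 0), (nat_lit 0)⟩)))))) (BT.node (nat_lit 5168) (BT.node (nat_lit 5160) (BT.node (nat_lit 5156) (BT.node (nat_lit 5154) (BT.node (nat_lit 5153) (BT.leaf ⟨(nat_lit 4), (nat_lit 141), (nat_lit 0), (nat_lit 0x756a59c532a776eae937ab698fab6c), (nat_lit 0), (nat_lit 0)⟩) (BT.leaf ⟨(nat_lit 4), (nat_lit 194), (nat_lit 0), (nat_lit 0x4bfedb962de43eae2cc24e4ad9792e), (nat_lit 0), (nat_lit 0)⟩)) (BT.node (nat_lit 5155) (BT.leaf ⟨(nat_lit 4), (nat_lit 253),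 (nat_lit 0), (nat_lit 0xfaef02080124200c00824fcc958848), (nat_lit 0), (nat_lit 0)⟩) (BT.leaf ⟨(nat_lit 4), (nat_lit 347), (nat_lit 0), (nat_lit 0x145d356b4deb134e76d4fe92afeda87), (nat_lit 0), (nat_lit 0)⟩))) (BT.node (nat_lit 5158) (BT.node (nat_lit 5157) (BT.leaf ⟨(nat_lit 4), (nat_lit 449), (nat_lit 0), (nat_lit 0x4834682fae6601802e3fe8410a0101), (nat_lit 0), (nat_lit 0)⟩) (BT.leaf ⟨(nat_lit 4), (nat_lit 593), (nat_lit 0), (nat_lit 0x12f8bb49f1db37a4d62783c279353a4), (nat_lit 0), (nat_lit 0)⟩)) (BT.node (nat_lit 5159) (BT.leaf ⟨(nat_lit 4), (nat_lit 748), (nat_lit 0), (nat_lit 0x8e4aae74f75f18d78a083cb7c40cf3), (nat_lit 0), (nat_lit 0)⟩) (BT.leaf ⟨(nat_lit 4), (nat_lit 987), (nat_lit 0), (nat_lit 0x1d453299b5a57a7dbda855d7e0bb5ec), (nat_lit 0), (nat_lit 0)⟩)))) (BT.node (nat_lit 5164) (BT.node (nat_lit 5162) (BT.node (nat_lit 5161) (BT.leaf ⟨(nat_lit 4), (nat_lit 1222), (nat_lit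 0), (nat_lit 0x1c1ba73d8e85d18d95ff55cd199a87c), (nat_lit 0), (nat_lit 0)⟩) (BT.leaf ⟨(nat_lit 4), (nat_lit 1548), (nat_lit 0), (nat_lit 0x5008135f2093a1802e3ae7fd08059e), (nat_lit 0), (nat_lit 0)⟩)) (BT.node (nat_lit 5163) (BT.leaf ⟨(nat_lit 4), (nat_lit 1882), (nat_lit 0), (nat_lit 0x1e419ac731dbb29a4c33ae718f16477), (nat_lit 0), (nat_lit 0)⟩) (BT.leaf ⟨(nat_lit 4), (nat_lit 2325), (nat_lit 0), (nat_lit 0xf84eb806938974095ea5764b481202), (nat_lit 0), (nat_lit 0)⟩))) (BT.node (nat_lit 5166) (BT.node (nat_lit 5165) (BT.leaf ⟨(nat_lit 4), (nat_lit 2069), (nat_lit 0), (nat_lit 0x1d451cbb9172a655c95a5771355ee27), (nat_lit 0), (nat_lit 0)⟩) (BT.leaf ⟨(nat_lit 4), (nat_lit 2070), (nat_lit 0), (nat_lit 0x10f749d4b7aa74790b8a3eb754eb9c5), (nat_lit 0), (nat_lit 0)⟩)) (BT.node (nat_lit 5167) (BT.leaf ⟨(nat_lit 4), (nat_lit 2393), (nat_lit 0), (nat_lit 0x1bbeead4b3a9961b61d1d268d9c50d5), (nat_lit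 0), (nat_lit 0)⟩) (BT.leaf ⟨(nat_lit 4), (nat_lit 2632), (nat_lit 0), (nat_lit 0x16c5cb61524e0bc87ea22de6bfed92f), (nat_lit 0), (nat_lit 0)⟩))))) (BT.node (nat_lit 5176) (BT.node (nat_lit 5172) (BT.node (nat_lit 5170) (BT.node (nat_lit 5169) (BT.leaf ⟨(nat_lit 4), (nat_lit 2221), (nat_lit 0), (nat_lit 0x1f3420eb4080108284de2de903bd048), (nat_lit 0), (nat_lit 0)⟩) (BT.leaf ⟨(nat_lit 4), (nat_lit 1810), (nat_lit 0), (nat_lit 0x14d3a8ab157360c5cbb9576399cb299), (nat_lit 0), (nat_lit 0)⟩)) (BT.node (nat_lit 5171) (BT.leaf ⟨(nat_lit 4), (nat_lit 1463), (nat_lit 0), (nat_lit 0x409f092d04500b7b78f57620805002), (nat_lit 0), (nat_lit 0)⟩) (BT.leaf ⟨(nat_lit 4), (nat_lit 1464), (nat_lit 0), (nat_lit 0x13a2f4de8b91782b42d23d10f7a8fe8), (nat_lit 0), (nat_lit 0)⟩))) (BT.node (nat_lit 5174) (BT.node (nat_lit 5173) (BT.leaf ⟨(nat_lit 4), (nat_lit 1811), (nat_lit 0), (nat_lit 0xcea026b9c00d1a97d003d197e00420),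 (nat_lit 0), (nat_lit 0)⟩) (BT.leaf ⟨(nat_lit 4), (nat_lit 2222), (nat_lit 0), (nat_lit 0x1cedf10214020052f009e8e046f4881), (nat_lit 0), (nat_lit 0)⟩)) (BT.node (nat_lit 5175) (BT.leaf ⟨(nat_lit 4), (nat_lit 541), (nat_lit 0), (nat_lit 0x1838d0308400a25f5c8532093b31f5), (nat_lit 0), (nat_lit 0)⟩) (BT.leaf ⟨(nat_lit 4), (nat_lit 701), (nat_lit 0), (nat_lit 0x1d451cdff6d82e55c2f953313554eb9), (nat_lit 0), (nat_lit 0)⟩)))) (BT.node (nat_lit 5180) (BT.node (nat_lit 5178) (BT.node (nat_lit 5177) (BT.leaf ⟨(nat_lit 4), (nat_lit 903), (nat_lit 0), (nat_lit 0xb485bb3addfca8e7732a758578d3a4), (nat_lit 0), (nat_lit 0)⟩) (BT.leaf ⟨(nat_lit 4), (nat_lit 1150), (nat_lit 0), (nat_lit 0x8202fa20d3d9cea37e8a74813003d5), (nat_lit 0), (nat_lit 0)⟩)) (BT.node (nat_lit 5179) (BT.leaf ⟨(nat_lit 4), (nat_lit 1396), (nat_lit 0), (nat_lit 0x1e1786e58626e37c4f9d7fde3c5b979), (nat_lit 0), (nat_lit 0)⟩) (BT.leaf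 ⟨(nat_lit 4), (nat_lit 1749), (nat_lit 0), (nat_lit 0x118fc834950f1ce29c7b7fd572d30ed), (nat_lit 0), (nat_lit 0)⟩))) (BT.node (nat_lit 5182) (BT.node (nat_lit 5181) (BT.leaf ⟨(nat_lit 4), (nat_lit 2071), (nat_lit 0), (nat_lit 0x2416fc1ece8554d7c8010020786884), (nat_lit 0), (nat_lit 0)⟩) (BT.leaf ⟨(nat_lit 4), (nat_lit 1061), (nat_lit 0), (nat_lit 0x1e3cbcb13f3be37c6658b1a2dee9789), (nat_lit 0), (nat_lit 0)⟩)) (BT.node (nat_lit 5183) (BT.leaf ⟨(nat_lit 4), (nat_lit 1045), (nat_lit 0), (nat_lit 0xf573985f408823f4202b1a9034f210), (nat_lit 0), (nat_lit 0)⟩) (BT.leaf ⟨(nat_lit 4), (nat_lit 1044), (nat_lit 0), (nat_lit 0x355dc901209a349002fb3d3a08435f), (nat_lit 0), (nat_lit 0)⟩)))))))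
noncomputable def cP5120 : BT Pf := (BT.node (nat_lit 5152) (BT.node (nat_lit 5136) (BT.node (nat_lit 5128) (BT.node (nat_lit 5124) (BT.node (nat_lit 5122) (BT.node (nat_lit 5121) (BT.leaf (.pt (nat_lit 5119) (nat_lit 3))) (BT.leaf (.pt (nat_lit 5120) (nat_lit 1)))) (BT.node (nat_lit 5123) (BT.leaf (.pt (nat_lit 5121) (nat_lit 4))) (BT.leaf (.pt (nat_lit 5122) (nat_lit 1))))) (BT.node (nat_lit 5126) (BT.node (nat_lit 5125) (BT.leaf (.pt (nat_lit 5123) (nat_lit 3))) (BT.leaf (.pt (nat_lit 5124) (nat_lit 1)))) (BT.node (nat_lit 5127) (BT.leaf (.pt (nat_lit 5125) (nat_lit 4))) (BT.leaf (.pt (nat_lit 5126) (nat_lit 1)))))) (BT.node (nat_lit 5132) (BT.node (nat_lit 5130) (BT.node (nat_lit 5129) (BT.leaf (.pt (nat_lit 5127) (nat_lit 3))) (BT.leaf (.pt (nat_lit 5128) (nat_lit 1)))) (BT.node (nat_lit 5131) (BT.leaf (.pt (nat_lit 5129) (nat_lit 4))) (BT.leaf (.pt (nat_lit 5130) (nat_lit 1)))))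 (BT.node (nat_lit 5134) (BT.node (nat_lit 5133) (BT.leaf (.pt (nat_lit 5131) (nat_lit 3))) (BT.leaf (.pt (nat_lit 5132) (nat_lit 1)))) (BT.node (nat_lit 5135) (BT.leaf (.pt (nat_lit 5133) (nat_lit 3))) (BT.leaf (.pt (nat_lit 4625) (nat_lit 3))))))) (BT.node (nat_lit 5144) (BT.node (nat_lit 5140) (BT.node (nat_lit 5138) (BT.node (nat_lit 5137) (BT.leaf (.pt (nat_lit 5135) (nat_lit 1))) (BT.leaf (.pt (nat_lit 5136) (nat_lit 3)))) (BT.node (nat_lit 5139) (BT.leaf (.pt (nat_lit 5137) (nat_lit 1))) (BT.leaf (.pt (nat_lit 5138) (nat_lit 3))))) (BT.node (nat_lit 5142) (BT.node (nat_lit 5141) (BT.leaf (.pt (nat_lit 5139) (nat_lit 1))) (BT.leaf (.pt (nat_lit 5140) (nat_lit 4)))) (BT.node (nat_lit 5143) (BT.leaf (.pt (nat_lit 5141) (nat_lit 1))) (BT.leaf (.pt (nat_lit 5142) (nat_lit 3)))))) (BT.node (nat_lit 5148) (BT.node (nat_lit 5146) (BT.node (nat_lit 5145) (BT.leaf (.pt (nat_lit 5143) (nat_lit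 1))) (BT.leaf (.pt (nat_lit 5144) (nat_lit 3)))) (BT.node (nat_lit 5147) (BT.leaf (.pt (nat_lit 5145) (nat_lit 1))) (BT.leaf (.pt (nat_lit 5146) (nat_lit 4))))) (BT.node (nat_lit 5150) (BT.node (nat_lit 5149) (BT.leaf (.pt (nat_lit 5147) (nat_lit 1))) (BT.leaf (.pt (nat_lit 4774) (nat_lit 4)))) (BT.node (nat_lit 5151) (BT.leaf (.pt (nat_lit 5149) (nat_lit 1))) (BT.leaf (.pt (nat_lit 5150) (nat_lit 3)))))))) (BT.node (nat_lit 5168) (BT.node (nat_lit 5160) (BT.node (nat_lit 5156) (BT.node (nat_lit 5154) (BT.node (nat_lit 5153) (BT.leaf (.pt (nat_lit 5151) (nat_lit 1))) (BT.leaf (.pt (nat_lit 5152) (nat_lit 3)))) (BT.node (nat_lit 5155) (BT.leaf (.pt (nat_lit 5153) (nat_lit 1))) (BT.leaf (.pt (nat_lit 5154) (nat_lit 3))))) (BT.node (nat_lit 5158) (BT.node (nat_lit 5157) (BT.leaf (.pt (nat_lit 5155) (nat_lit 1))) (BT.leaf (.pt (nat_lit 5156) (nat_lit 3)))) (BT.node (nat_lit 5159) (BT.leaf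 (.pt (nat_lit 5157) (nat_lit 1))) (BT.leaf (.pt (nat_lit 5158) (nat_lit 3)))))) (BT.node (nat_lit 5164) (BT.node (nat_lit 5162) (BT.node (nat_lit 5161) (BT.leaf (.pt (nat_lit 5159) (nat_lit 1))) (BT.leaf (.pt (nat_lit 5160) (nat_lit 4)))) (BT.node (nat_lit 5163) (BT.leaf (.pt (nat_lit 5161) (nat_lit 1))) (BT.leaf (.pt (nat_lit 5162) (nat_lit 3))))) (BT.node (nat_lit 5166) (BT.node (nat_lit 5165) (BT.leaf (.pt (nat_lit 5163) (nat_lit 1))) (BT.leaf (.pt (nat_lit 5164) (nat_lit 3)))) (BT.node (nat_lit 5167) (BT.leaf (.pt (nat_lit 4794) (nat_lit 4))) (BT.leaf (.pt (nat_lit 5034) (nat_lit 4))))))) (BT.node (nat_lit 5176) (BT.node (nat_lit 5172) (BT.node (nat_lit 5170) (BT.node (nat_lit 5169) (BT.leaf (.pt (nat_lit 5167) (nat_lit 1))) (BT.leaf (.pt (nat_lit 5168) (nat_lit 3)))) (BT.node (nat_lit 5171) (BT.leaf (.pt (nat_lit 5169) (nat_lit 1))) (BT.leaf (.pt (nat_lit 5170) (nat_lit 3)))))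 (BT.node (nat_lit 5174) (BT.node (nat_lit 5173) (BT.leaf (.pt (nat_lit 5171) (nat_lit 1))) (BT.leaf (.pt (nat_lit 5172) (nat_lit 3)))) (BT.node (nat_lit 5175) (BT.leaf (.pt (nat_lit 4785) (nat_lit 3))) (BT.leaf (.pt (nat_lit 5174) (nat_lit 1)))))) (BT.node (nat_lit 5180) (BT.node (nat_lit 5178) (BT.node (nat_lit 5177) (BT.leaf (.pt (nat_lit 5175) (nat_lit 3))) (BT.leaf (.pt (nat_lit 5176) (nat_lit 1)))) (BT.node (nat_lit 5179) (BT.leaf (.pt (nat_lit 5177) (nat_lit 3))) (BT.leaf (.pt (nat_lit 5178) (nat_lit 1))))) (BT.node (nat_lit 5182) (BT.node (nat_lit 5181) (BT.leaf (.pt (nat_lit 5179) (nat_lit 3))) (BT.leaf (.pt (nat_lit 4716) (nat_lit 4)))) (BT.node (nat_lit 5183) (BT.leaf (.pt (nat_lit 5181) (nat_lit 1))) (BT.leaf (.pt (nat_lit 5182) (nat_lit 4)))))))))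
noncomputable def cF5184 : BT Fc := (BT.node (nat_lit 5216) (BT.node (nat_lit 5200) (BT.node (nat_lit 5192) (BT.node (nat_lit 5188) (BT.node (nat_lit 5186) (BT.node (nat_lit 5185) (BT.leaf ⟨(nat_lit 4), (nat_lit 1270), (nat_lit 0), (nat_lit 0x16c74f496d832724754bb3ce924fc9a), (nat_lit 0), (nat_lit 0)⟩) (BT.leaf ⟨(nat_lit 4), (nat_lit 1630), (nat_lit 0), (nat_lit 0xb33c83c3378b8e52b637c4fcdf0beb), (nat_lit 0), (nat_lit 0)⟩)) (BT.node (nat_lit 5187) (BT.leaf ⟨(nat_lit 4), (nat_lit 1951), (nat_lit 0), (nat_lit 0x2064f8030127500292e7c57a410a5e), (nat_lit 0), (nat_lit 0)⟩) (BT.leaf ⟨(nat_lit 4), (nat_lit 2423), (nat_lit 0), (nat_lit 0x13cc39e2c8f714ccdd73b4d0cfc8335), (nat_lit 0), (nat_lit 0)⟩))) (BT.node (nat_lit 5190) (BT.node (nat_lit 5189) (BT.leaf ⟨(nat_lit 4), (nat_lit 2346), (nat_lit 0), (nat_lit 0x242400a0f8cd8d40088f748e441674), (nat_lit 0), (nat_lit 0)⟩) (BT.leaf ⟨(nat_lit 4),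 (nat_lit 1591), (nat_lit 0), (nat_lit 0x114f8d0242412f94cfad21ef0c18021), (nat_lit 0), (nat_lit 0)⟩)) (BT.node (nat_lit 5191) (BT.leaf ⟨(nat_lit 4), (nat_lit 1918), (nat_lit 0), (nat_lit 0x1a88b793f25c4bc7d55c21ff6c9582f), (nat_lit 0), (nat_lit 0)⟩) (BT.leaf ⟨(nat_lit 4), (nat_lit 2377), (nat_lit 0), (nat_lit 0x2dd6963ae77cf8e73a4e75ccb8d583), (nat_lit 0), (nat_lit 0)⟩)))) (BT.node (nat_lit 5196) (BT.node (nat_lit 5194) (BT.node (nat_lit 5193) (BT.leaf ⟨(nat_lit 4), (nat_lit 2304), (nat_lit 0), (nat_lit 0x12792f8205720080878de74f8c80001), (nat_lit 0), (nat_lit 0)⟩) (BT.leaf ⟨(nat_lit 4), (nat_lit 3669), (nat_lit 0), (nat_lit 0x1f6e63b2f35f57087ea224e5be9792e), (nat_lit 0), (nat_lit 0)⟩)) (BT.node (nat_lit 5195) (BT.leaf ⟨(nat_lit 4), (nat_lit 3522), (nat_lit 0), (nat_lit 0x1e17a74080120280c6fc24e95d04088), (nat_lit 0), (nat_lit 0)⟩) (BT.leaf ⟨(nat_lit 4), (nat_lit 1056), (nat_lit 0),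 (nat_lit 0x1fd378674deb3d3726d49566ca8ba6a), (nat_lit 0), (nat_lit 0)⟩))) (BT.node (nat_lit 5198) (BT.node (nat_lit 5197) (BT.leaf ⟨(nat_lit 4), (nat_lit 1279), (nat_lit 0), (nat_lit 0x9ff2f9bcd838b2e935f95687d6fa5e), (nat_lit 0), (nat_lit 0)⟩) (BT.leaf ⟨(nat_lit 4), (nat_lit 1646), (nat_lit 0), (nat_lit 0x1c6b9d72a74873969615f742dda4cd9), (nat_lit 0), (nat_lit 0)⟩)) (BT.node (nat_lit 5199) (BT.leaf ⟨(nat_lit 4), (nat_lit 1966), (nat_lit 0), (nat_lit 0x6bd6fcf36c6600408a0f75f184841e), (nat_lit 0), (nat_lit 0)⟩) (BT.leaf ⟨(nat_lit 4), (nat_lit 2444), (nat_lit 0), (nat_lit 0x49e045e07d7cc8051dd0300248447b), (nat_lit 0), (nat_lit 0)⟩))))) (BT.node (nat_lit 5208) (BT.node (nat_lit 5204) (BT.node (nat_lit 5202) (BT.node (nat_lit 5201) (BT.leaf ⟨(nat_lit 4), (nat_lit 2782), (nat_lit 0), (nat_lit 0x714481108c60c24713f031e76fc3f3), (nat_lit 0), (nat_lit 0)⟩) (BT.leaf ⟨(nat_lit 4), (nat_lit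 3177), (nat_lit 0), (nat_lit 0x17575cfe30e67a1c6b3a84110204402), (nat_lit 0), (nat_lit 0)⟩)) (BT.node (nat_lit 5203) (BT.leaf ⟨(nat_lit 4), (nat_lit 1055), (nat_lit 0), (nat_lit 0x569f0b637e71b9f17e35c6b326cbe7), (nat_lit 0), (nat_lit 0)⟩) (BT.leaf ⟨(nat_lit 4), (nat_lit 1278), (nat_lit 0), (nat_lit 0x1402b9e3a2084206abb95c7678c0110), (nat_lit 0), (nat_lit 0)⟩))) (BT.node (nat_lit 5206) (BT.node (nat_lit 5205) (BT.leaf ⟨(nat_lit 4), (nat_lit 1643), (nat_lit 0), (nat_lit 0x100af501200c20a4e78f014089f0803), (nat_lit 0), (nat_lit 0)⟩) (BT.leaf ⟨(nat_lit 4), (nat_lit 1964), (nat_lit 0), (nat_lit 0x1e17a73eb01295f9940801449c0c00c), (nat_lit 0), (nat_lit 0)⟩)) (BT.node (nat_lit 5207) (BT.leaf ⟨(nat_lit 4), (nat_lit 3130), (nat_lit 0), (nat_lit 0x14671627f4bc97eb2ec10be93c7325b), (nat_lit 0), (nat_lit 0)⟩) (BT.leaf ⟨(nat_lit 4), (nat_lit 3363), (nat_lit 0), (nat_lit 0x1a7bf40b9408a027a5460be90110201),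 (nat_lit 0), (nat_lit 0)⟩)))) (BT.node (nat_lit 5212) (BT.node (nat_lit 5210) (BT.node (nat_lit 5209) (BT.leaf ⟨(nat_lit 4), (nat_lit 3491), (nat_lit 0), (nat_lit 0x1273c7f3800c974eb92d045bd8412bb), (nat_lit 0), (nat_lit 0)⟩) (BT.leaf ⟨(nat_lit 4), (nat_lit 3476), (nat_lit 0), (nat_lit 0x43d100a0533d9810cbe0440c38d024), (nat_lit 0), (nat_lit 0)⟩)) (BT.node (nat_lit 5211) (BT.leaf ⟨(nat_lit 4), (nat_lit 3475), (nat_lit 0), (nat_lit 0x49ef01dd562028843ebe64027a7088), (nat_lit 0), (nat_lit 0)⟩) (BT.leaf ⟨(nat_lit 4), (nat_lit 3651), (nat_lit 0), (nat_lit 0x13678d07cf74e939f615e6473b77d83), (nat_lit 0), (nat_lit 0)⟩))) (BT.node (nat_lit 5214) (BT.node (nat_lit 5213) (BT.leaf ⟨(nat_lit 4), (nat_lit 3612), (nat_lit 0), (nat_lit 0x182cf4751ad10f58e5ea2ed6a2f04e8), (nat_lit 0), (nat_lit 0)⟩) (BT.leaf ⟨(nat_lit 4), (nat_lit 3403), (nat_lit 0), (nat_lit 0x127076c96b3d279ec77d2ed27f13c1e), (nat_lit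 0), (nat_lit 0)⟩)) (BT.node (nat_lit 5215) (BT.leaf ⟨(nat_lit 4), (nat_lit 3314), (nat_lit 0), (nat_lit 0x100a10480a01ae600dd5801040f42f4), (nat_lit 0), (nat_lit 0)⟩) (BT.leaf ⟨(nat_lit 4), (nat_lit 3017), (nat_lit 0), (nat_lit 0x757c6de8de897c0400280010040100), (nat_lit 0), (nat_lit 0)⟩)))))) (BT.node (nat_lit 5232) (BT.node (nat_lit 5224) (BT.node (nat_lit 5220) (BT.node (nat_lit 5218) (BT.node (nat_lit 5217) (BT.leaf ⟨(nat_lit 4), (nat_lit 3016), (nat_lit 0), (nat_lit 0x1bbe9d73b39cceb9f615f75ccab2ad2), (nat_lit 0), (nat_lit 0)⟩) (BT.leaf ⟨(nat_lit 4), (nat_lit 2339), (nat_lit 0), (nat_lit 0x10015cf8d0081039d01010000a4f6f4), (nat_lit 0), (nat_lit 0)⟩)) (BT.node (nat_lit 5219) (BT.leaf ⟨(nat_lit 4), (nat_lit 2340), (nat_lit 0), (nat_lit 0x197cde4ab4b7b052eb8a43f4656fb70), (nat_lit 0), (nat_lit 0)⟩) (BT.leaf ⟨(nat_lit 4), (nat_lit 2714), (nat_lit 0), (nat_lit 0x655200c02df6a3e6c4043e1075a044),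 (nat_lit 0), (nat_lit 0)⟩))) (BT.node (nat_lit 5222) (BT.node (nat_lit 5221) (BT.leaf ⟨(nat_lit 4), (nat_lit 3110), (nat_lit 0), (nat_lit 0x169ab9c71ab98b229c7b50eff8cdcf3), (nat_lit 0), (nat_lit 0)⟩) (BT.leaf ⟨(nat_lit 4), (nat_lit 3040), (nat_lit 0), (nat_lit 0x1bf35a31cce8bd37872150e6cb7b7db), (nat_lit 0), (nat_lit 0)⟩)) (BT.node (nat_lit 5223) (BT.leaf ⟨(nat_lit 4), (nat_lit 826), (nat_lit 0), (nat_lit 0x14e8e771a16f8579df3ac755959d73e), (nat_lit 0), (nat_lit 0)⟩) (BT.leaf ⟨(nat_lit 4), (nat_lit 1094), (nat_lit 0), (nat_lit 0x400a050020842171b00c746009068d), (nat_lit 0), (nat_lit 0)⟩)))) (BT.node (nat_lit 5228) (BT.node (nat_lit 5226) (BT.node (nat_lit 5225) (BT.leaf ⟨(nat_lit 4), (nat_lit 1336), (nat_lit 0), (nat_lit 0xae6ffab857b60f6575153256958eb9), (nat_lit 0), (nat_lit 0)⟩) (BT.leaf ⟨(nat_lit 4), (nat_lit 1702), (nat_lit 0), (nat_lit 0x172090028840883d68205329fc10824), (nat_lit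 0), (nat_lit 0)⟩)) (BT.node (nat_lit 5227) (BT.leaf ⟨(nat_lit 4), (nat_lit 3540), (nat_lit 0), (nat_lit 0x125a3da087d67741400a1101212bf32), (nat_lit 0), (nat_lit 0)⟩) (BT.leaf ⟨(nat_lit 4), (nat_lit 3440), (nat_lit 0), (nat_lit 0x20b86adff748e7e341e11020540363), (nat_lit 0), (nat_lit 0)⟩))) (BT.node (nat_lit 5230) (BT.node (nat_lit 5229) (BT.leaf ⟨(nat_lit 4), (nat_lit 3230), (nat_lit 0), (nat_lit 0x100a00420675022801e8c00d1b5ce5f), (nat_lit 0), (nat_lit 0)⟩) (BT.leaf ⟨(nat_lit 4), (nat_lit 2878), (nat_lit 0), (nat_lit 0x1fa1400b90bfa78f1a02c009011053a), (nat_lit 0), (nat_lit 0)⟩)) (BT.node (nat_lit 5231) (BT.leaf ⟨(nat_lit 4), (nat_lit 2519), (nat_lit 0), (nat_lit 0x17a00273a4be0802000893dbd200100), (nat_lit 0), (nat_lit 0)⟩) (BT.leaf ⟨(nat_lit 4), (nat_lit 2058), (nat_lit 0), (nat_lit 0x125a4709eb3d6c71397693cf61d26c1), (nat_lit 0), (nat_lit 0)⟩))))) (BT.node (nat_lit 5240) (BT.node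 (nat_lit 5236) (BT.node (nat_lit 5234) (BT.node (nat_lit 5233) (BT.leaf ⟨(nat_lit 4), (nat_lit 3096), (nat_lit 0), (nat_lit 0x6cb7a7dbde1b937e6d4ce873a55f21), (nat_lit 0), (nat_lit 0)⟩) (BT.leaf ⟨(nat_lit 4), (nat_lit 2704), (nat_lit 0), (nat_lit 0x1296372367ce6f26cba37e6f85b1ae3), (nat_lit 0), (nat_lit 0)⟩)) (BT.node (nat_lit 5235) (BT.leaf ⟨(nat_lit 5), (nat_lit 3), (nat_lit 0), (nat_lit 0x40000000000000000000000000000000000000000000000000400000000000000000000000000000000000000000400000000000000000000000000000000000008000002000000000000000000000000000100020100000100000000020000000000000000000000000000000000000000000000000000000000000000800100000000000000000000000000000000000004800000000080020000000000000001008000400200000000000400000000010000000000000000000040000000000020000000000000000008000000c0040000000000000080000000100000000000000000000000000000000000000000000000000000000000000000400000000000000000000000000000000000000080000000000000000000000000000000000008000000000000000001000000000000000002000000000000000000000000000000000000000000000000000000008000000000000000040000000000000000000000000000000000000000000000000000000000000000000000000000000000000000000000000000000000000000000010000000000000000000000100000000000000000000000000000000000000000000000000000000000000800000000000000000000000000000000000),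 (nat_lit 0), (nat_lit 0)⟩) (BT.leaf ⟨(nat_lit 4), (nat_lit 93), (nat_lit 0), (nat_lit 0x11cd9ac7bae666fc86caab8a1e39433), (nat_lit 0), (nat_lit 0)⟩))) (BT.node (nat_lit 5238) (BT.node (nat_lit 5237) (BT.leaf ⟨(nat_lit 4), (nat_lit 129), (nat_lit 0), (nat_lit 0xe589692e2df4bed892fab9a889382f), (nat_lit 0), (nat_lit 0)⟩) (BT.leaf ⟨(nat_lit 4), (nat_lit 171), (nat_lit 0), (nat_lit 0x3982f9bc43f8b12da4f4afb072fa5e), (nat_lit 0), (nat_lit 0)⟩)) (BT.node (nat_lit 5239) (BT.leaf ⟨(nat_lit 4), (nat_lit 234), (nat_lit 0), (nat_lit 0x6093c08012020842b14afbf1f5848), (nat_lit 0), (nat_lit 0)⟩) (BT.leaf ⟨(nat_lit 4), (nat_lit 311), (nat_lit 0), (nat_lit 0x1cab9c73ee7759777f1a9b38eb9d33a), (nat_lit 0), (nat_lit 0)⟩)))) (BT.node (nat_lit 5244) (BT.node (nat_lit 5242) (BT.node (nat_lit 5241) (BT.leaf ⟨(nat_lit 4), (nat_lit 417), (nat_lit 0), (nat_lit 0xf0df5be3fc6569d1bf39b3df5f3be2), (nat_lit 0),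 (nat_lit 0)⟩) (BT.leaf ⟨(nat_lit 4), (nat_lit 495), (nat_lit 0), (nat_lit 0x884100380401a4e25d577e3f9c1d7), (nat_lit 0), (nat_lit 0)⟩)) (BT.node (nat_lit 5243) (BT.leaf ⟨(nat_lit 4), (nat_lit 660), (nat_lit 0), (nat_lit 0x39affd836d9d455ca99576ee55c6b9), (nat_lit 0), (nat_lit 0)⟩) (BT.leaf ⟨(nat_lit 4), (nat_lit 827), (nat_lit 0), (nat_lit 0xb7c444802aa204c0084ad19d04141e), (nat_lit 0), (nat_lit 0)⟩))) (BT.node (nat_lit 5246) (BT.node (nat_lit 5245) (BT.leaf ⟨(nat_lit 4), (nat_lit 1095), (nat_lit 0), (nat_lit 0x17b3f45ea2ec66d697b7ad0994f443d), (nat_lit 0), (nat_lit 0)⟩) (BT.leaf ⟨(nat_lit 4), (nat_lit 3404), (nat_lit 0), (nat_lit 0x1e75c6ea2f1b4d237313b1be33c7f89), (nat_lit 0), (nat_lit 0)⟩)) (BT.node (nat_lit 5247) (BT.leaf ⟨(nat_lit 4), (nat_lit 3424), (nat_lit 0), (nat_lit 0x1a7aa3202408f5540210b1a88197a00), (nat_lit 0), (nat_lit 0)⟩) (BT.leaf ⟨(nat_lit 4), (nat_lit 3423), (nat_lit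 0), (nat_lit 0x5d98e60bbd8994cdce898f5a21edea), (nat_lit 0), (nat_lit 0)⟩)))))))
noncomputable def cP5184 : BT Pf := (BT.node (nat_lit 5216) (BT.node (nat_lit 5200) (BT.node (nat_lit 5192) (BT.node (nat_lit 5188) (BT.node (nat_lit 5186) (BT.node (nat_lit 5185) (BT.leaf (.pt (nat_lit 5183) (nat_lit 1))) (BT.leaf (.pt (nat_lit 5184) (nat_lit 4)))) (BT.node (nat_lit 5187) (BT.leaf (.pt (nat_lit 5185) (nat_lit 1))) (BT.leaf (.pt (nat_lit 5186) (nat_lit 3))))) (BT.node (nat_lit 5190) (BT.node (nat_lit 5189) (BT.leaf (.pt (nat_lit 4790) (nat_lit 4))) (BT.leaf (.pt (nat_lit 5133) (nat_lit 4)))) (BT.node (nat_lit 5191) (BT.leaf (.pt (nat_lit 5189) (nat_lit 1))) (BT.leaf (.pt (nat_lit 5190) (nat_lit 3)))))) (BT.node (nat_lit 5196) (BT.node (nat_lit 5194) (BT.node (nat_lit 5193) (BT.leaf (.pt (nat_lit 5191) (nat_lit 1))) (BT.leaf (.pt (nat_lit 4627) (nat_lit 3)))) (BT.node (nat_lit 5195) (BT.leaf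 (.pt (nat_lit 5193) (nat_lit 1))) (BT.leaf (.pt (nat_lit 4988) (nat_lit 3))))) (BT.node (nat_lit 5198) (BT.node (nat_lit 5197) (BT.leaf (.pt (nat_lit 5195) (nat_lit 1))) (BT.leaf (.pt (nat_lit 5196) (nat_lit 4)))) (BT.node (nat_lit 5199) (BT.leaf (.pt (nat_lit 5197) (nat_lit 1))) (BT.leaf (.pt (nat_lit 5198) (nat_lit 4))))))) (BT.node (nat_lit 5208) (BT.node (nat_lit 5204) (BT.node (nat_lit 5202) (BT.node (nat_lit 5201) (BT.leaf (.pt (nat_lit 5199) (nat_lit 1))) (BT.leaf (.pt (nat_lit 5200) (nat_lit 3)))) (BT.node (nat_lit 5203) (BT.leaf (.pt (nat_lit 4550) (nat_lit 4))) (BT.leaf (.pt (nat_lit 5202) (nat_lit 1))))) (BT.node (nat_lit 5206) (BT.node (nat_lit 5205) (BT.leaf (.pt (nat_lit 5203) (nat_lit 3))) (BT.leaf (.pt (nat_lit 5204) (nat_lit 1)))) (BT.node (nat_lit 5207) (BT.leaf (.pt (nat_lit 4724) (nat_lit 3))) (BT.leaf (.pt (nat_lit 5206) (nat_lit 1)))))) (BT.node (nat_lit 5212)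 (BT.node (nat_lit 5210) (BT.node (nat_lit 5209) (BT.leaf (.pt (nat_lit 5207) (nat_lit 4))) (BT.leaf (.pt (nat_lit 5208) (nat_lit 1)))) (BT.node (nat_lit 5211) (BT.leaf (.pt (nat_lit 5209) (nat_lit 4))) (BT.leaf (.pt (nat_lit 5210) (nat_lit 1))))) (BT.node (nat_lit 5214) (BT.node (nat_lit 5213) (BT.leaf (.pt (nat_lit 5211) (nat_lit 3))) (BT.leaf (.pt (nat_lit 5212) (nat_lit 1)))) (BT.node (nat_lit 5215) (BT.leaf (.pt (nat_lit 5213) (nat_lit 3))) (BT.leaf (.pt (nat_lit 5214) (nat_lit 1)))))))) (BT.node (nat_lit 5232) (BT.node (nat_lit 5224) (BT.node (nat_lit 5220) (BT.node (nat_lit 5218) (BT.node (nat_lit 5217) (BT.leaf (.pt (nat_lit 5215) (nat_lit 4))) (BT.leaf (.pt (nat_lit 5180) (nat_lit 1)))) (BT.node (nat_lit 5219) (BT.leaf (.pt (nat_lit 5217) (nat_lit 3))) (BT.leaf (.pt (nat_lit 5218) (nat_lit 1))))) (BT.node (nat_lit 5222) (BT.node (nat_lit 5221) (BT.leaf (.pt (nat_lit 5219) (nat_lit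 4))) (BT.leaf (.pt (nat_lit 5220) (nat_lit 1)))) (BT.node (nat_lit 5223) (BT.leaf (.pt (nat_lit 4694) (nat_lit 3))) (BT.leaf (.pt (nat_lit 5222) (nat_lit 1)))))) (BT.node (nat_lit 5228) (BT.node (nat_lit 5226) (BT.node (nat_lit 5225) (BT.leaf (.pt (nat_lit 5223) (nat_lit 4))) (BT.leaf (.pt (nat_lit 5224) (nat_lit 1)))) (BT.node (nat_lit 5227) (BT.leaf (.pt (nat_lit 4730) (nat_lit 3))) (BT.leaf (.pt (nat_lit 5226) (nat_lit 1))))) (BT.node (nat_lit 5230) (BT.node (nat_lit 5229) (BT.leaf (.pt (nat_lit 5227) (nat_lit 4))) (BT.leaf (.pt (nat_lit 5228) (nat_lit 1)))) (BT.node (nat_lit 5231) (BT.leaf (.pt (nat_lit 5229) (nat_lit 3))) (BT.leaf (.pt (nat_lit 5230) (nat_lit 1))))))) (BT.node (nat_lit 5240) (BT.node (nat_lit 5236) (BT.node (nat_lit 5234) (BT.node (nat_lit 5233) (BT.leaf (.pt (nat_lit 5090) (nat_lit 1))) (BT.leaf (.pt (nat_lit 5232) (nat_lit 3)))) (BT.node (nat_lit 5235) (BT.leaf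 (.cov [] [⟨(nat_lit 823), (nat_lit 5029), [(nat_lit 829), (nat_lit 1109)]⟩, ⟨(nat_lit 824), (nat_lit 5032), [(nat_lit 352), (nat_lit 426)]⟩, ⟨(nat_lit 831), (nat_lit 4592), [(nat_lit 522), (nat_lit 1583)]⟩, ⟨(nat_lit 853), (nat_lit 5058), [(nat_lit 764), (nat_lit 431)]⟩, ⟨(nat_lit 862), (nat_lit 5063), [(nat_lit 358), (nat_lit 126)]⟩, ⟨(nat_lit 867), (nat_lit 5068), [(nat_lit 394), (nat_lit 264)]⟩, ⟨(nat_lit 887), (nat_lit 5082), [(nat_lit 1087), (nat_lit 320)]⟩, ⟨(nat_lit 889), (nat_lit 4953), [(nat_lit 213), (nat_lit 738)]⟩, ⟨(nat_lit 930), (nat_lit 4610), [(nat_lit 1092), (nat_lit 1478)]⟩, ⟨(nat_lit 932), (nat_lit 4644), [(nat_lit 696), (nat_lit 328)]⟩, ⟨(nat_lit 934), (nat_lit 5085), [(nat_lit 511), (nat_lit 1223)]⟩, ⟨(nat_lit 967), (nat_lit 5090), [(nat_lit 197), (nat_lit 319)]⟩, ⟨(nat_lit 979), (nat_lit 5091), [(nat_lit 513), (nat_lit 384)]⟩, ⟨(nat_lit 981), (nat_lit 5097), [(nat_lit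 653), (nat_lit 512)]⟩, ⟨(nat_lit 989), (nat_lit 5106), [(nat_lit 487), (nat_lit 1)]⟩, ⟨(nat_lit 994), (nat_lit 5109), [(nat_lit 1102), (nat_lit 491)]⟩, ⟨(nat_lit 999), (nat_lit 5134), [(nat_lit 282), (nat_lit 870)]⟩, ⟨(nat_lit 1010), (nat_lit 5148), [(nat_lit 539), (nat_lit 563)]⟩, ⟨(nat_lit 1020), (nat_lit 4654), [(nat_lit 1218), (nat_lit 375)]⟩, ⟨(nat_lit 1030), (nat_lit 5165), [(nat_lit 487), (nat_lit 1192)]⟩, ⟨(nat_lit 1040), (nat_lit 5166), [(nat_lit 618), (nat_lit 190)]⟩, ⟨(nat_lit 1045), (nat_lit 5173), [(nat_lit 587), (nat_lit 1203)]⟩, ⟨(nat_lit 1051), (nat_lit 5027), [(nat_lit 422), (nat_lit 813)]⟩, ⟨(nat_lit 1054), (nat_lit 5180), [(nat_lit 1013), (nat_lit 627)]⟩, ⟨(nat_lit 1058), (nat_lit 5187), [(nat_lit 726), (nat_lit 379)]⟩, ⟨(nat_lit 1086), (nat_lit 4630), [(nat_lit 761), (nat_lit 88)]⟩, ⟨(nat_lit 1097), (nat_lit 5188), [(nat_lit 461), (nat_lit 1009)]⟩, ⟨(nat_lit 1121),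 (nat_lit 5192), [(nat_lit 93), (nat_lit 1140)]⟩, ⟨(nat_lit 1131), (nat_lit 5055), [(nat_lit 402), (nat_lit 455)]⟩, ⟨(nat_lit 1176), (nat_lit 4856), [(nat_lit 196), (nat_lit 1009)]⟩, ⟨(nat_lit 1183), (nat_lit 5194), [(nat_lit 474), (nat_lit 1472)]⟩, ⟨(nat_lit 1229), (nat_lit 5201), [(nat_lit 1175), (nat_lit 162)]⟩, ⟨(nat_lit 1237), (nat_lit 5205), [(nat_lit 1012), (nat_lit 431)]⟩, ⟨(nat_lit 1331), (nat_lit 5216), [(nat_lit 423), (nat_lit 738)]⟩, ⟨(nat_lit 1607), (nat_lit 5221), [(nat_lit 353), (nat_lit 139)]⟩, ⟨(nat_lit 1632), (nat_lit 5225), [(nat_lit 630), (nat_lit 1256)]⟩, ⟨(nat_lit 1866), (nat_lit 4732), [(nat_lit 348), (nat_lit 1001)]⟩, ⟨(nat_lit 1876), (nat_lit 4596), [(nat_lit 673), (nat_lit 459)]⟩, ⟨(nat_lit 1894), (nat_lit 5231), [(nat_lit 902), (nat_lit 449)]⟩, ⟨(nat_lit 1900), (nat_lit 5233), [(nat_lit 255), (nat_lit 223)]⟩])) (BT.leaf (.pt (nat_lit 4884) (nat_lit 4)))))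 (BT.node (nat_lit 5238) (BT.node (nat_lit 5237) (BT.leaf (.pt (nat_lit 5235) (nat_lit 1))) (BT.leaf (.pt (nat_lit 5236) (nat_lit 4)))) (BT.node (nat_lit 5239) (BT.leaf (.pt (nat_lit 5237) (nat_lit 1))) (BT.leaf (.pt (nat_lit 5238) (nat_lit 4)))))) (BT.node (nat_lit 5244) (BT.node (nat_lit 5242) (BT.node (nat_lit 5241) (BT.leaf (.pt (nat_lit 5239) (nat_lit 1))) (BT.leaf (.pt (nat_lit 5240) (nat_lit 3)))) (BT.node (nat_lit 5243) (BT.leaf (.pt (nat_lit 5241) (nat_lit 1))) (BT.leaf (.pt (nat_lit 5242) (nat_lit 3))))) (BT.node (nat_lit 5246) (BT.node (nat_lit 5245) (BT.leaf (.pt (nat_lit 5243) (nat_lit 1))) (BT.leaf (.pt (nat_lit 4963) (nat_lit 3)))) (BT.node (nat_lit 5247) (BT.leaf (.pt (nat_lit 5245) (nat_lit 1))) (BT.leaf (.pt (nat_lit 5246) (nat_lit 4)))))))))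
noncomputable def cF5248 : BT Fc := (BT.node (nat_lit 5280) (BT.node (nat_lit 5264) (BT.node (nat_lit 5256) (BT.node (nat_lit 5252) (BT.node (nat_lit 5250) (BT.node (nat_lit 5249) (BT.leaf ⟨(nat_lit 4), (nat_lit 3624), (nat_lit 0), (nat_lit 0xbd978fa25a4fc97db198e4b96612b), (nat_lit 0), (nat_lit 0)⟩) (BT.leaf ⟨(nat_lit 4), (nat_lit 3684), (nat_lit 0), (nat_lit 0x503834330856a3bd04874610028195), (nat_lit 0), (nat_lit 0)⟩)) (BT.node (nat_lit 5251) (BT.leaf ⟨(nat_lit 4), (nat_lit 3552), (nat_lit 0), (nat_lit 0xfad663f346ddf5f3ae3746d8fc83e1), (nat_lit 0), (nat_lit 0)⟩) (BT.leaf ⟨(nat_lit 4), (nat_lit 3343), (nat_lit 0), (nat_lit 0x10230033abab102106b90e70104f410), (nat_lit 0), (nat_lit 0)⟩))) (BT.node (nat_lit 5254) (BT.node (nat_lit 5253) (BT.leaf ⟨(nat_lit 4), (nat_lit 1257), (nat_lit 0), (nat_lit 0x131e9792e21e0beae3702dff6c93acc), (nat_lit 0), (nat_lit 0)⟩) (BT.leaf ⟨(nat_lit 4),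 (nat_lit 3067), (nat_lit 0), (nat_lit 0x13cc401806c6213dd280103f1844155), (nat_lit 0), (nat_lit 0)⟩)) (BT.node (nat_lit 5255) (BT.leaf ⟨(nat_lit 4), (nat_lit 3044), (nat_lit 0), (nat_lit 0x804108093a97a77ac7210327c80be2), (nat_lit 0), (nat_lit 0)⟩) (BT.leaf ⟨(nat_lit 4), (nat_lit 2657), (nat_lit 0), (nat_lit 0xcbf516151f46be97b7005ff6e63927), (nat_lit 0), (nat_lit 0)⟩)))) (BT.node (nat_lit 5260) (BT.node (nat_lit 5258) (BT.node (nat_lit 5257) (BT.leaf ⟨(nat_lit 4), (nat_lit 2263), (nat_lit 0), (nat_lit 0xd7c80ce82115cd71b0005f91b1d0d5), (nat_lit 0), (nat_lit 0)⟩) (BT.leaf ⟨(nat_lit 4), (nat_lit 2262), (nat_lit 0), (nat_lit 0x87c304400905bc212f9ef4e8e19da8), (nat_lit 0), (nat_lit 0)⟩)) (BT.node (nat_lit 5259) (BT.leaf ⟨(nat_lit 4), (nat_lit 2223), (nat_lit 0), (nat_lit 0x1dea198c04816a0284de0805bf832f9), (nat_lit 0), (nat_lit 0)⟩) (BT.leaf ⟨(nat_lit 4), (nat_lit 2634), (nat_lit 0),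 (nat_lit 0x127a007465724001073a08075440200), (nat_lit 0), (nat_lit 0)⟩))) (BT.node (nat_lit 5262) (BT.node (nat_lit 5261) (BT.leaf ⟨(nat_lit 4), (nat_lit 2487), (nat_lit 0), (nat_lit 0x12700301257610b7b78f10408881744), (nat_lit 0), (nat_lit 0)⟩) (BT.leaf ⟨(nat_lit 4), (nat_lit 2014), (nat_lit 0), (nat_lit 0x1c3440180f8dee94041e1046bc48239), (nat_lit 0), (nat_lit 0)⟩)) (BT.node (nat_lit 5263) (BT.leaf ⟨(nat_lit 4), (nat_lit 2013), (nat_lit 0), (nat_lit 0x1e3200ef5e8e00d2f0090228079d901), (nat_lit 0), (nat_lit 0)⟩) (BT.leaf ⟨(nat_lit 4), (nat_lit 2045), (nat_lit 0), (nat_lit 0xabbab74268dd1e8c87ca8dd12ffb35), (nat_lit 0), (nat_lit 0)⟩))))) (BT.node (nat_lit 5272) (BT.node (nat_lit 5268) (BT.node (nat_lit 5266) (BT.node (nat_lit 5265) (BT.leaf ⟨(nat_lit 4), (nat_lit 2508), (nat_lit 0), (nat_lit 0x14e9ea8b9ce7a79047e8a8c78d02600), (nat_lit 0), (nat_lit 0)⟩) (BT.leaf ⟨(nat_lit 4), (nat_lit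 2858), (nat_lit 0), (nat_lit 0x73b5a4ab50e6cb3a7dbde1bf13544d), (nat_lit 0), (nat_lit 0)⟩)) (BT.node (nat_lit 5267) (BT.leaf ⟨(nat_lit 4), (nat_lit 3221), (nat_lit 0), (nat_lit 0x4ad0249a57b7b20273ede00192dc77), (nat_lit 0), (nat_lit 0)⟩) (BT.leaf ⟨(nat_lit 4), (nat_lit 630), (nat_lit 0), (nat_lit 0x44127aa90224ff72030020fcf95014), (nat_lit 0), (nat_lit 0)⟩))) (BT.node (nat_lit 5270) (BT.node (nat_lit 5269) (BT.leaf ⟨(nat_lit 4), (nat_lit 784), (nat_lit 0), (nat_lit 0x804073a009d1820100021e355c801), (nat_lit 0), (nat_lit 0)⟩) (BT.leaf ⟨(nat_lit 4), (nat_lit 1046), (nat_lit 0), (nat_lit 0x9fdc525e4b639ae9370a3297527cab), (nat_lit 0), (nat_lit 0)⟩)) (BT.node (nat_lit 5271) (BT.leaf ⟨(nat_lit 4), (nat_lit 1271), (nat_lit 0), (nat_lit 0x19a59af56364ab83e766a33297a3f42), (nat_lit 0), (nat_lit 0)⟩) (BT.leaf ⟨(nat_lit 4), (nat_lit 1631), (nat_lit 0), (nat_lit 0x3e8aa9d1e427511b36c87af55c5658),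 (nat_lit 0), (nat_lit 0)⟩)))) (BT.node (nat_lit 5276) (BT.node (nat_lit 5274) (BT.node (nat_lit 5273) (BT.leaf ⟨(nat_lit 4), (nat_lit 1952), (nat_lit 0), (nat_lit 0x1d46f07b74ca7a2fc4c787b7aaf631c), (nat_lit 0), (nat_lit 0)⟩) (BT.leaf ⟨(nat_lit 4), (nat_lit 2425), (nat_lit 0), (nat_lit 0x8e679e74e1a21041081900300aab63), (nat_lit 0), (nat_lit 0)⟩)) (BT.node (nat_lit 5275) (BT.leaf ⟨(nat_lit 4), (nat_lit 2769), (nat_lit 0), (nat_lit 0x1006005d5fc74032feb99018017a38d), (nat_lit 0), (nat_lit 0)⟩) (BT.leaf ⟨(nat_lit 4), (nat_lit 3165), (nat_lit 0), (nat_lit 0x1d1dec74494bf183e76636546723693), (nat_lit 0), (nat_lit 0)⟩))) (BT.node (nat_lit 5278) (BT.node (nat_lit 5277) (BT.leaf ⟨(nat_lit 4), (nat_lit 3386), (nat_lit 0), (nat_lit 0x1b517a7f4e43134bcef5365ad37b517), (nat_lit 0), (nat_lit 0)⟩) (BT.leaf ⟨(nat_lit 4), (nat_lit 3596), (nat_lit 0), (nat_lit 0x12fa4b77da972726f41ec4f239ec3a4), (nat_lit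 0), (nat_lit 0)⟩)) (BT.node (nat_lit 5279) (BT.leaf ⟨(nat_lit 4), (nat_lit 3415), (nat_lit 0), (nat_lit 0x8e7a8dffb06e59dca99c4e398ad36c), (nat_lit 0), (nat_lit 0)⟩) (BT.leaf ⟨(nat_lit 4), (nat_lit 3208), (nat_lit 0), (nat_lit 0x222041dde64fad2b80a24e8224b048), (nat_lit 0), (nat_lit 0)⟩)))))) (BT.node (nat_lit 5296) (BT.node (nat_lit 5288) (BT.node (nat_lit 5284) (BT.node (nat_lit 5282) (BT.node (nat_lit 5281) (BT.leaf ⟨(nat_lit 4), (nat_lit 2828), (nat_lit 0), (nat_lit 0x4b6ae5b12de4af349af24e4fc7d615), (nat_lit 0), (nat_lit 0)⟩) (BT.leaf ⟨(nat_lit 4), (nat_lit 2488), (nat_lit 0), (nat_lit 0x1bdb7a4abd69bf0bcef5e426cb7826a), (nat_lit 0), (nat_lit 0)⟩)) (BT.node (nat_lit 5283) (BT.leaf ⟨(nat_lit 4), (nat_lit 2015), (nat_lit 0), (nat_lit 0x7507d1d1a96557779d7e42f55c5195), (nat_lit 0), (nat_lit 0)⟩) (BT.leaf ⟨(nat_lit 4), (nat_lit 1684), (nat_lit 0), (nat_lit 0xae365534c4f135dca991cd60d1cabd),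 (nat_lit 0), (nat_lit 0)⟩))) (BT.node (nat_lit 5286) (BT.node (nat_lit 5285) (BT.leaf ⟨(nat_lit 4), (nat_lit 1313), (nat_lit 0), (nat_lit 0x9fdc52df4b69750fa5e1cd466e96c1), (nat_lit 0), (nat_lit 0)⟩) (BT.leaf ⟨(nat_lit 4), (nat_lit 1314), (nat_lit 0), (nat_lit 0x114ccd8ed8eeff99aa878e318f65573), (nat_lit 0), (nat_lit 0)⟩)) (BT.node (nat_lit 5287) (BT.leaf ⟨(nat_lit 4), (nat_lit 1685), (nat_lit 0), (nat_lit 0x1bda012bb204f84410228e3ce24e006), (nat_lit 0), (nat_lit 0)⟩) (BT.leaf ⟨(nat_lit 4), (nat_lit 2987), (nat_lit 0), (nat_lit 0xabb05b1c9d131ef65e8bd45daf0265), (nat_lit 0), (nat_lit 0)⟩)))) (BT.node (nat_lit 5292) (BT.node (nat_lit 5290) (BT.node (nat_lit 5289) (BT.leaf ⟨(nat_lit 4), (nat_lit 3292), (nat_lit 0), (nat_lit 0x80180af1e04811744bd475f7b102), (nat_lit 0), (nat_lit 0)⟩) (BT.leaf ⟨(nat_lit 4), (nat_lit 3510), (nat_lit 0), (nat_lit 0xf8ff1ae38dd45d1b2cc7e656b05be7), (nat_lit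 0), (nat_lit 0)⟩)) (BT.node (nat_lit 5291) (BT.leaf ⟨(nat_lit 4), (nat_lit 3665), (nat_lit 0), (nat_lit 0x4fe31df8029ca80c0107e72388879d), (nat_lit 0), (nat_lit 0)⟩) (BT.leaf ⟨(nat_lit 4), (nat_lit 393), (nat_lit 0), (nat_lit 0x1d9b34e9368c1f065aaee85c1afff46), (nat_lit 0), (nat_lit 0)⟩))) (BT.node (nat_lit 5294) (BT.node (nat_lit 5293) (BT.leaf ⟨(nat_lit 4), (nat_lit 284), (nat_lit 0), (nat_lit 0x17b1f3abd00805002824e84410e8c04), (nat_lit 0), (nat_lit 0)⟩) (BT.leaf ⟨(nat_lit 4), (nat_lit 285), (nat_lit 0), (nat_lit 0x131cd7d2f25e3e817e1527ff6f34ea2), (nat_lit 0), (nat_lit 0)⟩)) (BT.node (nat_lit 5295) (BT.leaf ⟨(nat_lit 4), (nat_lit 394), (nat_lit 0), (nat_lit 0x1ca908756f3b18d54df827e14208010), (nat_lit 0), (nat_lit 0)⟩) (BT.leaf ⟨(nat_lit 4), (nat_lit 497), (nat_lit 0), (nat_lit 0x1ce005102f1e4b64e25d804aee38f44), (nat_lit 0), (nat_lit 0)⟩))))) (BT.node (nat_lit 5304) (BT.node (nat_lit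 5300) (BT.node (nat_lit 5298) (BT.node (nat_lit 5297) (BT.leaf ⟨(nat_lit 4), (nat_lit 3668), (nat_lit 0), (nat_lit 0x14bc39af4c01042801e868ccea015d5), (nat_lit 0), (nat_lit 0)⟩) (BT.leaf ⟨(nat_lit 4), (nat_lit 3521), (nat_lit 0), (nat_lit 0xaba8cf44d26f6252e6968dd98d9546), (nat_lit 0), (nat_lit 0)⟩)) (BT.node (nat_lit 5299) (BT.leaf ⟨(nat_lit 4), (nat_lit 3305), (nat_lit 0), (nat_lit 0x997c2e8dcb0e37e6d342f31b989f8f), (nat_lit 0), (nat_lit 0)⟩) (BT.leaf ⟨(nat_lit 4), (nat_lit 3004), (nat_lit 0), (nat_lit 0x1134d926adedf6e7a31c2f273bfa721), (nat_lit 0), (nat_lit 0)⟩))) (BT.node (nat_lit 5302) (BT.node (nat_lit 5301) (BT.leaf ⟨(nat_lit 4), (nat_lit 1119), (nat_lit 0), (nat_lit 0x1c35328b7f5ba89ff78dcb1e24bcc6e), (nat_lit 0), (nat_lit 0)⟩) (BT.leaf ⟨(nat_lit 4), (nat_lit 862), (nat_lit 0), (nat_lit 0x754ebf2146c715c5155cb0753779f5), (nat_lit 0), (nat_lit 0)⟩)) (BT.node (nat_lit 5303)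 (BT.leaf ⟨(nat_lit 4), (nat_lit 861), (nat_lit 0), (nat_lit 0x12784f0edefac4f13c96749b064726a), (nat_lit 0), (nat_lit 0)⟩) (BT.leaf ⟨(nat_lit 4), (nat_lit 843), (nat_lit 0), (nat_lit 0x1ccb77f2a39deeb8d73a749cf9a4cd9), (nat_lit 0), (nat_lit 0)⟩)))) (BT.node (nat_lit 5308) (BT.node (nat_lit 5306) (BT.node (nat_lit 5305) (BT.leaf ⟨(nat_lit 4), (nat_lit 844), (nat_lit 0), (nat_lit 0x1021a37e35e81ce0238d9011004f6b9), (nat_lit 0), (nat_lit 0)⟩) (BT.leaf ⟨(nat_lit 4), (nat_lit 1416), (nat_lit 0), (nat_lit 0x3b5ff47169369a39c63ce666eb9c53), (nat_lit 0), (nat_lit 0)⟩)) (BT.node (nat_lit 5307) (BT.leaf ⟨(nat_lit 4), (nat_lit 1767), (nat_lit 0), (nat_lit 0x8405cb00440812a369ece6a010153a), (nat_lit 0), (nat_lit 0)⟩) (BT.leaf ⟨(nat_lit 4), (nat_lit 2155), (nat_lit 0), (nat_lit 0x10417a4008401ce2052f804d1a02500), (nat_lit 0), (nat_lit 0)⟩))) (BT.node (nat_lit 5310) (BT.node (nat_lit 5309) (BT.leaf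 ⟨(nat_lit 4), (nat_lit 2589), (nat_lit 0), (nat_lit 0x4b5010062052739c0128057a801022), (nat_lit 0), (nat_lit 0)⟩) (BT.leaf ⟨(nat_lit 4), (nat_lit 2967), (nat_lit 0), (nat_lit 0x1f6f7e6d4fe9bd18e2874d545d7a6b4), (nat_lit 0), (nat_lit 0)⟩)) (BT.node (nat_lit 5311) (BT.leaf ⟨(nat_lit 4), (nat_lit 2056), (nat_lit 0), (nat_lit 0xabb34d19d27c18d974494af61a3756), (nat_lit 0), (nat_lit 0)⟩) (BT.leaf ⟨(nat_lit 4), (nat_lit 1709), (nat_lit 0), (nat_lit 0x15a11c8902ab2020f7ba180281b1880), (nat_lit 0), (nat_lit 0)⟩)))))))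
noncomputable def cP5248 : BT Pf := (BT.node (nat_lit 5280) (BT.node (nat_lit 5264) (BT.node (nat_lit 5256) (BT.node (nat_lit 5252) (BT.node (nat_lit 5250) (BT.node (nat_lit 5249) (BT.leaf (.pt (nat_lit 5247) (nat_lit 1))) (BT.leaf (.pt (nat_lit 5248) (nat_lit 4)))) (BT.node (nat_lit 5251) (BT.leaf (.pt (nat_lit 5249) (nat_lit 1))) (BT.leaf (.pt (nat_lit 5250) (nat_lit 4))))) (BT.node (nat_lit 5254) (BT.node (nat_lit 5253) (BT.leaf (.pt (nat_lit 4792) (nat_lit 4))) (BT.leaf (.pt (nat_lit 5052) (nat_lit 3)))) (BT.node (nat_lit 5255) (BT.leaf (.pt (nat_lit 5253) (nat_lit 1))) (BT.leaf (.pt (nat_lit 5254) (nat_lit 4)))))) (BT.node (nat_lit 5260) (BT.node (nat_lit 5258) (BT.node (nat_lit 5257) (BT.leaf (.pt (nat_lit 5255) (nat_lit 1))) (BT.leaf (.pt (nat_lit 5256) (nat_lit 4)))) (BT.node (nat_lit 5259) (BT.leaf (.pt (nat_lit 5172) (nat_lit 4))) (BT.leaf (.pt (nat_lit 5258) (nat_lit 1)))))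 (BT.node (nat_lit 5262) (BT.node (nat_lit 5261) (BT.leaf (.pt (nat_lit 5259) (nat_lit 4))) (BT.leaf (.pt (nat_lit 5260) (nat_lit 1)))) (BT.node (nat_lit 5263) (BT.leaf (.pt (nat_lit 5261) (nat_lit 4))) (BT.leaf (.pt (nat_lit 5225) (nat_lit 3))))))) (BT.node (nat_lit 5272) (BT.node (nat_lit 5268) (BT.node (nat_lit 5266) (BT.node (nat_lit 5265) (BT.leaf (.pt (nat_lit 5263) (nat_lit 1))) (BT.leaf (.pt (nat_lit 5264) (nat_lit 4)))) (BT.node (nat_lit 5267) (BT.leaf (.pt (nat_lit 5265) (nat_lit 1))) (BT.leaf (.pt (nat_lit 4510) (nat_lit 3))))) (BT.node (nat_lit 5270) (BT.node (nat_lit 5269) (BT.leaf (.pt (nat_lit 5267) (nat_lit 1))) (BT.leaf (.pt (nat_lit 5268) (nat_lit 3)))) (BT.node (nat_lit 5271) (BT.leaf (.pt (nat_lit 5269) (nat_lit 1))) (BT.leaf (.pt (nat_lit 5270) (nat_lit 3)))))) (BT.node (nat_lit 5276) (BT.node (nat_lit 5274) (BT.node (nat_lit 5273) (BT.leaf (.pt (nat_lit 5271) (nat_lit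 1))) (BT.leaf (.pt (nat_lit 5272) (nat_lit 3)))) (BT.node (nat_lit 5275) (BT.leaf (.pt (nat_lit 5273) (nat_lit 1))) (BT.leaf (.pt (nat_lit 5274) (nat_lit 4))))) (BT.node (nat_lit 5278) (BT.node (nat_lit 5277) (BT.leaf (.pt (nat_lit 5275) (nat_lit 1))) (BT.leaf (.pt (nat_lit 5276) (nat_lit 3)))) (BT.node (nat_lit 5279) (BT.leaf (.pt (nat_lit 5277) (nat_lit 1))) (BT.leaf (.pt (nat_lit 5278) (nat_lit 3)))))))) (BT.node (nat_lit 5296) (BT.node (nat_lit 5288) (BT.node (nat_lit 5284) (BT.node (nat_lit 5282) (BT.node (nat_lit 5281) (BT.leaf (.pt (nat_lit 5279) (nat_lit 1))) (BT.leaf (.pt (nat_lit 5280) (nat_lit 4)))) (BT.node (nat_lit 5283) (BT.leaf (.pt (nat_lit 5281) (nat_lit 1))) (BT.leaf (.pt (nat_lit 5282) (nat_lit 4))))) (BT.node (nat_lit 5286) (BT.node (nat_lit 5285) (BT.leaf (.pt (nat_lit 5283) (nat_lit 1))) (BT.leaf (.pt (nat_lit 5284) (nat_lit 3)))) (BT.node (nat_lit 5287) (BT.leaf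 (.pt (nat_lit 5285) (nat_lit 1))) (BT.leaf (.pt (nat_lit 4916) (nat_lit 4)))))) (BT.node (nat_lit 5292) (BT.node (nat_lit 5290) (BT.node (nat_lit 5289) (BT.leaf (.pt (nat_lit 5287) (nat_lit 1))) (BT.leaf (.pt (nat_lit 5288) (nat_lit 3)))) (BT.node (nat_lit 5291) (BT.leaf (.pt (nat_lit 5289) (nat_lit 1))) (BT.leaf (.pt (nat_lit 5240) (nat_lit 4))))) (BT.node (nat_lit 5294) (BT.node (nat_lit 5293) (BT.leaf (.pt (nat_lit 5291) (nat_lit 1))) (BT.leaf (.pt (nat_lit 5292) (nat_lit 3)))) (BT.node (nat_lit 5295) (BT.leaf (.pt (nat_lit 5293) (nat_lit 1))) (BT.leaf (.pt (nat_lit 5294) (nat_lit 4))))))) (BT.node (nat_lit 5304) (BT.node (nat_lit 5300) (BT.node (nat_lit 5298) (BT.node (nat_lit 5297) (BT.leaf (.pt (nat_lit 4728) (nat_lit 3))) (BT.leaf (.pt (nat_lit 5296) (nat_lit 1)))) (BT.node (nat_lit 5299) (BT.leaf (.pt (nat_lit 5297) (nat_lit 4))) (BT.leaf (.pt (nat_lit 5298) (nat_lit 1)))))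 (BT.node (nat_lit 5302) (BT.node (nat_lit 5301) (BT.leaf (.pt (nat_lit 4957) (nat_lit 4))) (BT.leaf (.pt (nat_lit 5300) (nat_lit 1)))) (BT.node (nat_lit 5303) (BT.leaf (.pt (nat_lit 5301) (nat_lit 4))) (BT.leaf (.pt (nat_lit 5302) (nat_lit 1)))))) (BT.node (nat_lit 5308) (BT.node (nat_lit 5306) (BT.node (nat_lit 5305) (BT.leaf (.pt (nat_lit 5303) (nat_lit 3))) (BT.leaf (.pt (nat_lit 4676) (nat_lit 4)))) (BT.node (nat_lit 5307) (BT.leaf (.pt (nat_lit 5305) (nat_lit 1))) (BT.leaf (.pt (nat_lit 5306) (nat_lit 4))))) (BT.node (nat_lit 5310) (BT.node (nat_lit 5309) (BT.leaf (.pt (nat_lit 5307) (nat_lit 1))) (BT.leaf (.pt (nat_lit 5308) (nat_lit 3)))) (BT.node (nat_lit 5311) (BT.leaf (.pt (nat_lit 5068) (nat_lit 1))) (BT.leaf (.pt (nat_lit 5310) (nat_lit 3)))))))))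
noncomputable def cF5312 : BT Fc := (BT.node (nat_lit 5344) (BT.node (nat_lit 5328) (BT.node (nat_lit 5320) (BT.node (nat_lit 5316) (BT.node (nat_lit 5314) (BT.node (nat_lit 5313) (BT.leaf ⟨(nat_lit 4), (nat_lit 1345), (nat_lit 0), (nat_lit 0x1debe6ba30805010fda818090028195), (nat_lit 0), (nat_lit 0)⟩) (BT.leaf ⟨(nat_lit 4), (nat_lit 1346), (nat_lit 0), (nat_lit 0x160dcb36c572aa45ceb9772ae11ce27), (nat_lit 0), (nat_lit 0)⟩)) (BT.node (nat_lit 5315) (BT.leaf ⟨(nat_lit 4), (nat_lit 1710), (nat_lit 0), (nat_lit 0x1402b9980b3c41171e3a7724806a900), (nat_lit 0), (nat_lit 0)⟩) (BT.leaf ⟨(nat_lit 4), (nat_lit 3751), (nat_lit 0), (nat_lit 0x1bd378674639b90bca6adea73a26efc), (nat_lit 0), (nat_lit 0)⟩))) (BT.node (nat_lit 5318) (BT.node (nat_lit 5317) (BT.leaf ⟨(nat_lit 4), (nat_lit 3785), (nat_lit 0), (nat_lit 0x127e392b801275010801dea40440de9), (nat_lit 0), (nat_lit 0)⟩) (BT.leaf ⟨(nat_lit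 4), (nat_lit 3784), (nat_lit 0), (nat_lit 0x126ba15ec018210820143a211378789), (nat_lit 0), (nat_lit 0)⟩)) (BT.node (nat_lit 5319) (BT.leaf ⟨(nat_lit 4), (nat_lit 3095), (nat_lit 0), (nat_lit 0xf634f59e93507a4e176d8325a475b1), (nat_lit 0), (nat_lit 0)⟩) (BT.leaf ⟨(nat_lit 4), (nat_lit 2205), (nat_lit 0), (nat_lit 0x241b1980141c34aa8885008e440c1e), (nat_lit 0), (nat_lit 0)⟩)))) (BT.node (nat_lit 5324) (BT.node (nat_lit 5322) (BT.node (nat_lit 5321) (BT.leaf ⟨(nat_lit 4), (nat_lit 2350), (nat_lit 0), (nat_lit 0x82339a01d3d4e90121050090180220), (nat_lit 0), (nat_lit 0)⟩) (BT.leaf ⟨(nat_lit 4), (nat_lit 2349), (nat_lit 0), (nat_lit 0x1780f443d2ed5a2f65e89d17a9695e9), (nat_lit 0), (nat_lit 0)⟩)) (BT.node (nat_lit 5323) (BT.leaf ⟨(nat_lit 4), (nat_lit 2721), (nat_lit 0), (nat_lit 0x4018063a202440901089d0ee46ad9e), (nat_lit 0), (nat_lit 0)⟩) (BT.leaf ⟨(nat_lit 4), (nat_lit 3120), (nat_lit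 0), (nat_lit 0x4beae12b25d31fede691f443c9fe15), (nat_lit 0), (nat_lit 0)⟩))) (BT.node (nat_lit 5326) (BT.node (nat_lit 5325) (BT.leaf ⟨(nat_lit 4), (nat_lit 3185), (nat_lit 0), (nat_lit 0x1a4c6a9c5dde776a59d51f475ce89d4), (nat_lit 0), (nat_lit 0)⟩) (BT.leaf ⟨(nat_lit 4), (nat_lit 2789), (nat_lit 0), (nat_lit 0x1294f1d179b2b31d1c6e7cfdf5f5bf3), (nat_lit 0), (nat_lit 0)⟩)) (BT.node (nat_lit 5327) (BT.leaf ⟨(nat_lit 4), (nat_lit 2087), (nat_lit 0), (nat_lit 0xd7ca03b9b3d3a0c0102200b8c9002f), (nat_lit 0), (nat_lit 0)⟩) (BT.leaf ⟨(nat_lit 4), (nat_lit 1729), (nat_lit 0), (nat_lit 0x96f9f00593401378789048212f62bd), (nat_lit 0), (nat_lit 0)⟩))))) (BT.node (nat_lit 5336) (BT.node (nat_lit 5332) (BT.node (nat_lit 5330) (BT.node (nat_lit 5329) (BT.leaf ⟨(nat_lit 4), (nat_lit 1369), (nat_lit 0), (nat_lit 0x1eb4905c853208887a7f049d9810cbe), (nat_lit 0), (nat_lit 0)⟩) (BT.leaf ⟨(nat_lit 4), (nat_lit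 1258), (nat_lit 0), (nat_lit 0x1e74286e4552051084100224fc095f8), (nat_lit 0), (nat_lit 0)⟩)) (BT.node (nat_lit 5331) (BT.leaf ⟨(nat_lit 4), (nat_lit 1031), (nat_lit 0), (nat_lit 0x100410803bd297a4ff8c0222077aab8), (nat_lit 0), (nat_lit 0)⟩) (BT.leaf ⟨(nat_lit 4), (nat_lit 776), (nat_lit 0), (nat_lit 0x110219af9b51ad06004443ee8c28240), (nat_lit 0), (nat_lit 0)⟩))) (BT.node (nat_lit 5334) (BT.node (nat_lit 5333) (BT.leaf ⟨(nat_lit 4), (nat_lit 622), (nat_lit 0), (nat_lit 0x96dc524f0be95d2ee5f43edc0737b7), (nat_lit 0), (nat_lit 0)⟩) (BT.leaf ⟨(nat_lit 4), (nat_lit 623), (nat_lit 0), (nat_lit 0x11de2999bce7b2aae2878f6cd619cf3), (nat_lit 0), (nat_lit 0)⟩)) (BT.node (nat_lit 5335) (BT.leaf ⟨(nat_lit 4), (nat_lit 777), (nat_lit 0), (nat_lit 0x1bf3990481100200c00c8f6faef0208), (nat_lit 0), (nat_lit 0)⟩) (BT.leaf ⟨(nat_lit 4), (nat_lit 1032), (nat_lit 0), (nat_lit 0x1b50faa20141721e1a990412fa2990f),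 (nat_lit 0), (nat_lit 0)⟩)))) (BT.node (nat_lit 5340) (BT.node (nat_lit 5338) (BT.node (nat_lit 5337) (BT.leaf ⟨(nat_lit 4), (nat_lit 1259), (nat_lit 0), (nat_lit 0xae400c7325fe34206f4041d1900080), (nat_lit 0), (nat_lit 0)⟩) (BT.leaf ⟨(nat_lit 4), (nat_lit 1609), (nat_lit 0), (nat_lit 0xdb3779551f4f5749c3dcb075cfaa36), (nat_lit 0), (nat_lit 0)⟩)) (BT.node (nat_lit 5339) (BT.leaf ⟨(nat_lit 4), (nat_lit 1933), (nat_lit 0), (nat_lit 0x996e97ad8dce35ff534cb0c4f86ea2), (nat_lit 0), (nat_lit 0)⟩) (BT.leaf ⟨(nat_lit 4), (nat_lit 1874), (nat_lit 0), (nat_lit 0x17808474e7d67740c00c1111ee04028), (nat_lit 0), (nat_lit 0)⟩))) (BT.node (nat_lit 5342) (BT.node (nat_lit 5341) (BT.leaf ⟨(nat_lit 4), (nat_lit 1539), (nat_lit 0), (nat_lit 0x21386c801408e4d7d6811020be3363), (nat_lit 0), (nat_lit 0)⟩) (BT.leaf ⟨(nat_lit 4), (nat_lit 1218), (nat_lit 0), (nat_lit 0x112f810040020206f4e8c4bd5cc00), (nat_lit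 0), (nat_lit 0)⟩)) (BT.node (nat_lit 5343) (BT.leaf ⟨(nat_lit 4), (nat_lit 187), (nat_lit 0), (nat_lit 0x15a33a41ef74557e30885008e5b1880), (nat_lit 0), (nat_lit 0)⟩) (BT.leaf ⟨(nat_lit 4), (nat_lit 137), (nat_lit 0), (nat_lit 0x17aa01002e70f855d8063ae00d01042), (nat_lit 0), (nat_lit 0)⟩)))))) (BT.node (nat_lit 5360) (BT.node (nat_lit 5352) (BT.node (nat_lit 5348) (BT.node (nat_lit 5346) (BT.node (nat_lit 5345) (BT.leaf ⟨(nat_lit 4), (nat_lit 102), (nat_lit 0), (nat_lit 0x7447d3d532b962a5c3d3af698eaeef), (nat_lit 0), (nat_lit 0)⟩) (BT.leaf ⟨(nat_lit 4), (nat_lit 2016), (nat_lit 0), (nat_lit 0x6f404093c97d000081004037a78d), (nat_lit 0), (nat_lit 0)⟩)) (BT.node (nat_lit 5347) (BT.leaf ⟨(nat_lit 4), (nat_lit 2489), (nat_lit 0), (nat_lit 0x2211ce74e1a28042081101f186041e), (nat_lit 0), (nat_lit 0)⟩) (BT.leaf ⟨(nat_lit 4), (nat_lit 2830), (nat_lit 0), (nat_lit 0x1782639764cb6a1577b7b917e2f47e8),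 (nat_lit 0), (nat_lit 0)⟩))) (BT.node (nat_lit 5350) (BT.node (nat_lit 5349) (BT.leaf ⟨(nat_lit 4), (nat_lit 3209), (nat_lit 0), (nat_lit 0x9fe10020440f0f6a028b904825f7ad), (nat_lit 0), (nat_lit 0)⟩) (BT.leaf ⟨(nat_lit 4), (nat_lit 3416), (nat_lit 0), (nat_lit 0xdc1cb6a265f6c41796f59985663e69), (nat_lit 0), (nat_lit 0)⟩)) (BT.node (nat_lit 5351) (BT.leaf ⟨(nat_lit 4), (nat_lit 3619), (nat_lit 0), (nat_lit 0xe8d1b60b94af85f19bc598fce371e3), (nat_lit 0), (nat_lit 0)⟩) (BT.leaf ⟨(nat_lit 4), (nat_lit 3656), (nat_lit 0), (nat_lit 0xbe75c8b9bff4d154e27576af5cb3b9), (nat_lit 0), (nat_lit 0)⟩)))) (BT.node (nat_lit 5356) (BT.node (nat_lit 5354) (BT.node (nat_lit 5353) (BT.leaf ⟨(nat_lit 4), (nat_lit 3487), (nat_lit 0), (nat_lit 0x12704112d20400ef5042577ce101744), (nat_lit 0), (nat_lit 0)⟩) (BT.leaf ⟨(nat_lit 4), (nat_lit 921), (nat_lit 0), (nat_lit 0x4052f747f1800c10a0180201440be2), (nat_lit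 0), (nat_lit 0)⟩)) (BT.node (nat_lit 5355) (BT.leaf ⟨(nat_lit 4), (nat_lit 1164), (nat_lit 0), (nat_lit 0x180200480fc6bd297d00802ce9a338d), (nat_lit 0), (nat_lit 0)⟩) (BT.leaf ⟨(nat_lit 4), (nat_lit 1453), (nat_lit 0), (nat_lit 0x17d0fdd2379466b2a5d956e292f27f), (nat_lit 0), (nat_lit 0)⟩))) (BT.node (nat_lit 5358) (BT.node (nat_lit 5357) (BT.leaf ⟨(nat_lit 4), (nat_lit 1801), (nat_lit 0), (nat_lit 0x1bd98e6f5da9bf33a4f4957bc0bcd17), (nat_lit 0), (nat_lit 0)⟩) (BT.leaf ⟨(nat_lit 4), (nat_lit 2212), (nat_lit 0), (nat_lit 0x108203a30c1f34227060910cd0ff7a), (nat_lit 0), (nat_lit 0)⟩)) (BT.node (nat_lit 5359) (BT.leaf ⟨(nat_lit 4), (nat_lit 2031), (nat_lit 0), (nat_lit 0x1d3958a57e652580480a090775f5828), (nat_lit 0), (nat_lit 0)⟩) (BT.leaf ⟨(nat_lit 4), (nat_lit 2030), (nat_lit 0), (nat_lit 0xd1a0840467510297d00fc70044f65f), (nat_lit 0), (nat_lit 0)⟩))))) (BT.node (nat_lit 5368) (BT.node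 (nat_lit 5364) (BT.node (nat_lit 5362) (BT.node (nat_lit 5361) (BT.leaf ⟨(nat_lit 4), (nat_lit 2227), (nat_lit 0), (nat_lit 0xb8df5f7d378f85e1ca5fc7e41f3cd9), (nat_lit 0), (nat_lit 0)⟩) (BT.leaf ⟨(nat_lit 4), (nat_lit 1814), (nat_lit 0), (nat_lit 0x1fd226fdb956bd33a4f4de1b537b26a), (nat_lit 0), (nat_lit 0)⟩)) (BT.node (nat_lit 5363) (BT.leaf ⟨(nat_lit 4), (nat_lit 1468), (nat_lit 0), (nat_lit 0x811f3806935d0b9f104de001495a5b), (nat_lit 0), (nat_lit 0)⟩) (BT.leaf ⟨(nat_lit 4), (nat_lit 3164), (nat_lit 0), (nat_lit 0x11ca3dbfef20a1f39c77ae6d2679c71), (nat_lit 0), (nat_lit 0)⟩))) (BT.node (nat_lit 5366) (BT.node (nat_lit 5365) (BT.leaf ⟨(nat_lit 4), (nat_lit 3193), (nat_lit 0), (nat_lit 0x413231802044806a901ae650346ae3), (nat_lit 0), (nat_lit 0)⟩) (BT.leaf ⟨(nat_lit 4), (nat_lit 2796), (nat_lit 0), (nat_lit 0x17b0bb7e8bd466efc4c74cb0f6e4568), (nat_lit 0), (nat_lit 0)⟩)) (BT.node (nat_lit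 5367) (BT.leaf ⟨(nat_lit 4), (nat_lit 2462), (nat_lit 0), (nat_lit 0x1a8b46fade1be32377894ca2dec6f8f), (nat_lit 0), (nat_lit 0)⟩) (BT.leaf ⟨(nat_lit 4), (nat_lit 1980), (nat_lit 0), (nat_lit 0x16c64f49c83da79d20ed93fb04bb48e), (nat_lit 0), (nat_lit 0)⟩)))) (BT.node (nat_lit 5372) (BT.node (nat_lit 5370) (BT.node (nat_lit 5369) (BT.leaf ⟨(nat_lit 4), (nat_lit 3511), (nat_lit 0), (nat_lit 0x11ce79c777fc66f6534950f14e31c7b), (nat_lit 0), (nat_lit 0)⟩) (BT.leaf ⟨(nat_lit 4), (nat_lit 3492), (nat_lit 0), (nat_lit 0x73b7b6e4df86cbfa6f450e9ab78179), (nat_lit 0), (nat_lit 0)⟩)) (BT.node (nat_lit 5371) (BT.leaf ⟨(nat_lit 4), (nat_lit 3493), (nat_lit 0), (nat_lit 0x1eea4070d1102120f568f8c30279a39), (nat_lit 0), (nat_lit 0)⟩) (BT.leaf ⟨(nat_lit 4), (nat_lit 3657), (nat_lit 0), (nat_lit 0xaba8cb35bff51bab07cf8dd9865f4e), (nat_lit 0), (nat_lit 0)⟩))) (BT.node (nat_lit 5374) (BT.node (nat_lit 5373)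 (BT.leaf ⟨(nat_lit 4), (nat_lit 3630), (nat_lit 0), (nat_lit 0x182df177d2b4d8d1b2cc8dcfccf1f90), (nat_lit 0), (nat_lit 0)⟩) (BT.leaf ⟨(nat_lit 4), (nat_lit 3437), (nat_lit 0), (nat_lit 0x1a8865d8d7fc2dfc2a658ddf3589d34), (nat_lit 0), (nat_lit 0)⟩)) (BT.node (nat_lit 5375) (BT.leaf ⟨(nat_lit 4), (nat_lit 3438), (nat_lit 0), (nat_lit 0x4b801ab88e527c20881e76405f11d4), (nat_lit 0), (nat_lit 0)⟩) (BT.leaf ⟨(nat_lit 4), (nat_lit 3631), (nat_lit 0), (nat_lit 0x1ee8e74d9ddfcea9d615e77caac1b49), (nat_lit 0), (nat_lit 0)⟩)))))))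
noncomputable def cP5312 : BT Pf := (BT.node (nat_lit 5344) (BT.node (nat_lit 5328) (BT.node (nat_lit 5320) (BT.node (nat_lit 5316) (BT.node (nat_lit 5314) (BT.node (nat_lit 5313) (BT.leaf (.pt (nat_lit 5311) (nat_lit 1))) (BT.leaf (.pt (nat_lit 5312) (nat_lit 3)))) (BT.node (nat_lit 5315) (BT.leaf (.pt (nat_lit 5313) (nat_lit 1))) (BT.leaf (.pt (nat_lit 5142) (nat_lit 4))))) (BT.node (nat_lit 5318) (BT.node (nat_lit 5317) (BT.leaf (.pt (nat_lit 5315) (nat_lit 1))) (BT.leaf (.pt (nat_lit 5316) (nat_lit 3)))) (BT.node (nat_lit 5319) (BT.leaf (.pt (nat_lit 5232) (nat_lit 4))) (BT.leaf (.pt (nat_lit 4914) (nat_lit 4)))))) (BT.node (nat_lit 5324) (BT.node (nat_lit 5322) (BT.node (nat_lit 5321) (BT.leaf (.pt (nat_lit 5319) (nat_lit 1))) (BT.leaf (.pt (nat_lit 5320) (nat_lit 4)))) (BT.node (nat_lit 5323) (BT.leaf (.pt (nat_lit 5321) (nat_lit 1))) (BT.leaf (.pt (nat_lit 5322) (nat_lit 4)))))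 (BT.node (nat_lit 5326) (BT.node (nat_lit 5325) (BT.leaf (.pt (nat_lit 5323) (nat_lit 1))) (BT.leaf (.pt (nat_lit 5324) (nat_lit 4)))) (BT.node (nat_lit 5327) (BT.leaf (.pt (nat_lit 4737) (nat_lit 1))) (BT.leaf (.pt (nat_lit 5326) (nat_lit 4))))))) (BT.node (nat_lit 5336) (BT.node (nat_lit 5332) (BT.node (nat_lit 5330) (BT.node (nat_lit 5329) (BT.leaf (.pt (nat_lit 5327) (nat_lit 1))) (BT.leaf (.pt (nat_lit 5328) (nat_lit 4)))) (BT.node (nat_lit 5331) (BT.leaf (.pt (nat_lit 5329) (nat_lit 1))) (BT.leaf (.pt (nat_lit 5330) (nat_lit 3))))) (BT.node (nat_lit 5334) (BT.node (nat_lit 5333) (BT.leaf (.pt (nat_lit 5331) (nat_lit 1))) (BT.leaf (.pt (nat_lit 5332) (nat_lit 3)))) (BT.node (nat_lit 5335) (BT.leaf (.pt (nat_lit 5333) (nat_lit 1))) (BT.leaf (.pt (nat_lit 5334) (nat_lit 3)))))) (BT.node (nat_lit 5340) (BT.node (nat_lit 5338) (BT.node (nat_lit 5337) (BT.leaf (.pt (nat_lit 5335) (nat_lit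 1))) (BT.leaf (.pt (nat_lit 5336) (nat_lit 3)))) (BT.node (nat_lit 5339) (BT.leaf (.pt (nat_lit 5337) (nat_lit 1))) (BT.leaf (.pt (nat_lit 5338) (nat_lit 4))))) (BT.node (nat_lit 5342) (BT.node (nat_lit 5341) (BT.leaf (.pt (nat_lit 5339) (nat_lit 1))) (BT.leaf (.pt (nat_lit 5340) (nat_lit 4)))) (BT.node (nat_lit 5343) (BT.leaf (.pt (nat_lit 4779) (nat_lit 1))) (BT.leaf (.pt (nat_lit 5342) (nat_lit 3)))))))) (BT.node (nat_lit 5360) (BT.node (nat_lit 5352) (BT.node (nat_lit 5348) (BT.node (nat_lit 5346) (BT.node (nat_lit 5345) (BT.leaf (.pt (nat_lit 5343) (nat_lit 1))) (BT.leaf (.pt (nat_lit 5282) (nat_lit 3)))) (BT.node (nat_lit 5347) (BT.leaf (.pt (nat_lit 5345) (nat_lit 1))) (BT.leaf (.pt (nat_lit 5346) (nat_lit 3))))) (BT.node (nat_lit 5350) (BT.node (nat_lit 5349) (BT.leaf (.pt (nat_lit 5347) (nat_lit 1))) (BT.leaf (.pt (nat_lit 5348) (nat_lit 3)))) (BT.node (nat_lit 5351) (BT.leaf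 (.pt (nat_lit 5349) (nat_lit 1))) (BT.leaf (.pt (nat_lit 5350) (nat_lit 3)))))) (BT.node (nat_lit 5356) (BT.node (nat_lit 5354) (BT.node (nat_lit 5353) (BT.leaf (.pt (nat_lit 5351) (nat_lit 1))) (BT.leaf (.pt (nat_lit 4751) (nat_lit 3)))) (BT.node (nat_lit 5355) (BT.leaf (.pt (nat_lit 5353) (nat_lit 1))) (BT.leaf (.pt (nat_lit 5354) (nat_lit 3))))) (BT.node (nat_lit 5358) (BT.node (nat_lit 5357) (BT.leaf (.pt (nat_lit 5355) (nat_lit 1))) (BT.leaf (.pt (nat_lit 5356) (nat_lit 3)))) (BT.node (nat_lit 5359) (BT.leaf (.pt (nat_lit 5357) (nat_lit 1))) (BT.leaf (.pt (nat_lit 5358) (nat_lit 4))))))) (BT.node (nat_lit 5368) (BT.node (nat_lit 5364) (BT.node (nat_lit 5362) (BT.node (nat_lit 5361) (BT.leaf (.pt (nat_lit 5359) (nat_lit 1))) (BT.leaf (.pt (nat_lit 5360) (nat_lit 4)))) (BT.node (nat_lit 5363) (BT.leaf (.pt (nat_lit 5361) (nat_lit 1))) (BT.leaf (.pt (nat_lit 5274) (nat_lit 3)))))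 (BT.node (nat_lit 5366) (BT.node (nat_lit 5365) (BT.leaf (.pt (nat_lit 5363) (nat_lit 1))) (BT.leaf (.pt (nat_lit 5364) (nat_lit 4)))) (BT.node (nat_lit 5367) (BT.leaf (.pt (nat_lit 5365) (nat_lit 1))) (BT.leaf (.pt (nat_lit 5366) (nat_lit 3)))))) (BT.node (nat_lit 5372) (BT.node (nat_lit 5370) (BT.node (nat_lit 5369) (BT.leaf (.pt (nat_lit 5288) (nat_lit 4))) (BT.leaf (.pt (nat_lit 5368) (nat_lit 1)))) (BT.node (nat_lit 5371) (BT.leaf (.pt (nat_lit 5369) (nat_lit 3))) (BT.leaf (.pt (nat_lit 5370) (nat_lit 1))))) (BT.node (nat_lit 5374) (BT.node (nat_lit 5373) (BT.leaf (.pt (nat_lit 5371) (nat_lit 4))) (BT.leaf (.pt (nat_lit 5372) (nat_lit 1)))) (BT.node (nat_lit 5375) (BT.leaf (.pt (nat_lit 5373) (nat_lit 3))) (BT.leaf (.pt (nat_lit 5374) (nat_lit 1)))))))))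
noncomputable def cF5376 : BT Fc := (BT.node (nat_lit 5408) (BT.node (nat_lit 5392) (BT.node (nat_lit 5384) (BT.node (nat_lit 5380) (BT.node (nat_lit 5378) (BT.node (nat_lit 5377) (BT.leaf ⟨(nat_lit 4), (nat_lit 3731), (nat_lit 0), (nat_lit 0x12032fc40bab00610404d73802007e3), (nat_lit 0), (nat_lit 0)⟩) (BT.leaf ⟨(nat_lit 4), (nat_lit 3734), (nat_lit 0), (nat_lit 0xaf6c1ab92b4e5b65239d72ee57cb6c), (nat_lit 0), (nat_lit 0)⟩)) (BT.node (nat_lit 5379) (BT.leaf ⟨(nat_lit 4), (nat_lit 3636), (nat_lit 0), (nat_lit 0x96e8cb8a37887dafa5e6e095f2fa7f), (nat_lit 0), (nat_lit 0)⟩) (BT.leaf ⟨(nat_lit 4), (nat_lit 3453), (nat_lit 0), (nat_lit 0x4bb5152f21f31c9792b6e0cbc7d2cc), (nat_lit 0), (nat_lit 0)⟩))) (BT.node (nat_lit 5382) (BT.node (nat_lit 5381) (BT.leaf ⟨(nat_lit 4), (nat_lit 3243), (nat_lit 0), (nat_lit 0xf7b1020449740949c3ae00af5402), (nat_lit 0), (nat_lit 0)⟩) (BT.leaf ⟨(nat_lit 4), (nat_lit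 2899), (nat_lit 0), (nat_lit 0x152c7d43dbaa7451b1d43ae7746a9f5), (nat_lit 0), (nat_lit 0)⟩)) (BT.node (nat_lit 5383) (BT.leaf ⟨(nat_lit 4), (nat_lit 2536), (nat_lit 0), (nat_lit 0x189e9a2a9d72aef652397725695ef51), (nat_lit 0), (nat_lit 0)⟩) (BT.leaf ⟨(nat_lit 4), (nat_lit 2082), (nat_lit 0), (nat_lit 0x6006a9049d04049059e77240088500), (nat_lit 0), (nat_lit 0)⟩)))) (BT.node (nat_lit 5388) (BT.node (nat_lit 5386) (BT.node (nat_lit 5385) (BT.leaf ⟨(nat_lit 4), (nat_lit 3390), (nat_lit 0), (nat_lit 0x1294de3c38dcf8cf1b635c6fccad77d), (nat_lit 0), (nat_lit 0)⟩) (BT.leaf ⟨(nat_lit 4), (nat_lit 3173), (nat_lit 0), (nat_lit 0x603fa3b9b3c410a06465c73a09068d), (nat_lit 0), (nat_lit 0)⟩)) (BT.node (nat_lit 5387) (BT.leaf ⟨(nat_lit 4), (nat_lit 2775), (nat_lit 0), (nat_lit 0xb7d2edd2d829ffdba5f4b6e28de05f), (nat_lit 0), (nat_lit 0)⟩) (BT.leaf ⟨(nat_lit 4), (nat_lit 2433), (nat_lit 0), (nat_lit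 0x10063e74080155e8844b6053c4c9a), (nat_lit 0), (nat_lit 0)⟩))) (BT.node (nat_lit 5390) (BT.node (nat_lit 5389) (BT.leaf ⟨(nat_lit 4), (nat_lit 1960), (nat_lit 0), (nat_lit 0x1002979e8c0197d9d07371bae600fe3), (nat_lit 0), (nat_lit 0)⟩) (BT.leaf ⟨(nat_lit 4), (nat_lit 1639), (nat_lit 0), (nat_lit 0xffbc4f8c8ddc3589f8d71b96132d8d), (nat_lit 0), (nat_lit 0)⟩)) (BT.node (nat_lit 5391) (BT.leaf ⟨(nat_lit 4), (nat_lit 1640), (nat_lit 0), (nat_lit 0x1573edb2f59931c7d37035e5be97e15), (nat_lit 0), (nat_lit 0)⟩) (BT.leaf ⟨(nat_lit 4), (nat_lit 1961), (nat_lit 0), (nat_lit 0xb7cc0480f75f1840cf335e8e540363), (nat_lit 0), (nat_lit 0)⟩))))) (BT.node (nat_lit 5400) (BT.node (nat_lit 5396) (BT.node (nat_lit 5394) (BT.node (nat_lit 5393) (BT.leaf ⟨(nat_lit 5), (nat_lit 3), (nat_lit 0), (nat_lit 0x1000000000000000000000000000002000000000000000000000000000000000000000000008000000000000000000000000000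0000000080000000000000000000000000000020000000000000000000000000000000800000000000000000000010000000008000000000000000040000000000000000000000000020000000000000000000000001000000000000000080000000000000000000000000000000000000000000000000000000000000000000000000000000000000000040000000000000000000000000000000000000000000040000000000000000200000001000020000000000000000000000000000000000000800000000000000000000000040000020000000000000000000000000000000001000000000000000000010000400000000000000000000000000000000000000000000000200000000040000000000000000000000000000008000000000000000000000000000000000000000000000000000000000000010000000000000000000000000000040000020000000000000000000800000000000000000000000000000020000000000000000000000000000000000000000000000002000000100002000000140000000000008000040000001000040000000000000000000000000), (nat_lit 0), (nat_lit 0)⟩) (BT.leaf ⟨(nat_lit 4),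 (nat_lit 37), (nat_lit 0), (nat_lit 0x1bd15c840020f8c00de8e8c97c97804), (nat_lit 0), (nat_lit 0)⟩)) (BT.node (nat_lit 5395) (BT.leaf ⟨(nat_lit 5), (nat_lit 3), (nat_lit 0), (nat_lit 0x2000000000), (nat_lit 0), (nat_lit 0)⟩) (BT.leaf ⟨(nat_lit 5), (nat_lit 3), (nat_lit 0), (nat_lit 0x100000000000000040000000000000200000000000000000000000000000000000400000000800000004000000000000000000000000400800021000000000000200000000000200008000002000800000000000000008000000100020100000140100000020080000000000000000400000000000000000000000200200010000000000000800100010000000000000000800000040000000004800400000080020000000000000001008000408200000000000400000000010000000000400000000040000000000022000008000000000208000400c00400000000402000800010001200000000000000000000000000000000000008000000000000000000000000404000200000000000000000000000000000020010800002000000800000100004000000000001480000000000000000010004000000020002020000000400000000000000000000400020002090000000000400000080800000000000001400000040000200000000000000100000000000000000004000000000400000200000100004000000008000000000000000000000000000001200100000000000000000000001010000000000000000000020008001000020000001c0000001000008000040800001000040000000000000002000000001),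 (nat_lit 0), (nat_lit 0)⟩))) (BT.node (nat_lit 5398) (BT.node (nat_lit 5397) (BT.leaf ⟨(nat_lit 4), (nat_lit 176), (nat_lit 0), (nat_lit 0x49c04048e65bf158c08030777a747b), (nat_lit 0), (nat_lit 0)⟩) (BT.leaf ⟨(nat_lit 4), (nat_lit 177), (nat_lit 0), (nat_lit 0x4baf4c72e77d1cea78cdeaf8808821), (nat_lit 0), (nat_lit 0)⟩)) (BT.node (nat_lit 5399) (BT.leaf ⟨(nat_lit 4), (nat_lit 240), (nat_lit 0), (nat_lit 0x5e73a6e4da9fd35a7dbdebbc1439ce), (nat_lit 0), (nat_lit 0)⟩) (BT.leaf ⟨(nat_lit 4), (nat_lit 322), (nat_lit 0), (nat_lit 0x996f42d2b9066ef62ae9d17aaf4c3d), (nat_lit 0), (nat_lit 0)⟩)))) (BT.node (nat_lit 5404) (BT.node (nat_lit 5402) (BT.node (nat_lit 5401) (BT.leaf ⟨(nat_lit 4), (nat_lit 427), (nat_lit 0), (nat_lit 0x1919801011ab6788868d9d0b8f1d120), (nat_lit 0), (nat_lit 0)⟩) (BT.leaf ⟨(nat_lit 4), (nat_lit 553), (nat_lit 0), (nat_lit 0x1d18400203abce9f1c7393cae6f4004), (nat_lit 0),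 (nat_lit 0)⟩)) (BT.node (nat_lit 5403) (BT.leaf ⟨(nat_lit 4), (nat_lit 711), (nat_lit 0), (nat_lit 0x3b64b17693427a4fbd893d2725f54b), (nat_lit 0), (nat_lit 0)⟩) (BT.leaf ⟨(nat_lit 4), (nat_lit 3162), (nat_lit 0), (nat_lit 0x3e8ca9d146dc84ea1d787b698aae58), (nat_lit 0), (nat_lit 0)⟩))) (BT.node (nat_lit 5406) (BT.node (nat_lit 5405) (BT.leaf ⟨(nat_lit 4), (nat_lit 3114), (nat_lit 0), (nat_lit 0x17a9575684cb781694c787b722f660b), (nat_lit 0), (nat_lit 0)⟩) (BT.leaf ⟨(nat_lit 4), (nat_lit 519), (nat_lit 0), (nat_lit 0xf88ad3a337878f05be19b31b9f5be3), (nat_lit 0), (nat_lit 0)⟩)) (BT.node (nat_lit 5407) (BT.leaf ⟨(nat_lit 4), (nat_lit 3113), (nat_lit 0), (nat_lit 0x808001f1a7552fa00009ce804080), (nat_lit 0), (nat_lit 0)⟩) (BT.leaf ⟨(nat_lit 4), (nat_lit 2911), (nat_lit 0), (nat_lit 0x812f600c1084adf38060091dc02f89), (nat_lit 0), (nat_lit 0)⟩)))))) (BT.node (nat_lit 5424) (BT.node (nat_lit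 5416) (BT.node (nat_lit 5412) (BT.node (nat_lit 5410) (BT.node (nat_lit 5409) (BT.leaf ⟨(nat_lit 4), (nat_lit 2546), (nat_lit 0), (nat_lit 0x8408879d120046319c527f2380824f), (nat_lit 0), (nat_lit 0)⟩) (BT.leaf ⟨(nat_lit 4), (nat_lit 2095), (nat_lit 0), (nat_lit 0x3ea9792f6e0e5893b2f27f857511af), (nat_lit 0), (nat_lit 0)⟩)) (BT.node (nat_lit 5411) (BT.leaf ⟨(nat_lit 4), (nat_lit 2096), (nat_lit 0), (nat_lit 0x356741806bfa371d10177248088573), (nat_lit 0), (nat_lit 0)⟩) (BT.leaf ⟨(nat_lit 4), (nat_lit 2547), (nat_lit 0), (nat_lit 0xae17caa9d951355cb6c77389d1c8e6), (nat_lit 0), (nat_lit 0)⟩))) (BT.node (nat_lit 5414) (BT.node (nat_lit 5413) (BT.leaf ⟨(nat_lit 4), (nat_lit 2729), (nat_lit 0), (nat_lit 0x17a173e8ee411f380610801378014), (nat_lit 0), (nat_lit 0)⟩) (BT.leaf ⟨(nat_lit 4), (nat_lit 2362), (nat_lit 0), (nat_lit 0x2091ce741205556f881108283dd4f3), (nat_lit 0), (nat_lit 0)⟩)) (BT.node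 (nat_lit 5415) (BT.leaf ⟨(nat_lit 4), (nat_lit 2363), (nat_lit 0), (nat_lit 0x1d11a3335eac1f3b3646d27d3ba14a5), (nat_lit 0), (nat_lit 0)⟩) (BT.leaf ⟨(nat_lit 4), (nat_lit 661), (nat_lit 0), (nat_lit 0x197e0807368c7a20033a804bd28038d), (nat_lit 0), (nat_lit 0)⟩)))) (BT.node (nat_lit 5420) (BT.node (nat_lit 5418) (BT.node (nat_lit 5417) (BT.leaf ⟨(nat_lit 4), (nat_lit 3228), (nat_lit 0), (nat_lit 0x1f6e55f2150f45ffa6f44d5bf0e74f4), (nat_lit 0), (nat_lit 0)⟩) (BT.leaf ⟨(nat_lit 4), (nat_lit 2872), (nat_lit 0), (nat_lit 0x127989ba4d3c5db13db14d523aa58ed), (nat_lit 0), (nat_lit 0)⟩)) (BT.node (nat_lit 5419) (BT.leaf ⟨(nat_lit 4), (nat_lit 2871), (nat_lit 0), (nat_lit 0x1001a3500c00bd210404babae4f433a), (nat_lit 0), (nat_lit 0)⟩) (BT.leaf ⟨(nat_lit 4), (nat_lit 3105), (nat_lit 0), (nat_lit 0x746a5c3ddde3ead31d5baa7746abd5), (nat_lit 0), (nat_lit 0)⟩))) (BT.node (nat_lit 5422) (BT.node (nat_lit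 5421) (BT.leaf ⟨(nat_lit 4), (nat_lit 3106), (nat_lit 0), (nat_lit 0x1d0ba25460f991ba71b2cd3c19a3766), (nat_lit 0), (nat_lit 0)⟩) (BT.leaf ⟨(nat_lit 4), (nat_lit 193), (nat_lit 0), (nat_lit 0x1bf3721cede89a943f21de1b533a1b2), (nat_lit 0), (nat_lit 0)⟩)) (BT.node (nat_lit 5423) (BT.leaf ⟨(nat_lit 4), (nat_lit 252), (nat_lit 0), (nat_lit 0x7452d884e84411f380cde0af79f004), (nat_lit 0), (nat_lit 0)⟩) (BT.leaf ⟨(nat_lit 4), (nat_lit 345), (nat_lit 0), (nat_lit 0x71409010eadca954c8e22004772463), (nat_lit 0), (nat_lit 0)⟩))))) (BT.node (nat_lit 5432) (BT.node (nat_lit 5428) (BT.node (nat_lit 5426) (BT.node (nat_lit 5425) (BT.leaf ⟨(nat_lit 4), (nat_lit 447), (nat_lit 0), (nat_lit 0x167817ff4ae7a34c00d522048080646), (nat_lit 0), (nat_lit 0)⟩) (BT.leaf ⟨(nat_lit 4), (nat_lit 589), (nat_lit 0), (nat_lit 0x12712ef448e200811738f1e108092bb), (nat_lit 0), (nat_lit 0)⟩)) (BT.node (nat_lit 5427) (BT.leaf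 ⟨(nat_lit 4), (nat_lit 744), (nat_lit 0), (nat_lit 0x2dec6f9da68994bcb13f1fe3065bfe), (nat_lit 0), (nat_lit 0)⟩) (BT.leaf ⟨(nat_lit 4), (nat_lit 1641), (nat_lit 0), (nat_lit 0x11dc032bd019268e8ef0808212f6204), (nat_lit 0), (nat_lit 0)⟩))) (BT.node (nat_lit 5430) (BT.node (nat_lit 5429) (BT.leaf ⟨(nat_lit 4), (nat_lit 1962), (nat_lit 0), (nat_lit 0xbd2001e8c00d1b2f8738094035cc08), (nat_lit 0), (nat_lit 0)⟩) (BT.leaf ⟨(nat_lit 4), (nat_lit 2438), (nat_lit 0), (nat_lit 0x5e751658b1be27cec6ea6974865a65), (nat_lit 0), (nat_lit 0)⟩)) (BT.node (nat_lit 5431) (BT.leaf ⟨(nat_lit 4), (nat_lit 3489), (nat_lit 0), (nat_lit 0xf624b41e93926a4f8edd82e93bee27), (nat_lit 0), (nat_lit 0)⟩) (BT.leaf ⟨(nat_lit 4), (nat_lit 3557), (nat_lit 0), (nat_lit 0x18b13f9bc1cd97fdbd19d8287d6fa5d), (nat_lit 0), (nat_lit 0)⟩)))) (BT.node (nat_lit 5436) (BT.node (nat_lit 5434) (BT.node (nat_lit 5433) (BT.leaf ⟨(nat_lit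 4), (nat_lit 3556), (nat_lit 0), (nat_lit 0x15cc801017736786a82f3013a2802e3), (nat_lit 0), (nat_lit 0)⟩) (BT.leaf ⟨(nat_lit 4), (nat_lit 3608), (nat_lit 0), (nat_lit 0x6bd6fc806c7f18414f3301ee840a39), (nat_lit 0), (nat_lit 0)⟩)) (BT.node (nat_lit 5435) (BT.leaf ⟨(nat_lit 4), (nat_lit 3399), (nat_lit 0), (nat_lit 0xcbd103d53c6c010858d40280aa3600), (nat_lit 0), (nat_lit 0)⟩) (BT.leaf ⟨(nat_lit 4), (nat_lit 3189), (nat_lit 0), (nat_lit 0x1e3040f478031c95c12e4037a4ea3e2), (nat_lit 0), (nat_lit 0)⟩))) (BT.node (nat_lit 5438) (BT.node (nat_lit 5437) (BT.leaf ⟨(nat_lit 4), (nat_lit 109), (nat_lit 0), (nat_lit 0xae497804002801f18804bfbd3a3002), (nat_lit 0), (nat_lit 0)⟩) (BT.leaf ⟨(nat_lit 4), (nat_lit 144), (nat_lit 0), (nat_lit 0xb7d2bd194bb97f160e64be87d2da5e), (nat_lit 0), (nat_lit 0)⟩)) (BT.node (nat_lit 5439) (BT.leaf ⟨(nat_lit 4), (nat_lit 200), (nat_lit 0), (nat_lit 0x6bed892e25a4acb7b2fa5fa8897acc),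 (nat_lit 0), (nat_lit 0)⟩) (BT.leaf ⟨(nat_lit 4), (nat_lit 259), (nat_lit 0), (nat_lit 0x180280400fc7755a3480a5ebd200c02), (nat_lit 0), (nat_lit 0)⟩)))))))
noncomputable def cP5376 : BT Pf := (BT.node (nat_lit 5408) (BT.node (nat_lit 5392) (BT.node (nat_lit 5384) (BT.node (nat_lit 5380) (BT.node (nat_lit 5378) (BT.node (nat_lit 5377) (BT.leaf (.pt (nat_lit 5375) (nat_lit 4))) (BT.leaf (.pt (nat_lit 5376) (nat_lit 1)))) (BT.node (nat_lit 5379) (BT.leaf (.pt (nat_lit 5377) (nat_lit 3))) (BT.leaf (.pt (nat_lit 5378) (nat_lit 1))))) (BT.node (nat_lit 5382) (BT.node (nat_lit 5381) (BT.leaf (.pt (nat_lit 5379) (nat_lit 4))) (BT.leaf (.pt (nat_lit 5380) (nat_lit 1)))) (BT.node (nat_lit 5383) (BT.leaf (.pt (nat_lit 5381) (nat_lit 4))) (BT.leaf (.pt (nat_lit 5382) (nat_lit 1)))))) (BT.node (nat_lit 5388) (BT.node (nat_lit 5386) (BT.node (nat_lit 5385) (BT.leaf (.pt (nat_lit 4866) (nat_lit 4)))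 (BT.leaf (.pt (nat_lit 5384) (nat_lit 1)))) (BT.node (nat_lit 5387) (BT.leaf (.pt (nat_lit 5385) (nat_lit 3))) (BT.leaf (.pt (nat_lit 5386) (nat_lit 1))))) (BT.node (nat_lit 5390) (BT.node (nat_lit 5389) (BT.leaf (.pt (nat_lit 5387) (nat_lit 4))) (BT.leaf (.pt (nat_lit 5388) (nat_lit 1)))) (BT.node (nat_lit 5391) (BT.leaf (.pt (nat_lit 5389) (nat_lit 3))) (BT.leaf (.pt (nat_lit 5390) (nat_lit 1))))))) (BT.node (nat_lit 5400) (BT.node (nat_lit 5396) (BT.node (nat_lit 5394) (BT.node (nat_lit 5393) (BT.leaf (.cov [] [⟨(nat_lit 1919), (nat_lit 4687), [(nat_lit 915), (nat_lit 968)]⟩, ⟨(nat_lit 1943), (nat_lit 5244), [(nat_lit 254), (nat_lit 363)]⟩, ⟨(nat_lit 2037), (nat_lit 5251), [(nat_lit 256), (nat_lit 512)]⟩, ⟨(nat_lit 2041), (nat_lit 5237), [(nat_lit 1292), (nat_lit 738)]⟩, ⟨(nat_lit 2090), (nat_lit 5252), [(nat_lit 1337), (nat_lit 399)]⟩, ⟨(nat_lit 2107), (nat_lit 5257), [(nat_lit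 587), (nat_lit 248)]⟩, ⟨(nat_lit 2138), (nat_lit 5262), [(nat_lit 423), (nat_lit 968)]⟩, ⟨(nat_lit 2145), (nat_lit 5172), [(nat_lit 1027), (nat_lit 682)]⟩, ⟨(nat_lit 2166), (nat_lit 5266), [(nat_lit 550), (nat_lit 88)]⟩, ⟨(nat_lit 2172), (nat_lit 5286), [(nat_lit 734), (nat_lit 605)]⟩, ⟨(nat_lit 2208), (nat_lit 4916), [(nat_lit 526), (nat_lit 108)]⟩, ⟨(nat_lit 2217), (nat_lit 5290), [(nat_lit 97), (nat_lit 398)]⟩, ⟨(nat_lit 2255), (nat_lit 5295), [(nat_lit 422), (nat_lit 362)]⟩, ⟨(nat_lit 2273), (nat_lit 5299), [(nat_lit 358), (nat_lit 1192)]⟩, ⟨(nat_lit 2282), (nat_lit 4579), [(nat_lit 914), (nat_lit 125)]⟩, ⟨(nat_lit 2313), (nat_lit 5304), [(nat_lit 1087), (nat_lit 972)]⟩, ⟨(nat_lit 2331), (nat_lit 5154), [(nat_lit 575), (nat_lit 124)]⟩, ⟨(nat_lit 2380), (nat_lit 5309), [(nat_lit 255), (nat_lit 236)]⟩, ⟨(nat_lit 2420), (nat_lit 5121), [(nat_lit 208), (nat_lit 495)]⟩, ⟨(nat_lit 2471),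 (nat_lit 5175), [(nat_lit 406), (nat_lit 1025)]⟩, ⟨(nat_lit 2480), (nat_lit 5161), [(nat_lit 953), (nat_lit 892)]⟩, ⟨(nat_lit 2515), (nat_lit 5124), [(nat_lit 434), (nat_lit 89)]⟩, ⟨(nat_lit 2630), (nat_lit 4912), [(nat_lit 829), (nat_lit 892)]⟩, ⟨(nat_lit 2709), (nat_lit 5314), [(nat_lit 1174), (nat_lit 287)]⟩, ⟨(nat_lit 2721), (nat_lit 5317), [(nat_lit 568), (nat_lit 362)]⟩, ⟨(nat_lit 2775), (nat_lit 5318), [(nat_lit 239), (nat_lit 563)]⟩, ⟨(nat_lit 2854), (nat_lit 5325), [(nat_lit 196), (nat_lit 647)]⟩, ⟨(nat_lit 3137), (nat_lit 4848), [(nat_lit 1092), (nat_lit 498)]⟩, ⟨(nat_lit 3176), (nat_lit 4762), []⟩, ⟨(nat_lit 3206), (nat_lit 5341), [(nat_lit 273), (nat_lit 478)]⟩, ⟨(nat_lit 3214), (nat_lit 5344), [(nat_lit 763), (nat_lit 532)]⟩, ⟨(nat_lit 3327), (nat_lit 5352), [(nat_lit 352), (nat_lit 530)]⟩, ⟨(nat_lit 3562), (nat_lit 5362), [(nat_lit 254), (nat_lit 818)]⟩, ⟨(nat_lit 3593),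 (nat_lit 4544), []⟩, ⟨(nat_lit 3702), (nat_lit 4710), []⟩, ⟨(nat_lit 3738), (nat_lit 4573), [(nat_lit 911), (nat_lit 367)]⟩, ⟨(nat_lit 3752), (nat_lit 5367), [(nat_lit 1174), (nat_lit 293)]⟩, ⟨(nat_lit 3899), (nat_lit 5383), [(nat_lit 94), (nat_lit 906)]⟩, ⟨(nat_lit 3929), (nat_lit 5391), [(nat_lit 164), (nat_lit 901)]⟩, ⟨(nat_lit 4009), (nat_lit 5333), [(nat_lit 239), (nat_lit 596)]⟩])) (BT.leaf (.pt (nat_lit 4538) (nat_lit 3)))) (BT.node (nat_lit 5395) (BT.leaf (.cov [] [⟨(nat_lit 4046), (nat_lit 5393), []⟩])) (BT.leaf (.cov [(nat_lit 5020), (nat_lit 5234), (nat_lit 5392), (nat_lit 5394)] [])))) (BT.node (nat_lit 5398) (BT.node (nat_lit 5397) (BT.leaf (.pt (nat_lit 4623) (nat_lit 1))) (BT.leaf (.pt (nat_lit 5396) (nat_lit 3)))) (BT.node (nat_lit 5399) (BT.leaf (.pt (nat_lit 5397) (nat_lit 1))) (BT.leaf (.pt (nat_lit 5398) (nat_lit 3)))))) (BT.node (nat_lit 5404) (BT.node (nat_lit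 5402) (BT.node (nat_lit 5401) (BT.leaf (.pt (nat_lit 5399) (nat_lit 1))) (BT.leaf (.pt (nat_lit 5400) (nat_lit 3)))) (BT.node (nat_lit 5403) (BT.leaf (.pt (nat_lit 5401) (nat_lit 1))) (BT.leaf (.pt (nat_lit 4707) (nat_lit 3))))) (BT.node (nat_lit 5406) (BT.node (nat_lit 5405) (BT.leaf (.pt (nat_lit 5403) (nat_lit 1))) (BT.leaf (.pt (nat_lit 4574) (nat_lit 3)))) (BT.node (nat_lit 5407) (BT.leaf (.pt (nat_lit 5404) (nat_lit 4))) (BT.leaf (.pt (nat_lit 5406) (nat_lit 1)))))))) (BT.node (nat_lit 5424) (BT.node (nat_lit 5416) (BT.node (nat_lit 5412) (BT.node (nat_lit 5410) (BT.node (nat_lit 5409) (BT.leaf (.pt (nat_lit 5407) (nat_lit 3))) (BT.leaf (.pt (nat_lit 5408) (nat_lit 1)))) (BT.node (nat_lit 5411) (BT.leaf (.pt (nat_lit 5409) (nat_lit 3))) (BT.leaf (.pt (nat_lit 5410) (nat_lit 1))))) (BT.node (nat_lit 5414) (BT.node (nat_lit 5413) (BT.leaf (.pt (nat_lit 5411) (nat_lit 4))) (BT.leaf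 (.pt (nat_lit 5412) (nat_lit 1)))) (BT.node (nat_lit 5415) (BT.leaf (.pt (nat_lit 5413) (nat_lit 3))) (BT.leaf (.pt (nat_lit 5295) (nat_lit 1)))))) (BT.node (nat_lit 5420) (BT.node (nat_lit 5418) (BT.node (nat_lit 5417) (BT.leaf (.pt (nat_lit 5373) (nat_lit 4))) (BT.leaf (.pt (nat_lit 5416) (nat_lit 1)))) (BT.node (nat_lit 5419) (BT.leaf (.pt (nat_lit 5417) (nat_lit 4))) (BT.leaf (.pt (nat_lit 5418) (nat_lit 1))))) (BT.node (nat_lit 5422) (BT.node (nat_lit 5421) (BT.leaf (.pt (nat_lit 5419) (nat_lit 3))) (BT.leaf (.pt (nat_lit 4778) (nat_lit 4)))) (BT.node (nat_lit 5423) (BT.leaf (.pt (nat_lit 5421) (nat_lit 1))) (BT.leaf (.pt (nat_lit 5422) (nat_lit 3))))))) (BT.node (nat_lit 5432) (BT.node (nat_lit 5428) (BT.node (nat_lit 5426) (BT.node (nat_lit 5425) (BT.leaf (.pt (nat_lit 5423) (nat_lit 1))) (BT.leaf (.pt (nat_lit 5424) (nat_lit 3)))) (BT.node (nat_lit 5427) (BT.leaf (.pt (nat_lit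 5425) (nat_lit 1))) (BT.leaf (.pt (nat_lit 4941) (nat_lit 3))))) (BT.node (nat_lit 5430) (BT.node (nat_lit 5429) (BT.leaf (.pt (nat_lit 5427) (nat_lit 1))) (BT.leaf (.pt (nat_lit 5428) (nat_lit 4)))) (BT.node (nat_lit 5431) (BT.leaf (.pt (nat_lit 4996) (nat_lit 4))) (BT.leaf (.pt (nat_lit 5430) (nat_lit 1)))))) (BT.node (nat_lit 5436) (BT.node (nat_lit 5434) (BT.node (nat_lit 5433) (BT.leaf (.pt (nat_lit 5431) (nat_lit 4))) (BT.leaf (.pt (nat_lit 5432) (nat_lit 1)))) (BT.node (nat_lit 5435) (BT.leaf (.pt (nat_lit 5433) (nat_lit 4))) (BT.leaf (.pt (nat_lit 5434) (nat_lit 1))))) (BT.node (nat_lit 5438) (BT.node (nat_lit 5437) (BT.leaf (.pt (nat_lit 4608) (nat_lit 4))) (BT.leaf (.pt (nat_lit 5436) (nat_lit 1)))) (BT.node (nat_lit 5439) (BT.leaf (.pt (nat_lit 5437) (nat_lit 3))) (BT.leaf (.pt (nat_lit 5438) (nat_lit 1)))))))))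
noncomputable def cF5440 : BT Fc := (BT.node (nat_lit 5472) (BT.node (nat_lit 5456) (BT.node (nat_lit 5448) (BT.node (nat_lit 5444) (BT.node (nat_lit 5442) (BT.node (nat_lit 5441) (BT.leaf ⟨(nat_lit 4), (nat_lit 328), (nat_lit 0), (nat_lit 0x1fa2fc5a8c1731d695c8bd2aba1ede8), (nat_lit 0), (nat_lit 0)⟩) (BT.leaf ⟨(nat_lit 4), (nat_lit 433), (nat_lit 0), (nat_lit 0x86009d400220401a01bd3e3020be2), (nat_lit 0), (nat_lit 0)⟩)) (BT.node (nat_lit 5443) (BT.leaf ⟨(nat_lit 4), (nat_lit 564), (nat_lit 0), (nat_lit 0xc00c3f3020143ce93f12118efc72a), (nat_lit 0), (nat_lit 0)⟩) (BT.leaf ⟨(nat_lit 4), (nat_lit 721), (nat_lit 0), (nat_lit 0x6bd6fd68f748e4aa8a0121f19b1880), (nat_lit 0), (nat_lit 0)⟩))) (BT.node (nat_lit 5446) (BT.node (nat_lit 5445) (BT.leaf ⟨(nat_lit 4), (nat_lit 940), (nat_lit 0), (nat_lit 0x16c6cf3137492393549aefb52f13976), (nat_lit 0), (nat_lit 0)⟩) (BT.leaf ⟨(nat_lit 4), (nat_lit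 1179), (nat_lit 0), (nat_lit 0xf9db195ac16f0df1accefbe42374d9), (nat_lit 0), (nat_lit 0)⟩)) (BT.node (nat_lit 5447) (BT.leaf ⟨(nat_lit 4), (nat_lit 1478), (nat_lit 0), (nat_lit 0x152f6f5bd327c01a01f1800410ab8), (nat_lit 0), (nat_lit 0)⟩) (BT.leaf ⟨(nat_lit 4), (nat_lit 3729), (nat_lit 0), (nat_lit 0x7a201408d72e3610404c017564009e), (nat_lit 0), (nat_lit 0)⟩)))) (BT.node (nat_lit 5452) (BT.node (nat_lit 5450) (BT.node (nat_lit 5449) (BT.leaf ⟨(nat_lit 4), (nat_lit 3774), (nat_lit 0), (nat_lit 0x810f1a80d3ccbf39fe8c00901040b9), (nat_lit 0), (nat_lit 0)⟩) (BT.leaf ⟨(nat_lit 4), (nat_lit 3708), (nat_lit 0), (nat_lit 0x192eabb9380282178f25a40a01022), (nat_lit 0), (nat_lit 0)⟩)) (BT.node (nat_lit 5451) (BT.leaf ⟨(nat_lit 4), (nat_lit 2857), (nat_lit 0), (nat_lit 0x1ca8884108c6051f981191c243ab24f), (nat_lit 0), (nat_lit 0)⟩) (BT.leaf ⟨(nat_lit 4), (nat_lit 3220), (nat_lit 0), (nat_lit 0x127d353d8d836c713ba491d2704f0ed),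 (nat_lit 0), (nat_lit 0)⟩))) (BT.node (nat_lit 5454) (BT.node (nat_lit 5453) (BT.leaf ⟨(nat_lit 4), (nat_lit 3430), (nat_lit 0), (nat_lit 0x4046ad736bf4008110405fa34882e3), (nat_lit 0), (nat_lit 0)⟩) (BT.leaf ⟨(nat_lit 4), (nat_lit 2747), (nat_lit 0), (nat_lit 0x12972307c365a4fb374e7b0abb34f42), (nat_lit 0), (nat_lit 0)⟩)) (BT.node (nat_lit 5455) (BT.leaf ⟨(nat_lit 4), (nat_lit 3062), (nat_lit 0), (nat_lit 0xe8e19af9d693790ffcd2de180caf7a), (nat_lit 0), (nat_lit 0)⟩) (BT.leaf ⟨(nat_lit 4), (nat_lit 2933), (nat_lit 0), (nat_lit 0x1a8b348fac2a49c95acc2de6bdcb7db), (nat_lit 0), (nat_lit 0)⟩))))) (BT.node (nat_lit 5464) (BT.node (nat_lit 5460) (BT.node (nat_lit 5458) (BT.node (nat_lit 5457) (BT.leaf ⟨(nat_lit 4), (nat_lit 3742), (nat_lit 0), (nat_lit 0xf633487c66b91b83744d27f18d90cb), (nat_lit 0), (nat_lit 0)⟩) (BT.leaf ⟨(nat_lit 4), (nat_lit 3760), (nat_lit 0), (nat_lit 0x75ce2f21cb0755ead4bd2675377da6),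 (nat_lit 0), (nat_lit 0)⟩)) (BT.node (nat_lit 5459) (BT.leaf ⟨(nat_lit 4), (nat_lit 3689), (nat_lit 0), (nat_lit 0x1a02044f13d092d80ce7c810026f0), (nat_lit 0), (nat_lit 0)⟩) (BT.leaf ⟨(nat_lit 4), (nat_lit 3562), (nat_lit 0), (nat_lit 0x1ccb77f3a39ce91a4f38e7deebbd0b7), (nat_lit 0), (nat_lit 0)⟩))) (BT.node (nat_lit 5462) (BT.node (nat_lit 5461) (BT.leaf ⟨(nat_lit 4), (nat_lit 3563), (nat_lit 0), (nat_lit 0x1023f1b8d5e91024034613d0820265f), (nat_lit 0), (nat_lit 0)⟩) (BT.leaf ⟨(nat_lit 4), (nat_lit 3690), (nat_lit 0), (nat_lit 0xf60bb49ad8389e4f49613da7989a6a), (nat_lit 0), (nat_lit 0)⟩)) (BT.node (nat_lit 5463) (BT.leaf ⟨(nat_lit 4), (nat_lit 3733), (nat_lit 0), (nat_lit 0x12951b5173791b8f1ba32b4f8bf1b63), (nat_lit 0), (nat_lit 0)⟩) (BT.leaf ⟨(nat_lit 4), (nat_lit 699), (nat_lit 0), (nat_lit 0xb7c441af4739d3868c0120555b1884), (nat_lit 0), (nat_lit 0)⟩)))) (BT.node (nat_lit 5468) (BT.node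 (nat_lit 5466) (BT.node (nat_lit 5465) (BT.leaf ⟨(nat_lit 4), (nat_lit 539), (nat_lit 0), (nat_lit 0x142083f302804a31a4f1212389faa9), (nat_lit 0), (nat_lit 0)⟩) (BT.leaf ⟨(nat_lit 4), (nat_lit 540), (nat_lit 0), (nat_lit 0x12004ab101849e4b6fc01442044785), (nat_lit 0), (nat_lit 0)⟩)) (BT.node (nat_lit 5467) (BT.leaf ⟨(nat_lit 4), (nat_lit 2344), (nat_lit 0), (nat_lit 0x1e42392878c71ce38cf33378b1a4c7b), (nat_lit 0), (nat_lit 0)⟩) (BT.leaf ⟨(nat_lit 4), (nat_lit 1894), (nat_lit 0), (nat_lit 0x1297b3706eacabaffb460f9d13a31b2), (nat_lit 0), (nat_lit 0)⟩))) (BT.node (nat_lit 5470) (BT.node (nat_lit 5469) (BT.leaf ⟨(nat_lit 4), (nat_lit 1564), (nat_lit 0), (nat_lit 0xce9a4f3a39deeb994d90f9cfbbd72a), (nat_lit 0), (nat_lit 0)⟩) (BT.leaf ⟨(nat_lit 4), (nat_lit 1563), (nat_lit 0), (nat_lit 0x27a4fe274d4f62a5b139bd25a0f49e), (nat_lit 0), (nat_lit 0)⟩)) (BT.node (nat_lit 5471) (BT.leaf ⟨(nat_lit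 4), (nat_lit 1366), (nat_lit 0), (nat_lit 0x1f37bd0c0080e8c284409bc1097ceb4), (nat_lit 0), (nat_lit 0)⟩) (BT.leaf ⟨(nat_lit 4), (nat_lit 1365), (nat_lit 0), (nat_lit 0x163739bd5401a782fb2f172840f1a80), (nat_lit 0), (nat_lit 0)⟩)))))) (BT.node (nat_lit 5488) (BT.node (nat_lit 5480) (BT.node (nat_lit 5476) (BT.node (nat_lit 5474) (BT.node (nat_lit 5473) (BT.leaf ⟨(nat_lit 4), (nat_lit 1727), (nat_lit 0), (nat_lit 0xe597c95a473ae626d34172ac5b62b9), (nat_lit 0), (nat_lit 0)⟩) (BT.leaf ⟨(nat_lit 4), (nat_lit 2083), (nat_lit 0), (nat_lit 0x1572b9c739e769a3d8ed0e71df39e2c), (nat_lit 0), (nat_lit 0)⟩)) (BT.node (nat_lit 5475) (BT.leaf ⟨(nat_lit 4), (nat_lit 1610), (nat_lit 0), (nat_lit 0x399af9bc6e09fd2ee5f0be87ee962c), (nat_lit 0), (nat_lit 0)⟩) (BT.leaf ⟨(nat_lit 4), (nat_lit 1934), (nat_lit 0), (nat_lit 0x18010058dce73d1400b90bfa78f1b2f), (nat_lit 0), (nat_lit 0)⟩))) (BT.node (nat_lit 5478)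 (BT.node (nat_lit 5477) (BT.leaf ⟨(nat_lit 4), (nat_lit 1817), (nat_lit 0), (nat_lit 0x14031d02fae6b8ecf120fe8441af902), (nat_lit 0), (nat_lit 0)⟩) (BT.leaf ⟨(nat_lit 4), (nat_lit 1471), (nat_lit 0), (nat_lit 0x1b537e4abdedbc0bcaf4fe9ad3eda87), (nat_lit 0), (nat_lit 0)⟩)) (BT.node (nat_lit 5479) (BT.leaf ⟨(nat_lit 4), (nat_lit 1472), (nat_lit 0), (nat_lit 0x1c6b9d349e71857bd4d9e7c1f31d3a4), (nat_lit 0), (nat_lit 0)⟩) (BT.leaf ⟨(nat_lit 4), (nat_lit 1556), (nat_lit 0), (nat_lit 0xf9ce89049357b12d824e7c0523b806), (nat_lit 0), (nat_lit 0)⟩)))) (BT.node (nat_lit 5484) (BT.node (nat_lit 5482) (BT.node (nat_lit 5481) (BT.leaf ⟨(nat_lit 4), (nat_lit 1226), (nat_lit 0), (nat_lit 0xf8c0400293d1cc0812fbd02039d040), (nat_lit 0), (nat_lit 0)⟩) (BT.leaf ⟨(nat_lit 4), (nat_lit 995), (nat_lit 0), (nat_lit 0x131ff42d2b51d467460bbd0abaf5176), (nat_lit 0), (nat_lit 0)⟩)) (BT.node (nat_lit 5483) (BT.leaf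 ⟨(nat_lit 4), (nat_lit 753), (nat_lit 0), (nat_lit 0x1f6f7aee4d69bd0bcaf4dedfd2269ce), (nat_lit 0), (nat_lit 0)⟩) (BT.leaf ⟨(nat_lit 4), (nat_lit 2023), (nat_lit 0), (nat_lit 0xb7c604801026bfdd280f8cd8e79a39), (nat_lit 0), (nat_lit 0)⟩))) (BT.node (nat_lit 5486) (BT.node (nat_lit 5485) (BT.leaf ⟨(nat_lit 4), (nat_lit 2496), (nat_lit 0), (nat_lit 0x151b49b35bfeab8d9519f8d919a3747), (nat_lit 0), (nat_lit 0)⟩) (BT.leaf ⟨(nat_lit 4), (nat_lit 2672), (nat_lit 0), (nat_lit 0x900200415f3100a016fb513786077a), (nat_lit 0), (nat_lit 0)⟩)) (BT.node (nat_lit 5487) (BT.leaf ⟨(nat_lit 4), (nat_lit 1628), (nat_lit 0), (nat_lit 0x90028044d6937820c402df0cc2021f), (nat_lit 0), (nat_lit 0)⟩) (BT.leaf ⟨(nat_lit 5), (nat_lit 4), (nat_lit 0), (nat_lit 0x2000001000000000000000000000000000000000000000000000000000000000000000000000400000000000000000000000000000000000000000000000000000000020200000000000000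000040400000000000000100000000080000000000000000020000000000000000000000000000000000000000000000000000000000000000100000000000080000002000000000000000000000000000000000000004000000000000000000800000000000000000000000000000000000000000000000000000000000000000000080000000000000000000000000000000000000000000000000000000000000000000000400000000000000000000000000000000000000000100000000000000000000000000000000000004000000000000000000000000000000000000000000000000000000000000000000000000000000000000000000000000000000000000000000000000000000000000000000000000000000002000000000000000000000000000201000000008000000000002000000000000000000000000400001000008000000000000000000000000000000008000000000000800000000000000000000000000000000000000000000000000000000000000000000000000000400001), (nat_lit 0), (nat_lit 0)⟩))))) (BT.node (nat_lit 5496) (BT.node (nat_lit 5492) (BT.node (nat_lit 5490) (BT.node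 (nat_lit 5489) (BT.leaf ⟨(nat_lit 4), (nat_lit 1733), (nat_lit 0), (nat_lit 0x6578343343e140306b4f9a1217c840), (nat_lit 0), (nat_lit 0)⟩) (BT.leaf ⟨(nat_lit 4), (nat_lit 1376), (nat_lit 0), (nat_lit 0x5e751534f1b63786e58f9ac4dff5d2), (nat_lit 0), (nat_lit 0)⟩)) (BT.node (nat_lit 5491) (BT.leaf ⟨(nat_lit 4), (nat_lit 1118), (nat_lit 0), (nat_lit 0x1bc202024008111f38068ee211022bd), (nat_lit 0), (nat_lit 0)⟩) (BT.leaf ⟨(nat_lit 4), (nat_lit 860), (nat_lit 0), (nat_lit 0x11c5ff673d9569b162878ef1ee29c73), (nat_lit 0), (nat_lit 0)⟩))) (BT.node (nat_lit 5494) (BT.node (nat_lit 5493) (BT.leaf ⟨(nat_lit 4), (nat_lit 678), (nat_lit 0), (nat_lit 0x1008f4400d7308204440baacea027e3), (nat_lit 0), (nat_lit 0)⟩) (BT.leaf ⟨(nat_lit 4), (nat_lit 515), (nat_lit 0), (nat_lit 0x6546a9d146c751ea9d7baa554eab6c), (nat_lit 0), (nat_lit 0)⟩)) (BT.node (nat_lit 5495) (BT.leaf ⟨(nat_lit 4), (nat_lit 404), (nat_lit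 0), (nat_lit 0x16a132f51c177a2b45c8bd25d8f45e0), (nat_lit 0), (nat_lit 0)⟩) (BT.leaf ⟨(nat_lit 4), (nat_lit 296), (nat_lit 0), (nat_lit 0x87a3c0101204402841bd3ced5c3e2), (nat_lit 0), (nat_lit 0)⟩)))) (BT.node (nat_lit 5500) (BT.node (nat_lit 5498) (BT.node (nat_lit 5497) (BT.leaf ⟨(nat_lit 4), (nat_lit 323), (nat_lit 0), (nat_lit 0x16342fbd54408050169ece690180210), (nat_lit 0), (nat_lit 0)⟩) (BT.leaf ⟨(nat_lit 4), (nat_lit 428), (nat_lit 0), (nat_lit 0x3b543d738c7571a4bfece7e42d3453), (nat_lit 0), (nat_lit 0)⟩)) (BT.node (nat_lit 5499) (BT.leaf ⟨(nat_lit 4), (nat_lit 452), (nat_lit 0), (nat_lit 0x12584400a03082158c083bbcc893908), (nat_lit 0), (nat_lit 0)⟩) (BT.leaf ⟨(nat_lit 4), (nat_lit 350), (nat_lit 0), (nat_lit 0x1756d30fa1ab960fad4b3ba654eb9c5), (nat_lit 0), (nat_lit 0)⟩))) (BT.node (nat_lit 5502) (BT.node (nat_lit 5501) (BT.leaf ⟨(nat_lit 4), (nat_lit 349), (nat_lit 0), (nat_lit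 0x7a18e7519d1782f62aebd572132cc7), (nat_lit 0), (nat_lit 0)⟩) (BT.leaf ⟨(nat_lit 4), (nat_lit 451), (nat_lit 0), (nat_lit 0x1d10ebf8f25b27009402bd5ce15d902), (nat_lit 0), (nat_lit 0)⟩)) (BT.node (nat_lit 5503) (BT.leaf ⟨(nat_lit 4), (nat_lit 596), (nat_lit 0), (nat_lit 0x6cb7a7f4fb7134e76fc4d545d8e6f0), (nat_lit 0), (nat_lit 0)⟩) (BT.leaf ⟨(nat_lit 4), (nat_lit 751), (nat_lit 0), (nat_lit 0x125b6097693527d89bd84d52facf5b1), (nat_lit 0), (nat_lit 0)⟩)))))))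
noncomputable def cP5440 : BT Pf := (BT.node (nat_lit 5472) (BT.node (nat_lit 5456) (BT.node (nat_lit 5448) (BT.node (nat_lit 5444) (BT.node (nat_lit 5442) (BT.node (nat_lit 5441) (BT.leaf (.pt (nat_lit 5439) (nat_lit 4))) (BT.leaf (.pt (nat_lit 5440) (nat_lit 1)))) (BT.node (nat_lit 5443) (BT.leaf (.pt (nat_lit 5441) (nat_lit 3))) (BT.leaf (.pt (nat_lit 5442) (nat_lit 1))))) (BT.node (nat_lit 5446) (BT.node (nat_lit 5445) (BT.leaf (.pt (nat_lit 5443) (nat_lit 4))) (BT.leaf (.pt (nat_lit 5444) (nat_lit 1)))) (BT.node (nat_lit 5447) (BT.leaf (.pt (nat_lit 5445) (nat_lit 4))) (BT.leaf (.pt (nat_lit 5371) (nat_lit 3)))))) (BT.node (nat_lit 5452) (BT.node (nat_lit 5450) (BT.node (nat_lit 5449) (BT.leaf (.pt (nat_lit 5447) (nat_lit 1))) (BT.leaf (.pt (nat_lit 5448) (nat_lit 3)))) (BT.node (nat_lit 5451) (BT.leaf (.pt (nat_lit 5264) (nat_lit 3))) (BT.leaf (.pt (nat_lit 5450) (nat_lit 1)))))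 (BT.node (nat_lit 5454) (BT.node (nat_lit 5453) (BT.leaf (.pt (nat_lit 5451) (nat_lit 3))) (BT.leaf (.pt (nat_lit 4666) (nat_lit 1)))) (BT.node (nat_lit 5455) (BT.leaf (.pt (nat_lit 5453) (nat_lit 4))) (BT.leaf (.pt (nat_lit 5454) (nat_lit 1))))))) (BT.node (nat_lit 5464) (BT.node (nat_lit 5460) (BT.node (nat_lit 5458) (BT.node (nat_lit 5457) (BT.leaf (.pt (nat_lit 5136) (nat_lit 4))) (BT.leaf (.pt (nat_lit 5456) (nat_lit 1)))) (BT.node (nat_lit 5459) (BT.leaf (.pt (nat_lit 5457) (nat_lit 4))) (BT.leaf (.pt (nat_lit 5458) (nat_lit 1))))) (BT.node (nat_lit 5462) (BT.node (nat_lit 5461) (BT.leaf (.pt (nat_lit 5459) (nat_lit 3))) (BT.leaf (.pt (nat_lit 5460) (nat_lit 1)))) (BT.node (nat_lit 5463) (BT.leaf (.pt (nat_lit 5461) (nat_lit 3))) (BT.leaf (.pt (nat_lit 4922) (nat_lit 3)))))) (BT.node (nat_lit 5468) (BT.node (nat_lit 5466) (BT.node (nat_lit 5465) (BT.leaf (.pt (nat_lit 5463) (nat_lit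 1))) (BT.leaf (.pt (nat_lit 5464) (nat_lit 3)))) (BT.node (nat_lit 5467) (BT.leaf (.pt (nat_lit 4602) (nat_lit 1))) (BT.leaf (.pt (nat_lit 5466) (nat_lit 4))))) (BT.node (nat_lit 5470) (BT.node (nat_lit 5469) (BT.leaf (.pt (nat_lit 5467) (nat_lit 1))) (BT.leaf (.pt (nat_lit 5468) (nat_lit 4)))) (BT.node (nat_lit 5471) (BT.leaf (.pt (nat_lit 5469) (nat_lit 1))) (BT.leaf (.pt (nat_lit 5470) (nat_lit 4)))))))) (BT.node (nat_lit 5488) (BT.node (nat_lit 5480) (BT.node (nat_lit 5476) (BT.node (nat_lit 5474) (BT.node (nat_lit 5473) (BT.leaf (.pt (nat_lit 5471) (nat_lit 1))) (BT.leaf (.pt (nat_lit 5472) (nat_lit 3)))) (BT.node (nat_lit 5475) (BT.leaf (.pt (nat_lit 5336) (nat_lit 4))) (BT.leaf (.pt (nat_lit 5474) (nat_lit 1))))) (BT.node (nat_lit 5478) (BT.node (nat_lit 5477) (BT.leaf (.pt (nat_lit 5475) (nat_lit 3))) (BT.leaf (.pt (nat_lit 5476) (nat_lit 1)))) (BT.node (nat_lit 5479) (BT.leaf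 (.pt (nat_lit 5477) (nat_lit 3))) (BT.leaf (.pt (nat_lit 5478) (nat_lit 1)))))) (BT.node (nat_lit 5484) (BT.node (nat_lit 5482) (BT.node (nat_lit 5481) (BT.leaf (.pt (nat_lit 5479) (nat_lit 3))) (BT.leaf (.pt (nat_lit 5480) (nat_lit 1)))) (BT.node (nat_lit 5483) (BT.leaf (.pt (nat_lit 5481) (nat_lit 4))) (BT.leaf (.pt (nat_lit 5056) (nat_lit 4))))) (BT.node (nat_lit 5486) (BT.node (nat_lit 5485) (BT.leaf (.pt (nat_lit 5483) (nat_lit 1))) (BT.leaf (.pt (nat_lit 5484) (nat_lit 3)))) (BT.node (nat_lit 5487) (BT.leaf (.pt (nat_lit 4507) (nat_lit 4))) (BT.leaf (.cov [] [⟨(nat_lit 541), (nat_lit 4484), []⟩, ⟨(nat_lit 565), (nat_lit 5402), [(nat_lit 1041), (nat_lit 294)]⟩, ⟨(nat_lit 571), (nat_lit 4577), [(nat_lit 953), (nat_lit 270)]⟩, ⟨(nat_lit 576), (nat_lit 5404), [(nat_lit 582), (nat_lit 291)]⟩, ⟨(nat_lit 583), (nat_lit 5405), [(nat_lit 356), (nat_lit 361)]⟩, ⟨(nat_lit 588), (nat_lit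 5414), [(nat_lit 689), (nat_lit 1053)]⟩, ⟨(nat_lit 713), (nat_lit 5415), [(nat_lit 763), (nat_lit 982)]⟩, ⟨(nat_lit 720), (nat_lit 4916), [(nat_lit 284), (nat_lit 891)]⟩, ⟨(nat_lit 721), (nat_lit 4769), [(nat_lit 569), (nat_lit 1017)]⟩, ⟨(nat_lit 722), (nat_lit 4911), [(nat_lit 507), (nat_lit 0)]⟩, ⟨(nat_lit 780), (nat_lit 5420), [(nat_lit 381), (nat_lit 968)]⟩, ⟨(nat_lit 873), (nat_lit 4855), [(nat_lit 1056), (nat_lit 752)]⟩, ⟨(nat_lit 1034), (nat_lit 5426), [(nat_lit 1189), (nat_lit 684)]⟩, ⟨(nat_lit 1171), (nat_lit 5429), [(nat_lit 1106), (nat_lit 1256)]⟩, ⟨(nat_lit 1180), (nat_lit 5435), [(nat_lit 177), (nat_lit 367)]⟩, ⟨(nat_lit 1200), (nat_lit 5446), [(nat_lit 1600), (nat_lit 172)]⟩, ⟨(nat_lit 1219), (nat_lit 5449), [(nat_lit 707), (nat_lit 1204)]⟩, ⟨(nat_lit 1249), (nat_lit 5452), [(nat_lit 523), (nat_lit 0)]⟩, ⟨(nat_lit 1261), (nat_lit 5455), [(nat_lit 43), (nat_lit 646)]⟩,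 ⟨(nat_lit 1301), (nat_lit 5010), [(nat_lit 829), (nat_lit 249)]⟩, ⟨(nat_lit 1620), (nat_lit 4963), [(nat_lit 569), (nat_lit 512)]⟩, ⟨(nat_lit 1837), (nat_lit 5254), [(nat_lit 905), (nat_lit 1025)]⟩, ⟨(nat_lit 1914), (nat_lit 4949), [(nat_lit 726), (nat_lit 330)]⟩, ⟨(nat_lit 2215), (nat_lit 5462), [(nat_lit 153), (nat_lit 278)]⟩, ⟨(nat_lit 2465), (nat_lit 5465), [(nat_lit 429), (nat_lit 203)]⟩, ⟨(nat_lit 2691), (nat_lit 4813), [(nat_lit 151), (nat_lit 319)]⟩, ⟨(nat_lit 2732), (nat_lit 5473), [(nat_lit 764), (nat_lit 711)]⟩, ⟨(nat_lit 3055), (nat_lit 5482), [(nat_lit 214), (nat_lit 91)]⟩, ⟨(nat_lit 3396), (nat_lit 5485), [(nat_lit 296), (nat_lit 287)]⟩, ⟨(nat_lit 3408), (nat_lit 5486), [(nat_lit 357), (nat_lit 1376)]⟩, ⟨(nat_lit 4221), (nat_lit 4491), []⟩])))))) (BT.node (nat_lit 5496) (BT.node (nat_lit 5492) (BT.node (nat_lit 5490) (BT.node (nat_lit 5489) (BT.leaf (.pt (nat_lit 5409)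 (nat_lit 4))) (BT.leaf (.pt (nat_lit 5488) (nat_lit 1)))) (BT.node (nat_lit 5491) (BT.leaf (.pt (nat_lit 5489) (nat_lit 4))) (BT.leaf (.pt (nat_lit 5490) (nat_lit 1))))) (BT.node (nat_lit 5494) (BT.node (nat_lit 5493) (BT.leaf (.pt (nat_lit 5491) (nat_lit 3))) (BT.leaf (.pt (nat_lit 5492) (nat_lit 1)))) (BT.node (nat_lit 5495) (BT.leaf (.pt (nat_lit 5493) (nat_lit 3))) (BT.leaf (.pt (nat_lit 5494) (nat_lit 1)))))) (BT.node (nat_lit 5500) (BT.node (nat_lit 5498) (BT.node (nat_lit 5497) (BT.leaf (.pt (nat_lit 5398) (nat_lit 4))) (BT.leaf (.pt (nat_lit 5496) (nat_lit 1)))) (BT.node (nat_lit 5499) (BT.leaf (.pt (nat_lit 5497) (nat_lit 4))) (BT.leaf (.pt (nat_lit 5498) (nat_lit 1))))) (BT.node (nat_lit 5502) (BT.node (nat_lit 5501) (BT.leaf (.pt (nat_lit 5499) (nat_lit 4))) (BT.leaf (.pt (nat_lit 5500) (nat_lit 1)))) (BT.node (nat_lit 5503) (BT.leaf (.pt (nat_lit 5501) (nat_lit 3))) (BT.leaf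 (.pt (nat_lit 5502) (nat_lit 1)))))))))
noncomputable def cF5504 : BT Fc := (BT.node (nat_lit 5536) (BT.node (nat_lit 5520) (BT.node (nat_lit 5512) (BT.node (nat_lit 5508) (BT.node (nat_lit 5506) (BT.node (nat_lit 5505) (BT.leaf ⟨(nat_lit 4), (nat_lit 993), (nat_lit 0), (nat_lit 0x20ea92f008400102b90021037a73a), (nat_lit 0), (nat_lit 0)⟩) (BT.leaf ⟨(nat_lit 4), (nat_lit 2175), (nat_lit 0), (nat_lit 0x1802405005e9082eac02801ae72fc40), (nat_lit 0), (nat_lit 0)⟩)) (BT.node (nat_lit 5507) (BT.leaf ⟨(nat_lit 4), (nat_lit 2605), (nat_lit 0), (nat_lit 0xa39a5f081ce897a00800010806f4), (nat_lit 0), (nat_lit 0)⟩) (BT.leaf ⟨(nat_lit 4), (nat_lit 2988), (nat_lit 0), (nat_lit 0x20ab4674180600420a0f7507a40155), (nat_lit 0), (nat_lit 0)⟩))) (BT.node (nat_lit 5510) (BT.node (nat_lit 5509) (BT.leaf ⟨(nat_lit 4), (nat_lit 3293), (nat_lit 0), (nat_lit 0x1c6b9db3addfcaab2f38f7560ce777a), (nat_lit 0),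 (nat_lit 0)⟩) (BT.leaf ⟨(nat_lit 4), (nat_lit 3459), (nat_lit 0), (nat_lit 0x1720cdda887ac73a8ce8bf0996b45ec), (nat_lit 0), (nat_lit 0)⟩)) (BT.node (nat_lit 5511) (BT.leaf ⟨(nat_lit 4), (nat_lit 3408), (nat_lit 0), (nat_lit 0x4400c090029d5a08030bf1238281c5), (nat_lit 0), (nat_lit 0)⟩) (BT.leaf ⟨(nat_lit 4), (nat_lit 3202), (nat_lit 0), (nat_lit 0x401f1ab90097a097a00081003a3080), (nat_lit 0), (nat_lit 0)⟩)))) (BT.node (nat_lit 5516) (BT.node (nat_lit 5514) (BT.node (nat_lit 5513) (BT.leaf ⟨(nat_lit 4), (nat_lit 2815), (nat_lit 0), (nat_lit 0x90028706180180ca940081f357c844), (nat_lit 0), (nat_lit 0)⟩) (BT.leaf ⟨(nat_lit 4), (nat_lit 2744), (nat_lit 0), (nat_lit 0x78df13e76c656a3760b7866f1f1acc), (nat_lit 0), (nat_lit 0)⟩)) (BT.node (nat_lit 5515) (BT.leaf ⟨(nat_lit 4), (nat_lit 2389), (nat_lit 0), (nat_lit 0x17238d02021e08bb3220787080120a0), (nat_lit 0), (nat_lit 0)⟩) (BT.leaf ⟨(nat_lit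 4), (nat_lit 2388), (nat_lit 0), (nat_lit 0x66e3dbfeab9e4076a878eecd638c73), (nat_lit 0), (nat_lit 0)⟩))) (BT.node (nat_lit 5518) (BT.node (nat_lit 5517) (BT.leaf ⟨(nat_lit 4), (nat_lit 2743), (nat_lit 0), (nat_lit 0x1bc012006008810425ec8ee96fc492b), (nat_lit 0), (nat_lit 0)⟩) (BT.leaf ⟨(nat_lit 4), (nat_lit 2763), (nat_lit 0), (nat_lit 0x1bf00c127011e152bbeb4107763dc96), (nat_lit 0), (nat_lit 0)⟩)) (BT.node (nat_lit 5519) (BT.leaf ⟨(nat_lit 4), (nat_lit 2414), (nat_lit 0), (nat_lit 0x78d20673d3cc01014f441151997a00), (nat_lit 0), (nat_lit 0)⟩) (BT.leaf ⟨(nat_lit 4), (nat_lit 597), (nat_lit 0), (nat_lit 0x14671625b6e1edcde25e1cc93f60dd2), (nat_lit 0), (nat_lit 0)⟩))))) (BT.node (nat_lit 5528) (BT.node (nat_lit 5524) (BT.node (nat_lit 5522) (BT.node (nat_lit 5521) (BT.leaf ⟨(nat_lit 4), (nat_lit 752), (nat_lit 0), (nat_lit 0xae15de27a69ae5dcdff1cca655eb96), (nat_lit 0), (nat_lit 0)⟩)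 (BT.leaf ⟨(nat_lit 4), (nat_lit 1763), (nat_lit 0), (nat_lit 0x13cc39d737fd1ee19d5cb4c3b5a4b35), (nat_lit 0), (nat_lit 0)⟩)) (BT.node (nat_lit 5523) (BT.leaf ⟨(nat_lit 4), (nat_lit 1411), (nat_lit 0), (nat_lit 0x3e8e8eefd27c84ea155b4c7146ae58), (nat_lit 0), (nat_lit 0)⟩) (BT.leaf ⟨(nat_lit 4), (nat_lit 1139), (nat_lit 0), (nat_lit 0xb31f0ba394be40ad3c35c6f8a8bcd9), (nat_lit 0), (nat_lit 0)⟩))) (BT.node (nat_lit 5526) (BT.node (nat_lit 5525) (BT.leaf ⟨(nat_lit 4), (nat_lit 891), (nat_lit 0), (nat_lit 0x4806aff4c746034682f5c7678a0646), (nat_lit 0), (nat_lit 0)⟩) (BT.leaf ⟨(nat_lit 4), (nat_lit 892), (nat_lit 0), (nat_lit 0x8af5744e7010a4e471104009f0abb), (nat_lit 0), (nat_lit 0)⟩)) (BT.node (nat_lit 5527) (BT.leaf ⟨(nat_lit 4), (nat_lit 1140), (nat_lit 0), (nat_lit 0x13cd40363472b7f3a0a0104207e37ba), (nat_lit 0), (nat_lit 0)⟩) (BT.leaf ⟨(nat_lit 4), (nat_lit 1413), (nat_lit 0), (nat_lit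 0x66e1ead2ea2abaf4da8f6f7e2f5176), (nat_lit 0), (nat_lit 0)⟩)))) (BT.node (nat_lit 5532) (BT.node (nat_lit 5530) (BT.node (nat_lit 5529) (BT.leaf ⟨(nat_lit 4), (nat_lit 1765), (nat_lit 0), (nat_lit 0x87f2fa5dd8295cde62cf6e97eb28e6), (nat_lit 0), (nat_lit 0)⟩) (BT.leaf ⟨(nat_lit 4), (nat_lit 2150), (nat_lit 0), (nat_lit 0x655eab6ca97bbceae933bb9621e9d4), (nat_lit 0), (nat_lit 0)⟩)) (BT.node (nat_lit 5531) (BT.leaf ⟨(nat_lit 4), (nat_lit 2038), (nat_lit 0), (nat_lit 0x1d38845e001249c050483ba06158c96), (nat_lit 0), (nat_lit 0)⟩) (BT.leaf ⟨(nat_lit 4), (nat_lit 2039), (nat_lit 0), (nat_lit 0x151b0069e4022e50853a65f3d1eaa00), (nat_lit 0), (nat_lit 0)⟩))) (BT.node (nat_lit 5534) (BT.node (nat_lit 5533) (BT.leaf ⟨(nat_lit 4), (nat_lit 2503), (nat_lit 0), (nat_lit 0x1854d78fa25e43e63e6965fa8ad892e), (nat_lit 0), (nat_lit 0)⟩) (BT.leaf ⟨(nat_lit 4), (nat_lit 2849), (nat_lit 0), (nat_lit 0xcea80401800279c6eb9841f8f00410),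 (nat_lit 0), (nat_lit 0)⟩)) (BT.node (nat_lit 5535) (BT.leaf ⟨(nat_lit 4), (nat_lit 3217), (nat_lit 0), (nat_lit 0xa653fa2006114cfaf1a841b5010820), (nat_lit 0), (nat_lit 0)⟩) (BT.leaf ⟨(nat_lit 4), (nat_lit 3749), (nat_lit 0), (nat_lit 0x716eaf21cb0f55b654b3a3bbe1e9dd), (nat_lit 0), (nat_lit 0)⟩)))))) (BT.node (nat_lit 5552) (BT.node (nat_lit 5544) (BT.node (nat_lit 5540) (BT.node (nat_lit 5538) (BT.node (nat_lit 5537) (BT.leaf ⟨(nat_lit 4), (nat_lit 3750), (nat_lit 0), (nat_lit 0x1d599af4e196ab83e7c6a8d467a1646), (nat_lit 0), (nat_lit 0)⟩) (BT.leaf ⟨(nat_lit 4), (nat_lit 3754), (nat_lit 0), (nat_lit 0xa0197a0460078e7a210a8c9010458d), (nat_lit 0), (nat_lit 0)⟩)) (BT.node (nat_lit 5539) (BT.leaf ⟨(nat_lit 4), (nat_lit 3755), (nat_lit 0), (nat_lit 0x13cc39bfeae71ee1999bf2114d9ab49), (nat_lit 0), (nat_lit 0)⟩) (BT.leaf ⟨(nat_lit 4), (nat_lit 3757), (nat_lit 0), (nat_lit 0x182df14a59b2f8df3b63f206f2372e3),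 (nat_lit 0), (nat_lit 0)⟩))) (BT.node (nat_lit 5542) (BT.node (nat_lit 5541) (BT.leaf ⟨(nat_lit 4), (nat_lit 3666), (nat_lit 0), (nat_lit 0x10f4eb995ddf699b654bcb0744eae93), (nat_lit 0), (nat_lit 0)⟩) (BT.leaf ⟨(nat_lit 4), (nat_lit 3519), (nat_lit 0), (nat_lit 0xc4e3778d197c3746a65cb1eb7e68b7), (nat_lit 0), (nat_lit 0)⟩)) (BT.node (nat_lit 5543) (BT.leaf ⟨(nat_lit 4), (nat_lit 3520), (nat_lit 0), (nat_lit 0x127096f38e8810811471105bd8ebabb), (nat_lit 0), (nat_lit 0)⟩) (BT.leaf ⟨(nat_lit 4), (nat_lit 3667), (nat_lit 0), (nat_lit 0x13cd401554722404041e104213dd7c6), (nat_lit 0), (nat_lit 0)⟩)))) (BT.node (nat_lit 5548) (BT.node (nat_lit 5546) (BT.node (nat_lit 5545) (BT.leaf ⟨(nat_lit 4), (nat_lit 3759), (nat_lit 0), (nat_lit 0x1ce00c20d7300b2fc08675002085d5), (nat_lit 0), (nat_lit 0)⟩) (BT.leaf ⟨(nat_lit 4), (nat_lit 3788), (nat_lit 0), (nat_lit 0x1ccbdd72addee903e34967473b8d583), (nat_lit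 0), (nat_lit 0)⟩)) (BT.node (nat_lit 5547) (BT.leaf ⟨(nat_lit 4), (nat_lit 3791), (nat_lit 0), (nat_lit 0x1e16c6dd2cb0e3746a65f5a32d89f9d), (nat_lit 0), (nat_lit 0)⟩) (BT.leaf ⟨(nat_lit 4), (nat_lit 3793), (nat_lit 0), (nat_lit 0x17238d4be06114d4c828f5a0813f9f5), (nat_lit 0), (nat_lit 0)⟩))) (BT.node (nat_lit 5550) (BT.node (nat_lit 5549) (BT.leaf ⟨(nat_lit 4), (nat_lit 3792), (nat_lit 0), (nat_lit 0x131cd782f27fa889596f6e0e5aae5b1), (nat_lit 0), (nat_lit 0)⟩) (BT.leaf ⟨(nat_lit 4), (nat_lit 3794), (nat_lit 0), (nat_lit 0x87d3fe2cd8295dc57b76e1465afa4f), (nat_lit 0), (nat_lit 0)⟩)) (BT.node (nat_lit 5551) (BT.leaf ⟨(nat_lit 4), (nat_lit 925), (nat_lit 0), (nat_lit 0xb8de1ca59b2b3305be18dc6f1f177d), (nat_lit 0), (nat_lit 0)⟩) (BT.leaf ⟨(nat_lit 4), (nat_lit 1167), (nat_lit 0), (nat_lit 0x1e3fc6f8c627c35ff68d8ddf34658b7), (nat_lit 0), (nat_lit 0)⟩))))) (BT.node (nat_lit 5560) (BT.node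 (nat_lit 5556) (BT.node (nat_lit 5554) (BT.node (nat_lit 5553) (BT.leaf ⟨(nat_lit 4), (nat_lit 1459), (nat_lit 0), (nat_lit 0x894cf1a97dd983010f140091e1dc8), (nat_lit 0), (nat_lit 0)⟩) (BT.leaf ⟨(nat_lit 4), (nat_lit 1806), (nat_lit 0), (nat_lit 0x6bcaab63ad022040882140b7fdd41e), (nat_lit 0), (nat_lit 0)⟩)) (BT.node (nat_lit 5555) (BT.leaf ⟨(nat_lit 4), (nat_lit 2516), (nat_lit 0), (nat_lit 0x97d2ee2c0bee29279bcf6e9fe55b5f), (nat_lit 0), (nat_lit 0)⟩) (BT.leaf ⟨(nat_lit 4), (nat_lit 2054), (nat_lit 0), (nat_lit 0x182cf431c9d17b1695e8f6f780cdfe8), (nat_lit 0), (nat_lit 0)⟩))) (BT.node (nat_lit 5558) (BT.node (nat_lit 5557) (BT.leaf ⟨(nat_lit 4), (nat_lit 1708), (nat_lit 0), (nat_lit 0xf87c7a022051c4051d700c1092e812), (nat_lit 0), (nat_lit 0)⟩) (BT.leaf ⟨(nat_lit 4), (nat_lit 1344), (nat_lit 0), (nat_lit 0x74402a5b028213783e700c09102104), (nat_lit 0), (nat_lit 0)⟩)) (BT.node (nat_lit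 5559) (BT.leaf ⟨(nat_lit 4), (nat_lit 1343), (nat_lit 0), (nat_lit 0x152dec49691d27313db1d3c9aa0f6c1), (nat_lit 0), (nat_lit 0)⟩) (BT.leaf ⟨(nat_lit 4), (nat_lit 1707), (nat_lit 0), (nat_lit 0xcbd022800be78d803d5d3c90104210), (nat_lit 0), (nat_lit 0)⟩)))) (BT.node (nat_lit 5564) (BT.node (nat_lit 5562) (BT.node (nat_lit 5561) (BT.leaf ⟨(nat_lit 4), (nat_lit 485), (nat_lit 0), (nat_lit 0x14008830020040882180280420900d5), (nat_lit 0), (nat_lit 0)⟩) (BT.leaf ⟨(nat_lit 4), (nat_lit 651), (nat_lit 0), (nat_lit 0x3017c86032b3790fc402805bd20040), (nat_lit 0), (nat_lit 0)⟩)) (BT.node (nat_lit 5563) (BT.leaf ⟨(nat_lit 4), (nat_lit 809), (nat_lit 0), (nat_lit 0x2423181038a8409f81291cfcc88014), (nat_lit 0), (nat_lit 0)⟩) (BT.leaf ⟨(nat_lit 4), (nat_lit 1079), (nat_lit 0), (nat_lit 0x1271ec59e9345da5f41e91d25a4f54b), (nat_lit 0), (nat_lit 0)⟩))) (BT.node (nat_lit 5566) (BT.node (nat_lit 5565)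 (BT.leaf ⟨(nat_lit 4), (nat_lit 1310), (nat_lit 0), (nat_lit 0x1bdb7afdbde1b90bc9cede9b518e7f4), (nat_lit 0), (nat_lit 0)⟩) (BT.leaf ⟨(nat_lit 4), (nat_lit 1681), (nat_lit 0), (nat_lit 0x1cea4f5e8200200ea802de8f8c97804), (nat_lit 0), (nat_lit 0)⟩)) (BT.node (nat_lit 5567) (BT.leaf ⟨(nat_lit 4), (nat_lit 2009), (nat_lit 0), (nat_lit 0x1ced5c0052024b9f101110297b7af8c), (nat_lit 0), (nat_lit 0)⟩) (BT.leaf ⟨(nat_lit 4), (nat_lit 2484), (nat_lit 0), (nat_lit 0x24060674e1b202b47ba10228042180), (nat_lit 0), (nat_lit 0)⟩)))))))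
noncomputable def cP5504 : BT Pf := (BT.node (nat_lit 5536) (BT.node (nat_lit 5520) (BT.node (nat_lit 5512) (BT.node (nat_lit 5508) (BT.node (nat_lit 5506) (BT.node (nat_lit 5505) (BT.leaf (.pt (nat_lit 5503) (nat_lit 3))) (BT.leaf (.pt (nat_lit 4918) (nat_lit 3)))) (BT.node (nat_lit 5507) (BT.leaf (.pt (nat_lit 5505) (nat_lit 1))) (BT.leaf (.pt (nat_lit 5506) (nat_lit 3))))) (BT.node (nat_lit 5510) (BT.node (nat_lit 5509) (BT.leaf (.pt (nat_lit 5507) (nat_lit 1))) (BT.leaf (.pt (nat_lit 5508) (nat_lit 3)))) (BT.node (nat_lit 5511) (BT.leaf (.pt (nat_lit 5509) (nat_lit 1))) (BT.leaf (.pt (nat_lit 5510) (nat_lit 4)))))) (BT.node (nat_lit 5516) (BT.node (nat_lit 5514) (BT.node (nat_lit 5513) (BT.leaf (.pt (nat_lit 5511) (nat_lit 1))) (BT.leaf (.pt (nat_lit 5512) (nat_lit 3)))) (BT.node (nat_lit 5515) (BT.leaf (.pt (nat_lit 5513) (nat_lit 1))) (BT.leaf (.pt (nat_lit 5514) (nat_lit 4)))))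 (BT.node (nat_lit 5518) (BT.node (nat_lit 5517) (BT.leaf (.pt (nat_lit 5515) (nat_lit 1))) (BT.leaf (.pt (nat_lit 5516) (nat_lit 3)))) (BT.node (nat_lit 5519) (BT.leaf (.pt (nat_lit 5517) (nat_lit 1))) (BT.leaf (.pt (nat_lit 5501) (nat_lit 4))))))) (BT.node (nat_lit 5528) (BT.node (nat_lit 5524) (BT.node (nat_lit 5522) (BT.node (nat_lit 5521) (BT.leaf (.pt (nat_lit 5519) (nat_lit 1))) (BT.leaf (.pt (nat_lit 4908) (nat_lit 3)))) (BT.node (nat_lit 5523) (BT.leaf (.pt (nat_lit 5521) (nat_lit 1))) (BT.leaf (.pt (nat_lit 5522) (nat_lit 4))))) (BT.node (nat_lit 5526) (BT.node (nat_lit 5525) (BT.leaf (.pt (nat_lit 5523) (nat_lit 1))) (BT.leaf (.pt (nat_lit 5524) (nat_lit 3)))) (BT.node (nat_lit 5527) (BT.leaf (.pt (nat_lit 5525) (nat_lit 1))) (BT.leaf (.pt (nat_lit 5526) (nat_lit 3)))))) (BT.node (nat_lit 5532) (BT.node (nat_lit 5530) (BT.node (nat_lit 5529) (BT.leaf (.pt (nat_lit 5527) (nat_lit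 1))) (BT.leaf (.pt (nat_lit 5528) (nat_lit 3)))) (BT.node (nat_lit 5531) (BT.leaf (.pt (nat_lit 5529) (nat_lit 1))) (BT.leaf (.pt (nat_lit 5530) (nat_lit 3))))) (BT.node (nat_lit 5534) (BT.node (nat_lit 5533) (BT.leaf (.pt (nat_lit 5531) (nat_lit 1))) (BT.leaf (.pt (nat_lit 5532) (nat_lit 3)))) (BT.node (nat_lit 5535) (BT.leaf (.pt (nat_lit 5533) (nat_lit 1))) (BT.leaf (.pt (nat_lit 5317) (nat_lit 1)))))))) (BT.node (nat_lit 5552) (BT.node (nat_lit 5544) (BT.node (nat_lit 5540) (BT.node (nat_lit 5538) (BT.node (nat_lit 5537) (BT.leaf (.pt (nat_lit 5535) (nat_lit 3))) (BT.leaf (.pt (nat_lit 5536) (nat_lit 1)))) (BT.node (nat_lit 5539) (BT.leaf (.pt (nat_lit 5537) (nat_lit 3))) (BT.leaf (.pt (nat_lit 5538) (nat_lit 1))))) (BT.node (nat_lit 5542) (BT.node (nat_lit 5541) (BT.leaf (.pt (nat_lit 5539) (nat_lit 4))) (BT.leaf (.pt (nat_lit 5540) (nat_lit 1)))) (BT.node (nat_lit 5543) (BT.leaf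 (.pt (nat_lit 5541) (nat_lit 3))) (BT.leaf (.pt (nat_lit 5542) (nat_lit 1)))))) (BT.node (nat_lit 5548) (BT.node (nat_lit 5546) (BT.node (nat_lit 5545) (BT.leaf (.pt (nat_lit 5543) (nat_lit 4))) (BT.leaf (.pt (nat_lit 5544) (nat_lit 1)))) (BT.node (nat_lit 5547) (BT.leaf (.pt (nat_lit 5545) (nat_lit 4))) (BT.leaf (.pt (nat_lit 5546) (nat_lit 1))))) (BT.node (nat_lit 5550) (BT.node (nat_lit 5549) (BT.leaf (.pt (nat_lit 5547) (nat_lit 4))) (BT.leaf (.pt (nat_lit 5548) (nat_lit 1)))) (BT.node (nat_lit 5551) (BT.leaf (.pt (nat_lit 4686) (nat_lit 4))) (BT.leaf (.pt (nat_lit 5550) (nat_lit 1))))))) (BT.node (nat_lit 5560) (BT.node (nat_lit 5556) (BT.node (nat_lit 5554) (BT.node (nat_lit 5553) (BT.leaf (.pt (nat_lit 5551) (nat_lit 3))) (BT.leaf (.pt (nat_lit 5552) (nat_lit 1)))) (BT.node (nat_lit 5555) (BT.leaf (.pt (nat_lit 5417) (nat_lit 3))) (BT.leaf (.pt (nat_lit 5554) (nat_lit 1)))))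 (BT.node (nat_lit 5558) (BT.node (nat_lit 5557) (BT.leaf (.pt (nat_lit 5555) (nat_lit 3))) (BT.leaf (.pt (nat_lit 5556) (nat_lit 1)))) (BT.node (nat_lit 5559) (BT.leaf (.pt (nat_lit 5557) (nat_lit 4))) (BT.leaf (.pt (nat_lit 5558) (nat_lit 1)))))) (BT.node (nat_lit 5564) (BT.node (nat_lit 5562) (BT.node (nat_lit 5561) (BT.leaf (.pt (nat_lit 5111) (nat_lit 3))) (BT.leaf (.pt (nat_lit 5560) (nat_lit 1)))) (BT.node (nat_lit 5563) (BT.leaf (.pt (nat_lit 5561) (nat_lit 3))) (BT.leaf (.pt (nat_lit 5562) (nat_lit 1))))) (BT.node (nat_lit 5566) (BT.node (nat_lit 5565) (BT.leaf (.pt (nat_lit 5563) (nat_lit 4))) (BT.leaf (.pt (nat_lit 5564) (nat_lit 1)))) (BT.node (nat_lit 5567) (BT.leaf (.pt (nat_lit 5565) (nat_lit 3))) (BT.leaf (.pt (nat_lit 5566) (nat_lit 1)))))))))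
noncomputable def cF5568 : BT Fc := (BT.node (nat_lit 5600) (BT.node (nat_lit 5584) (BT.node (nat_lit 5576) (BT.node (nat_lit 5572) (BT.node (nat_lit 5570) (BT.node (nat_lit 5569) (BT.leaf ⟨(nat_lit 4), (nat_lit 2596), (nat_lit 0), (nat_lit 0x118d9af907fd1ca3de738ee66c39a87), (nat_lit 0), (nat_lit 0)⟩) (BT.leaf ⟨(nat_lit 4), (nat_lit 1169), (nat_lit 0), (nat_lit 0x4123ba04048af4e8f42019bc20212b), (nat_lit 0), (nat_lit 0)⟩)) (BT.node (nat_lit 5571) (BT.leaf ⟨(nat_lit 4), (nat_lit 928), (nat_lit 0), (nat_lit 0x1d380540824fe140410801895d04028), (nat_lit 0), (nat_lit 0)⟩) (BT.leaf ⟨(nat_lit 4), (nat_lit 927), (nat_lit 0), (nat_lit 0x1c19d19952de110284de480103e6c40), (nat_lit 0), (nat_lit 0)⟩))) (BT.node (nat_lit 5574) (BT.node (nat_lit 5573) (BT.leaf ⟨(nat_lit 4), (nat_lit 1168), (nat_lit 0), (nat_lit 0x1a790458dc00c01105464813d1eab2f), (nat_lit 0), (nat_lit 0)⟩) (BT.leaf ⟨(nat_lit 4),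 (nat_lit 1461), (nat_lit 0), (nat_lit 0x1df5f12ccfc68da8bbe75c6d8dd1bf3), (nat_lit 0), (nat_lit 0)⟩)) (BT.node (nat_lit 5575) (BT.leaf ⟨(nat_lit 4), (nat_lit 2587), (nat_lit 0), (nat_lit 0x19a723756d26f603e51968dd1a52f44), (nat_lit 0), (nat_lit 0)⟩) (BT.leaf ⟨(nat_lit 4), (nat_lit 2965), (nat_lit 0), (nat_lit 0xe5b652f96d9ae7a8abd2b560f13aa9), (nat_lit 0), (nat_lit 0)⟩)))) (BT.node (nat_lit 5580) (BT.node (nat_lit 5578) (BT.node (nat_lit 5577) (BT.leaf ⟨(nat_lit 4), (nat_lit 3283), (nat_lit 0), (nat_lit 0xf9e52f7d7e66f1f0acc2b4f0dd1a36), (nat_lit 0), (nat_lit 0)⟩) (BT.leaf ⟨(nat_lit 4), (nat_lit 3442), (nat_lit 0), (nat_lit 0x11dd43da68c70ce29873c593cf6519b), (nat_lit 0), (nat_lit 0)⟩)) (BT.node (nat_lit 5579) (BT.leaf ⟨(nat_lit 4), (nat_lit 3592), (nat_lit 0), (nat_lit 0x197d2b8e6f6e17f60a5bc59595c524f), (nat_lit 0), (nat_lit 0)⟩) (BT.leaf ⟨(nat_lit 4), (nat_lit 3593), (nat_lit 0),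 (nat_lit 0xbd0d96e4639c84e76b49e9bd143ed4), (nat_lit 0), (nat_lit 0)⟩))) (BT.node (nat_lit 5582) (BT.node (nat_lit 5581) (BT.leaf ⟨(nat_lit 4), (nat_lit 3706), (nat_lit 0), (nat_lit 0x902c6e734408045ce009e8a01087e8), (nat_lit 0), (nat_lit 0)⟩) (BT.leaf ⟨(nat_lit 4), (nat_lit 3740), (nat_lit 0), (nat_lit 0xe8d71cd978745df0acc7e6569f1790), (nat_lit 0), (nat_lit 0)⟩)) (BT.node (nat_lit 5583) (BT.leaf ⟨(nat_lit 4), (nat_lit 2342), (nat_lit 0), (nat_lit 0x1d3a0447b410221f5de0013e140c008), (nat_lit 0), (nat_lit 0)⟩) (BT.leaf ⟨(nat_lit 4), (nat_lit 2715), (nat_lit 0), (nat_lit 0x17a4028110021064ff47013bd639201), (nat_lit 0), (nat_lit 0)⟩))))) (BT.node (nat_lit 5592) (BT.node (nat_lit 5588) (BT.node (nat_lit 5586) (BT.node (nat_lit 5585) (BT.leaf ⟨(nat_lit 4), (nat_lit 3274), (nat_lit 0), (nat_lit 0x15952f0e64af8b10f85f4b6d7e8ca4f), (nat_lit 0), (nat_lit 0)⟩) (BT.leaf ⟨(nat_lit 4), (nat_lit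 2953), (nat_lit 0), (nat_lit 0x81378742028013c4f3e4b60915e80c), (nat_lit 0), (nat_lit 0)⟩)) (BT.node (nat_lit 5587) (BT.leaf ⟨(nat_lit 4), (nat_lit 2534), (nat_lit 0), (nat_lit 0x5d876ec14d52584f41e93d269ec627), (nat_lit 0), (nat_lit 0)⟩) (BT.leaf ⟨(nat_lit 4), (nat_lit 2080), (nat_lit 0), (nat_lit 0x2039d746572f8d005e893c4012fef4), (nat_lit 0), (nat_lit 0)⟩))) (BT.node (nat_lit 5590) (BT.node (nat_lit 5589) (BT.leaf ⟨(nat_lit 4), (nat_lit 1724), (nat_lit 0), (nat_lit 0x13ce39287d958b2b9c7bf2157076873), (nat_lit 0), (nat_lit 0)⟩) (BT.leaf ⟨(nat_lit 4), (nat_lit 1629), (nat_lit 0), (nat_lit 0xe5b5cabd1ccae2c1d345777fddca99), (nat_lit 0), (nat_lit 0)⟩)) (BT.node (nat_lit 5591) (BT.leaf ⟨(nat_lit 4), (nat_lit 1317), (nat_lit 0), (nat_lit 0x1e3df09020442080512d5777a80325d), (nat_lit 0), (nat_lit 0)⟩) (BT.leaf ⟨(nat_lit 4), (nat_lit 1318), (nat_lit 0), (nat_lit 0xe370065f841010f44019011035cb3a),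 (nat_lit 0), (nat_lit 0)⟩)))) (BT.node (nat_lit 5596) (BT.node (nat_lit 5594) (BT.node (nat_lit 5593) (BT.leaf ⟨(nat_lit 4), (nat_lit 1047), (nat_lit 0), (nat_lit 0x114c76a878ef18e3899bd950cd9ab49), (nat_lit 0), (nat_lit 0)⟩) (BT.leaf ⟨(nat_lit 4), (nat_lit 1272), (nat_lit 0), (nat_lit 0x1d455cdffb06ee55c299d9456a26abd), (nat_lit 0), (nat_lit 0)⟩)) (BT.node (nat_lit 5595) (BT.leaf ⟨(nat_lit 4), (nat_lit 1633), (nat_lit 0), (nat_lit 0x5daa5c9a7489abbec8eb3da7876c9c), (nat_lit 0), (nat_lit 0)⟩) (BT.leaf ⟨(nat_lit 4), (nat_lit 1954), (nat_lit 0), (nat_lit 0x44084573205403234e8b3c5008263a), (nat_lit 0), (nat_lit 0)⟩))) (BT.node (nat_lit 5598) (BT.node (nat_lit 5597) (BT.leaf ⟨(nat_lit 4), (nat_lit 2427), (nat_lit 0), (nat_lit 0x714eaeef3ae744caf21bab962a5a36), (nat_lit 0), (nat_lit 0)⟩) (BT.leaf ⟨(nat_lit 4), (nat_lit 2582), (nat_lit 0), (nat_lit 0xf7b0824bb7abc7822405ce3a2102), (nat_lit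 0), (nat_lit 0)⟩)) (BT.node (nat_lit 5599) (BT.leaf ⟨(nat_lit 4), (nat_lit 2143), (nat_lit 0), (nat_lit 0x88339d46600f5597a014049014005f), (nat_lit 0), (nat_lit 0)⟩) (BT.leaf ⟨(nat_lit 4), (nat_lit 1761), (nat_lit 0), (nat_lit 0x1b517a4abfe99d35a31ce43bf37b179), (nat_lit 0), (nat_lit 0)⟩)))))) (BT.node (nat_lit 5616) (BT.node (nat_lit 5608) (BT.node (nat_lit 5604) (BT.node (nat_lit 5602) (BT.node (nat_lit 5601) (BT.leaf ⟨(nat_lit 4), (nat_lit 2730), (nat_lit 0), (nat_lit 0x3547d1d146cf57909d7d26756d31c5), (nat_lit 0), (nat_lit 0)⟩) (BT.leaf ⟨(nat_lit 4), (nat_lit 3129), (nat_lit 0), (nat_lit 0x14035cc10fc61ce0033ac00279a3420), (nat_lit 0), (nat_lit 0)⟩)) (BT.node (nat_lit 5603) (BT.leaf ⟨(nat_lit 4), (nat_lit 1844), (nat_lit 0), (nat_lit 0x17b23bf421081137878993409202104), (nat_lit 0), (nat_lit 0)⟩) (BT.leaf ⟨(nat_lit 4), (nat_lit 1503), (nat_lit 0), (nat_lit 0xc4e4b09eb3d272d8976935a79ec41e),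 (nat_lit 0), (nat_lit 0)⟩))) (BT.node (nat_lit 5606) (BT.node (nat_lit 5605) (BT.leaf ⟨(nat_lit 4), (nat_lit 1504), (nat_lit 0), (nat_lit 0xffad34f3ae6cd739c338e31ca3ba87), (nat_lit 0), (nat_lit 0)⟩) (BT.leaf ⟨(nat_lit 4), (nat_lit 1845), (nat_lit 0), (nat_lit 0x10801006dec9760178f8e208841102), (nat_lit 0), (nat_lit 0)⟩)) (BT.node (nat_lit 5607) (BT.leaf ⟨(nat_lit 4), (nat_lit 2272), (nat_lit 0), (nat_lit 0x654ee8d5e42554fae937148dad33d5), (nat_lit 0), (nat_lit 0)⟩) (BT.leaf ⟨(nat_lit 4), (nat_lit 2665), (nat_lit 0), (nat_lit 0x1466b2e2c0be3992da1f714979afcab), (nat_lit 0), (nat_lit 0)⟩)))) (BT.node (nat_lit 5612) (BT.node (nat_lit 5610) (BT.node (nat_lit 5609) (BT.leaf ⟨(nat_lit 4), (nat_lit 3052), (nat_lit 0), (nat_lit 0xf62474bed3d52ed8976b3d26b138ed), (nat_lit 0), (nat_lit 0)⟩) (BT.leaf ⟨(nat_lit 4), (nat_lit 3329), (nat_lit 0), (nat_lit 0x13a1afbb9ae6503fa646b3cb8c90300), (nat_lit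 0), (nat_lit 0)⟩)) (BT.node (nat_lit 5611) (BT.leaf ⟨(nat_lit 4), (nat_lit 3529), (nat_lit 0), (nat_lit 0x17e0082108c60c1f99c50a10424713f), (nat_lit 0), (nat_lit 0)⟩) (BT.leaf ⟨(nat_lit 4), (nat_lit 3672), (nat_lit 0), (nat_lit 0x654214de2dff357cda80a011120433), (nat_lit 0), (nat_lit 0)⟩))) (BT.node (nat_lit 5614) (BT.node (nat_lit 5613) (BT.leaf ⟨(nat_lit 4), (nat_lit 1555), (nat_lit 0), (nat_lit 0x78d00a40d3d4e9400b9ce617ff4300), (nat_lit 0), (nat_lit 0)⟩) (BT.leaf ⟨(nat_lit 4), (nat_lit 1888), (nat_lit 0), (nat_lit 0x1b2a3b99bae714e38f90ce6cd6198ed), (nat_lit 0), (nat_lit 0)⟩)) (BT.node (nat_lit 5615) (BT.leaf ⟨(nat_lit 4), (nat_lit 3772), (nat_lit 0), (nat_lit 0x11ed2bf32051020ee80909125844008), (nat_lit 0), (nat_lit 0)⟩) (BT.leaf ⟨(nat_lit 4), (nat_lit 3724), (nat_lit 0), (nat_lit 0x1057c8c0081c1be6c33090903bd060), (nat_lit 0), (nat_lit 0)⟩))))) (BT.node (nat_lit 5624) (BT.node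 (nat_lit 5620) (BT.node (nat_lit 5618) (BT.node (nat_lit 5617) (BT.leaf ⟨(nat_lit 4), (nat_lit 3646), (nat_lit 0), (nat_lit 0x979b827f4bf5942fe5fa3293d2bb8a), (nat_lit 0), (nat_lit 0)⟩) (BT.leaf ⟨(nat_lit 4), (nat_lit 3467), (nat_lit 0), (nat_lit 0xd18d974ed27d0be3747a32f63b3746), (nat_lit 0), (nat_lit 0)⟩)) (BT.node (nat_lit 5619) (BT.leaf ⟨(nat_lit 4), (nat_lit 3466), (nat_lit 0), (nat_lit 0x1009f0a023ae976f51020442080300a), (nat_lit 0), (nat_lit 0)⟩) (BT.leaf ⟨(nat_lit 4), (nat_lit 3645), (nat_lit 0), (nat_lit 0x483b3024050084104200440c1101f5), (nat_lit 0), (nat_lit 0)⟩))) (BT.node (nat_lit 5622) (BT.node (nat_lit 5621) (BT.leaf ⟨(nat_lit 4), (nat_lit 3743), (nat_lit 0), (nat_lit 0xb8cad2367d678df99bc7c51b9f0e0b), (nat_lit 0), (nat_lit 0)⟩) (BT.leaf ⟨(nat_lit 4), (nat_lit 3721), (nat_lit 0), (nat_lit 0x97820803bd31c8029017c4204ea009), (nat_lit 0), (nat_lit 0)⟩)) (BT.node (nat_lit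 5623) (BT.leaf ⟨(nat_lit 4), (nat_lit 3620), (nat_lit 0), (nat_lit 0x39affab1ea2db11c8b9d9589cad2a9), (nat_lit 0), (nat_lit 0)⟩) (BT.leaf ⟨(nat_lit 4), (nat_lit 625), (nat_lit 0), (nat_lit 0x152c76c9cefbb05354ded3c5dacf41e), (nat_lit 0), (nat_lit 0)⟩)))) (BT.node (nat_lit 5628) (BT.node (nat_lit 5626) (BT.node (nat_lit 5625) (BT.leaf ⟨(nat_lit 4), (nat_lit 779), (nat_lit 0), (nat_lit 0x90300300501519043d5d3c811011e3), (nat_lit 0), (nat_lit 0)⟩) (BT.leaf ⟨(nat_lit 4), (nat_lit 1037), (nat_lit 0), (nat_lit 0x1079def510327d5c001006027a3901), (nat_lit 0), (nat_lit 0)⟩)) (BT.node (nat_lit 5627) (BT.leaf ⟨(nat_lit 4), (nat_lit 1263), (nat_lit 0), (nat_lit 0x90174420475df08420077ab7b082), (nat_lit 0), (nat_lit 0)⟩) (BT.leaf ⟨(nat_lit 4), (nat_lit 1618), (nat_lit 0), (nat_lit 0x42082a92200449ff9ddc8fcce2f56), (nat_lit 0), (nat_lit 0)⟩))) (BT.node (nat_lit 5630) (BT.node (nat_lit 5629) (BT.leaf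 ⟨(nat_lit 4), (nat_lit 3186), (nat_lit 0), (nat_lit 0xcd7164726931de3899b8f70ceae287), (nat_lit 0), (nat_lit 0)⟩) (BT.leaf ⟨(nat_lit 4), (nat_lit 2879), (nat_lit 0), (nat_lit 0x1781f5927df9e140c74e8f60a004f32), (nat_lit 0), (nat_lit 0)⟩)) (BT.node (nat_lit 5631) (BT.leaf ⟨(nat_lit 4), (nat_lit 2520), (nat_lit 0), (nat_lit 0x1eddafd659569793fa5bba439b1625d), (nat_lit 0), (nat_lit 0)⟩) (BT.leaf ⟨(nat_lit 4), (nat_lit 2060), (nat_lit 0), (nat_lit 0x1e25c6bfef1fc3751265ba5f345b979), (nat_lit 0), (nat_lit 0)⟩)))))))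
noncomputable def cP5568 : BT Pf := (BT.node (nat_lit 5600) (BT.node (nat_lit 5584) (BT.node (nat_lit 5576) (BT.node (nat_lit 5572) (BT.node (nat_lit 5570) (BT.node (nat_lit 5569) (BT.leaf (.pt (nat_lit 5567) (nat_lit 4))) (BT.leaf (.pt (nat_lit 5170) (nat_lit 4)))) (BT.node (nat_lit 5571) (BT.leaf (.pt (nat_lit 5569) (nat_lit 1))) (BT.leaf (.pt (nat_lit 5570) (nat_lit 4))))) (BT.node (nat_lit 5574) (BT.node (nat_lit 5573) (BT.leaf (.pt (nat_lit 5571) (nat_lit 1))) (BT.leaf (.pt (nat_lit 5572) (nat_lit 3)))) (BT.node (nat_lit 5575) (BT.leaf (.pt (nat_lit 4679) (nat_lit 1))) (BT.leaf (.pt (nat_lit 5574) (nat_lit 4)))))) (BT.node (nat_lit 5580) (BT.node (nat_lit 5578) (BT.node (nat_lit 5577) (BT.leaf (.pt (nat_lit 5575) (nat_lit 1))) (BT.leaf (.pt (nat_lit 5576) (nat_lit 3)))) (BT.node (nat_lit 5579) (BT.leaf (.pt (nat_lit 5577) (nat_lit 1))) (BT.leaf (.pt (nat_lit 5578) (nat_lit 3)))))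 (BT.node (nat_lit 5582) (BT.node (nat_lit 5581) (BT.leaf (.pt (nat_lit 5579) (nat_lit 1))) (BT.leaf (.pt (nat_lit 5580) (nat_lit 4)))) (BT.node (nat_lit 5583) (BT.leaf (.pt (nat_lit 4798) (nat_lit 4))) (BT.leaf (.pt (nat_lit 5582) (nat_lit 1))))))) (BT.node (nat_lit 5592) (BT.node (nat_lit 5588) (BT.node (nat_lit 5586) (BT.node (nat_lit 5585) (BT.leaf (.pt (nat_lit 5369) (nat_lit 4))) (BT.leaf (.pt (nat_lit 5584) (nat_lit 1)))) (BT.node (nat_lit 5587) (BT.leaf (.pt (nat_lit 5123) (nat_lit 4))) (BT.leaf (.pt (nat_lit 5586) (nat_lit 1))))) (BT.node (nat_lit 5590) (BT.node (nat_lit 5589) (BT.leaf (.pt (nat_lit 5587) (nat_lit 3))) (BT.leaf (.pt (nat_lit 5184) (nat_lit 3)))) (BT.node (nat_lit 5591) (BT.leaf (.pt (nat_lit 5589) (nat_lit 1))) (BT.leaf (.pt (nat_lit 5590) (nat_lit 3)))))) (BT.node (nat_lit 5596) (BT.node (nat_lit 5594) (BT.node (nat_lit 5593) (BT.leaf (.pt (nat_lit 5268) (nat_lit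 4))) (BT.leaf (.pt (nat_lit 5592) (nat_lit 1)))) (BT.node (nat_lit 5595) (BT.leaf (.pt (nat_lit 5593) (nat_lit 3))) (BT.leaf (.pt (nat_lit 5594) (nat_lit 1))))) (BT.node (nat_lit 5598) (BT.node (nat_lit 5597) (BT.leaf (.pt (nat_lit 5595) (nat_lit 3))) (BT.leaf (.pt (nat_lit 5146) (nat_lit 3)))) (BT.node (nat_lit 5599) (BT.leaf (.pt (nat_lit 5597) (nat_lit 1))) (BT.leaf (.pt (nat_lit 5598) (nat_lit 3)))))))) (BT.node (nat_lit 5616) (BT.node (nat_lit 5608) (BT.node (nat_lit 5604) (BT.node (nat_lit 5602) (BT.node (nat_lit 5601) (BT.leaf (.pt (nat_lit 5414) (nat_lit 1))) (BT.leaf (.pt (nat_lit 5600) (nat_lit 3)))) (BT.node (nat_lit 5603) (BT.leaf (.pt (nat_lit 4734) (nat_lit 3))) (BT.leaf (.pt (nat_lit 5602) (nat_lit 1))))) (BT.node (nat_lit 5606) (BT.node (nat_lit 5605) (BT.leaf (.pt (nat_lit 5603) (nat_lit 3))) (BT.leaf (.pt (nat_lit 5604) (nat_lit 1)))) (BT.node (nat_lit 5607) (BT.leaf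 (.pt (nat_lit 5605) (nat_lit 3))) (BT.leaf (.pt (nat_lit 5606) (nat_lit 1)))))) (BT.node (nat_lit 5612) (BT.node (nat_lit 5610) (BT.node (nat_lit 5609) (BT.leaf (.pt (nat_lit 5607) (nat_lit 4))) (BT.leaf (.pt (nat_lit 5608) (nat_lit 1)))) (BT.node (nat_lit 5611) (BT.leaf (.pt (nat_lit 5609) (nat_lit 3))) (BT.leaf (.pt (nat_lit 5610) (nat_lit 1))))) (BT.node (nat_lit 5614) (BT.node (nat_lit 5613) (BT.leaf (.pt (nat_lit 5479) (nat_lit 4))) (BT.leaf (.pt (nat_lit 5612) (nat_lit 1)))) (BT.node (nat_lit 5615) (BT.leaf (.pt (nat_lit 4868) (nat_lit 4))) (BT.leaf (.pt (nat_lit 5614) (nat_lit 1))))))) (BT.node (nat_lit 5624) (BT.node (nat_lit 5620) (BT.node (nat_lit 5618) (BT.node (nat_lit 5617) (BT.leaf (.pt (nat_lit 5615) (nat_lit 3))) (BT.leaf (.pt (nat_lit 5616) (nat_lit 1)))) (BT.node (nat_lit 5619) (BT.leaf (.pt (nat_lit 5617) (nat_lit 4))) (BT.leaf (.pt (nat_lit 5618) (nat_lit 1)))))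 (BT.node (nat_lit 5622) (BT.node (nat_lit 5621) (BT.leaf (.pt (nat_lit 5619) (nat_lit 3))) (BT.leaf (.pt (nat_lit 5620) (nat_lit 1)))) (BT.node (nat_lit 5623) (BT.leaf (.pt (nat_lit 5621) (nat_lit 3))) (BT.leaf (.pt (nat_lit 4659) (nat_lit 4)))))) (BT.node (nat_lit 5628) (BT.node (nat_lit 5626) (BT.node (nat_lit 5625) (BT.leaf (.pt (nat_lit 5623) (nat_lit 1))) (BT.leaf (.pt (nat_lit 5624) (nat_lit 4)))) (BT.node (nat_lit 5627) (BT.leaf (.pt (nat_lit 5625) (nat_lit 1))) (BT.leaf (.pt (nat_lit 5626) (nat_lit 4))))) (BT.node (nat_lit 5630) (BT.node (nat_lit 5629) (BT.leaf (.pt (nat_lit 5324) (nat_lit 3))) (BT.leaf (.pt (nat_lit 5628) (nat_lit 1)))) (BT.node (nat_lit 5631) (BT.leaf (.pt (nat_lit 5629) (nat_lit 3))) (BT.leaf (.pt (nat_lit 5630) (nat_lit 1)))))))))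
noncomputable def cF5632 : BT Fc := (BT.node (nat_lit 5664) (BT.node (nat_lit 5648) (BT.node (nat_lit 5640) (BT.node (nat_lit 5636) (BT.node (nat_lit 5634) (BT.node (nat_lit 5633) (BT.leaf ⟨(nat_lit 4), (nat_lit 1848), (nat_lit 0), (nat_lit 0x745ea9f53aee2aa59d5dde3e8aada6), (nat_lit 0), (nat_lit 0)⟩) (BT.leaf ⟨(nat_lit 4), (nat_lit 3196), (nat_lit 0), (nat_lit 0x1e3ec6979d1a997cedd2a6832fc6f85), (nat_lit 0), (nat_lit 0)⟩)) (BT.node (nat_lit 5635) (BT.leaf ⟨(nat_lit 4), (nat_lit 2799), (nat_lit 0), (nat_lit 0x39b13ab95625691cabba68be626bb9), (nat_lit 0), (nat_lit 0)⟩) (BT.leaf ⟨(nat_lit 4), (nat_lit 2465), (nat_lit 0), (nat_lit 0x17d103004113d1207e83c6812c6a10), (nat_lit 0), (nat_lit 0)⟩))) (BT.node (nat_lit 5638) (BT.node (nat_lit 5637) (BT.leaf ⟨(nat_lit 4), (nat_lit 1984), (nat_lit 0), (nat_lit 0x182e6cc6e7e6b31f19bc3c729571beb), (nat_lit 0), (nat_lit 0)⟩) (BT.leaf ⟨(nat_lit 4),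 (nat_lit 1665), (nat_lit 0), (nat_lit 0x17225f028060483b36d421e08510060), (nat_lit 0), (nat_lit 0)⟩)) (BT.node (nat_lit 5639) (BT.leaf ⟨(nat_lit 4), (nat_lit 1059), (nat_lit 0), (nat_lit 0x197e02440805ae5a307380380297c08), (nat_lit 0), (nat_lit 0)⟩) (BT.leaf ⟨(nat_lit 5), (nat_lit 5), (nat_lit 0), (nat_lit 0x4000000000000100000000000000001000000000000100000000000000000000000000000000000000000000000000000000000000000000000000000000000000000000000000002000000000000000000000200000000000000000000000000000000000000000002000000000000000000000000000000000000000000000000000000000008000000000000000000000000000010000000000000000000000000000000000000000008004000000000000000000000000000000000000000000000000000000000000000000800000000000000000000000000000000000000000000000000000000000000010000000001000000000040000000000200000000100008000000000200000000000400000000000000000000000000000000000000200000000000000000000000000002000000400000000000000000000000000000000000000000000000400000001000000008000000000000000200000000000000000000000000000000000008000000000000000000000100000000000000000000000000000000000000000000000000000000000000000000020000000000000000010000000000000000000000000100000000000000000000000000000000000000200001002000000000001000100000020801),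 (nat_lit 0), (nat_lit 0)⟩)))) (BT.node (nat_lit 5644) (BT.node (nat_lit 5642) (BT.node (nat_lit 5641) (BT.leaf ⟨(nat_lit 4), (nat_lit 635), (nat_lit 0), (nat_lit 0x1bf37b6e4e43bc1351ced69b5143fdb), (nat_lit 0), (nat_lit 0)⟩) (BT.leaf ⟨(nat_lit 4), (nat_lit 789), (nat_lit 0), (nat_lit 0x1deb834332de87ca0048d6890028195), (nat_lit 0), (nat_lit 0)⟩)) (BT.node (nat_lit 5643) (BT.leaf ⟨(nat_lit 4), (nat_lit 774), (nat_lit 0), (nat_lit 0x1ce0011d725a049010064ba00f7b49c), (nat_lit 0), (nat_lit 0)⟩) (BT.leaf ⟨(nat_lit 4), (nat_lit 620), (nat_lit 0), (nat_lit 0x96cde4abd8397f165654ba9fdc5370), (nat_lit 0), (nat_lit 0)⟩))) (BT.node (nat_lit 5646) (BT.node (nat_lit 5645) (BT.leaf ⟨(nat_lit 4), (nat_lit 465), (nat_lit 0), (nat_lit 0x1e2532d8d627e3f86d34cb0ff9c6979), (nat_lit 0), (nat_lit 0)⟩) (BT.leaf ⟨(nat_lit 4), (nat_lit 370), (nat_lit 0), (nat_lit 0xdb1c55d5e43bbc7d1d1cb0751ead4b), (nat_lit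 0), (nat_lit 0)⟩)) (BT.node (nat_lit 5647) (BT.leaf ⟨(nat_lit 4), (nat_lit 304), (nat_lit 0), (nat_lit 0xcbf39a087aac00f1e9e4213d14058d), (nat_lit 0), (nat_lit 0)⟩) (BT.leaf ⟨(nat_lit 4), (nat_lit 411), (nat_lit 0), (nat_lit 0x123809090f3b0439513f4200500c1c5), (nat_lit 0), (nat_lit 0)⟩))))) (BT.node (nat_lit 5656) (BT.node (nat_lit 5652) (BT.node (nat_lit 5650) (BT.node (nat_lit 5649) (BT.leaf ⟨(nat_lit 4), (nat_lit 526), (nat_lit 0), (nat_lit 0x127fa3be2f1880420801013cee00881), (nat_lit 0), (nat_lit 0)⟩) (BT.leaf ⟨(nat_lit 4), (nat_lit 1998), (nat_lit 0), (nat_lit 0x1ccb0af2ae7ddeb8d2d20f873ac1f3b), (nat_lit 0), (nat_lit 0)⟩)) (BT.node (nat_lit 5651) (BT.leaf ⟨(nat_lit 4), (nat_lit 2476), (nat_lit 0), (nat_lit 0xab9a35ffe8f4659af4e0f832fab742), (nat_lit 0), (nat_lit 0)⟩) (BT.leaf ⟨(nat_lit 4), (nat_lit 2814), (nat_lit 0), (nat_lit 0x131c9692b25c4ff5116f6e0b330a90f), (nat_lit 0), (nat_lit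 0)⟩))) (BT.node (nat_lit 5654) (BT.node (nat_lit 5653) (BT.leaf ⟨(nat_lit 4), (nat_lit 3117), (nat_lit 0), (nat_lit 0x1fd017bb9b3c502b9e4621048280101), (nat_lit 0), (nat_lit 0)⟩) (BT.leaf ⟨(nat_lit 4), (nat_lit 3355), (nat_lit 0), (nat_lit 0x1d39f5c08012060046fc21082158c96), (nat_lit 0), (nat_lit 0)⟩)) (BT.node (nat_lit 5655) (BT.leaf ⟨(nat_lit 4), (nat_lit 3564), (nat_lit 0), (nat_lit 0x19a4d7db125ce599796f27f85417d5c), (nat_lit 0), (nat_lit 0)⟩) (BT.leaf ⟨(nat_lit 4), (nat_lit 3691), (nat_lit 0), (nat_lit 0x142fc1108c60520875627e0c247011), (nat_lit 0), (nat_lit 0)⟩)))) (BT.node (nat_lit 5660) (BT.node (nat_lit 5658) (BT.node (nat_lit 5657) (BT.leaf ⟨(nat_lit 4), (nat_lit 3618), (nat_lit 0), (nat_lit 0x87ee905fc58dc1c525dd8397d2db5f), (nat_lit 0), (nat_lit 0)⟩) (BT.leaf ⟨(nat_lit 4), (nat_lit 3413), (nat_lit 0), (nat_lit 0x12724749ab3cf624fcded82e934f0ed), (nat_lit 0), (nat_lit 0)⟩))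 (BT.node (nat_lit 5659) (BT.leaf ⟨(nat_lit 4), (nat_lit 3362), (nat_lit 0), (nat_lit 0x2af01dd21095c046fc410027a700c), (nat_lit 0), (nat_lit 0)⟩) (BT.leaf ⟨(nat_lit 4), (nat_lit 3128), (nat_lit 0), (nat_lit 0x13d34f54640890339a02411801eab00), (nat_lit 0), (nat_lit 0)⟩))) (BT.node (nat_lit 5662) (BT.node (nat_lit 5661) (BT.leaf ⟨(nat_lit 4), (nat_lit 2727), (nat_lit 0), (nat_lit 0xc7305ce8bd90f4f47b7b51722f05e8), (nat_lit 0), (nat_lit 0)⟩) (BT.leaf ⟨(nat_lit 4), (nat_lit 455), (nat_lit 0), (nat_lit 0x7d4ebeefb4dc86eae9332af54aa8fa), (nat_lit 0), (nat_lit 0)⟩)) (BT.node (nat_lit 5663) (BT.leaf ⟨(nat_lit 4), (nat_lit 354), (nat_lit 0), (nat_lit 0x1c18a00c02dee8c2086032a87fbd433), (nat_lit 0), (nat_lit 0)⟩) (BT.leaf ⟨(nat_lit 4), (nat_lit 353), (nat_lit 0), (nat_lit 0x1d3bc2c0824e7740c008e64025f5888), (nat_lit 0), (nat_lit 0)⟩)))))) (BT.node (nat_lit 5680) (BT.node (nat_lit 5672) (BT.node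 (nat_lit 5668) (BT.node (nat_lit 5666) (BT.node (nat_lit 5665) (BT.leaf ⟨(nat_lit 4), (nat_lit 750), (nat_lit 0), (nat_lit 0x1bc18e6e4df9b537b4f450e6c8bccab), (nat_lit 0), (nat_lit 0)⟩) (BT.leaf ⟨(nat_lit 4), (nat_lit 595), (nat_lit 0), (nat_lit 0x19ce393fec593ced347750f57231c7b), (nat_lit 0), (nat_lit 0)⟩)) (BT.node (nat_lit 5667) (BT.leaf ⟨(nat_lit 4), (nat_lit 574), (nat_lit 0), (nat_lit 0x16987d36ce42775ea9553aa357779c5), (nat_lit 0), (nat_lit 0)⟩) (BT.leaf ⟨(nat_lit 4), (nat_lit 730), (nat_lit 0), (nat_lit 0x203a373a020082004733abe355cef4), (nat_lit 0), (nat_lit 0)⟩))) (BT.node (nat_lit 5670) (BT.node (nat_lit 5669) (BT.leaf ⟨(nat_lit 4), (nat_lit 957), (nat_lit 0), (nat_lit 0x6bc95fdb27ee5b5112721e5bc7d32f), (nat_lit 0), (nat_lit 0)⟩) (BT.leaf ⟨(nat_lit 4), (nat_lit 1194), (nat_lit 0), (nat_lit 0xa1e19f54417238d0a021e4836a030), (nat_lit 0), (nat_lit 0)⟩)) (BT.node (nat_lit 5671)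 (BT.leaf ⟨(nat_lit 4), (nat_lit 1499), (nat_lit 0), (nat_lit 0x95f60dd20bedc12f25d957597dbb8a), (nat_lit 0), (nat_lit 0)⟩) (BT.leaf ⟨(nat_lit 4), (nat_lit 1840), (nat_lit 0), (nat_lit 0x1bdb6a31ce439d3726fc957ad0bccf4), (nat_lit 0), (nat_lit 0)⟩)))) (BT.node (nat_lit 5676) (BT.node (nat_lit 5674) (BT.node (nat_lit 5673) (BT.leaf ⟨(nat_lit 4), (nat_lit 2267), (nat_lit 0), (nat_lit 0x9f18013aa97e00473f1a040405e8), (nat_lit 0), (nat_lit 0)⟩) (BT.leaf ⟨(nat_lit 4), (nat_lit 2661), (nat_lit 0), (nat_lit 0xff8bcf0d4cbe16c6f8ff1a2dfc6658), (nat_lit 0), (nat_lit 0)⟩)) (BT.node (nat_lit 5675) (BT.leaf ⟨(nat_lit 4), (nat_lit 3024), (nat_lit 0), (nat_lit 0x11dc12404bd8010822bd00a81006084), (nat_lit 0), (nat_lit 0)⟩) (BT.leaf ⟨(nat_lit 4), (nat_lit 3317), (nat_lit 0), (nat_lit 0xae3c600910200cea47200a04600de9), (nat_lit 0), (nat_lit 0)⟩))) (BT.node (nat_lit 5678) (BT.node (nat_lit 5677) (BT.leaf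 ⟨(nat_lit 4), (nat_lit 3530), (nat_lit 0), (nat_lit 0xa67b35c81410801802004418012120), (nat_lit 0), (nat_lit 0)⟩) (BT.leaf ⟨(nat_lit 4), (nat_lit 3673), (nat_lit 0), (nat_lit 0xa4e0062044b4052bb04480af5082), (nat_lit 0), (nat_lit 0)⟩)) (BT.node (nat_lit 5679) (BT.leaf ⟨(nat_lit 4), (nat_lit 3633), (nat_lit 0), (nat_lit 0x19a49f9af6e14bc9702fd444bdcb12b), (nat_lit 0), (nat_lit 0)⟩) (BT.leaf ⟨(nat_lit 4), (nat_lit 2378), (nat_lit 0), (nat_lit 0x17482f8e64bc9fd2ba5d4b6e292fa4f), (nat_lit 0), (nat_lit 0)⟩))))) (BT.node (nat_lit 5688) (BT.node (nat_lit 5684) (BT.node (nat_lit 5682) (BT.node (nat_lit 5681) (BT.leaf ⟨(nat_lit 4), (nat_lit 2734), (nat_lit 0), (nat_lit 0x18958040291dc827894b6f9d5e805), (nat_lit 0), (nat_lit 0)⟩) (BT.leaf ⟨(nat_lit 4), (nat_lit 3132), (nat_lit 0), (nat_lit 0x80bf42014202e4f1a20ce6a002fa08), (nat_lit 0), (nat_lit 0)⟩)) (BT.node (nat_lit 5683) (BT.leaf ⟨(nat_lit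 5), (nat_lit 5), (nat_lit 0), (nat_lit 0x400020000000002000000000000000000000000000000000000000000000000200000000000000000000000000000000000000000000000000010000000000000000000000010000000000000000000000000000000000000000000000000000000000000000000000000000000400000000000000000000080000000000000000000000000000000000000000000010000000000000000000000000000000000000000000000000100000000000000000000000000000000000000000000000000000000000000000000000000008000000000000000000000000000000000000000000000000000000000000000000000000000000000000000000000000000000000040000000000000000000000000000000000000000000000000000000000000000000000000000000000000000000000000000000000000000000000000004000000000000000000000000000000000000000000000000000000000000000000000000000000000000000000000000000000000000000010000000000000000a0000000000000000400000000000000000000000000000000000000400020000000000000000000000000000000000000000000000000000000010000000000000000000000000000000),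 (nat_lit 0), (nat_lit 0)⟩) (BT.leaf ⟨(nat_lit 5), (nat_lit 5), (nat_lit 0), (nat_lit 0x40000000000001000000000000400030000000002001000000000000000000000000000000000000000000000200000000000000000000000000000000000000000000000000010020000000000000000000012000000000000000000000000000000000000000000020000000000000000000000000000000000400000000000000000000080080000000000000000000000000000100000000000010000000000000000000000000000080040000000000000000100000000000000000000000000000000000000000000000008000000000000000000000000008000000000000000000000000000000000000100000000010000000000400000000002000000001000080000000002000000000004040000000000000000000000000000000000002000000000000000000000000000020000004000000000000000000000000000000000000000000000004004000010000000080000000000000002000000000000000000000000000000000000080000000000000000000001000000000000000000000010000000000000000a0000000000000000400000000000020000000000000000010000000400020000000000000100000000000000000000000000000000000000200011002000000000001000100000020801),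 (nat_lit 0), (nat_lit 0)⟩))) (BT.node (nat_lit 5686) (BT.node (nat_lit 5685) (BT.leaf ⟨(nat_lit 2), (nat_lit 5), (nat_lit 5), (nat_lit 0x41378044e8526b9f2bd3a24ac0280c), (nat_lit 0), (nat_lit 0)⟩) (BT.leaf ⟨(nat_lit 2), (nat_lit 5), (nat_lit 5), (nat_lit 0x100240500c0197dc6c106750129789e), (nat_lit 0), (nat_lit 0)⟩)) (BT.node (nat_lit 5687) (BT.leaf ⟨(nat_lit 4), (nat_lit 51), (nat_lit 0), (nat_lit 0x2e7f41e34419cec6a01409a7b00200), (nat_lit 0), (nat_lit 0)⟩) (BT.leaf ⟨(nat_lit 4), (nat_lit 69), (nat_lit 0), (nat_lit 0x177840400805095abd408411f3824), (nat_lit 0), (nat_lit 0)⟩)))) (BT.node (nat_lit 5692) (BT.node (nat_lit 5690) (BT.node (nat_lit 5689) (BT.leaf ⟨(nat_lit 4), (nat_lit 90), (nat_lit 0), (nat_lit 0x17a5575c8bd182e7419bbf10f7f4265), (nat_lit 0), (nat_lit 0)⟩) (BT.leaf ⟨(nat_lit 4), (nat_lit 126), (nat_lit 0), (nat_lit 0x118c48210f3a04a08011bf123818010), (nat_lit 0), (nat_lit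 0)⟩)) (BT.node (nat_lit 5691) (BT.leaf ⟨(nat_lit 4), (nat_lit 165), (nat_lit 0), (nat_lit 0xd27bd63a16eb4b99565e34ceb9c53a), (nat_lit 0), (nat_lit 0)⟩) (BT.leaf ⟨(nat_lit 4), (nat_lit 228), (nat_lit 0), (nat_lit 0x9fc1802244008410453e347d4907ad), (nat_lit 0), (nat_lit 0)⟩))) (BT.node (nat_lit 5694) (BT.node (nat_lit 5693) (BT.leaf ⟨(nat_lit 4), (nat_lit 299), (nat_lit 0), (nat_lit 0x96c4200c409cf895abd20801002806), (nat_lit 0), (nat_lit 0)⟩) (BT.leaf ⟨(nat_lit 4), (nat_lit 283), (nat_lit 0), (nat_lit 0x27b13cded825dacf4967b127189f7d), (nat_lit 0), (nat_lit 0)⟩)) (BT.node (nat_lit 5695) (BT.leaf ⟨(nat_lit 4), (nat_lit 220), (nat_lit 0), (nat_lit 0xbd390d179565e77b6f0639bd4d9674), (nat_lit 0), (nat_lit 0)⟩) (BT.leaf ⟨(nat_lit 4), (nat_lit 156), (nat_lit 0), (nat_lit 0x17b1692aead17a2d41e863866f05fb7), (nat_lit 0), (nat_lit 0)⟩)))))))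
noncomputable def cP5632 : BT Pf := (BT.node (nat_lit 5664) (BT.node (nat_lit 5648) (BT.node (nat_lit 5640) (BT.node (nat_lit 5636) (BT.node (nat_lit 5634) (BT.node (nat_lit 5633) (BT.leaf (.pt (nat_lit 5631) (nat_lit 4))) (BT.leaf (.pt (nat_lit 5213) (nat_lit 4)))) (BT.node (nat_lit 5635) (BT.leaf (.pt (nat_lit 5633) (nat_lit 1))) (BT.leaf (.pt (nat_lit 5634) (nat_lit 3))))) (BT.node (nat_lit 5638) (BT.node (nat_lit 5637) (BT.leaf (.pt (nat_lit 5635) (nat_lit 1))) (BT.leaf (.pt (nat_lit 5636) (nat_lit 3)))) (BT.node (nat_lit 5639) (BT.leaf (.pt (nat_lit 4898) (nat_lit 4))) (BT.leaf (.cov [] [⟨(nat_lit 595), (nat_lit 4484), []⟩, ⟨(nat_lit 602), (nat_lit 5495), [(nat_lit 488), (nat_lit 90)]⟩, ⟨(nat_lit 616), (nat_lit 4774), [(nat_lit 942), (nat_lit 363)]⟩, ⟨(nat_lit 732), (nat_lit 5504), [(nat_lit 175), (nat_lit 107)]⟩, ⟨(nat_lit 683), (nat_lit 5518), [(nat_lit 942), (nat_lit 110)]⟩,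 ⟨(nat_lit 687), (nat_lit 4600), [(nat_lit 273), (nat_lit 1329)]⟩, ⟨(nat_lit 691), (nat_lit 5520), [(nat_lit 130), (nat_lit 293)]⟩, ⟨(nat_lit 697), (nat_lit 5534), [(nat_lit 387), (nat_lit 88)]⟩, ⟨(nat_lit 699), (nat_lit 5303), [(nat_lit 1175), (nat_lit 985)]⟩, ⟨(nat_lit 702), (nat_lit 5549), [(nat_lit 587), (nat_lit 578)]⟩, ⟨(nat_lit 706), (nat_lit 5553), [(nat_lit 1242), (nat_lit 785)]⟩, ⟨(nat_lit 735), (nat_lit 4603), [(nat_lit 281), (nat_lit 223)]⟩, ⟨(nat_lit 739), (nat_lit 5559), [(nat_lit 451), (nat_lit 265)]⟩, ⟨(nat_lit 742), (nat_lit 5568), [(nat_lit 445), (nat_lit 985)]⟩, ⟨(nat_lit 758), (nat_lit 5152), [(nat_lit 96), (nat_lit 1017)]⟩, ⟨(nat_lit 766), (nat_lit 5573), [(nat_lit 93), (nat_lit 1021)]⟩, ⟨(nat_lit 768), (nat_lit 5581), [(nat_lit 1102), (nat_lit 906)]⟩, ⟨(nat_lit 793), (nat_lit 5583), [(nat_lit 227), (nat_lit 1)]⟩, ⟨(nat_lit 843), (nat_lit 5585), [(nat_lit 450),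 (nat_lit 785)]⟩, ⟨(nat_lit 858), (nat_lit 5588), [(nat_lit 150), (nat_lit 205)]⟩, ⟨(nat_lit 885), (nat_lit 4764), [(nat_lit 782), (nat_lit 898)]⟩, ⟨(nat_lit 976), (nat_lit 5591), [(nat_lit 482), (nat_lit 109)]⟩, ⟨(nat_lit 1095), (nat_lit 5596), [(nat_lit 19), (nat_lit 88)]⟩, ⟨(nat_lit 1150), (nat_lit 4700), [(nat_lit 226), (nat_lit 1100)]⟩, ⟨(nat_lit 1155), (nat_lit 5599), [(nat_lit 1174), (nat_lit 797)]⟩, ⟨(nat_lit 1169), (nat_lit 5601), [(nat_lit 463), (nat_lit 684)]⟩, ⟨(nat_lit 1193), (nat_lit 5611), [(nat_lit 352), (nat_lit 320)]⟩, ⟨(nat_lit 1359), (nat_lit 5613), [(nat_lit 336), (nat_lit 124)]⟩, ⟨(nat_lit 1432), (nat_lit 5622), [(nat_lit 209), (nat_lit 1)]⟩, ⟨(nat_lit 1446), (nat_lit 5627), [(nat_lit 394), (nat_lit 279)]⟩, ⟨(nat_lit 1458), (nat_lit 4607), [(nat_lit 575), (nat_lit 491)]⟩, ⟨(nat_lit 1591), (nat_lit 4896), [(nat_lit 761), (nat_lit 191)]⟩, ⟨(nat_lit 1740), (nat_lit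 4976), [(nat_lit 747), (nat_lit 328)]⟩, ⟨(nat_lit 1931), (nat_lit 5312), [(nat_lit 943), (nat_lit 555)]⟩, ⟨(nat_lit 1938), (nat_lit 5632), [(nat_lit 128), (nat_lit 400)]⟩, ⟨(nat_lit 1956), (nat_lit 4908), [(nat_lit 463), (nat_lit 399)]⟩, ⟨(nat_lit 2053), (nat_lit 5637), [(nat_lit 336), (nat_lit 628)]⟩, ⟨(nat_lit 2154), (nat_lit 5436), [(nat_lit 510), (nat_lit 308)]⟩, ⟨(nat_lit 2190), (nat_lit 5638), [(nat_lit 826), (nat_lit 972)]⟩, ⟨(nat_lit 2229), (nat_lit 4848), [(nat_lit 258), (nat_lit 506)]⟩]))))) (BT.node (nat_lit 5644) (BT.node (nat_lit 5642) (BT.node (nat_lit 5641) (BT.leaf (.pt (nat_lit 4548) (nat_lit 4))) (BT.leaf (.pt (nat_lit 5640) (nat_lit 1)))) (BT.node (nat_lit 5643) (BT.leaf (.pt (nat_lit 5641) (nat_lit 3))) (BT.leaf (.pt (nat_lit 5642) (nat_lit 1))))) (BT.node (nat_lit 5646) (BT.node (nat_lit 5645) (BT.leaf (.pt (nat_lit 5643) (nat_lit 4))) (BT.leaf (.pt (nat_lit 5644)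 (nat_lit 1)))) (BT.node (nat_lit 5647) (BT.leaf (.pt (nat_lit 4970) (nat_lit 3))) (BT.leaf (.pt (nat_lit 5646) (nat_lit 1))))))) (BT.node (nat_lit 5656) (BT.node (nat_lit 5652) (BT.node (nat_lit 5650) (BT.node (nat_lit 5649) (BT.leaf (.pt (nat_lit 5647) (nat_lit 4))) (BT.leaf (.pt (nat_lit 5026) (nat_lit 3)))) (BT.node (nat_lit 5651) (BT.leaf (.pt (nat_lit 5649) (nat_lit 1))) (BT.leaf (.pt (nat_lit 5650) (nat_lit 3))))) (BT.node (nat_lit 5654) (BT.node (nat_lit 5653) (BT.leaf (.pt (nat_lit 4644) (nat_lit 3))) (BT.leaf (.pt (nat_lit 5652) (nat_lit 1)))) (BT.node (nat_lit 5655) (BT.leaf (.pt (nat_lit 5653) (nat_lit 3))) (BT.leaf (.pt (nat_lit 5654) (nat_lit 1)))))) (BT.node (nat_lit 5660) (BT.node (nat_lit 5658) (BT.node (nat_lit 5657) (BT.leaf (.pt (nat_lit 5655) (nat_lit 4))) (BT.leaf (.pt (nat_lit 5656) (nat_lit 1)))) (BT.node (nat_lit 5659) (BT.leaf (.pt (nat_lit 5657) (nat_lit 4)))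 (BT.leaf (.pt (nat_lit 5658) (nat_lit 1))))) (BT.node (nat_lit 5662) (BT.node (nat_lit 5661) (BT.leaf (.pt (nat_lit 5659) (nat_lit 3))) (BT.leaf (.pt (nat_lit 5156) (nat_lit 4)))) (BT.node (nat_lit 5663) (BT.leaf (.pt (nat_lit 5661) (nat_lit 1))) (BT.leaf (.pt (nat_lit 5662) (nat_lit 4)))))))) (BT.node (nat_lit 5680) (BT.node (nat_lit 5672) (BT.node (nat_lit 5668) (BT.node (nat_lit 5666) (BT.node (nat_lit 5665) (BT.leaf (.pt (nat_lit 4998) (nat_lit 4))) (BT.leaf (.pt (nat_lit 5664) (nat_lit 1)))) (BT.node (nat_lit 5667) (BT.leaf (.pt (nat_lit 4946) (nat_lit 4))) (BT.leaf (.pt (nat_lit 5666) (nat_lit 1))))) (BT.node (nat_lit 5670) (BT.node (nat_lit 5669) (BT.leaf (.pt (nat_lit 5667) (nat_lit 3))) (BT.leaf (.pt (nat_lit 5668) (nat_lit 1)))) (BT.node (nat_lit 5671) (BT.leaf (.pt (nat_lit 5669) (nat_lit 4))) (BT.leaf (.pt (nat_lit 5670) (nat_lit 1)))))) (BT.node (nat_lit 5676) (BT.node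 (nat_lit 5674) (BT.node (nat_lit 5673) (BT.leaf (.pt (nat_lit 5671) (nat_lit 4))) (BT.leaf (.pt (nat_lit 5672) (nat_lit 1)))) (BT.node (nat_lit 5675) (BT.leaf (.pt (nat_lit 5673) (nat_lit 4))) (BT.leaf (.pt (nat_lit 5674) (nat_lit 1))))) (BT.node (nat_lit 5678) (BT.node (nat_lit 5677) (BT.leaf (.pt (nat_lit 5675) (nat_lit 3))) (BT.leaf (.pt (nat_lit 5676) (nat_lit 1)))) (BT.node (nat_lit 5679) (BT.leaf (.pt (nat_lit 5461) (nat_lit 4))) (BT.leaf (.pt (nat_lit 5190) (nat_lit 4))))))) (BT.node (nat_lit 5688) (BT.node (nat_lit 5684) (BT.node (nat_lit 5682) (BT.node (nat_lit 5681) (BT.leaf (.pt (nat_lit 5679) (nat_lit 1))) (BT.leaf (.pt (nat_lit 5680) (nat_lit 3)))) (BT.node (nat_lit 5683) (BT.leaf (.cov [] [⟨(nat_lit 2527), (nat_lit 5466), [(nat_lit 832), (nat_lit 224)]⟩, ⟨(nat_lit 2629), (nat_lit 5645), [(nat_lit 913), (nat_lit 1083)]⟩, ⟨(nat_lit 2656), (nat_lit 5531), [(nat_lit 759),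 (nat_lit 717)]⟩, ⟨(nat_lit 2724), (nat_lit 5648), [(nat_lit 630), (nat_lit 578)]⟩, ⟨(nat_lit 2927), (nat_lit 5651), [(nat_lit 463), (nat_lit 585)]⟩, ⟨(nat_lit 3049), (nat_lit 5660), [(nat_lit 653), (nat_lit 486)]⟩, ⟨(nat_lit 3175), (nat_lit 5044), [(nat_lit 381), (nat_lit 287)]⟩, ⟨(nat_lit 3201), (nat_lit 5663), [(nat_lit 1218), (nat_lit 169)]⟩, ⟨(nat_lit 3210), (nat_lit 5665), [(nat_lit 787), (nat_lit 974)]⟩, ⟨(nat_lit 3358), (nat_lit 4760), [(nat_lit 94), (nat_lit 808)]⟩, ⟨(nat_lit 3380), (nat_lit 5157), [(nat_lit 261), (nat_lit 369)]⟩, ⟨(nat_lit 3437), (nat_lit 5474), [(nat_lit 568), (nat_lit 572)]⟩, ⟨(nat_lit 3611), (nat_lit 5677), [(nat_lit 241), (nat_lit 1083)]⟩, ⟨(nat_lit 3612), (nat_lit 5678), [(nat_lit 152), (nat_lit 400)]⟩, ⟨(nat_lit 3982), (nat_lit 5373), [(nat_lit 281), (nat_lit 647)]⟩, ⟨(nat_lit 3999), (nat_lit 5461), [(nat_lit 164), (nat_lit 504)]⟩, ⟨(nat_lit 4062), (nat_lit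 5037), [(nat_lit 618), (nat_lit 878)]⟩, ⟨(nat_lit 4146), (nat_lit 5681), [(nat_lit 1173), (nat_lit 1101)]⟩, ⟨(nat_lit 4189), (nat_lit 5242), [(nat_lit 335), (nat_lit 1849)]⟩, ⟨(nat_lit 4205), (nat_lit 5416), [(nat_lit 1087), (nat_lit 1745)]⟩])) (BT.leaf (.cov [(nat_lit 5639), (nat_lit 5682)] [])))) (BT.node (nat_lit 5686) (BT.node (nat_lit 5685) (BT.leaf (.emul [(nat_lit 645), (nat_lit 1777)])) (BT.leaf (.emul [(nat_lit 594), (nat_lit 704)]))) (BT.node (nat_lit 5687) (BT.leaf (.pt (nat_lit 4739) (nat_lit 4))) (BT.leaf (.pt (nat_lit 5686) (nat_lit 1)))))) (BT.node (nat_lit 5692) (BT.node (nat_lit 5690) (BT.node (nat_lit 5689) (BT.leaf (.pt (nat_lit 5687) (nat_lit 3))) (BT.leaf (.pt (nat_lit 5688) (nat_lit 1)))) (BT.node (nat_lit 5691) (BT.leaf (.pt (nat_lit 5689) (nat_lit 4))) (BT.leaf (.pt (nat_lit 5690) (nat_lit 1))))) (BT.node (nat_lit 5694) (BT.node (nat_lit 5693) (BT.leaf (.pt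 (nat_lit 5691) (nat_lit 4))) (BT.leaf (.pt (nat_lit 5091) (nat_lit 1)))) (BT.node (nat_lit 5695) (BT.leaf (.pt (nat_lit 5693) (nat_lit 3))) (BT.leaf (.pt (nat_lit 5694) (nat_lit 1)))))))))
noncomputable def cF5696 : BT Fc := (BT.node (nat_lit 5728) (BT.node (nat_lit 5712) (BT.node (nat_lit 5704) (BT.node (nat_lit 5700) (BT.node (nat_lit 5698) (BT.node (nat_lit 5697) (BT.leaf ⟨(nat_lit 4), (nat_lit 1289), (nat_lit 0), (nat_lit 0x809eaa00b1a2e5044f4a7490100b00), (nat_lit 0), (nat_lit 0)⟩) (BT.leaf ⟨(nat_lit 4), (nat_lit 1067), (nat_lit 0), (nat_lit 0x739a4f3bc75597dd738a753679d0b7), (nat_lit 0), (nat_lit 0)⟩)) (BT.node (nat_lit 5699) (BT.leaf ⟨(nat_lit 4), (nat_lit 823), (nat_lit 0), (nat_lit 0x17e3723f322093c0905042004554c63), (nat_lit 0), (nat_lit 0)⟩) (BT.leaf ⟨(nat_lit 4), (nat_lit 1091), (nat_lit 0), (nat_lit 0x9029d0b9ce68034f7e8420880f1b00), (nat_lit 0), (nat_lit 0)⟩))) (BT.node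 (nat_lit 5702) (BT.node (nat_lit 5701) (BT.leaf ⟨(nat_lit 4), (nat_lit 1163), (nat_lit 0), (nat_lit 0x1c1b49f4466bd5be334694af63a35ff), (nat_lit 0), (nat_lit 0)⟩) (BT.leaf ⟨(nat_lit 4), (nat_lit 919), (nat_lit 0), (nat_lit 0x1f8cf1be32b582d71ba394af89f0f90), (nat_lit 0), (nat_lit 0)⟩)) (BT.node (nat_lit 5703) (BT.leaf ⟨(nat_lit 4), (nat_lit 920), (nat_lit 0), (nat_lit 0x17547d5a66d875cea1c587b96349955), (nat_lit 0), (nat_lit 0)⟩) (BT.leaf ⟨(nat_lit 4), (nat_lit 934), (nat_lit 0), (nat_lit 0x17e2f62aead1782f41e887a5d8cdf51), (nat_lit 0), (nat_lit 0)⟩)))) (BT.node (nat_lit 5708) (BT.node (nat_lit 5706) (BT.node (nat_lit 5705) (BT.leaf ⟨(nat_lit 4), (nat_lit 933), (nat_lit 0), (nat_lit 0x1b90e76f5ce9c876a4ab50fbd37e1b2), (nat_lit 0), (nat_lit 0)⟩) (BT.leaf ⟨(nat_lit 4), (nat_lit 475), (nat_lit 0), (nat_lit 0x1855b852f05ff6c9713f98ecbed8ea2), (nat_lit 0), (nat_lit 0)⟩)) (BT.node (nat_lit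 5707) (BT.leaf ⟨(nat_lit 4), (nat_lit 2595), (nat_lit 0), (nat_lit 0x4a3189027e441084105520440c030), (nat_lit 0), (nat_lit 0)⟩) (BT.leaf ⟨(nat_lit 4), (nat_lit 2164), (nat_lit 0), (nat_lit 0x1ae55cab153239b13abb5525691cb96), (nat_lit 0), (nat_lit 0)⟩))) (BT.node (nat_lit 5710) (BT.node (nat_lit 5709) (BT.leaf ⟨(nat_lit 4), (nat_lit 1773), (nat_lit 0), (nat_lit 0x1010e8a04048053787891092692d80c), (nat_lit 0), (nat_lit 0)⟩) (BT.leaf ⟨(nat_lit 4), (nat_lit 256), (nat_lit 0), (nat_lit 0x1d12f547125bce12eef67c2048ebc02), (nat_lit 0), (nat_lit 0)⟩)) (BT.node (nat_lit 5711) (BT.leaf ⟨(nat_lit 4), (nat_lit 2941), (nat_lit 0), (nat_lit 0x809103d5480a010205fd3c2e69d1e3), (nat_lit 0), (nat_lit 0)⟩) (BT.leaf ⟨(nat_lit 4), (nat_lit 3065), (nat_lit 0), (nat_lit 0x1b06d8ba4efb27a4749cd3d27ea5cde), (nat_lit 0), (nat_lit 0)⟩))))) (BT.node (nat_lit 5720) (BT.node (nat_lit 5716) (BT.node (nat_lit 5714)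 (BT.node (nat_lit 5713) (BT.leaf ⟨(nat_lit 4), (nat_lit 2674), (nat_lit 0), (nat_lit 0x174865f898dd63532e8dcb1e77c68b7), (nat_lit 0), (nat_lit 0)⟩) (BT.leaf ⟨(nat_lit 4), (nat_lit 2283), (nat_lit 0), (nat_lit 0x356a59d5dde75ccab8acb0db0e8a36), (nat_lit 0), (nat_lit 0)⟩)) (BT.node (nat_lit 5715) (BT.leaf ⟨(nat_lit 4), (nat_lit 2142), (nat_lit 0), (nat_lit 0xa655ed34772aed58ab9472e59b65ff), (nat_lit 0), (nat_lit 0)⟩) (BT.leaf ⟨(nat_lit 4), (nat_lit 2581), (nat_lit 0), (nat_lit 0x20140155f8c2056f8a0473eeb86980), (nat_lit 0), (nat_lit 0)⟩))) (BT.node (nat_lit 5718) (BT.node (nat_lit 5717) (BT.leaf ⟨(nat_lit 4), (nat_lit 2608), (nat_lit 0), (nat_lit 0x1202104e85e279f00600a0515e80c), (nat_lit 0), (nat_lit 0)⟩) (BT.leaf ⟨(nat_lit 4), (nat_lit 2180), (nat_lit 0), (nat_lit 0xe4fab8012f88ea00100a4b880f47), (nat_lit 0), (nat_lit 0)⟩)) (BT.node (nat_lit 5719) (BT.leaf ⟨(nat_lit 4), (nat_lit 2181),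 (nat_lit 0), (nat_lit 0x100b0034681140297b8dfc71020233a), (nat_lit 0), (nat_lit 0)⟩) (BT.leaf ⟨(nat_lit 4), (nat_lit 2201), (nat_lit 0), (nat_lit 0x11ba8bbe79b382cad3e1fc6fce52beb), (nat_lit 0), (nat_lit 0)⟩)))) (BT.node (nat_lit 5724) (BT.node (nat_lit 5722) (BT.node (nat_lit 5721) (BT.leaf ⟨(nat_lit 4), (nat_lit 1795), (nat_lit 0), (nat_lit 0x16374f208a7551908300fd017f0032f), (nat_lit 0), (nat_lit 0)⟩) (BT.leaf ⟨(nat_lit 4), (nat_lit 1447), (nat_lit 0), (nat_lit 0x13a2b41e898f722f6265fd16a2f02d2), (nat_lit 0), (nat_lit 0)⟩)) (BT.node (nat_lit 5723) (BT.leaf ⟨(nat_lit 4), (nat_lit 1448), (nat_lit 0), (nat_lit 0x1679353a4b6325a6f3d897d52f4f48e), (nat_lit 0), (nat_lit 0)⟩) (BT.leaf ⟨(nat_lit 4), (nat_lit 1796), (nat_lit 0), (nat_lit 0x1d9810a200600821012097c9ff8d10f), (nat_lit 0), (nat_lit 0)⟩))) (BT.node (nat_lit 5726) (BT.node (nat_lit 5725) (BT.leaf ⟨(nat_lit 4), (nat_lit 2203),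 (nat_lit 0), (nat_lit 0x1297c83a37e7df4ad3e19b3f8df19e3), (nat_lit 0), (nat_lit 0)⟩) (BT.leaf ⟨(nat_lit 4), (nat_lit 2430), (nat_lit 0), (nat_lit 0x4ac7d32fd44dc1cb02f2de6bc87db1), (nat_lit 0), (nat_lit 0)⟩)) (BT.node (nat_lit 5727) (BT.leaf ⟨(nat_lit 4), (nat_lit 2773), (nat_lit 0), (nat_lit 0x502d40609bdde9d18442dfad1207cd), (nat_lit 0), (nat_lit 0)⟩) (BT.leaf ⟨(nat_lit 4), (nat_lit 2562), (nat_lit 0), (nat_lit 0x356d3658a96f5790b8adde7547d36c), (nat_lit 0), (nat_lit 0)⟩)))))) (BT.node (nat_lit 5744) (BT.node (nat_lit 5736) (BT.node (nat_lit 5732) (BT.node (nat_lit 5730) (BT.node (nat_lit 5729) (BT.leaf ⟨(nat_lit 4), (nat_lit 2115), (nat_lit 0), (nat_lit 0x15959d615b061f38d63addfee85bba4), (nat_lit 0), (nat_lit 0)⟩) (BT.leaf ⟨(nat_lit 4), (nat_lit 312), (nat_lit 0), (nat_lit 0x14eb8d7389b273b0a8b7e75bbfdd73e), (nat_lit 0), (nat_lit 0)⟩)) (BT.node (nat_lit 5731) (BT.leaf ⟨(nat_lit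 4), (nat_lit 330), (nat_lit 0), (nat_lit 0x1e37a308000810239a00e74020013e3), (nat_lit 0), (nat_lit 0)⟩) (BT.leaf ⟨(nat_lit 4), (nat_lit 244), (nat_lit 0), (nat_lit 0x1eb6e43c3048088146d40c12fb8d10f), (nat_lit 0), (nat_lit 0)⟩))) (BT.node (nat_lit 5734) (BT.node (nat_lit 5733) (BT.leaf ⟨(nat_lit 4), (nat_lit 181), (nat_lit 0), (nat_lit 0x1ad0a077a2de104607cd0c0655d1844), (nat_lit 0), (nat_lit 0)⟩) (BT.leaf ⟨(nat_lit 4), (nat_lit 134), (nat_lit 0), (nat_lit 0xc71575ec98f82e1edeabd37e2e45e0), (nat_lit 0), (nat_lit 0)⟩)) (BT.node (nat_lit 5735) (BT.leaf ⟨(nat_lit 4), (nat_lit 2651), (nat_lit 0), (nat_lit 0x95c14496df9780eef850100250400c), (nat_lit 0), (nat_lit 0)⟩) (BT.leaf ⟨(nat_lit 4), (nat_lit 2257), (nat_lit 0), (nat_lit 0x1e37a3200009ce80125f0101024f6f4), (nat_lit 0), (nat_lit 0)⟩)))) (BT.node (nat_lit 5740) (BT.node (nat_lit 5738) (BT.node (nat_lit 5737) (BT.leaf ⟨(nat_lit 4), (nat_lit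 1897), (nat_lit 0), (nat_lit 0x1eb5e1ed40492f8305c8e3514c141f5), (nat_lit 0), (nat_lit 0)⟩) (BT.leaf ⟨(nat_lit 4), (nat_lit 1567), (nat_lit 0), (nat_lit 0xb499d732ddf8569d0b7e35cece773e), (nat_lit 0), (nat_lit 0)⟩)) (BT.node (nat_lit 5739) (BT.leaf ⟨(nat_lit 4), (nat_lit 3127), (nat_lit 0), (nat_lit 0x19d048080108220502392ab3cc607c6), (nat_lit 0), (nat_lit 0)⟩) (BT.leaf ⟨(nat_lit 4), (nat_lit 3026), (nat_lit 0), (nat_lit 0xdb1ea995d2675c6af212aa750ea9d1), (nat_lit 0), (nat_lit 0)⟩))) (BT.node (nat_lit 5742) (BT.node (nat_lit 5741) (BT.leaf ⟨(nat_lit 4), (nat_lit 2638), (nat_lit 0), (nat_lit 0xaa5f9814eac04008818025ca848030), (nat_lit 0), (nat_lit 0)⟩) (BT.leaf ⟨(nat_lit 4), (nat_lit 3025), (nat_lit 0), (nat_lit 0x14d189fad197c345bea2f1ba37c7fcd), (nat_lit 0), (nat_lit 0)⟩)) (BT.node (nat_lit 5743) (BT.leaf ⟨(nat_lit 4), (nat_lit 3318), (nat_lit 0), (nat_lit 0x4bcea802081bd0022b9f1b1cc10746),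 (nat_lit 0), (nat_lit 0)⟩) (BT.leaf ⟨(nat_lit 4), (nat_lit 3789), (nat_lit 0), (nat_lit 0x1fa0f1bd542017d00600ce6812c6b00), (nat_lit 0), (nat_lit 0)⟩))))) (BT.node (nat_lit 5752) (BT.node (nat_lit 5748) (BT.node (nat_lit 5746) (BT.node (nat_lit 5745) (BT.leaf ⟨(nat_lit 4), (nat_lit 91), (nat_lit 0), (nat_lit 0x2046070d100a00aa8826c66bc48480), (nat_lit 0), (nat_lit 0)⟩) (BT.leaf ⟨(nat_lit 4), (nat_lit 127), (nat_lit 0), (nat_lit 0xf85f3bf3fc6569e1be26c7df6373e3), (nat_lit 0), (nat_lit 0)⟩)) (BT.node (nat_lit 5747) (BT.leaf ⟨(nat_lit 4), (nat_lit 167), (nat_lit 0), (nat_lit 0x1ce0e76ef675eeb9956516fc6ac1f2a), (nat_lit 0), (nat_lit 0)⟩) (BT.leaf ⟨(nat_lit 4), (nat_lit 230), (nat_lit 0), (nat_lit 0x174a37534f3be33c6f8f16fa8b2c38d), (nat_lit 0), (nat_lit 0)⟩))) (BT.node (nat_lit 5750) (BT.node (nat_lit 5749) (BT.leaf ⟨(nat_lit 4), (nat_lit 303), (nat_lit 0), (nat_lit 0x1edef65e0bf0b4a7419b87b7a2f4f51),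 (nat_lit 0), (nat_lit 0)⟩) (BT.leaf ⟨(nat_lit 4), (nat_lit 410), (nat_lit 0), (nat_lit 0x169b2c1d46d875eeab8a87a7d4ee9c5), (nat_lit 0), (nat_lit 0)⟩)) (BT.node (nat_lit 5751) (BT.leaf ⟨(nat_lit 4), (nat_lit 1083), (nat_lit 0), (nat_lit 0x5e5439ceda91375a6f4de1bf33a7f4), (nat_lit 0), (nat_lit 0)⟩) (BT.leaf ⟨(nat_lit 4), (nat_lit 814), (nat_lit 0), (nat_lit 0x10030842084ad2df89de1d0b9f024), (nat_lit 0), (nat_lit 0)⟩)))) (BT.node (nat_lit 5756) (BT.node (nat_lit 5754) (BT.node (nat_lit 5753) (BT.leaf ⟨(nat_lit 4), (nat_lit 653), (nat_lit 0), (nat_lit 0x11cf39c53ae6d259aecaab918d43c33), (nat_lit 0), (nat_lit 0)⟩) (BT.leaf ⟨(nat_lit 4), (nat_lit 1694), (nat_lit 0), (nat_lit 0x1d1af4020e74f8ceaf8d93c4bc20004), (nat_lit 0), (nat_lit 0)⟩)) (BT.node (nat_lit 5755) (BT.leaf ⟨(nat_lit 4), (nat_lit 1327), (nat_lit 0), (nat_lit 0xc4c4f4de93567b60bd893c3b65f3a4), (nat_lit 0), (nat_lit 0)⟩) (BT.leaf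 ⟨(nat_lit 4), (nat_lit 1088), (nat_lit 0), (nat_lit 0x997a8ad2bd9720cde0b9d15a2f443d), (nat_lit 0), (nat_lit 0)⟩))) (BT.node (nat_lit 5758) (BT.node (nat_lit 5757) (BT.leaf ⟨(nat_lit 4), (nat_lit 820), (nat_lit 0), (nat_lit 0xb8ffa1001aac00a068d9d00bf1d104), (nat_lit 0), (nat_lit 0)⟩) (BT.leaf ⟨(nat_lit 4), (nat_lit 819), (nat_lit 0), (nat_lit 0xfac0c47b3bb7800480ae6412104008), (nat_lit 0), (nat_lit 0)⟩)) (BT.node (nat_lit 5759) (BT.leaf ⟨(nat_lit 4), (nat_lit 1087), (nat_lit 0), (nat_lit 0x1ce31d53ae742df9f4d9e65ee9a4eef), (nat_lit 0), (nat_lit 0)⟩) (BT.leaf ⟨(nat_lit 4), (nat_lit 1325), (nat_lit 0), (nat_lit 0x12713549f93d25b60bd81db26989e9e), (nat_lit 0), (nat_lit 0)⟩)))))))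
noncomputable def cP5696 : BT Pf := (BT.node (nat_lit 5728) (BT.node (nat_lit 5712) (BT.node (nat_lit 5704) (BT.node (nat_lit 5700) (BT.node (nat_lit 5698) (BT.node (nat_lit 5697) (BT.leaf (.pt (nat_lit 4894) (nat_lit 3))) (BT.leaf (.pt (nat_lit 5696) (nat_lit 1)))) (BT.node (nat_lit 5699) (BT.leaf (.pt (nat_lit 4698) (nat_lit 3))) (BT.leaf (.pt (nat_lit 5698) (nat_lit 1))))) (BT.node (nat_lit 5702) (BT.node (nat_lit 5701) (BT.leaf (.pt (nat_lit 5699) (nat_lit 4))) (BT.leaf (.pt (nat_lit 5700) (nat_lit 1)))) (BT.node (nat_lit 5703) (BT.leaf (.pt (nat_lit 5701) (nat_lit 3))) (BT.leaf (.pt (nat_lit 5702) (nat_lit 1)))))) (BT.node (nat_lit 5708) (BT.node (nat_lit 5706) (BT.node (nat_lit 5705) (BT.leaf (.pt (nat_lit 5703) (nat_lit 4))) (BT.leaf (.pt (nat_lit 4518) (nat_lit 3)))) (BT.node (nat_lit 5707) (BT.leaf (.pt (nat_lit 4736) (nat_lit 3))) (BT.leaf (.pt (nat_lit 5706) (nat_lit 1)))))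 (BT.node (nat_lit 5710) (BT.node (nat_lit 5709) (BT.leaf (.pt (nat_lit 5707) (nat_lit 4))) (BT.leaf (.pt (nat_lit 5662) (nat_lit 3)))) (BT.node (nat_lit 5711) (BT.leaf (.pt (nat_lit 4876) (nat_lit 4))) (BT.leaf (.pt (nat_lit 5710) (nat_lit 1))))))) (BT.node (nat_lit 5720) (BT.node (nat_lit 5716) (BT.node (nat_lit 5714) (BT.node (nat_lit 5713) (BT.leaf (.pt (nat_lit 5711) (nat_lit 4))) (BT.leaf (.pt (nat_lit 5712) (nat_lit 1)))) (BT.node (nat_lit 5715) (BT.leaf (.pt (nat_lit 5598) (nat_lit 4))) (BT.leaf (.pt (nat_lit 5714) (nat_lit 1))))) (BT.node (nat_lit 5718) (BT.node (nat_lit 5717) (BT.leaf (.pt (nat_lit 5715) (nat_lit 3))) (BT.leaf (.pt (nat_lit 5716) (nat_lit 1)))) (BT.node (nat_lit 5719) (BT.leaf (.pt (nat_lit 5717) (nat_lit 3))) (BT.leaf (.pt (nat_lit 5718) (nat_lit 1)))))) (BT.node (nat_lit 5724) (BT.node (nat_lit 5722) (BT.node (nat_lit 5721) (BT.leaf (.pt (nat_lit 5719) (nat_lit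 3))) (BT.leaf (.pt (nat_lit 5720) (nat_lit 1)))) (BT.node (nat_lit 5723) (BT.leaf (.pt (nat_lit 5721) (nat_lit 3))) (BT.leaf (.pt (nat_lit 5722) (nat_lit 1))))) (BT.node (nat_lit 5726) (BT.node (nat_lit 5725) (BT.leaf (.pt (nat_lit 5723) (nat_lit 4))) (BT.leaf (.pt (nat_lit 4702) (nat_lit 4)))) (BT.node (nat_lit 5727) (BT.leaf (.pt (nat_lit 5725) (nat_lit 1))) (BT.leaf (.pt (nat_lit 5726) (nat_lit 3)))))))) (BT.node (nat_lit 5744) (BT.node (nat_lit 5736) (BT.node (nat_lit 5732) (BT.node (nat_lit 5730) (BT.node (nat_lit 5729) (BT.leaf (.pt (nat_lit 5727) (nat_lit 1))) (BT.leaf (.pt (nat_lit 4803) (nat_lit 3)))) (BT.node (nat_lit 5731) (BT.leaf (.pt (nat_lit 5729) (nat_lit 1))) (BT.leaf (.pt (nat_lit 5730) (nat_lit 3))))) (BT.node (nat_lit 5734) (BT.node (nat_lit 5733) (BT.leaf (.pt (nat_lit 5731) (nat_lit 1))) (BT.leaf (.pt (nat_lit 5732) (nat_lit 3)))) (BT.node (nat_lit 5735) (BT.leaf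 (.pt (nat_lit 4815) (nat_lit 4))) (BT.leaf (.pt (nat_lit 5734) (nat_lit 1)))))) (BT.node (nat_lit 5740) (BT.node (nat_lit 5738) (BT.node (nat_lit 5737) (BT.leaf (.pt (nat_lit 5735) (nat_lit 3))) (BT.leaf (.pt (nat_lit 5736) (nat_lit 1)))) (BT.node (nat_lit 5739) (BT.leaf (.pt (nat_lit 5659) (nat_lit 4))) (BT.leaf (.pt (nat_lit 5738) (nat_lit 1))))) (BT.node (nat_lit 5742) (BT.node (nat_lit 5741) (BT.leaf (.pt (nat_lit 5739) (nat_lit 3))) (BT.leaf (.pt (nat_lit 5739) (nat_lit 4)))) (BT.node (nat_lit 5743) (BT.leaf (.pt (nat_lit 5741) (nat_lit 1))) (BT.leaf (.pt (nat_lit 5547) (nat_lit 3))))))) (BT.node (nat_lit 5752) (BT.node (nat_lit 5748) (BT.node (nat_lit 5746) (BT.node (nat_lit 5745) (BT.leaf (.pt (nat_lit 5687) (nat_lit 4))) (BT.leaf (.pt (nat_lit 5744) (nat_lit 1)))) (BT.node (nat_lit 5747) (BT.leaf (.pt (nat_lit 5745) (nat_lit 4))) (BT.leaf (.pt (nat_lit 5746) (nat_lit 1)))))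 (BT.node (nat_lit 5750) (BT.node (nat_lit 5749) (BT.leaf (.pt (nat_lit 5747) (nat_lit 4))) (BT.leaf (.pt (nat_lit 5748) (nat_lit 1)))) (BT.node (nat_lit 5751) (BT.leaf (.pt (nat_lit 5590) (nat_lit 4))) (BT.leaf (.pt (nat_lit 5750) (nat_lit 1)))))) (BT.node (nat_lit 5756) (BT.node (nat_lit 5754) (BT.node (nat_lit 5753) (BT.leaf (.pt (nat_lit 5751) (nat_lit 3))) (BT.leaf (.pt (nat_lit 5358) (nat_lit 3)))) (BT.node (nat_lit 5755) (BT.leaf (.pt (nat_lit 5753) (nat_lit 1))) (BT.leaf (.pt (nat_lit 5754) (nat_lit 3))))) (BT.node (nat_lit 5758) (BT.node (nat_lit 5757) (BT.leaf (.pt (nat_lit 5755) (nat_lit 1))) (BT.leaf (.pt (nat_lit 5756) (nat_lit 4)))) (BT.node (nat_lit 5759) (BT.leaf (.pt (nat_lit 5757) (nat_lit 1))) (BT.leaf (.pt (nat_lit 5758) (nat_lit 4)))))))))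
noncomputable def cF5760 : BT Fc := (BT.node (nat_lit 5792) (BT.node (nat_lit 5776) (BT.node (nat_lit 5768) (BT.node (nat_lit 5764) (BT.node (nat_lit 5762) (BT.node (nat_lit 5761) (BT.leaf ⟨(nat_lit 4), (nat_lit 1693), (nat_lit 0), (nat_lit 0xcd5a4bfece7e42d34711db0ce39473), (nat_lit 0), (nat_lit 0)⟩) (BT.leaf ⟨(nat_lit 4), (nat_lit 297), (nat_lit 0), (nat_lit 0x1eb746c6ef0b4d05bf8df3b74932f0d), (nat_lit 0), (nat_lit 0)⟩)) (BT.node (nat_lit 5763) (BT.leaf ⟨(nat_lit 5), (nat_lit 7), (nat_lit 0), (nat_lit 0x2000000000000000000000000000100000000000000000000000000000000000000000000000000000000000000000000000000000100000000000400000000000000000000000000000000000000000000000004000000000000000000000000000000000000000000000000000000000000000000000000000000000000000000000000000000000000000000000004000000000000000000000000000000000000000000000004000200800000000000004000000000000000000080000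00000000000000080000000000000080000008000000010080000000000000000000000000000000000000000000000000000000000000000000000000200000000000000000002000000000800000000000000000000082000000000000000000000000000000000000000000000000000000000000000000000000000000000000000000008000000000000000000000000000000800000000000000000000000000000000200000000000000000000000000000000000000000000000000800000000000000000820000000000000000000000002000000000000004000080000000000000004000000000000000000000000000a00080000010000000000000000000000001000004040000000000000000000000000040001), (nat_lit 0), (nat_lit 0)⟩) (BT.leaf ⟨(nat_lit 4), (nat_lit 1426), (nat_lit 0), (nat_lit 0x88109f58a70809022004843f8d030), (nat_lit 0), (nat_lit 0)⟩))) (BT.node (nat_lit 5766) (BT.node (nat_lit 5765) (BT.leaf ⟨(nat_lit 4), (nat_lit 1777), (nat_lit 0), (nat_lit 0x8137873e02896d5e806048010e8c77), (nat_lit 0), (nat_lit 0)⟩) (BT.leaf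 ⟨(nat_lit 4), (nat_lit 2170), (nat_lit 0), (nat_lit 0x80404c7202275000c014bde3010901), (nat_lit 0), (nat_lit 0)⟩)) (BT.node (nat_lit 5767) (BT.leaf ⟨(nat_lit 4), (nat_lit 2094), (nat_lit 0), (nat_lit 0x10ceae349b4d1ee29c630e73cccde73), (nat_lit 0), (nat_lit 0)⟩) (BT.leaf ⟨(nat_lit 4), (nat_lit 2545), (nat_lit 0), (nat_lit 0x1042009e8c0100a024400e797d9d5d5), (nat_lit 0), (nat_lit 0)⟩)))) (BT.node (nat_lit 5772) (BT.node (nat_lit 5770) (BT.node (nat_lit 5769) (BT.leaf ⟨(nat_lit 4), (nat_lit 2524), (nat_lit 0), (nat_lit 0x4fd660fa65f855b812725a4beae10f), (nat_lit 0), (nat_lit 0)⟩) (BT.leaf ⟨(nat_lit 4), (nat_lit 2066), (nat_lit 0), (nat_lit 0x2b7b471045272f501225a208eba02), (nat_lit 0), (nat_lit 0)⟩)) (BT.node (nat_lit 5771) (BT.leaf ⟨(nat_lit 4), (nat_lit 2065), (nat_lit 0), (nat_lit 0x1e169a5d2f5ba8b468cbcb099589bfe), (nat_lit 0), (nat_lit 0)⟩) (BT.leaf ⟨(nat_lit 4), (nat_lit 2523),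 (nat_lit 0), (nat_lit 0x1a4cebd4bb4c715ea9ddcb0755c51f5), (nat_lit 0), (nat_lit 0)⟩))) (BT.node (nat_lit 5774) (BT.node (nat_lit 5773) (BT.leaf ⟨(nat_lit 4), (nat_lit 2883), (nat_lit 0), (nat_lit 0xd197a5000e6e3602440cbf8020809e), (nat_lit 0), (nat_lit 0)⟩) (BT.leaf ⟨(nat_lit 4), (nat_lit 3232), (nat_lit 0), (nat_lit 0x87dc524fd8295d3fd19cbfeddafe2c), (nat_lit 0), (nat_lit 0)⟩)) (BT.node (nat_lit 5775) (BT.leaf ⟨(nat_lit 4), (nat_lit 3444), (nat_lit 0), (nat_lit 0xe8df0be7efbf8db1cd95c6f0df5bf3), (nat_lit 0), (nat_lit 0)⟩) (BT.leaf ⟨(nat_lit 4), (nat_lit 3426), (nat_lit 0), (nat_lit 0x18e9af90822191ab99405c6c008259e), (nat_lit 0), (nat_lit 0)⟩))))) (BT.node (nat_lit 5784) (BT.node (nat_lit 5780) (BT.node (nat_lit 5778) (BT.node (nat_lit 5777) (BT.leaf ⟨(nat_lit 4), (nat_lit 3425), (nat_lit 0), (nat_lit 0x160db62395525695cb9657bb2affab1), (nat_lit 0), (nat_lit 0)⟩) (BT.leaf ⟨(nat_lit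 4), (nat_lit 1688), (nat_lit 0), (nat_lit 0x2073a239f74200c070d901f196f8a0), (nat_lit 0), (nat_lit 0)⟩)) (BT.node (nat_lit 5779) (BT.leaf ⟨(nat_lit 4), (nat_lit 2020), (nat_lit 0), (nat_lit 0x804f1a20a7417ea3204400843007e8), (nat_lit 0), (nat_lit 0)⟩) (BT.leaf ⟨(nat_lit 4), (nat_lit 2493), (nat_lit 0), (nat_lit 0x124f400bd07555c8014001001073a), (nat_lit 0), (nat_lit 0)⟩))) (BT.node (nat_lit 5782) (BT.node (nat_lit 5781) (BT.leaf ⟨(nat_lit 4), (nat_lit 2835), (nat_lit 0), (nat_lit 0x1a38f44bd48080512d044aecebc02), (nat_lit 0), (nat_lit 0)⟩) (BT.leaf ⟨(nat_lit 4), (nat_lit 2832), (nat_lit 0), (nat_lit 0x43c101f58400878d0240440c3b35c8), (nat_lit 0), (nat_lit 0)⟩)) (BT.node (nat_lit 5783) (BT.leaf ⟨(nat_lit 4), (nat_lit 2650), (nat_lit 0), (nat_lit 0x6be0f088900208c070df8dee840955), (nat_lit 0), (nat_lit 0)⟩) (BT.leaf ⟨(nat_lit 4), (nat_lit 2256), (nat_lit 0), (nat_lit 0x32fb3747d27d0957669f8d7ffa7346),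 (nat_lit 0), (nat_lit 0)⟩)))) (BT.node (nat_lit 5788) (BT.node (nat_lit 5786) (BT.node (nat_lit 5785) (BT.leaf ⟨(nat_lit 4), (nat_lit 2255), (nat_lit 0), (nat_lit 0x11b9f1ae346cd8dd19bc7d782df3be2), (nat_lit 0), (nat_lit 0)⟩) (BT.leaf ⟨(nat_lit 4), (nat_lit 1074), (nat_lit 0), (nat_lit 0x80a4e0060251c7c7f44bd4f8481082), (nat_lit 0), (nat_lit 0)⟩)) (BT.node (nat_lit 5787) (BT.leaf ⟨(nat_lit 4), (nat_lit 804), (nat_lit 0), (nat_lit 0xabaf44e8ad10f6d47e8bd5722f65f8), (nat_lit 0), (nat_lit 0)⟩) (BT.leaf ⟨(nat_lit 4), (nat_lit 813), (nat_lit 0), (nat_lit 0x127bbecdeb3c9aa4754b749b06d8c1e), (nat_lit 0), (nat_lit 0)⟩))) (BT.node (nat_lit 5790) (BT.node (nat_lit 5789) (BT.leaf ⟨(nat_lit 4), (nat_lit 1082), (nat_lit 0), (nat_lit 0x1bbf9f615f742df8d73a749ccbbd63a), (nat_lit 0), (nat_lit 0)⟩) (BT.leaf ⟨(nat_lit 4), (nat_lit 1316), (nat_lit 0), (nat_lit 0x175601410900278f4401881081c6d2f), (nat_lit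 0), (nat_lit 0)⟩)) (BT.node (nat_lit 5791) (BT.leaf ⟨(nat_lit 4), (nat_lit 1687), (nat_lit 0), (nat_lit 0x107bd7cd2de100a019588087c280c0), (nat_lit 0), (nat_lit 0)⟩) (BT.leaf ⟨(nat_lit 4), (nat_lit 2019), (nat_lit 0), (nat_lit 0x11ca3b99bab81cd9aeca8c75ce39bfe), (nat_lit 0), (nat_lit 0)⟩)))))) (BT.node (nat_lit 5808) (BT.node (nat_lit 5800) (BT.node (nat_lit 5796) (BT.node (nat_lit 5794) (BT.node (nat_lit 5793) (BT.leaf ⟨(nat_lit 4), (nat_lit 2104), (nat_lit 0), (nat_lit 0x35790a36d26754eb955b4c715c51dd), (nat_lit 0), (nat_lit 0)⟩) (BT.leaf ⟨(nat_lit 4), (nat_lit 2103), (nat_lit 0), (nat_lit 0xee45cf51bffb2ac1d341ccaed5c95a), (nat_lit 0), (nat_lit 0)⟩)) (BT.node (nat_lit 5795) (BT.leaf ⟨(nat_lit 4), (nat_lit 2552), (nat_lit 0), (nat_lit 0x1749c525f378b7d2bb5f1cc87fdbd19), (nat_lit 0), (nat_lit 0)⟩) (BT.leaf ⟨(nat_lit 4), (nat_lit 797), (nat_lit 0), (nat_lit 0x15956fcab37896dafb70d838b28c85f),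 (nat_lit 0), (nat_lit 0)⟩))) (BT.node (nat_lit 5798) (BT.node (nat_lit 5797) (BT.leaf ⟨(nat_lit 4), (nat_lit 643), (nat_lit 0), (nat_lit 0x16c64f3d8d3d27e473a4d822793577d), (nat_lit 0), (nat_lit 0)⟩) (BT.leaf ⟨(nat_lit 4), (nat_lit 642), (nat_lit 0), (nat_lit 0x131d32ce8fd1ede1edea6397e2f4aae), (nat_lit 0), (nat_lit 0)⟩)) (BT.node (nat_lit 5799) (BT.leaf ⟨(nat_lit 4), (nat_lit 796), (nat_lit 0), (nat_lit 0x1bd9356f536473a8bfdb638a1ffa4f4), (nat_lit 0), (nat_lit 0)⟩) (BT.leaf ⟨(nat_lit 4), (nat_lit 1062), (nat_lit 0), (nat_lit 0x1e3fc2d8d197a35ff5d216ff3532e58), (nat_lit 0), (nat_lit 0)⟩)))) (BT.node (nat_lit 5804) (BT.node (nat_lit 5802) (BT.node (nat_lit 5801) (BT.leaf ⟨(nat_lit 4), (nat_lit 1284), (nat_lit 0), (nat_lit 0x1596c1ad2ddfc6b9df3816fcaa9d07c), (nat_lit 0), (nat_lit 0)⟩) (BT.leaf ⟨(nat_lit 4), (nat_lit 1652), (nat_lit 0), (nat_lit 0xb7c404f32abc364008450020450568), (nat_lit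 0), (nat_lit 0)⟩)) (BT.node (nat_lit 5803) (BT.leaf ⟨(nat_lit 4), (nat_lit 1972), (nat_lit 0), (nat_lit 0x8129d220fd080aa305f50090339bd5), (nat_lit 0), (nat_lit 0)⟩) (BT.leaf ⟨(nat_lit 4), (nat_lit 2451), (nat_lit 0), (nat_lit 0x124f1d5bd11cc2078d004f8c40400), (nat_lit 0), (nat_lit 0)⟩))) (BT.node (nat_lit 5806) (BT.node (nat_lit 5805) (BT.leaf ⟨(nat_lit 4), (nat_lit 3194), (nat_lit 0), (nat_lit 0x30043eb015e14246fc0500623da08), (nat_lit 0), (nat_lit 0)⟩) (BT.leaf ⟨(nat_lit 4), (nat_lit 2445), (nat_lit 0), (nat_lit 0x1ced9d77ae55ce03e7bac754e8e72d2), (nat_lit 0), (nat_lit 0)⟩)) (BT.node (nat_lit 5807) (BT.leaf ⟨(nat_lit 4), (nat_lit 2783), (nat_lit 0), (nat_lit 0x600907f49d035480101c75678a0110), (nat_lit 0), (nat_lit 0)⟩) (BT.leaf ⟨(nat_lit 4), (nat_lit 2614), (nat_lit 0), (nat_lit 0x6bc95e6998f85493b702de4bc7d7db), (nat_lit 0), (nat_lit 0)⟩))))) (BT.node (nat_lit 5816) (BT.node (nat_lit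 5812) (BT.node (nat_lit 5810) (BT.node (nat_lit 5809) (BT.leaf ⟨(nat_lit 4), (nat_lit 2189), (nat_lit 0), (nat_lit 0x87ca0195d68104280c02de903835a8), (nat_lit 0), (nat_lit 0)⟩) (BT.leaf ⟨(nat_lit 4), (nat_lit 2190), (nat_lit 0), (nat_lit 0x96df3decde1d090273e00aaf49580c), (nat_lit 0), (nat_lit 0)⟩)) (BT.node (nat_lit 5811) (BT.leaf ⟨(nat_lit 4), (nat_lit 2615), (nat_lit 0), (nat_lit 0x1cee3912e013e30ea25e00a006f4ef5), (nat_lit 0), (nat_lit 0)⟩) (BT.leaf ⟨(nat_lit 4), (nat_lit 2997), (nat_lit 0), (nat_lit 0xcea106008110104f4023d1755c6d2f), (nat_lit 0), (nat_lit 0)⟩))) (BT.node (nat_lit 5814) (BT.node (nat_lit 5813) (BT.leaf ⟨(nat_lit 4), (nat_lit 3182), (nat_lit 0), (nat_lit 0x17aaf4a6598fedd8e2d23d1d47f45e0), (nat_lit 0), (nat_lit 0)⟩) (BT.leaf ⟨(nat_lit 4), (nat_lit 3181), (nat_lit 0), (nat_lit 0x10a19cde2df100280c0481ad10ffcd), (nat_lit 0), (nat_lit 0)⟩)) (BT.node (nat_lit 5815)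 (BT.leaf ⟨(nat_lit 4), (nat_lit 3396), (nat_lit 0), (nat_lit 0xa03f405fb1b4e904202480f574f32f), (nat_lit 0), (nat_lit 0)⟩) (BT.leaf ⟨(nat_lit 4), (nat_lit 3509), (nat_lit 0), (nat_lit 0xd8df13f38dce8df1ca5efafae6c9bc), (nat_lit 0), (nat_lit 0)⟩)))) (BT.node (nat_lit 5820) (BT.node (nat_lit 5818) (BT.node (nat_lit 5817) (BT.leaf ⟨(nat_lit 4), (nat_lit 3402), (nat_lit 0), (nat_lit 0xf634f3a4d83272d8c1eefa9aa47313), (nat_lit 0), (nat_lit 0)⟩) (BT.leaf ⟨(nat_lit 4), (nat_lit 3401), (nat_lit 0), (nat_lit 0x1d9ae40204fef0d4c82406043c1171a), (nat_lit 0), (nat_lit 0)⟩)) (BT.node (nat_lit 5819) (BT.leaf ⟨(nat_lit 4), (nat_lit 3516), (nat_lit 0), (nat_lit 0x5247012e54243cef560600600824f), (nat_lit 0), (nat_lit 0)⟩) (BT.leaf ⟨(nat_lit 4), (nat_lit 3515), (nat_lit 0), (nat_lit 0x11df39eca69314ed30738e6ffa79c71), (nat_lit 0), (nat_lit 0)⟩))) (BT.node (nat_lit 5822) (BT.node (nat_lit 5821) (BT.leaf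 ⟨(nat_lit 4), (nat_lit 2480), (nat_lit 0), (nat_lit 0x14bc95b702deb3087ea235e49ed8e69), (nat_lit 0), (nat_lit 0)⟩) (BT.leaf ⟨(nat_lit 4), (nat_lit 2004), (nat_lit 0), (nat_lit 0x1c344041ef8c2084848035fee96f8c0), (nat_lit 0), (nat_lit 0)⟩)) (BT.node (nat_lit 5823) (BT.leaf ⟨(nat_lit 4), (nat_lit 2005), (nat_lit 0), (nat_lit 0x1e255e844e8496f9f3e700c81095824), (nat_lit 0), (nat_lit 0)⟩) (BT.leaf ⟨(nat_lit 4), (nat_lit 2481), (nat_lit 0), (nat_lit 0xf863892d045bda4e78f00c02821744), (nat_lit 0), (nat_lit 0)⟩)))))))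
noncomputable def cP5760 : BT Pf := (BT.node (nat_lit 5792) (BT.node (nat_lit 5776) (BT.node (nat_lit 5768) (BT.node (nat_lit 5764) (BT.node (nat_lit 5762) (BT.node (nat_lit 5761) (BT.leaf (.pt (nat_lit 5759) (nat_lit 1))) (BT.leaf (.pt (nat_lit 5495) (nat_lit 3)))) (BT.node (nat_lit 5763) (BT.leaf (.cov [] [⟨(nat_lit 776), (nat_lit 4484), []⟩, ⟨(nat_lit 779), (nat_lit 5692), [(nat_lit 261), (nat_lit 287)]⟩, ⟨(nat_lit 792), (nat_lit 5695), [(nat_lit 351), (nat_lit 390)]⟩, ⟨(nat_lit 796), (nat_lit 5697), [(nat_lit 568), (nat_lit 110)]⟩, ⟨(nat_lit 803), (nat_lit 5401), [(nat_lit 568), (nat_lit 235)]⟩, ⟨(nat_lit 807), (nat_lit 5704), [(nat_lit 569), (nat_lit 495)]⟩, ⟨(nat_lit 819), (nat_lit 5693), [(nat_lit 511), (nat_lit 1141)]⟩, ⟨(nat_lit 830), (nat_lit 5705), [(nat_lit 587), (nat_lit 646)]⟩, ⟨(nat_lit 836), (nat_lit 5708), [(nat_lit 510), (nat_lit 440)]⟩, ⟨(nat_lit 837), (nat_lit 5709),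 [(nat_lit 214), (nat_lit 1939)]⟩, ⟨(nat_lit 839), (nat_lit 4601), [(nat_lit 240), (nat_lit 334)]⟩, ⟨(nat_lit 844), (nat_lit 5713), [(nat_lit 216), (nat_lit 191)]⟩, ⟨(nat_lit 852), (nat_lit 5689), [(nat_lit 94), (nat_lit 223)]⟩, ⟨(nat_lit 857), (nat_lit 5724), [(nat_lit 690), (nat_lit 1017)]⟩, ⟨(nat_lit 861), (nat_lit 5728), [(nat_lit 1174), (nat_lit 363)]⟩, ⟨(nat_lit 866), (nat_lit 4903), [(nat_lit 95), (nat_lit 253)]⟩, ⟨(nat_lit 869), (nat_lit 4842), [(nat_lit 394), (nat_lit 236)]⟩, ⟨(nat_lit 872), (nat_lit 4801), [(nat_lit 551), (nat_lit 506)]⟩, ⟨(nat_lit 876), (nat_lit 5733), [(nat_lit 292), (nat_lit 1348)]⟩, ⟨(nat_lit 879), (nat_lit 4829), [(nat_lit 356), (nat_lit 597)]⟩, ⟨(nat_lit 884), (nat_lit 5737), [(nat_lit 284), (nat_lit 1256)]⟩, ⟨(nat_lit 886), (nat_lit 5740), [(nat_lit 165), (nat_lit 512)]⟩, ⟨(nat_lit 890), (nat_lit 5587), [(nat_lit 1026), (nat_lit 222)]⟩, ⟨(nat_lit 895),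 (nat_lit 4945), [(nat_lit 434), (nat_lit 737)]⟩, ⟨(nat_lit 899), (nat_lit 5598), [(nat_lit 829), (nat_lit 1745)]⟩, ⟨(nat_lit 903), (nat_lit 5742), [(nat_lit 266), (nat_lit 460)]⟩, ⟨(nat_lit 904), (nat_lit 5743), [(nat_lit 473), (nat_lit 109)]⟩, ⟨(nat_lit 907), (nat_lit 4695), [(nat_lit 746), (nat_lit 556)]⟩, ⟨(nat_lit 908), (nat_lit 5749), [(nat_lit 282), (nat_lit 390)]⟩, ⟨(nat_lit 909), (nat_lit 5752), [(nat_lit 941), (nat_lit 91)]⟩, ⟨(nat_lit 912), (nat_lit 4703), [(nat_lit 295), (nat_lit 289)]⟩, ⟨(nat_lit 929), (nat_lit 4954), [(nat_lit 152), (nat_lit 1226)]⟩, ⟨(nat_lit 931), (nat_lit 4696), [(nat_lit 470), (nat_lit 717)]⟩, ⟨(nat_lit 933), (nat_lit 4907), [(nat_lit 97), (nat_lit 736)]⟩, ⟨(nat_lit 939), (nat_lit 4726), [(nat_lit 176), (nat_lit 319)]⟩, ⟨(nat_lit 940), (nat_lit 4645), [(nat_lit 300), (nat_lit 490)]⟩, ⟨(nat_lit 944), (nat_lit 5760), [(nat_lit 761), (nat_lit 578)]⟩,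 ⟨(nat_lit 947), (nat_lit 5180), [(nat_lit 943), (nat_lit 396)]⟩, ⟨(nat_lit 948), (nat_lit 5761), [(nat_lit 507), (nat_lit 477)]⟩, ⟨(nat_lit 954), (nat_lit 5413), [(nat_lit 521), (nat_lit 586)]⟩])) (BT.leaf (.pt (nat_lit 4924) (nat_lit 4))))) (BT.node (nat_lit 5766) (BT.node (nat_lit 5765) (BT.leaf (.pt (nat_lit 5763) (nat_lit 1))) (BT.leaf (.pt (nat_lit 5764) (nat_lit 3)))) (BT.node (nat_lit 5767) (BT.leaf (.pt (nat_lit 5038) (nat_lit 3))) (BT.leaf (.pt (nat_lit 5766) (nat_lit 1)))))) (BT.node (nat_lit 5772) (BT.node (nat_lit 5770) (BT.node (nat_lit 5769) (BT.leaf (.pt (nat_lit 5767) (nat_lit 3))) (BT.leaf (.pt (nat_lit 5768) (nat_lit 1)))) (BT.node (nat_lit 5771) (BT.leaf (.pt (nat_lit 5769) (nat_lit 4))) (BT.leaf (.pt (nat_lit 5770) (nat_lit 1))))) (BT.node (nat_lit 5774) (BT.node (nat_lit 5773) (BT.leaf (.pt (nat_lit 5771) (nat_lit 4))) (BT.leaf (.pt (nat_lit 5772) (nat_lit 1))))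 (BT.node (nat_lit 5775) (BT.leaf (.pt (nat_lit 5773) (nat_lit 4))) (BT.leaf (.pt (nat_lit 5774) (nat_lit 1))))))) (BT.node (nat_lit 5784) (BT.node (nat_lit 5780) (BT.node (nat_lit 5778) (BT.node (nat_lit 5777) (BT.leaf (.pt (nat_lit 5775) (nat_lit 4))) (BT.leaf (.pt (nat_lit 5591) (nat_lit 1)))) (BT.node (nat_lit 5779) (BT.leaf (.pt (nat_lit 5777) (nat_lit 3))) (BT.leaf (.pt (nat_lit 5778) (nat_lit 1))))) (BT.node (nat_lit 5782) (BT.node (nat_lit 5781) (BT.leaf (.pt (nat_lit 5779) (nat_lit 4))) (BT.leaf (.pt (nat_lit 5780) (nat_lit 1)))) (BT.node (nat_lit 5783) (BT.leaf (.pt (nat_lit 5781) (nat_lit 4))) (BT.leaf (.pt (nat_lit 5782) (nat_lit 1)))))) (BT.node (nat_lit 5788) (BT.node (nat_lit 5786) (BT.node (nat_lit 5785) (BT.leaf (.pt (nat_lit 5783) (nat_lit 4))) (BT.leaf (.pt (nat_lit 5024) (nat_lit 4)))) (BT.node (nat_lit 5787) (BT.leaf (.pt (nat_lit 5785) (nat_lit 1))) (BT.leaf (.pt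 (nat_lit 5751) (nat_lit 4))))) (BT.node (nat_lit 5790) (BT.node (nat_lit 5789) (BT.leaf (.pt (nat_lit 5787) (nat_lit 1))) (BT.leaf (.pt (nat_lit 5788) (nat_lit 4)))) (BT.node (nat_lit 5791) (BT.leaf (.pt (nat_lit 5789) (nat_lit 1))) (BT.leaf (.pt (nat_lit 5790) (nat_lit 4)))))))) (BT.node (nat_lit 5808) (BT.node (nat_lit 5800) (BT.node (nat_lit 5796) (BT.node (nat_lit 5794) (BT.node (nat_lit 5793) (BT.leaf (.pt (nat_lit 5187) (nat_lit 1))) (BT.leaf (.pt (nat_lit 5792) (nat_lit 4)))) (BT.node (nat_lit 5795) (BT.leaf (.pt (nat_lit 5793) (nat_lit 1))) (BT.leaf (.pt (nat_lit 4831) (nat_lit 4))))) (BT.node (nat_lit 5798) (BT.node (nat_lit 5797) (BT.leaf (.pt (nat_lit 5795) (nat_lit 1))) (BT.leaf (.pt (nat_lit 5796) (nat_lit 4)))) (BT.node (nat_lit 5799) (BT.leaf (.pt (nat_lit 5797) (nat_lit 1))) (BT.leaf (.pt (nat_lit 5798) (nat_lit 3)))))) (BT.node (nat_lit 5804) (BT.node (nat_lit 5802)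 (BT.node (nat_lit 5801) (BT.leaf (.pt (nat_lit 5799) (nat_lit 1))) (BT.leaf (.pt (nat_lit 5800) (nat_lit 4)))) (BT.node (nat_lit 5803) (BT.leaf (.pt (nat_lit 5801) (nat_lit 1))) (BT.leaf (.pt (nat_lit 5802) (nat_lit 3))))) (BT.node (nat_lit 5806) (BT.node (nat_lit 5805) (BT.leaf (.pt (nat_lit 5364) (nat_lit 3))) (BT.leaf (.pt (nat_lit 4902) (nat_lit 3)))) (BT.node (nat_lit 5807) (BT.leaf (.pt (nat_lit 5805) (nat_lit 1))) (BT.leaf (.pt (nat_lit 5806) (nat_lit 4))))))) (BT.node (nat_lit 5816) (BT.node (nat_lit 5812) (BT.node (nat_lit 5810) (BT.node (nat_lit 5809) (BT.leaf (.pt (nat_lit 5807) (nat_lit 1))) (BT.leaf (.pt (nat_lit 5808) (nat_lit 3)))) (BT.node (nat_lit 5811) (BT.leaf (.pt (nat_lit 5809) (nat_lit 1))) (BT.leaf (.pt (nat_lit 5810) (nat_lit 4))))) (BT.node (nat_lit 5814) (BT.node (nat_lit 5813) (BT.leaf (.pt (nat_lit 5811) (nat_lit 1))) (BT.leaf (.pt (nat_lit 5812) (nat_lit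 4)))) (BT.node (nat_lit 5815) (BT.leaf (.pt (nat_lit 5813) (nat_lit 1))) (BT.leaf (.pt (nat_lit 5814) (nat_lit 4)))))) (BT.node (nat_lit 5820) (BT.node (nat_lit 5818) (BT.node (nat_lit 5817) (BT.leaf (.pt (nat_lit 5815) (nat_lit 1))) (BT.leaf (.pt (nat_lit 5816) (nat_lit 4)))) (BT.node (nat_lit 5819) (BT.leaf (.pt (nat_lit 5817) (nat_lit 1))) (BT.leaf (.pt (nat_lit 5818) (nat_lit 4))))) (BT.node (nat_lit 5822) (BT.node (nat_lit 5821) (BT.leaf (.pt (nat_lit 4631) (nat_lit 4))) (BT.leaf (.pt (nat_lit 5820) (nat_lit 1)))) (BT.node (nat_lit 5823) (BT.leaf (.pt (nat_lit 5821) (nat_lit 3))) (BT.leaf (.pt (nat_lit 5822) (nat_lit 1)))))))))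
noncomputable def cF5824 : BT Fc := (BT.node (nat_lit 5856) (BT.node (nat_lit 5840) (BT.node (nat_lit 5832) (BT.node (nat_lit 5828) (BT.node (nat_lit 5826) (BT.node (nat_lit 5825) (BT.leaf ⟨(nat_lit 4), (nat_lit 1290), (nat_lit 0), (nat_lit 0x18035cc00cbee34f4402a0100439c04), (nat_lit 0), (nat_lit 0)⟩) (BT.leaf ⟨(nat_lit 4), (nat_lit 1068), (nat_lit 0), (nat_lit 0x40acf5732086006ab00a005008035f), (nat_lit 0), (nat_lit 0)⟩)) (BT.node (nat_lit 5827) (BT.leaf ⟨(nat_lit 4), (nat_lit 1069), (nat_lit 0), (nat_lit 0xaed548e657aae57cd344731375cf51), (nat_lit 0), (nat_lit 0)⟩) (BT.leaf ⟨(nat_lit 4), (nat_lit 1291), (nat_lit 0), (nat_lit 0x1c37dd480ad06be798824722056f884), (nat_lit 0), (nat_lit 0)⟩))) (BT.node (nat_lit 5830) (BT.node (nat_lit 5829) (BT.leaf ⟨(nat_lit 4), (nat_lit 1663), (nat_lit 0), (nat_lit 0x1e7647014bf093c0881027efcd54850), (nat_lit 0), (nat_lit 0)⟩) (BT.leaf ⟨(nat_lit 4),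 (nat_lit 1982), (nat_lit 0), (nat_lit 0x4bc87b962df9a697ea227ff6c95cc7), (nat_lit 0), (nat_lit 0)⟩)) (BT.node (nat_lit 5831) (BT.leaf ⟨(nat_lit 4), (nat_lit 3683), (nat_lit 0), (nat_lit 0x777993eb24e06004888410ac7c2c96), (nat_lit 0), (nat_lit 0)⟩) (BT.leaf ⟨(nat_lit 4), (nat_lit 3550), (nat_lit 0), (nat_lit 0xa012058dd3dfa339bd5411800f1b2f), (nat_lit 0), (nat_lit 0)⟩)))) (BT.node (nat_lit 5836) (BT.node (nat_lit 5834) (BT.node (nat_lit 5833) (BT.leaf ⟨(nat_lit 4), (nat_lit 3341), (nat_lit 0), (nat_lit 0x1eeab2e157493659d72a5a473b9973b), (nat_lit 0), (nat_lit 0)⟩) (BT.leaf ⟨(nat_lit 4), (nat_lit 3393), (nat_lit 0), (nat_lit 0x1c6812028044880901f5840085e1c53), (nat_lit 0), (nat_lit 0)⟩)) (BT.node (nat_lit 5835) (BT.leaf ⟨(nat_lit 4), (nat_lit 1645), (nat_lit 0), (nat_lit 0x915e805934210222048ef7b378014), (nat_lit 0), (nat_lit 0)⟩) (BT.leaf ⟨(nat_lit 4), (nat_lit 1479), (nat_lit 0), (nat_lit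 0x19cda4a878c7573c84538eecd6390ed), (nat_lit 0), (nat_lit 0)⟩))) (BT.node (nat_lit 5838) (BT.node (nat_lit 5837) (BT.leaf ⟨(nat_lit 4), (nat_lit 1180), (nat_lit 0), (nat_lit 0x82004048030030051dd012fac93efc), (nat_lit 0), (nat_lit 0)⟩) (BT.leaf ⟨(nat_lit 4), (nat_lit 941), (nat_lit 0), (nat_lit 0x7523912edea0864fa010137a420811), (nat_lit 0), (nat_lit 0)⟩)) (BT.node (nat_lit 5839) (BT.leaf ⟨(nat_lit 4), (nat_lit 942), (nat_lit 0), (nat_lit 0x75600010de8102f4004041e3404002), (nat_lit 0), (nat_lit 0)⟩) (BT.leaf ⟨(nat_lit 4), (nat_lit 1181), (nat_lit 0), (nat_lit 0x913f828044480879f5040f0c186d4), (nat_lit 0), (nat_lit 0)⟩))))) (BT.node (nat_lit 5848) (BT.node (nat_lit 5844) (BT.node (nat_lit 5842) (BT.node (nat_lit 5841) (BT.leaf ⟨(nat_lit 4), (nat_lit 1482), (nat_lit 0), (nat_lit 0xaf6c1f51576ae6ffa39552e59dcab1), (nat_lit 0), (nat_lit 0)⟩) (BT.leaf ⟨(nat_lit 4), (nat_lit 1825), (nat_lit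 0), (nat_lit 0x2401811003071772014553e76fc012), (nat_lit 0), (nat_lit 0)⟩)) (BT.node (nat_lit 5843) (BT.leaf ⟨(nat_lit 4), (nat_lit 2242), (nat_lit 0), (nat_lit 0x2052f747012ae24fa01bd3bd4ea101), (nat_lit 0), (nat_lit 0)⟩) (BT.leaf ⟨(nat_lit 4), (nat_lit 2287), (nat_lit 0), (nat_lit 0x1fa2fc43d9d17b2f5568bd331d575e0), (nat_lit 0), (nat_lit 0)⟩))) (BT.node (nat_lit 5846) (BT.node (nat_lit 5845) (BT.leaf ⟨(nat_lit 4), (nat_lit 2288), (nat_lit 0), (nat_lit 0x17f162576bf465b80e64b66f12f6c1), (nat_lit 0), (nat_lit 0)⟩) (BT.leaf ⟨(nat_lit 4), (nat_lit 590), (nat_lit 0), (nat_lit 0x1a7b000b9ce6841207e8400a02c6cf4), (nat_lit 0), (nat_lit 0)⟩)) (BT.node (nat_lit 5847) (BT.leaf ⟨(nat_lit 4), (nat_lit 745), (nat_lit 0), (nat_lit 0x17a08078dde8757a349e4000055cc73), (nat_lit 0), (nat_lit 0)⟩) (BT.leaf ⟨(nat_lit 4), (nat_lit 982), (nat_lit 0), (nat_lit 0x17b095844de0811f380c57bd08e8f89), (nat_lit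 0), (nat_lit 0)⟩)))) (BT.node (nat_lit 5852) (BT.node (nat_lit 5850) (BT.node (nat_lit 5849) (BT.leaf ⟨(nat_lit 4), (nat_lit 1133), (nat_lit 0), (nat_lit 0x11cc02001f1b278203e33ab7a200746), (nat_lit 0), (nat_lit 0)⟩) (BT.leaf ⟨(nat_lit 4), (nat_lit 885), (nat_lit 0), (nat_lit 0x8db77dd5d263e9c55a63aa75cea658), (nat_lit 0), (nat_lit 0)⟩)) (BT.node (nat_lit 5851) (BT.leaf ⟨(nat_lit 4), (nat_lit 884), (nat_lit 0), (nat_lit 0x145e26eb4365bd3726d4deb2afedaf4), (nat_lit 0), (nat_lit 0)⟩) (BT.leaf ⟨(nat_lit 4), (nat_lit 3693), (nat_lit 0), (nat_lit 0x7552fc7325e80002020f1a004083e3), (nat_lit 0), (nat_lit 0)⟩))) (BT.node (nat_lit 5854) (BT.node (nat_lit 5853) (BT.leaf ⟨(nat_lit 4), (nat_lit 3568), (nat_lit 0), (nat_lit 0x1eb7c2f9d8ddc3589e58f1ae35ff6a2), (nat_lit 0), (nat_lit 0)⟩) (BT.leaf ⟨(nat_lit 4), (nat_lit 3567), (nat_lit 0), (nat_lit 0x4831d1045c6403fa646ae7678c0110), (nat_lit 0), (nat_lit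 0)⟩)) (BT.node (nat_lit 5855) (BT.leaf ⟨(nat_lit 4), (nat_lit 3692), (nat_lit 0), (nat_lit 0xcd5ff4f38c769aae453ae71ca3bf90), (nat_lit 0), (nat_lit 0)⟩) (BT.leaf ⟨(nat_lit 4), (nat_lit 3638), (nat_lit 0), (nat_lit 0x1f39c4d9e55cfb9df3addf60f1d1ce), (nat_lit 0), (nat_lit 0)⟩)))))) (BT.node (nat_lit 5872) (BT.node (nat_lit 5864) (BT.node (nat_lit 5860) (BT.node (nat_lit 5858) (BT.node (nat_lit 5857) (BT.leaf ⟨(nat_lit 4), (nat_lit 3457), (nat_lit 0), (nat_lit 0x754ca8d5e430f4aae93ddf52d1b1c5), (nat_lit 0), (nat_lit 0)⟩) (BT.leaf ⟨(nat_lit 4), (nat_lit 3458), (nat_lit 0), (nat_lit 0xbc7812decf864e006bd500b9c003), (nat_lit 0), (nat_lit 0)⟩)) (BT.node (nat_lit 5859) (BT.leaf ⟨(nat_lit 4), (nat_lit 1551), (nat_lit 0), (nat_lit 0xb8f1d10822035417d736004028059e), (nat_lit 0), (nat_lit 0)⟩) (BT.leaf ⟨(nat_lit 4), (nat_lit 1885), (nat_lit 0), (nat_lit 0x19cc5ce00d3c901101e360080904210), (nat_lit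 0), (nat_lit 0)⟩))) (BT.node (nat_lit 5862) (BT.node (nat_lit 5861) (BT.leaf ⟨(nat_lit 4), (nat_lit 2331), (nat_lit 0), (nat_lit 0xd24e772a749ccb9c6efef41f31d615), (nat_lit 0), (nat_lit 0)⟩) (BT.leaf ⟨(nat_lit 4), (nat_lit 2709), (nat_lit 0), (nat_lit 0x654209402de30220433ef4100284de), (nat_lit 0), (nat_lit 0)⟩)) (BT.node (nat_lit 5863) (BT.leaf ⟨(nat_lit 4), (nat_lit 3100), (nat_lit 0), (nat_lit 0x1c8626a6afb7b937a6fcce92ace76f6), (nat_lit 0), (nat_lit 0)⟩) (BT.leaf ⟨(nat_lit 4), (nat_lit 268), (nat_lit 0), (nat_lit 0xbe5d18c0d69f34a00484805bfbd440), (nat_lit 0), (nat_lit 0)⟩)))) (BT.node (nat_lit 5868) (BT.node (nat_lit 5866) (BT.node (nat_lit 5865) (BT.leaf ⟨(nat_lit 4), (nat_lit 1805), (nat_lit 0), (nat_lit 0xc721edec9d05d969265c17fa0cdaae), (nat_lit 0), (nat_lit 0)⟩) (BT.leaf ⟨(nat_lit 4), (nat_lit 2273), (nat_lit 0), (nat_lit 0x1deb9553a39cd266cd83f74ceab2f3e), (nat_lit 0), (nat_lit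 0)⟩)) (BT.node (nat_lit 5867) (BT.leaf ⟨(nat_lit 4), (nat_lit 2085), (nat_lit 0), (nat_lit 0x8e4412df109c34c00c0f7420540674), (nat_lit 0), (nat_lit 0)⟩) (BT.leaf ⟨(nat_lit 4), (nat_lit 1728), (nat_lit 0), (nat_lit 0x189e4f77d934e92d8976d3d67989ec1), (nat_lit 0), (nat_lit 0)⟩))) (BT.node (nat_lit 5870) (BT.node (nat_lit 5869) (BT.leaf ⟨(nat_lit 4), (nat_lit 1368), (nat_lit 0), (nat_lit 0x1fa14058d0be9027a0b9d3d800f1a04), (nat_lit 0), (nat_lit 0)⟩) (BT.leaf ⟨(nat_lit 4), (nat_lit 1367), (nat_lit 0), (nat_lit 0x10f4eb8fa71552cfae9346dc84cae58), (nat_lit 0), (nat_lit 0)⟩)) (BT.node (nat_lit 5871) (BT.leaf ⟨(nat_lit 4), (nat_lit 1892), (nat_lit 0), (nat_lit 0xe924717683cf634f4bed83df7138ed), (nat_lit 0), (nat_lit 0)⟩) (BT.leaf ⟨(nat_lit 4), (nat_lit 1081), (nat_lit 0), (nat_lit 0x108297d00809ae6087e371b10201480), (nat_lit 0), (nat_lit 0)⟩))))) (BT.node (nat_lit 5880) (BT.node (nat_lit 5876)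 (BT.node (nat_lit 5874) (BT.node (nat_lit 5873) (BT.leaf ⟨(nat_lit 4), (nat_lit 1455), (nat_lit 0), (nat_lit 0x1b9127f9d27efcf9509091c71408014), (nat_lit 0), (nat_lit 0)⟩) (BT.leaf ⟨(nat_lit 4), (nat_lit 1803), (nat_lit 0), (nat_lit 0x1078bb49e9352584f26a91c3b589db1), (nat_lit 0), (nat_lit 0)⟩)) (BT.node (nat_lit 5875) (BT.leaf ⟨(nat_lit 4), (nat_lit 2214), (nat_lit 0), (nat_lit 0xb7c733704b774b161bc4ae9fd27d65), (nat_lit 0), (nat_lit 0)⟩) (BT.leaf ⟨(nat_lit 4), (nat_lit 2041), (nat_lit 0), (nat_lit 0xfac04818e64820040884ae7749380c), (nat_lit 0), (nat_lit 0)⟩))) (BT.node (nat_lit 5878) (BT.node (nat_lit 5877) (BT.leaf ⟨(nat_lit 4), (nat_lit 2040), (nat_lit 0), (nat_lit 0xf8421471e70977a210225a00901012), (nat_lit 0), (nat_lit 0)⟩) (BT.leaf ⟨(nat_lit 4), (nat_lit 2504), (nat_lit 0), (nat_lit 0xbc93b2f27e6bc95acc25a43eae615), (nat_lit 0), (nat_lit 0)⟩)) (BT.node (nat_lit 5879) (BT.leaf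 ⟨(nat_lit 4), (nat_lit 836), (nat_lit 0), (nat_lit 0x102f40202000412f80825e7577a473), (nat_lit 0), (nat_lit 0)⟩) (BT.leaf ⟨(nat_lit 4), (nat_lit 1102), (nat_lit 0), (nat_lit 0x49c96fdbab9856d896f25fa888782f), (nat_lit 0), (nat_lit 0)⟩)))) (BT.node (nat_lit 5884) (BT.node (nat_lit 5882) (BT.node (nat_lit 5881) (BT.leaf ⟨(nat_lit 4), (nat_lit 1348), (nat_lit 0), (nat_lit 0x820f185fce680300546441a7a9d4f4), (nat_lit 0), (nat_lit 0)⟩) (BT.leaf ⟨(nat_lit 4), (nat_lit 1712), (nat_lit 0), (nat_lit 0x1d9887f1ada8180900284407d53fc53), (nat_lit 0), (nat_lit 0)⟩)) (BT.node (nat_lit 5883) (BT.leaf ⟨(nat_lit 4), (nat_lit 2059), (nat_lit 0), (nat_lit 0x1295b1f90a2e6f11b3e3746f88f1fe3), (nat_lit 0), (nat_lit 0)⟩) (BT.leaf ⟨(nat_lit 5), (nat_lit 7), (nat_lit 0), (nat_lit 0x820000000000004000000020000000200000000000020000000000000000000000000000000000004020000000000000000020010000000000000000000000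000000000000000000000000000000000000000000000000000000000000000000000000000000000000000000000000000000000000000000100000000000100000200000008000002000000000000000000400000000000000100000000800000000000000000000400000000000000000000000000080000000008000000004000000000000000000000100000000000000000000020000000000000000000000000000000000000000000000000000000000000000000000000000000000000000000000000000000000000800000000000000000000000000000000000000000000000000000000001000000000002040000000000000000000000400000000000000000000100100000000000000000001000000000000000000002000000000000000000000000000000000000080000000000008000000000000000000000000001000000000000000000000000000080000010000000008000000000000000000000000000000000000000000000020000000000), (nat_lit 0), (nat_lit 0)⟩))) (BT.node (nat_lit 5886) (BT.node (nat_lit 5885) (BT.leaf ⟨(nat_lit 4), (nat_lit 1043), (nat_lit 0), (nat_lit 0x774e2f213aee2b2c1d56d87d749da6),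 (nat_lit 0), (nat_lit 0)⟩) (BT.leaf ⟨(nat_lit 4), (nat_lit 1269), (nat_lit 0), (nat_lit 0xae5dcdffd95d45cb2b16d856a26abb), (nat_lit 0), (nat_lit 0)⟩)) (BT.node (nat_lit 5887) (BT.leaf ⟨(nat_lit 4), (nat_lit 1397), (nat_lit 0), (nat_lit 0x100607cd86665420c40d685bed4706), (nat_lit 0), (nat_lit 0)⟩) (BT.leaf ⟨(nat_lit 4), (nat_lit 1750), (nat_lit 0), (nat_lit 0xbd226b1c365bf37b6f4d69b50bca87), (nat_lit 0), (nat_lit 0)⟩)))))))
noncomputable def cP5824 : BT Pf := (BT.node (nat_lit 5856) (BT.node (nat_lit 5840) (BT.node (nat_lit 5832) (BT.node (nat_lit 5828) (BT.node (nat_lit 5826) (BT.node (nat_lit 5825) (BT.leaf (.pt (nat_lit 5099) (nat_lit 3))) (BT.leaf (.pt (nat_lit 5824) (nat_lit 1)))) (BT.node (nat_lit 5827) (BT.leaf (.pt (nat_lit 5825) (nat_lit 3))) (BT.leaf (.pt (nat_lit 5826) (nat_lit 1))))) (BT.node (nat_lit 5830) (BT.node (nat_lit 5829) (BT.leaf (.pt (nat_lit 5827) (nat_lit 3)))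 (BT.leaf (.pt (nat_lit 5828) (nat_lit 1)))) (BT.node (nat_lit 5831) (BT.leaf (.pt (nat_lit 5611) (nat_lit 4))) (BT.leaf (.pt (nat_lit 5830) (nat_lit 1)))))) (BT.node (nat_lit 5836) (BT.node (nat_lit 5834) (BT.node (nat_lit 5833) (BT.leaf (.pt (nat_lit 5831) (nat_lit 3))) (BT.leaf (.pt (nat_lit 5201) (nat_lit 1)))) (BT.node (nat_lit 5835) (BT.leaf (.pt (nat_lit 5196) (nat_lit 3))) (BT.leaf (.pt (nat_lit 5834) (nat_lit 1))))) (BT.node (nat_lit 5838) (BT.node (nat_lit 5837) (BT.leaf (.pt (nat_lit 5835) (nat_lit 4))) (BT.leaf (.pt (nat_lit 5836) (nat_lit 1)))) (BT.node (nat_lit 5839) (BT.leaf (.pt (nat_lit 5837) (nat_lit 3))) (BT.leaf (.pt (nat_lit 5838) (nat_lit 1))))))) (BT.node (nat_lit 5848) (BT.node (nat_lit 5844) (BT.node (nat_lit 5842) (BT.node (nat_lit 5841) (BT.leaf (.pt (nat_lit 5839) (nat_lit 4))) (BT.leaf (.pt (nat_lit 5840) (nat_lit 1)))) (BT.node (nat_lit 5843) (BT.leaf (.pt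 (nat_lit 5841) (nat_lit 4))) (BT.leaf (.pt (nat_lit 5842) (nat_lit 1))))) (BT.node (nat_lit 5846) (BT.node (nat_lit 5845) (BT.leaf (.pt (nat_lit 5843) (nat_lit 3))) (BT.leaf (.pt (nat_lit 5424) (nat_lit 4)))) (BT.node (nat_lit 5847) (BT.leaf (.pt (nat_lit 5845) (nat_lit 1))) (BT.leaf (.pt (nat_lit 5846) (nat_lit 4)))))) (BT.node (nat_lit 5852) (BT.node (nat_lit 5850) (BT.node (nat_lit 5849) (BT.leaf (.pt (nat_lit 4990) (nat_lit 3))) (BT.leaf (.pt (nat_lit 5848) (nat_lit 1)))) (BT.node (nat_lit 5851) (BT.leaf (.pt (nat_lit 5849) (nat_lit 4))) (BT.leaf (.pt (nat_lit 5611) (nat_lit 3))))) (BT.node (nat_lit 5854) (BT.node (nat_lit 5853) (BT.leaf (.pt (nat_lit 5851) (nat_lit 1))) (BT.leaf (.pt (nat_lit 5852) (nat_lit 4)))) (BT.node (nat_lit 5855) (BT.leaf (.pt (nat_lit 5853) (nat_lit 1))) (BT.leaf (.pt (nat_lit 5854) (nat_lit 3)))))))) (BT.node (nat_lit 5872) (BT.node (nat_lit 5864) (BT.node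 (nat_lit 5860) (BT.node (nat_lit 5858) (BT.node (nat_lit 5857) (BT.leaf (.pt (nat_lit 5855) (nat_lit 1))) (BT.leaf (.pt (nat_lit 5856) (nat_lit 3)))) (BT.node (nat_lit 5859) (BT.leaf (.pt (nat_lit 5000) (nat_lit 3))) (BT.leaf (.pt (nat_lit 5858) (nat_lit 1))))) (BT.node (nat_lit 5862) (BT.node (nat_lit 5861) (BT.leaf (.pt (nat_lit 5859) (nat_lit 3))) (BT.leaf (.pt (nat_lit 5860) (nat_lit 1)))) (BT.node (nat_lit 5863) (BT.leaf (.pt (nat_lit 5861) (nat_lit 3))) (BT.leaf (.pt (nat_lit 5645) (nat_lit 4)))))) (BT.node (nat_lit 5868) (BT.node (nat_lit 5866) (BT.node (nat_lit 5865) (BT.leaf (.pt (nat_lit 5286) (nat_lit 3))) (BT.leaf (.pt (nat_lit 5605) (nat_lit 4)))) (BT.node (nat_lit 5867) (BT.leaf (.pt (nat_lit 5865) (nat_lit 1))) (BT.leaf (.pt (nat_lit 5866) (nat_lit 4))))) (BT.node (nat_lit 5870) (BT.node (nat_lit 5869) (BT.leaf (.pt (nat_lit 5867) (nat_lit 1))) (BT.leaf (.pt (nat_lit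 5868) (nat_lit 4)))) (BT.node (nat_lit 5871) (BT.leaf (.pt (nat_lit 4801) (nat_lit 1))) (BT.leaf (.pt (nat_lit 5284) (nat_lit 4))))))) (BT.node (nat_lit 5880) (BT.node (nat_lit 5876) (BT.node (nat_lit 5874) (BT.node (nat_lit 5873) (BT.leaf (.pt (nat_lit 4753) (nat_lit 3))) (BT.leaf (.pt (nat_lit 5872) (nat_lit 1)))) (BT.node (nat_lit 5875) (BT.leaf (.pt (nat_lit 5873) (nat_lit 3))) (BT.leaf (.pt (nat_lit 5874) (nat_lit 1))))) (BT.node (nat_lit 5878) (BT.node (nat_lit 5877) (BT.leaf (.pt (nat_lit 5875) (nat_lit 4))) (BT.leaf (.pt (nat_lit 5876) (nat_lit 1)))) (BT.node (nat_lit 5879) (BT.leaf (.pt (nat_lit 4845) (nat_lit 4))) (BT.leaf (.pt (nat_lit 5878) (nat_lit 1)))))) (BT.node (nat_lit 5884) (BT.node (nat_lit 5882) (BT.node (nat_lit 5881) (BT.leaf (.pt (nat_lit 5879) (nat_lit 4))) (BT.leaf (.pt (nat_lit 5880) (nat_lit 1)))) (BT.node (nat_lit 5883) (BT.leaf (.pt (nat_lit 5881) (nat_lit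 3))) (BT.leaf (.cov [] [⟨(nat_lit 955), (nat_lit 5406), [(nat_lit 1106), (nat_lit 1216)]⟩, ⟨(nat_lit 958), (nat_lit 5765), [(nat_lit 299), (nat_lit 532)]⟩, ⟨(nat_lit 959), (nat_lit 5776), [(nat_lit 513), (nat_lit 585)]⟩, ⟨(nat_lit 960), (nat_lit 5784), [(nat_lit 953), (nat_lit 835)]⟩, ⟨(nat_lit 962), (nat_lit 5786), [(nat_lit 550), (nat_lit 1537)]⟩, ⟨(nat_lit 963), (nat_lit 5791), [(nat_lit 957), (nat_lit 712)]⟩, ⟨(nat_lit 964), (nat_lit 4493), [(nat_lit 359), (nat_lit 752)]⟩, ⟨(nat_lit 965), (nat_lit 5062), [(nat_lit 130), (nat_lit 1053)]⟩, ⟨(nat_lit 966), (nat_lit 5443), [(nat_lit 381), (nat_lit 263)]⟩, ⟨(nat_lit 971), (nat_lit 5794), [(nat_lit 484), (nat_lit 1017)]⟩, ⟨(nat_lit 973), (nat_lit 4746), [(nat_lit 1106), (nat_lit 751)]⟩, ⟨(nat_lit 975), (nat_lit 5803), [(nat_lit 520), (nat_lit 421)]⟩, ⟨(nat_lit 978), (nat_lit 4808), [(nat_lit 977), (nat_lit 171)]⟩, ⟨(nat_lit 980), (nat_lit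 5804), [(nat_lit 1032), (nat_lit 1140)]⟩, ⟨(nat_lit 983), (nat_lit 5819), [(nat_lit 733), (nat_lit 224)]⟩, ⟨(nat_lit 984), (nat_lit 5823), [(nat_lit 1102), (nat_lit 1410)]⟩, ⟨(nat_lit 986), (nat_lit 5829), [(nat_lit 953), (nat_lit 139)]⟩, ⟨(nat_lit 987), (nat_lit 5832), [(nat_lit 1174), (nat_lit 396)]⟩, ⟨(nat_lit 988), (nat_lit 5833), [(nat_lit 193), (nat_lit 556)]⟩, ⟨(nat_lit 993), (nat_lit 5844), [(nat_lit 953), (nat_lit 294)]⟩, ⟨(nat_lit 996), (nat_lit 5847), [(nat_lit 493), (nat_lit 581)]⟩, ⟨(nat_lit 997), (nat_lit 5405), [(nat_lit 93), (nat_lit 460)]⟩, ⟨(nat_lit 998), (nat_lit 5785), [(nat_lit 364), (nat_lit 171)]⟩, ⟨(nat_lit 1000), (nat_lit 5850), [(nat_lit 782), (nat_lit 89)]⟩, ⟨(nat_lit 1003), (nat_lit 4574), [(nat_lit 257), (nat_lit 291)]⟩, ⟨(nat_lit 1005), (nat_lit 5857), [(nat_lit 508), (nat_lit 835)]⟩, ⟨(nat_lit 1006), (nat_lit 5862), [(nat_lit 250), (nat_lit 738)]⟩, ⟨(nat_lit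 1007), (nat_lit 4970), [(nat_lit 977), (nat_lit 375)]⟩, ⟨(nat_lit 1011), (nat_lit 5863), [(nat_lit 482), (nat_lit 1021)]⟩, ⟨(nat_lit 1015), (nat_lit 4689), [(nat_lit 631), (nat_lit 390)]⟩, ⟨(nat_lit 1016), (nat_lit 5864), [(nat_lit 165), (nat_lit 814)]⟩, ⟨(nat_lit 1019), (nat_lit 5869), [(nat_lit 266), (nat_lit 455)]⟩, ⟨(nat_lit 1022), (nat_lit 5324), [(nat_lit 450), (nat_lit 1025)]⟩, ⟨(nat_lit 1023), (nat_lit 5870), [(nat_lit 424), (nat_lit 870)]⟩, ⟨(nat_lit 1024), (nat_lit 5320), [(nat_lit 1162), (nat_lit 1410)]⟩, ⟨(nat_lit 1031), (nat_lit 5815), [(nat_lit 350), (nat_lit 455)]⟩, ⟨(nat_lit 1033), (nat_lit 5871), [(nat_lit 945), (nat_lit 627)]⟩, ⟨(nat_lit 1035), (nat_lit 5273), [(nat_lit 267), (nat_lit 384)]⟩, ⟨(nat_lit 1039), (nat_lit 5877), [(nat_lit 285), (nat_lit 974)]⟩, ⟨(nat_lit 1042), (nat_lit 5882), [(nat_lit 445), (nat_lit 1223)]⟩])))) (BT.node (nat_lit 5886) (BT.node (nat_lit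 5885) (BT.leaf (.pt (nat_lit 4505) (nat_lit 4))) (BT.leaf (.pt (nat_lit 5884) (nat_lit 1)))) (BT.node (nat_lit 5887) (BT.leaf (.pt (nat_lit 5885) (nat_lit 4))) (BT.leaf (.pt (nat_lit 5886) (nat_lit 1)))))))))
noncomputable def cF5888 : BT Fc := (BT.node (nat_lit 5920) (BT.node (nat_lit 5904) (BT.node (nat_lit 5896) (BT.node (nat_lit 5892) (BT.node (nat_lit 5890) (BT.node (nat_lit 5889) (BT.leaf ⟨(nat_lit 4), (nat_lit 2006), (nat_lit 0), (nat_lit 0x27acf49f7b137a4d69e6272724b176), (nat_lit 0), (nat_lit 0)⟩) (BT.leaf ⟨(nat_lit 4), (nat_lit 2482), (nat_lit 0), (nat_lit 0x1634bcf854cbe35ff38d627a8bc60cb), (nat_lit 0), (nat_lit 0)⟩)) (BT.node (nat_lit 5891) (BT.leaf ⟨(nat_lit 4), (nat_lit 2640), (nat_lit 0), (nat_lit 0xc031d6469d040417940200b8ecf104), (nat_lit 0), (nat_lit 0)⟩) (BT.leaf ⟨(nat_lit 4), (nat_lit 2240), (nat_lit 0), (nat_lit 0x1000849e00897c0420020000ba35e8), (nat_lit 0), (nat_lit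 0)⟩))) (BT.node (nat_lit 5894) (BT.node (nat_lit 5893) (BT.leaf ⟨(nat_lit 4), (nat_lit 2239), (nat_lit 0), (nat_lit 0x3011c9af10860050155f8c2216fc1e), (nat_lit 0), (nat_lit 0)⟩) (BT.leaf ⟨(nat_lit 4), (nat_lit 2364), (nat_lit 0), (nat_lit 0x1a4fa35197b151957706f8d29734f42), (nat_lit 0), (nat_lit 0)⟩)) (BT.node (nat_lit 5895) (BT.leaf ⟨(nat_lit 4), (nat_lit 1929), (nat_lit 0), (nat_lit 0xdb226abdc4ee58ad3b9173b291ca99), (nat_lit 0), (nat_lit 0)⟩) (BT.leaf ⟨(nat_lit 4), (nat_lit 1605), (nat_lit 0), (nat_lit 0xc02c6a804418002fbd51728210269e), (nat_lit 0), (nat_lit 0)⟩)))) (BT.node (nat_lit 5900) (BT.node (nat_lit 5898) (BT.node (nat_lit 5897) (BT.leaf ⟨(nat_lit 4), (nat_lit 3260), (nat_lit 0), (nat_lit 0x1a89c6f89a682dfcedd2197a37c7e58), (nat_lit 0), (nat_lit 0)⟩) (BT.leaf ⟨(nat_lit 4), (nat_lit 2925), (nat_lit 0), (nat_lit 0x1467a7744d27297e36691966cba15ff), (nat_lit 0), (nat_lit 0)⟩))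 (BT.node (nat_lit 5899) (BT.leaf ⟨(nat_lit 4), (nat_lit 2558), (nat_lit 0), (nat_lit 0x18b0cdc63b4cffa19c738ef3cfc8471), (nat_lit 0), (nat_lit 0)⟩) (BT.leaf ⟨(nat_lit 4), (nat_lit 3553), (nat_lit 0), (nat_lit 0x1d3a8cf44d26cd7e32ae7b1d9b8307c), (nat_lit 0), (nat_lit 0)⟩))) (BT.node (nat_lit 5902) (BT.node (nat_lit 5901) (BT.leaf ⟨(nat_lit 4), (nat_lit 2995), (nat_lit 0), (nat_lit 0x1203f1c103d11004f402bab0219d346), (nat_lit 0), (nat_lit 0)⟩) (BT.leaf ⟨(nat_lit 4), (nat_lit 3298), (nat_lit 0), (nat_lit 0x75c7d6efd26e2b90955baaf54e2c3d), (nat_lit 0), (nat_lit 0)⟩)) (BT.node (nat_lit 5903) (BT.leaf ⟨(nat_lit 4), (nat_lit 3405), (nat_lit 0), (nat_lit 0x11c63b8ed66a1cf653fe8c6a1f16349), (nat_lit 0), (nat_lit 0)⟩) (BT.leaf ⟨(nat_lit 4), (nat_lit 3551), (nat_lit 0), (nat_lit 0x1e74e2a4fe54242fc0128c606247756), (nat_lit 0), (nat_lit 0)⟩))))) (BT.node (nat_lit 5912) (BT.node (nat_lit 5908)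 (BT.node (nat_lit 5906) (BT.node (nat_lit 5905) (BT.leaf ⟨(nat_lit 4), (nat_lit 2220), (nat_lit 0), (nat_lit 0x11bbc83c37c6b30de7e39b2fcdf0d17), (nat_lit 0), (nat_lit 0)⟩) (BT.leaf ⟨(nat_lit 4), (nat_lit 3015), (nat_lit 0), (nat_lit 0x8400903091c0479509038a4ff72110), (nat_lit 0), (nat_lit 0)⟩)) (BT.node (nat_lit 5907) (BT.leaf ⟨(nat_lit 4), (nat_lit 3312), (nat_lit 0), (nat_lit 0x554e8f211aa776eabd538b960fad4b), (nat_lit 0), (nat_lit 0)⟩) (BT.leaf ⟨(nat_lit 4), (nat_lit 3224), (nat_lit 0), (nat_lit 0x2092ec9c20408bc78030151c409738), (nat_lit 0), (nat_lit 0)⟩))) (BT.node (nat_lit 5910) (BT.node (nat_lit 5909) (BT.leaf ⟨(nat_lit 4), (nat_lit 2865), (nat_lit 0), (nat_lit 0x2424018e640237e08801449e4b108), (nat_lit 0), (nat_lit 0)⟩) (BT.leaf ⟨(nat_lit 4), (nat_lit 2513), (nat_lit 0), (nat_lit 0xae0ad534b06aeefff51c4f1355caa9), (nat_lit 0), (nat_lit 0)⟩)) (BT.node (nat_lit 5911) (BT.leaf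 ⟨(nat_lit 4), (nat_lit 2051), (nat_lit 0), (nat_lit 0x5da4b49e91d07acf49fc4e3b589ba4), (nat_lit 0), (nat_lit 0)⟩) (BT.leaf ⟨(nat_lit 4), (nat_lit 2052), (nat_lit 0), (nat_lit 0x182df3cd97e71bbc83e16c7f8cad4a5), (nat_lit 0), (nat_lit 0)⟩)))) (BT.node (nat_lit 5916) (BT.node (nat_lit 5914) (BT.node (nat_lit 5913) (BT.leaf ⟨(nat_lit 4), (nat_lit 2514), (nat_lit 0), (nat_lit 0x208aaa39f8ca00405686c79d3dd090), (nat_lit 0), (nat_lit 0)⟩) (BT.leaf ⟨(nat_lit 4), (nat_lit 1878), (nat_lit 0), (nat_lit 0xa1f7ae749e9f6ffa6f6df92ad8e1b2), (nat_lit 0), (nat_lit 0)⟩)) (BT.node (nat_lit 5915) (BT.leaf ⟨(nat_lit 4), (nat_lit 2319), (nat_lit 0), (nat_lit 0xffa9a0cbb1a996e938dd451bbc2fcd), (nat_lit 0), (nat_lit 0)⟩) (BT.leaf ⟨(nat_lit 4), (nat_lit 1668), (nat_lit 0), (nat_lit 0x1519a37660f9467a3e93e8d7ff23706), (nat_lit 0), (nat_lit 0)⟩))) (BT.node (nat_lit 5918) (BT.node (nat_lit 5917) (BT.leaf ⟨(nat_lit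 4), (nat_lit 1295), (nat_lit 0), (nat_lit 0x7564f10008002097a00e8d1cc1073a), (nat_lit 0), (nat_lit 0)⟩) (BT.leaf ⟨(nat_lit 4), (nat_lit 1294), (nat_lit 0), (nat_lit 0x75ef5003085d10030120444b405102), (nat_lit 0), (nat_lit 0)⟩)) (BT.node (nat_lit 5919) (BT.leaf ⟨(nat_lit 4), (nat_lit 1667), (nat_lit 0), (nat_lit 0xc0100282408838d1f5044a6410860), (nat_lit 0), (nat_lit 0)⟩) (BT.leaf ⟨(nat_lit 4), (nat_lit 3409), (nat_lit 0), (nat_lit 0x15ce395a68ef0cc76a8766b570cdeca), (nat_lit 0), (nat_lit 0)⟩)))))) (BT.node (nat_lit 5936) (BT.node (nat_lit 5928) (BT.node (nat_lit 5924) (BT.node (nat_lit 5922) (BT.node (nat_lit 5921) (BT.leaf ⟨(nat_lit 4), (nat_lit 3615), (nat_lit 0), (nat_lit 0x6cba32aebff51be364666a32f49f42), (nat_lit 0), (nat_lit 0)⟩) (BT.leaf ⟨(nat_lit 4), (nat_lit 3718), (nat_lit 0), (nat_lit 0x1bd404805570753c604140297a3949f), (nat_lit 0), (nat_lit 0)⟩)) (BT.node (nat_lit 5923)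 (BT.leaf ⟨(nat_lit 4), (nat_lit 3779), (nat_lit 0), (nat_lit 0x9029d673d3c80bf44f4402cbd020b9), (nat_lit 0), (nat_lit 0)⟩) (BT.leaf ⟨(nat_lit 4), (nat_lit 1036), (nat_lit 0), (nat_lit 0x10ce29f909e71c63be2c66bb2876a87), (nat_lit 0), (nat_lit 0)⟩))) (BT.node (nat_lit 5926) (BT.node (nat_lit 5925) (BT.leaf ⟨(nat_lit 4), (nat_lit 1262), (nat_lit 0), (nat_lit 0x1467a3bd8365d1b2370666aaba52fc6), (nat_lit 0), (nat_lit 0)⟩) (BT.leaf ⟨(nat_lit 4), (nat_lit 1616), (nat_lit 0), (nat_lit 0x93f95014dc918c9ff9d7e64400848e), (nat_lit 0), (nat_lit 0)⟩)) (BT.node (nat_lit 5927) (BT.leaf ⟨(nat_lit 4), (nat_lit 1939), (nat_lit 0), (nat_lit 0x11ba52be3efae8db19bc7e6569f3d17), (nat_lit 0), (nat_lit 0)⟩) (BT.leaf ⟨(nat_lit 4), (nat_lit 1066), (nat_lit 0), (nat_lit 0x1bc24d00c208812f64040082112d805), (nat_lit 0), (nat_lit 0)⟩)))) (BT.node (nat_lit 5932) (BT.node (nat_lit 5930) (BT.node (nat_lit 5929) (BT.leaf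 ⟨(nat_lit 4), (nat_lit 1288), (nat_lit 0), (nat_lit 0x10039d25f00200bc6ef400810004100), (nat_lit 0), (nat_lit 0)⟩) (BT.leaf ⟨(nat_lit 4), (nat_lit 1659), (nat_lit 0), (nat_lit 0x279ec59e93f25a6f69e9392fa4d176), (nat_lit 0), (nat_lit 0)⟩)) (BT.node (nat_lit 5931) (BT.leaf ⟨(nat_lit 4), (nat_lit 1979), (nat_lit 0), (nat_lit 0x80809006bd44b52ec0293820881003), (nat_lit 0), (nat_lit 0)⟩) (BT.leaf ⟨(nat_lit 4), (nat_lit 2459), (nat_lit 0), (nat_lit 0x15183e74755d91be374ecd3295ec706), (nat_lit 0), (nat_lit 0)⟩))) (BT.node (nat_lit 5934) (BT.node (nat_lit 5933) (BT.leaf ⟨(nat_lit 4), (nat_lit 2793), (nat_lit 0), (nat_lit 0x49c7d5b12dee5895b2fcd243c974c7), (nat_lit 0), (nat_lit 0)⟩) (BT.leaf ⟨(nat_lit 4), (nat_lit 2707), (nat_lit 0), (nat_lit 0x2239880081d1bc6ef40020115cc9e), (nat_lit 0), (nat_lit 0)⟩)) (BT.node (nat_lit 5935) (BT.leaf ⟨(nat_lit 4), (nat_lit 1332), (nat_lit 0), (nat_lit 0x757908d5a97698fab6c3ba557779d4),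 (nat_lit 0), (nat_lit 0)⟩) (BT.leaf ⟨(nat_lit 4), (nat_lit 695), (nat_lit 0), (nat_lit 0x881020b9a7478d0005f481635404f4), (nat_lit 0), (nat_lit 0)⟩))))) (BT.node (nat_lit 5944) (BT.node (nat_lit 5940) (BT.node (nat_lit 5938) (BT.node (nat_lit 5937) (BT.leaf ⟨(nat_lit 4), (nat_lit 535), (nat_lit 0), (nat_lit 0x87ca00c0d685bf830604801057cf7a), (nat_lit 0), (nat_lit 0)⟩) (BT.leaf ⟨(nat_lit 4), (nat_lit 1240), (nat_lit 0), (nat_lit 0x14eb002011735190205f481a798032f), (nat_lit 0), (nat_lit 0)⟩)) (BT.node (nat_lit 5939) (BT.leaf ⟨(nat_lit 4), (nat_lit 1011), (nat_lit 0), (nat_lit 0x87f5a1402de1002877a4816a020af9), (nat_lit 0), (nat_lit 0)⟩) (BT.leaf ⟨(nat_lit 4), (nat_lit 2216), (nat_lit 0), (nat_lit 0x1210f96f88011219840280182d4195), (nat_lit 0), (nat_lit 0)⟩))) (BT.node (nat_lit 5942) (BT.node (nat_lit 5941) (BT.leaf ⟨(nat_lit 4), (nat_lit 2628), (nat_lit 0), (nat_lit 0x40080ce81aac02cf10828191817d00),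 (nat_lit 0), (nat_lit 0)⟩) (BT.leaf ⟨(nat_lit 4), (nat_lit 3012), (nat_lit 0), (nat_lit 0x97d2ee5f714dc28ca5b0bf5950fe2c), (nat_lit 0), (nat_lit 0)⟩)) (BT.node (nat_lit 5943) (BT.leaf ⟨(nat_lit 4), (nat_lit 906), (nat_lit 0), (nat_lit 0x17ee925b4bcb7db862c71493d2f8e6), (nat_lit 0), (nat_lit 0)⟩) (BT.leaf ⟨(nat_lit 4), (nat_lit 1153), (nat_lit 0), (nat_lit 0x1698ee9d56d8656eabd571475ce89d4), (nat_lit 0), (nat_lit 0)⟩)))) (BT.node (nat_lit 5948) (BT.node (nat_lit 5946) (BT.node (nat_lit 5945) (BT.leaf ⟨(nat_lit 4), (nat_lit 1436), (nat_lit 0), (nat_lit 0x114de190f5329fe5f5c804908030020), (nat_lit 0), (nat_lit 0)⟩) (BT.leaf ⟨(nat_lit 4), (nat_lit 1786), (nat_lit 0), (nat_lit 0x17b0e884400881002c7704805095abd), (nat_lit 0), (nat_lit 0)⟩)) (BT.node (nat_lit 5947) (BT.leaf ⟨(nat_lit 4), (nat_lit 2187), (nat_lit 0), (nat_lit 0x13a08459e200483fa64605e40580140), (nat_lit 0), (nat_lit 0)⟩) (BT.leaf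 ⟨(nat_lit 4), (nat_lit 2742), (nat_lit 0), (nat_lit 0x13a2d45c8c16ab8bb265336c73f45ec), (nat_lit 0), (nat_lit 0)⟩))) (BT.node (nat_lit 5950) (BT.node (nat_lit 5949) (BT.leaf ⟨(nat_lit 4), (nat_lit 2387), (nat_lit 0), (nat_lit 0xffad36738ef1c631d733371ee29f90), (nat_lit 0), (nat_lit 0)⟩) (BT.leaf ⟨(nat_lit 4), (nat_lit 686), (nat_lit 0), (nat_lit 0x200c40811049ceec96013bf1f5f85), (nat_lit 0), (nat_lit 0)⟩)) (BT.node (nat_lit 5951) (BT.leaf ⟨(nat_lit 4), (nat_lit 875), (nat_lit 0), (nat_lit 0xae55daf9472ae3a8a992b4db1cb6b9), (nat_lit 0), (nat_lit 0)⟩) (BT.leaf ⟨(nat_lit 4), (nat_lit 1124), (nat_lit 0), (nat_lit 0xf0df5accfc7df6373e32b5365d1b63), (nat_lit 0), (nat_lit 0)⟩)))))))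
noncomputable def cP5888 : BT Pf := (BT.node (nat_lit 5920) (BT.node (nat_lit 5904) (BT.node (nat_lit 5896) (BT.node (nat_lit 5892) (BT.node (nat_lit 5890) (BT.node (nat_lit 5889) (BT.leaf (.pt (nat_lit 5887) (nat_lit 4))) (BT.leaf (.pt (nat_lit 5888) (nat_lit 1)))) (BT.node (nat_lit 5891) (BT.leaf (.pt (nat_lit 5889) (nat_lit 3))) (BT.leaf (.pt (nat_lit 5890) (nat_lit 1))))) (BT.node (nat_lit 5894) (BT.node (nat_lit 5893) (BT.leaf (.pt (nat_lit 5891) (nat_lit 4))) (BT.leaf (.pt (nat_lit 5892) (nat_lit 1)))) (BT.node (nat_lit 5895) (BT.leaf (.pt (nat_lit 5893) (nat_lit 3))) (BT.leaf (.pt (nat_lit 5894) (nat_lit 1)))))) (BT.node (nat_lit 5900) (BT.node (nat_lit 5898) (BT.node (nat_lit 5897) (BT.leaf (.pt (nat_lit 5209) (nat_lit 3))) (BT.leaf (.pt (nat_lit 5896) (nat_lit 1)))) (BT.node (nat_lit 5899) (BT.leaf (.pt (nat_lit 5897) (nat_lit 4))) (BT.leaf (.pt (nat_lit 5250) (nat_lit 3)))))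 (BT.node (nat_lit 5902) (BT.node (nat_lit 5901) (BT.leaf (.pt (nat_lit 5806) (nat_lit 3))) (BT.leaf (.pt (nat_lit 5900) (nat_lit 1)))) (BT.node (nat_lit 5903) (BT.leaf (.pt (nat_lit 5901) (nat_lit 4))) (BT.leaf (.pt (nat_lit 5902) (nat_lit 1))))))) (BT.node (nat_lit 5912) (BT.node (nat_lit 5908) (BT.node (nat_lit 5906) (BT.node (nat_lit 5905) (BT.leaf (.pt (nat_lit 5168) (nat_lit 4))) (BT.leaf (.pt (nat_lit 4757) (nat_lit 4)))) (BT.node (nat_lit 5907) (BT.leaf (.pt (nat_lit 5905) (nat_lit 1))) (BT.leaf (.pt (nat_lit 5906) (nat_lit 3))))) (BT.node (nat_lit 5910) (BT.node (nat_lit 5909) (BT.leaf (.pt (nat_lit 5907) (nat_lit 1))) (BT.leaf (.pt (nat_lit 5908) (nat_lit 4)))) (BT.node (nat_lit 5911) (BT.leaf (.pt (nat_lit 5909) (nat_lit 1))) (BT.leaf (.pt (nat_lit 5910) (nat_lit 3)))))) (BT.node (nat_lit 5916) (BT.node (nat_lit 5914) (BT.node (nat_lit 5913) (BT.leaf (.pt (nat_lit 5911) (nat_lit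 1))) (BT.leaf (.pt (nat_lit 5106) (nat_lit 1)))) (BT.node (nat_lit 5915) (BT.leaf (.pt (nat_lit 5913) (nat_lit 3))) (BT.leaf (.pt (nat_lit 4959) (nat_lit 3))))) (BT.node (nat_lit 5918) (BT.node (nat_lit 5917) (BT.leaf (.pt (nat_lit 5915) (nat_lit 1))) (BT.leaf (.pt (nat_lit 5916) (nat_lit 4)))) (BT.node (nat_lit 5919) (BT.leaf (.pt (nat_lit 5917) (nat_lit 1))) (BT.leaf (.pt (nat_lit 5510) (nat_lit 3)))))))) (BT.node (nat_lit 5936) (BT.node (nat_lit 5928) (BT.node (nat_lit 5924) (BT.node (nat_lit 5922) (BT.node (nat_lit 5921) (BT.leaf (.pt (nat_lit 5919) (nat_lit 1))) (BT.leaf (.pt (nat_lit 5920) (nat_lit 3)))) (BT.node (nat_lit 5923) (BT.leaf (.pt (nat_lit 5921) (nat_lit 1))) (BT.leaf (.pt (nat_lit 5624) (nat_lit 3))))) (BT.node (nat_lit 5926) (BT.node (nat_lit 5925) (BT.leaf (.pt (nat_lit 5923) (nat_lit 1))) (BT.leaf (.pt (nat_lit 5924) (nat_lit 4)))) (BT.node (nat_lit 5927) (BT.leaf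 (.pt (nat_lit 5925) (nat_lit 1))) (BT.leaf (.pt (nat_lit 5697) (nat_lit 4)))))) (BT.node (nat_lit 5932) (BT.node (nat_lit 5930) (BT.node (nat_lit 5929) (BT.leaf (.pt (nat_lit 5927) (nat_lit 1))) (BT.leaf (.pt (nat_lit 5928) (nat_lit 3)))) (BT.node (nat_lit 5931) (BT.leaf (.pt (nat_lit 5929) (nat_lit 1))) (BT.leaf (.pt (nat_lit 5930) (nat_lit 3))))) (BT.node (nat_lit 5934) (BT.node (nat_lit 5933) (BT.leaf (.pt (nat_lit 5931) (nat_lit 1))) (BT.leaf (.pt (nat_lit 5932) (nat_lit 4)))) (BT.node (nat_lit 5935) (BT.leaf (.pt (nat_lit 4700) (nat_lit 3))) (BT.leaf (.pt (nat_lit 5524) (nat_lit 4))))))) (BT.node (nat_lit 5944) (BT.node (nat_lit 5940) (BT.node (nat_lit 5938) (BT.node (nat_lit 5937) (BT.leaf (.pt (nat_lit 5935) (nat_lit 1))) (BT.leaf (.pt (nat_lit 4821) (nat_lit 4)))) (BT.node (nat_lit 5939) (BT.leaf (.pt (nat_lit 5937) (nat_lit 1))) (BT.leaf (.pt (nat_lit 4755) (nat_lit 3)))))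 (BT.node (nat_lit 5942) (BT.node (nat_lit 5941) (BT.leaf (.pt (nat_lit 5939) (nat_lit 1))) (BT.leaf (.pt (nat_lit 5940) (nat_lit 3)))) (BT.node (nat_lit 5943) (BT.leaf (.pt (nat_lit 4787) (nat_lit 4))) (BT.leaf (.pt (nat_lit 5942) (nat_lit 1)))))) (BT.node (nat_lit 5948) (BT.node (nat_lit 5946) (BT.node (nat_lit 5945) (BT.leaf (.pt (nat_lit 5943) (nat_lit 4))) (BT.leaf (.pt (nat_lit 5944) (nat_lit 1)))) (BT.node (nat_lit 5947) (BT.leaf (.pt (nat_lit 5945) (nat_lit 4))) (BT.leaf (.pt (nat_lit 5600) (nat_lit 4))))) (BT.node (nat_lit 5950) (BT.node (nat_lit 5949) (BT.leaf (.pt (nat_lit 5947) (nat_lit 1))) (BT.leaf (.pt (nat_lit 5648) (nat_lit 1)))) (BT.node (nat_lit 5951) (BT.leaf (.pt (nat_lit 5949) (nat_lit 4))) (BT.leaf (.pt (nat_lit 5950) (nat_lit 1)))))))))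
noncomputable def cF5952 : BT Fc := (BT.node (nat_lit 5984) (BT.node (nat_lit 5968) (BT.node (nat_lit 5960) (BT.node (nat_lit 5956) (BT.node (nat_lit 5954) (BT.node (nat_lit 5953) (BT.leaf ⟨(nat_lit 4), (nat_lit 1386), (nat_lit 0), (nat_lit 0x892e88280410b9c0039380195ddea), (nat_lit 0), (nat_lit 0)⟩) (BT.leaf ⟨(nat_lit 4), (nat_lit 1741), (nat_lit 0), (nat_lit 0x127c76e272ed67ad8cbe93952e0f09e), (nat_lit 0), (nat_lit 0)⟩)) (BT.node (nat_lit 5955) (BT.leaf ⟨(nat_lit 4), (nat_lit 2107), (nat_lit 0), (nat_lit 0x9792be5ff6eb7dc521f6bf2ad2ed65), (nat_lit 0), (nat_lit 0)⟩) (BT.leaf ⟨(nat_lit 4), (nat_lit 2555), (nat_lit 0), (nat_lit 0x50323102c74c01dc9016be412804e8), (nat_lit 0), (nat_lit 0)⟩))) (BT.node (nat_lit 5958) (BT.node (nat_lit 5957) (BT.leaf ⟨(nat_lit 4), (nat_lit 1651), (nat_lit 0), (nat_lit 0x95e4b74e3ba8200c108051023c2c7b), (nat_lit 0), (nat_lit 0)⟩) (BT.leaf ⟨(nat_lit 4), (nat_lit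 1971), (nat_lit 0), (nat_lit 0x480507ad8a6092e427f050183b31f5), (nat_lit 0), (nat_lit 0)⟩)) (BT.node (nat_lit 5959) (BT.leaf ⟨(nat_lit 4), (nat_lit 1869), (nat_lit 0), (nat_lit 0x1fd37a6e450fbf28bfdb364c7378179), (nat_lit 0), (nat_lit 0)⟩) (BT.leaf ⟨(nat_lit 5), (nat_lit 7), (nat_lit 0), (nat_lit 0x1000800000000000000000000000000000000000000000000000002000002800000000000000000000000000000010000000000000000000000000000000000000000000000000100000000000000000000000000000000000000000000000002001000000000080000000000000200000000000004000000000000000000000008000000000000080000000000000000000000000000000000004800000000040000000000000000000000000000000800000000000000008000000000010000000000001000000008000200000000000000010000000000000000000000000000000000000400080000000000000000200000000000000000000000000000000000000000000000000800000800000000200000000000000000000000000000000000000000000000000000400000400000001000000000000000004000000000000000000000010000000000004000000000000000000000000008000000000000000000000000000000000000000000000000000000000000000000000000000000000000000000000000001000080000000000000080000000000000000000000000000000000000000000000000000000000000000000000000000000000000000000000000000000000000000000000000000000000000),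 (nat_lit 0), (nat_lit 0)⟩)))) (BT.node (nat_lit 5964) (BT.node (nat_lit 5962) (BT.node (nat_lit 5961) (BT.leaf ⟨(nat_lit 4), (nat_lit 155), (nat_lit 0), (nat_lit 0x10480a01f1800402a5ebd20263912e), (nat_lit 0), (nat_lit 0)⟩) (BT.leaf ⟨(nat_lit 4), (nat_lit 219), (nat_lit 0), (nat_lit 0x1edfa899b98e5d98e5a8bd382ff4265), (nat_lit 0), (nat_lit 0)⟩)) (BT.node (nat_lit 5963) (BT.leaf ⟨(nat_lit 4), (nat_lit 281), (nat_lit 0), (nat_lit 0x9fc1802421e084fac20441b525f453), (nat_lit 0), (nat_lit 0)⟩) (BT.leaf ⟨(nat_lit 4), (nat_lit 390), (nat_lit 0), (nat_lit 0x1803f469ece6902c685f4408210232f), (nat_lit 0), (nat_lit 0)⟩))) (BT.node (nat_lit 5966) (BT.node (nat_lit 5965) (BT.leaf ⟨(nat_lit 4), (nat_lit 489), (nat_lit 0), (nat_lit 0x1043ab13f8c60500c0110a0048181c5), (nat_lit 0), (nat_lit 0)⟩) (BT.leaf ⟨(nat_lit 4), (nat_lit 654), (nat_lit 0), (nat_lit 0x1046006032bdea6f4400a1ad0b7c33), (nat_lit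 0), (nat_lit 0)⟩)) (BT.node (nat_lit 5967) (BT.leaf ⟨(nat_lit 4), (nat_lit 816), (nat_lit 0), (nat_lit 0x405dc9081aa4417190005f67b1d120), (nat_lit 0), (nat_lit 0)⟩) (BT.leaf ⟨(nat_lit 4), (nat_lit 1084), (nat_lit 0), (nat_lit 0x4bcb7e1521f4beae12e05e4b4938fa), (nat_lit 0), (nat_lit 0)⟩))))) (BT.node (nat_lit 5976) (BT.node (nat_lit 5972) (BT.node (nat_lit 5970) (BT.node (nat_lit 5969) (BT.leaf ⟨(nat_lit 4), (nat_lit 1209), (nat_lit 0), (nat_lit 0x801401e3440c02c685f4119cf0053a), (nat_lit 0), (nat_lit 0)⟩) (BT.leaf ⟨(nat_lit 4), (nat_lit 973), (nat_lit 0), (nat_lit 0x95c93c08e64024ee808411259f5828), (nat_lit 0), (nat_lit 0)⟩)) (BT.node (nat_lit 5971) (BT.leaf ⟨(nat_lit 4), (nat_lit 974), (nat_lit 0), (nat_lit 0xb7eb40a0f74d8e0f1801039d14070d), (nat_lit 0), (nat_lit 0)⟩) (BT.leaf ⟨(nat_lit 4), (nat_lit 911), (nat_lit 0), (nat_lit 0x407a3a01f1801600a5e1031c810f3b), (nat_lit 0), (nat_lit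 0)⟩))) (BT.node (nat_lit 5974) (BT.node (nat_lit 5973) (BT.leaf ⟨(nat_lit 4), (nat_lit 912), (nat_lit 0), (nat_lit 0x13a263ad24cb720cde0bbd97aab4176), (nat_lit 0), (nat_lit 0)⟩) (BT.leaf ⟨(nat_lit 4), (nat_lit 1158), (nat_lit 0), (nat_lit 0xf9d5e88493405102104bd9bc39f789), (nat_lit 0), (nat_lit 0)⟩)) (BT.node (nat_lit 5975) (BT.leaf ⟨(nat_lit 4), (nat_lit 3336), (nat_lit 0), (nat_lit 0x1ce92ff8d005003a36f47c640100008), (nat_lit 0), (nat_lit 0)⟩) (BT.leaf ⟨(nat_lit 4), (nat_lit 3072), (nat_lit 0), (nat_lit 0x145de19e37d68dbc84d97c6e8e373e1), (nat_lit 0), (nat_lit 0)⟩)))) (BT.node (nat_lit 5980) (BT.node (nat_lit 5978) (BT.node (nat_lit 5977) (BT.leaf ⟨(nat_lit 4), (nat_lit 2681), (nat_lit 0), (nat_lit 0x1b900a7560300424713ff3b18ce2a10), (nat_lit 0), (nat_lit 0)⟩) (BT.leaf ⟨(nat_lit 4), (nat_lit 2291), (nat_lit 0), (nat_lit 0x1a8a37658b1a2dfc7979f3ba3465f85), (nat_lit 0), (nat_lit 0)⟩))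 (BT.node (nat_lit 5979) (BT.leaf ⟨(nat_lit 4), (nat_lit 1860), (nat_lit 0), (nat_lit 0x4ac4200c409d0882004e7c0140a49a), (nat_lit 0), (nat_lit 0)⟩) (BT.leaf ⟨(nat_lit 4), (nat_lit 1457), (nat_lit 0), (nat_lit 0x11b9f1f9094afacad517c16fcdf3ae3), (nat_lit 0), (nat_lit 0)⟩))) (BT.node (nat_lit 5982) (BT.node (nat_lit 5981) (BT.leaf ⟨(nat_lit 4), (nat_lit 1458), (nat_lit 0), (nat_lit 0x1962ea8d5d26744e2d4b3ba6561eeef), (nat_lit 0), (nat_lit 0)⟩) (BT.leaf ⟨(nat_lit 4), (nat_lit 2246), (nat_lit 0), (nat_lit 0x56b5cdffea3b2958c4da688e5b60b9), (nat_lit 0), (nat_lit 0)⟩)) (BT.node (nat_lit 5983) (BT.leaf ⟨(nat_lit 4), (nat_lit 2245), (nat_lit 0), (nat_lit 0xf8800811bd3e3020f3b3a802639747), (nat_lit 0), (nat_lit 0)⟩) (BT.leaf ⟨(nat_lit 4), (nat_lit 2643), (nat_lit 0), (nat_lit 0x1bbdb65a6d27c85eaa363a8e28e2c3d), (nat_lit 0), (nat_lit 0)⟩)))))) (BT.node (nat_lit 6000) (BT.node (nat_lit 5992) (BT.node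 (nat_lit 5988) (BT.node (nat_lit 5986) (BT.node (nat_lit 5985) (BT.leaf ⟨(nat_lit 4), (nat_lit 3029), (nat_lit 0), (nat_lit 0x1ce8105e8e8c0412ff8dde840000840), (nat_lit 0), (nat_lit 0)⟩) (BT.leaf ⟨(nat_lit 4), (nat_lit 2949), (nat_lit 0), (nat_lit 0x5e77b6f5d689a9439cede9bf18e1b2), (nat_lit 0), (nat_lit 0)⟩)) (BT.node (nat_lit 5987) (BT.leaf ⟨(nat_lit 4), (nat_lit 2950), (nat_lit 0), (nat_lit 0x1eb54cf660c17201403097c2801027f), (nat_lit 0), (nat_lit 0)⟩) (BT.leaf ⟨(nat_lit 4), (nat_lit 3272), (nat_lit 0), (nat_lit 0x123ad8c9ed8326a4fb1397d679ec4de), (nat_lit 0), (nat_lit 0)⟩))) (BT.node (nat_lit 5990) (BT.node (nat_lit 5989) (BT.leaf ⟨(nat_lit 4), (nat_lit 1837), (nat_lit 0), (nat_lit 0x8085cfe844017d20200c00a02c69e3), (nat_lit 0), (nat_lit 0)⟩) (BT.leaf ⟨(nat_lit 4), (nat_lit 2261), (nat_lit 0), (nat_lit 0x127076a6a97c27a4749f62737b60976), (nat_lit 0), (nat_lit 0)⟩)) (BT.node (nat_lit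 5991) (BT.leaf ⟨(nat_lit 4), (nat_lit 2655), (nat_lit 0), (nat_lit 0x1e32c6dd24cbe363778f627e14bcfad), (nat_lit 0), (nat_lit 0)⟩) (BT.leaf ⟨(nat_lit 4), (nat_lit 2851), (nat_lit 0), (nat_lit 0x502d477a0a10cc3021f18110021706), (nat_lit 0), (nat_lit 0)⟩)))) (BT.node (nat_lit 5996) (BT.node (nat_lit 5994) (BT.node (nat_lit 5993) (BT.leaf ⟨(nat_lit 4), (nat_lit 2885), (nat_lit 0), (nat_lit 0xb7e0f082f8d9d140180180203dd090), (nat_lit 0), (nat_lit 0)⟩) (BT.leaf ⟨(nat_lit 4), (nat_lit 2525), (nat_lit 0), (nat_lit 0x3995c299bfebe5b6534b062e626abb), (nat_lit 0), (nat_lit 0)⟩)) (BT.node (nat_lit 5995) (BT.leaf ⟨(nat_lit 4), (nat_lit 2067), (nat_lit 0), (nat_lit 0x2dfdd1cee718eb95565b06ceb8d07c), (nat_lit 0), (nat_lit 0)⟩) (BT.leaf ⟨(nat_lit 4), (nat_lit 2068), (nat_lit 0), (nat_lit 0x1e3004f47006086008412020155c1d4), (nat_lit 0), (nat_lit 0)⟩))) (BT.node (nat_lit 5998) (BT.node (nat_lit 5997)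 (BT.leaf ⟨(nat_lit 4), (nat_lit 2526), (nat_lit 0), (nat_lit 0x50017bb91aab8ffa68d202c0323102), (nat_lit 0), (nat_lit 0)⟩) (BT.leaf ⟨(nat_lit 4), (nat_lit 2108), (nat_lit 0), (nat_lit 0x1d1fab07c55dd10d9546f8d9a7235ff), (nat_lit 0), (nat_lit 0)⟩)) (BT.node (nat_lit 5999) (BT.leaf ⟨(nat_lit 4), (nat_lit 2556), (nat_lit 0), (nat_lit 0xa020f18047228240081f8c213dd568), (nat_lit 0), (nat_lit 0)⟩) (BT.leaf ⟨(nat_lit 4), (nat_lit 2922), (nat_lit 0), (nat_lit 0x78fc85172b5296373e39b3f8de1ae3), (nat_lit 0), (nat_lit 0)⟩))))) (BT.node (nat_lit 6008) (BT.node (nat_lit 6004) (BT.node (nat_lit 6002) (BT.node (nat_lit 6001) (BT.leaf ⟨(nat_lit 4), (nat_lit 3259), (nat_lit 0), (nat_lit 0x1cebdd71ac75ced6953a9b3854e7583), (nat_lit 0), (nat_lit 0)⟩) (BT.leaf ⟨(nat_lit 4), (nat_lit 3473), (nat_lit 0), (nat_lit 0x11ce3decaae6a1eae3358e569bc83fe), (nat_lit 0), (nat_lit 0)⟩)) (BT.node (nat_lit 6003) (BT.leaf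 ⟨(nat_lit 4), (nat_lit 6), (nat_lit 0), (nat_lit 0xc70cddec87b31f05976bd33a1575e0), (nat_lit 0), (nat_lit 0)⟩) (BT.leaf ⟨(nat_lit 4), (nat_lit 10), (nat_lit 0), (nat_lit 0x127c20f4701300440ef5bd3e30029d4), (nat_lit 0), (nat_lit 0)⟩))) (BT.node (nat_lit 6006) (BT.node (nat_lit 6005) (BT.leaf ⟨(nat_lit 4), (nat_lit 16), (nat_lit 0), (nat_lit 0x127b9d3e30117a01001000820200746), (nat_lit 0), (nat_lit 0)⟩) (BT.leaf ⟨(nat_lit 4), (nat_lit 23), (nat_lit 0), (nat_lit 0x5002c04e85bc0e8c9a008411f380c), (nat_lit 0), (nat_lit 0)⟩)) (BT.node (nat_lit 6007) (BT.leaf ⟨(nat_lit 4), (nat_lit 32), (nat_lit 0), (nat_lit 0xaa57ca99bfeae4732bb2b4db226eb9), (nat_lit 0), (nat_lit 0)⟩) (BT.leaf ⟨(nat_lit 4), (nat_lit 43), (nat_lit 0), (nat_lit 0xf85f3d17fc7df5f5bf32b4d8de1ca5), (nat_lit 0), (nat_lit 0)⟩)))) (BT.node (nat_lit 6012) (BT.node (nat_lit 6010) (BT.node (nat_lit 6009) (BT.leaf ⟨(nat_lit 4), (nat_lit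 56), (nat_lit 0), (nat_lit 0x10920706880180600409bdf357ca1f), (nat_lit 0), (nat_lit 0)⟩) (BT.leaf ⟨(nat_lit 4), (nat_lit 74), (nat_lit 0), (nat_lit 0x127876e27d836c53549c9bd52dec09e), (nat_lit 0), (nat_lit 0)⟩)) (BT.node (nat_lit 6011) (BT.leaf ⟨(nat_lit 4), (nat_lit 100), (nat_lit 0), (nat_lit 0x801026000bf519eaa2065ec0120280), (nat_lit 0), (nat_lit 0)⟩) (BT.leaf ⟨(nat_lit 4), (nat_lit 135), (nat_lit 0), (nat_lit 0x43f0a96f35f31dcb12f65fa8a97b70), (nat_lit 0), (nat_lit 0)⟩))) (BT.node (nat_lit 6014) (BT.node (nat_lit 6013) (BT.leaf ⟨(nat_lit 4), (nat_lit 182), (nat_lit 0), (nat_lit 0x923ba5b109013c4f42bd8031021d1), (nat_lit 0), (nat_lit 0)⟩) (BT.leaf ⟨(nat_lit 4), (nat_lit 245), (nat_lit 0), (nat_lit 0xabb05fe887b7e2d45c8bd93a3dbd68), (nat_lit 0), (nat_lit 0)⟩)) (BT.node (nat_lit 6015) (BT.leaf ⟨(nat_lit 4), (nat_lit 2332), (nat_lit 0), (nat_lit 0x11caf492e93e407a388101208420c01),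 (nat_lit 0), (nat_lit 0)⟩) (BT.leaf ⟨(nat_lit 4), (nat_lit 2063), (nat_lit 0), (nat_lit 0x22104048810fac0c47b01202093c96), (nat_lit 0), (nat_lit 0)⟩)))))))
noncomputable def cP5952 : BT Pf := (BT.node (nat_lit 5984) (BT.node (nat_lit 5968) (BT.node (nat_lit 5960) (BT.node (nat_lit 5956) (BT.node (nat_lit 5954) (BT.node (nat_lit 5953) (BT.leaf (.pt (nat_lit 5951) (nat_lit 3))) (BT.leaf (.pt (nat_lit 5952) (nat_lit 1)))) (BT.node (nat_lit 5955) (BT.leaf (.pt (nat_lit 5953) (nat_lit 3))) (BT.leaf (.pt (nat_lit 5954) (nat_lit 1))))) (BT.node (nat_lit 5958) (BT.node (nat_lit 5957) (BT.leaf (.pt (nat_lit 5800) (nat_lit 3))) (BT.leaf (.pt (nat_lit 5956) (nat_lit 1)))) (BT.node (nat_lit 5959) (BT.leaf (.pt (nat_lit 5957) (nat_lit 4))) (BT.leaf (.cov [] [⟨(nat_lit 1044), (nat_lit 5895), [(nat_lit 428), (nat_lit 529)]⟩, ⟨(nat_lit 1047), (nat_lit 5898), [(nat_lit 832), (nat_lit 1009)]⟩, ⟨(nat_lit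 1048), (nat_lit 5792), [(nat_lit 470), (nat_lit 870)]⟩, ⟨(nat_lit 1052), (nat_lit 5741), [(nat_lit 673), (nat_lit 486)]⟩, ⟨(nat_lit 1055), (nat_lit 5899), [(nat_lit 527), (nat_lit 1348)]⟩, ⟨(nat_lit 1057), (nat_lit 5246), [(nat_lit 178), (nat_lit 206)]⟩, ⟨(nat_lit 1061), (nat_lit 5903), [(nat_lit 271), (nat_lit 891)]⟩, ⟨(nat_lit 1062), (nat_lit 5904), [(nat_lit 282), (nat_lit 740)]⟩, ⟨(nat_lit 1066), (nat_lit 4522), [(nat_lit 510), (nat_lit 870)]⟩, ⟨(nat_lit 1067), (nat_lit 5912), [(nat_lit 423), (nat_lit 974)]⟩, ⟨(nat_lit 1068), (nat_lit 4824), [(nat_lit 194), (nat_lit 802)]⟩, ⟨(nat_lit 1069), (nat_lit 5548), [(nat_lit 1242), (nat_lit 585)]⟩, ⟨(nat_lit 1071), (nat_lit 5606), [(nat_lit 424), (nat_lit 279)]⟩, ⟨(nat_lit 1072), (nat_lit 5914), [(nat_lit 620), (nat_lit 969)]⟩, ⟨(nat_lit 1074), (nat_lit 5572), [(nat_lit 905), (nat_lit 263)]⟩, ⟨(nat_lit 1075), (nat_lit 5918), [(nat_lit 774),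 (nat_lit 652)]⟩, ⟨(nat_lit 1076), (nat_lit 5490), [(nat_lit 774), (nat_lit 330)]⟩, ⟨(nat_lit 1077), (nat_lit 5907), [(nat_lit 746), (nat_lit 171)]⟩, ⟨(nat_lit 1078), (nat_lit 5922), [(nat_lit 195), (nat_lit 891)]⟩, ⟨(nat_lit 1079), (nat_lit 5926), [(nat_lit 153), (nat_lit 573)]⟩, ⟨(nat_lit 1085), (nat_lit 5665), [(nat_lit 267), (nat_lit 330)]⟩, ⟨(nat_lit 1089), (nat_lit 5933), [(nat_lit 567), (nat_lit 431)]⟩, ⟨(nat_lit 1090), (nat_lit 5924), [(nat_lit 900), (nat_lit 822)]⟩, ⟨(nat_lit 1096), (nat_lit 5517), [(nat_lit 695), (nat_lit 361)]⟩, ⟨(nat_lit 1098), (nat_lit 5595), [(nat_lit 402), (nat_lit 142)]⟩, ⟨(nat_lit 1104), (nat_lit 4927), [(nat_lit 1201), (nat_lit 330)]⟩, ⟨(nat_lit 1105), (nat_lit 5265), [(nat_lit 1106), (nat_lit 396)]⟩, ⟨(nat_lit 1107), (nat_lit 5934), [(nat_lit 402), (nat_lit 652)]⟩, ⟨(nat_lit 1108), (nat_lit 5936), [(nat_lit 434), (nat_lit 190)]⟩, ⟨(nat_lit 1110),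 (nat_lit 4594), [(nat_lit 977), (nat_lit 968)]⟩, ⟨(nat_lit 1112), (nat_lit 5470), [(nat_lit 273), (nat_lit 495)]⟩, ⟨(nat_lit 1113), (nat_lit 5938), [(nat_lit 1032), (nat_lit 1025)]⟩, ⟨(nat_lit 1119), (nat_lit 5127), [(nat_lit 355), (nat_lit 1503)]⟩, ⟨(nat_lit 1120), (nat_lit 5941), [(nat_lit 905), (nat_lit 597)]⟩, ⟨(nat_lit 1122), (nat_lit 5946), [(nat_lit 513), (nat_lit 1247)]⟩, ⟨(nat_lit 1124), (nat_lit 5948), [(nat_lit 209), (nat_lit 868)]⟩, ⟨(nat_lit 1125), (nat_lit 5955), [(nat_lit 177), (nat_lit 1109)]⟩, ⟨(nat_lit 1127), (nat_lit 4977), [(nat_lit 1189), (nat_lit 252)]⟩, ⟨(nat_lit 1129), (nat_lit 5204), [(nat_lit 441), (nat_lit 586)]⟩, ⟨(nat_lit 1130), (nat_lit 5958), [(nat_lit 883), (nat_lit 498)]⟩]))))) (BT.node (nat_lit 5964) (BT.node (nat_lit 5962) (BT.node (nat_lit 5961) (BT.leaf (.pt (nat_lit 4851) (nat_lit 4))) (BT.leaf (.pt (nat_lit 5960) (nat_lit 1)))) (BT.node (nat_lit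 5963) (BT.leaf (.pt (nat_lit 5961) (nat_lit 4))) (BT.leaf (.pt (nat_lit 5962) (nat_lit 1))))) (BT.node (nat_lit 5966) (BT.node (nat_lit 5965) (BT.leaf (.pt (nat_lit 5963) (nat_lit 3))) (BT.leaf (.pt (nat_lit 5964) (nat_lit 1)))) (BT.node (nat_lit 5967) (BT.leaf (.pt (nat_lit 5965) (nat_lit 4))) (BT.leaf (.pt (nat_lit 5966) (nat_lit 1))))))) (BT.node (nat_lit 5976) (BT.node (nat_lit 5972) (BT.node (nat_lit 5970) (BT.node (nat_lit 5969) (BT.leaf (.pt (nat_lit 5967) (nat_lit 4))) (BT.leaf (.pt (nat_lit 5968) (nat_lit 1)))) (BT.node (nat_lit 5971) (BT.leaf (.pt (nat_lit 5969) (nat_lit 3))) (BT.leaf (.pt (nat_lit 5970) (nat_lit 1))))) (BT.node (nat_lit 5974) (BT.node (nat_lit 5973) (BT.leaf (.pt (nat_lit 5971) (nat_lit 3))) (BT.leaf (.pt (nat_lit 5972) (nat_lit 1)))) (BT.node (nat_lit 5975) (BT.leaf (.pt (nat_lit 5833) (nat_lit 4))) (BT.leaf (.pt (nat_lit 5974) (nat_lit 1)))))) (BT.node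 (nat_lit 5980) (BT.node (nat_lit 5978) (BT.node (nat_lit 5977) (BT.leaf (.pt (nat_lit 5975) (nat_lit 4))) (BT.leaf (.pt (nat_lit 5976) (nat_lit 1)))) (BT.node (nat_lit 5979) (BT.leaf (.pt (nat_lit 5977) (nat_lit 3))) (BT.leaf (.pt (nat_lit 5864) (nat_lit 1))))) (BT.node (nat_lit 5982) (BT.node (nat_lit 5981) (BT.leaf (.pt (nat_lit 5979) (nat_lit 3))) (BT.leaf (.pt (nat_lit 5429) (nat_lit 1)))) (BT.node (nat_lit 5983) (BT.leaf (.pt (nat_lit 5981) (nat_lit 4))) (BT.leaf (.pt (nat_lit 5982) (nat_lit 1)))))))) (BT.node (nat_lit 6000) (BT.node (nat_lit 5992) (BT.node (nat_lit 5988) (BT.node (nat_lit 5986) (BT.node (nat_lit 5985) (BT.leaf (.pt (nat_lit 5983) (nat_lit 3))) (BT.leaf (.pt (nat_lit 5984) (nat_lit 1)))) (BT.node (nat_lit 5987) (BT.leaf (.pt (nat_lit 5985) (nat_lit 3))) (BT.leaf (.pt (nat_lit 5986) (nat_lit 1))))) (BT.node (nat_lit 5990) (BT.node (nat_lit 5989) (BT.leaf (.pt (nat_lit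 4955) (nat_lit 1))) (BT.leaf (.pt (nat_lit 5988) (nat_lit 4)))) (BT.node (nat_lit 5991) (BT.leaf (.pt (nat_lit 5989) (nat_lit 1))) (BT.leaf (.pt (nat_lit 5877) (nat_lit 3)))))) (BT.node (nat_lit 5996) (BT.node (nat_lit 5994) (BT.node (nat_lit 5993) (BT.leaf (.pt (nat_lit 5991) (nat_lit 1))) (BT.leaf (.pt (nat_lit 5992) (nat_lit 4)))) (BT.node (nat_lit 5995) (BT.leaf (.pt (nat_lit 5993) (nat_lit 1))) (BT.leaf (.pt (nat_lit 5994) (nat_lit 3))))) (BT.node (nat_lit 5998) (BT.node (nat_lit 5997) (BT.leaf (.pt (nat_lit 5995) (nat_lit 1))) (BT.leaf (.pt (nat_lit 5953) (nat_lit 4)))) (BT.node (nat_lit 5999) (BT.leaf (.pt (nat_lit 5997) (nat_lit 1))) (BT.leaf (.pt (nat_lit 5998) (nat_lit 4))))))) (BT.node (nat_lit 6008) (BT.node (nat_lit 6004) (BT.node (nat_lit 6002) (BT.node (nat_lit 6001) (BT.leaf (.pt (nat_lit 5999) (nat_lit 1))) (BT.leaf (.pt (nat_lit 6000) (nat_lit 3)))) (BT.node (nat_lit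 6003) (BT.leaf (.pt (nat_lit 4487) (nat_lit 4))) (BT.leaf (.pt (nat_lit 6002) (nat_lit 1))))) (BT.node (nat_lit 6006) (BT.node (nat_lit 6005) (BT.leaf (.pt (nat_lit 6003) (nat_lit 4))) (BT.leaf (.pt (nat_lit 6004) (nat_lit 1)))) (BT.node (nat_lit 6007) (BT.leaf (.pt (nat_lit 6005) (nat_lit 4))) (BT.leaf (.pt (nat_lit 6006) (nat_lit 1)))))) (BT.node (nat_lit 6012) (BT.node (nat_lit 6010) (BT.node (nat_lit 6009) (BT.leaf (.pt (nat_lit 6007) (nat_lit 3))) (BT.leaf (.pt (nat_lit 6008) (nat_lit 1)))) (BT.node (nat_lit 6011) (BT.leaf (.pt (nat_lit 6009) (nat_lit 3))) (BT.leaf (.pt (nat_lit 6010) (nat_lit 1))))) (BT.node (nat_lit 6014) (BT.node (nat_lit 6013) (BT.leaf (.pt (nat_lit 6011) (nat_lit 3))) (BT.leaf (.pt (nat_lit 6012) (nat_lit 1)))) (BT.node (nat_lit 6015) (BT.leaf (.pt (nat_lit 5859) (nat_lit 4))) (BT.leaf (.pt (nat_lit 6014) (nat_lit 1)))))))))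
noncomputable def cF6016 : BT Fc := (BT.node (nat_lit 6048) (BT.node (nat_lit 6032) (BT.node (nat_lit 6024) (BT.node (nat_lit 6020) (BT.node (nat_lit 6018) (BT.node (nat_lit 6017) (BT.leaf ⟨(nat_lit 4), (nat_lit 1715), (nat_lit 0), (nat_lit 0x1c369a0cb71be32e9789d45e76377cd), (nat_lit 0), (nat_lit 0)⟩) (BT.leaf ⟨(nat_lit 4), (nat_lit 1351), (nat_lit 0), (nat_lit 0x4ac93acc2df572d89afd4443f34d2f), (nat_lit 0), (nat_lit 0)⟩)) (BT.node (nat_lit 6019) (BT.leaf ⟨(nat_lit 4), (nat_lit 3215), (nat_lit 0), (nat_lit 0x27b2fc008094be106b9baa1cdc6fe3), (nat_lit 0), (nat_lit 0)⟩) (BT.leaf ⟨(nat_lit 4), (nat_lit 2842), (nat_lit 0), (nat_lit 0xdb21ee5846c354ebd4bbaa750ea9d1), (nat_lit 0), (nat_lit 0)⟩))) (BT.node (nat_lit 6022) (BT.node (nat_lit 6021) (BT.leaf ⟨(nat_lit 4), (nat_lit 2841), (nat_lit 0), (nat_lit 0xbe75a060747103bd048080108a07cd), (nat_lit 0), (nat_lit 0)⟩) (BT.leaf ⟨(nat_lit 4),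 (nat_lit 3214), (nat_lit 0), (nat_lit 0x20ea900f1b278022b90811cc103e3), (nat_lit 0), (nat_lit 0)⟩)) (BT.node (nat_lit 6023) (BT.leaf ⟨(nat_lit 4), (nat_lit 1658), (nat_lit 0), (nat_lit 0x1722b45a8639d461edeabf1fa263dec), (nat_lit 0), (nat_lit 0)⟩) (BT.leaf ⟨(nat_lit 4), (nat_lit 1978), (nat_lit 0), (nat_lit 0x4bab13f029ca9f9830bf0440286e4), (nat_lit 0), (nat_lit 0)⟩)))) (BT.node (nat_lit 6028) (BT.node (nat_lit 6026) (BT.node (nat_lit 6025) (BT.leaf ⟨(nat_lit 4), (nat_lit 2457), (nat_lit 0), (nat_lit 0x20b86e74108300c0239f753ceb4155), (nat_lit 0), (nat_lit 0)⟩) (BT.leaf ⟨(nat_lit 4), (nat_lit 3273), (nat_lit 0), (nat_lit 0x3b439c728ef14e19c739e769b16349), (nat_lit 0), (nat_lit 0)⟩)) (BT.node (nat_lit 6027) (BT.leaf ⟨(nat_lit 4), (nat_lit 2952), (nat_lit 0), (nat_lit 0x200412dff746bd1cc1e9e624040884), (nat_lit 0), (nat_lit 0)⟩) (BT.leaf ⟨(nat_lit 4), (nat_lit 2951), (nat_lit 0), (nat_lit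 0x23c2848e651ec843eb012ac493a57), (nat_lit 0), (nat_lit 0)⟩))) (BT.node (nat_lit 6030) (BT.node (nat_lit 6029) (BT.leaf ⟨(nat_lit 4), (nat_lit 3192), (nat_lit 0), (nat_lit 0xf884092e4bd27c0280101275020f3b), (nat_lit 0), (nat_lit 0)⟩) (BT.leaf ⟨(nat_lit 4), (nat_lit 3191), (nat_lit 0), (nat_lit 0x78d013000be8227a5464808134f32f), (nat_lit 0), (nat_lit 0)⟩)) (BT.node (nat_lit 6031) (BT.leaf ⟨(nat_lit 4), (nat_lit 2612), (nat_lit 0), (nat_lit 0x19a495b2f2df571cb4c705f4bed892f), (nat_lit 0), (nat_lit 0)⟩) (BT.leaf ⟨(nat_lit 4), (nat_lit 2613), (nat_lit 0), (nat_lit 0x32f2c179f9ba37c7f0d6274d1ff58d), (nat_lit 0), (nat_lit 0)⟩))))) (BT.node (nat_lit 6040) (BT.node (nat_lit 6036) (BT.node (nat_lit 6034) (BT.node (nat_lit 6033) (BT.leaf ⟨(nat_lit 4), (nat_lit 2188), (nat_lit 0), (nat_lit 0x107ad88edd3c5da4f3d862727d354de), (nat_lit 0), (nat_lit 0)⟩) (BT.leaf ⟨(nat_lit 4), (nat_lit 1787), (nat_lit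 0), (nat_lit 0xd8df3be13c71b9f99bca2ef8f05f90), (nat_lit 0), (nat_lit 0)⟩)) (BT.node (nat_lit 6035) (BT.leaf ⟨(nat_lit 4), (nat_lit 1437), (nat_lit 0), (nat_lit 0x12ad3531c50e6cb5a674a2f1377b4f4), (nat_lit 0), (nat_lit 0)⟩) (BT.leaf ⟨(nat_lit 4), (nat_lit 764), (nat_lit 0), (nat_lit 0x13cf165738f70ced3073f211dccdc63), (nat_lit 0), (nat_lit 0)⟩))) (BT.node (nat_lit 6038) (BT.node (nat_lit 6037) (BT.leaf ⟨(nat_lit 4), (nat_lit 871), (nat_lit 0), (nat_lit 0xae040ef5e76806f4809002f8897005), (nat_lit 0), (nat_lit 0)⟩) (BT.leaf ⟨(nat_lit 4), (nat_lit 2649), (nat_lit 0), (nat_lit 0x95fa700c01249e047857d7cc8841dd), (nat_lit 0), (nat_lit 0)⟩)) (BT.node (nat_lit 6039) (BT.leaf ⟨(nat_lit 4), (nat_lit 3038), (nat_lit 0), (nat_lit 0x18b229c338e5e4231e73ae61ceae477), (nat_lit 0), (nat_lit 0)⟩) (BT.leaf ⟨(nat_lit 4), (nat_lit 3323), (nat_lit 0), (nat_lit 0xc008402f209a346ab5fae73a0a0101), (nat_lit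 0), (nat_lit 0)⟩)))) (BT.node (nat_lit 6044) (BT.node (nat_lit 6042) (BT.node (nat_lit 6041) (BT.leaf ⟨(nat_lit 4), (nat_lit 3536), (nat_lit 0), (nat_lit 0x1a79ec48e9343b713c9c9bd52d89db1), (nat_lit 0), (nat_lit 0)⟩) (BT.leaf ⟨(nat_lit 4), (nat_lit 1399), (nat_lit 0), (nat_lit 0xb30b7927c2a4bdcb10fcd2cbcd78fa), (nat_lit 0), (nat_lit 0)⟩)) (BT.node (nat_lit 6043) (BT.leaf ⟨(nat_lit 4), (nat_lit 1752), (nat_lit 0), (nat_lit 0x1d9865fc6d26d19574a5cd2cd7a707c), (nat_lit 0), (nat_lit 0)⟩) (BT.leaf ⟨(nat_lit 4), (nat_lit 2126), (nat_lit 0), (nat_lit 0x852f2b83a84ba4f8110137a600881), (nat_lit 0), (nat_lit 0)⟩))) (BT.node (nat_lit 6046) (BT.node (nat_lit 6045) (BT.leaf ⟨(nat_lit 4), (nat_lit 2569), (nat_lit 0), (nat_lit 0x63a7408110faf99028012821589dd), (nat_lit 0), (nat_lit 0)⟩) (BT.leaf ⟨(nat_lit 4), (nat_lit 2938), (nat_lit 0), (nat_lit 0x93dafb8a5be3982fb703789752f6c1), (nat_lit 0), (nat_lit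 0)⟩)) (BT.node (nat_lit 6047) (BT.leaf ⟨(nat_lit 4), (nat_lit 2948), (nat_lit 0), (nat_lit 0xb328bbe2efaf9ff1bf337982d1b363), (nat_lit 0), (nat_lit 0)⟩) (BT.leaf ⟨(nat_lit 4), (nat_lit 2575), (nat_lit 0), (nat_lit 0x5bfe6a409bc87e1984032b10022041), (nat_lit 0), (nat_lit 0)⟩)))))) (BT.node (nat_lit 6064) (BT.node (nat_lit 6056) (BT.node (nat_lit 6052) (BT.node (nat_lit 6050) (BT.node (nat_lit 6049) (BT.leaf ⟨(nat_lit 4), (nat_lit 2920), (nat_lit 0), (nat_lit 0xe8df9a369b26f2373e3fc6568f1be1), (nat_lit 0), (nat_lit 0)⟩) (BT.leaf ⟨(nat_lit 4), (nat_lit 2424), (nat_lit 0), (nat_lit 0x19d27a1b2df945f5a6f4da9bc390ef6), (nat_lit 0), (nat_lit 0)⟩)) (BT.node (nat_lit 6051) (BT.leaf ⟨(nat_lit 4), (nat_lit 2768), (nat_lit 0), (nat_lit 0x80109f504443d3f8a0da80c3b3028), (nat_lit 0), (nat_lit 0)⟩) (BT.leaf ⟨(nat_lit 4), (nat_lit 2710), (nat_lit 0), (nat_lit 0xae713af9577136c1d34bfe399cb36c), (nat_lit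 0), (nat_lit 0)⟩))) (BT.node (nat_lit 6054) (BT.node (nat_lit 6053) (BT.leaf ⟨(nat_lit 4), (nat_lit 2333), (nat_lit 0), (nat_lit 0x32fb3669d27f1ba7746bffd0b83744), (nat_lit 0), (nat_lit 0)⟩) (BT.leaf ⟨(nat_lit 4), (nat_lit 3155), (nat_lit 0), (nat_lit 0x11ca31bfece7e4143c33ae71ce3dc71), (nat_lit 0), (nat_lit 0)⟩)) (BT.node (nat_lit 6055) (BT.leaf ⟨(nat_lit 4), (nat_lit 2807), (nat_lit 0), (nat_lit 0x50280108205919af901ae6ee746b00), (nat_lit 0), (nat_lit 0)⟩) (BT.leaf ⟨(nat_lit 4), (nat_lit 2808), (nat_lit 0), (nat_lit 0x1409fa10025e7554bf3eac24231ee4), (nat_lit 0), (nat_lit 0)⟩)))) (BT.node (nat_lit 6060) (BT.node (nat_lit 6058) (BT.node (nat_lit 6057) (BT.leaf ⟨(nat_lit 4), (nat_lit 2881), (nat_lit 0), (nat_lit 0x1295573353641f3a7706eadd1aa3744), (nat_lit 0), (nat_lit 0)⟩) (BT.leaf ⟨(nat_lit 4), (nat_lit 2636), (nat_lit 0), (nat_lit 0xb329792dfb6cbc97ea2c2b6c49fb96), (nat_lit 0),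 (nat_lit 0)⟩)) (BT.node (nat_lit 6059) (BT.leaf ⟨(nat_lit 4), (nat_lit 2231), (nat_lit 0), (nat_lit 0x2df8d72ab07cf9a4cd9c2beeb9c1ce), (nat_lit 0), (nat_lit 0)⟩) (BT.leaf ⟨(nat_lit 4), (nat_lit 1816), (nat_lit 0), (nat_lit 0x1a346a9007720bdaf9012055cc82110), (nat_lit 0), (nat_lit 0)⟩))) (BT.node (nat_lit 6062) (BT.node (nat_lit 6061) (BT.leaf ⟨(nat_lit 4), (nat_lit 1470), (nat_lit 0), (nat_lit 0xf9c006024f877b78f205270012bb), (nat_lit 0), (nat_lit 0)⟩) (BT.leaf ⟨(nat_lit 4), (nat_lit 1469), (nat_lit 0), (nat_lit 0x1d1fb3519ead91ba7706e8c6ca52f42), (nat_lit 0), (nat_lit 0)⟩)) (BT.node (nat_lit 6063) (BT.leaf ⟨(nat_lit 4), (nat_lit 1815), (nat_lit 0), (nat_lit 0x100013e3009e355c801e8d1cd2f810), (nat_lit 0), (nat_lit 0)⟩) (BT.leaf ⟨(nat_lit 4), (nat_lit 2088), (nat_lit 0), (nat_lit 0xe2ad30faa967d51b1dd87bc84ea9d4), (nat_lit 0), (nat_lit 0)⟩))))) (BT.node (nat_lit 6072) (BT.node (nat_lit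 6068) (BT.node (nat_lit 6066) (BT.node (nat_lit 6065) (BT.leaf ⟨(nat_lit 4), (nat_lit 2539), (nat_lit 0), (nat_lit 0x1782f65e8bd2997a8fb787aaba63976), (nat_lit 0), (nat_lit 0)⟩) (BT.leaf ⟨(nat_lit 4), (nat_lit 2903), (nat_lit 0), (nat_lit 0x63953f30227150841027eaa7ce810), (nat_lit 0), (nat_lit 0)⟩)) (BT.node (nat_lit 6067) (BT.leaf ⟨(nat_lit 4), (nat_lit 2860), (nat_lit 0), (nat_lit 0x14be63ea225edc2d892727ff6d6612e), (nat_lit 0), (nat_lit 0)⟩) (BT.leaf ⟨(nat_lit 4), (nat_lit 2510), (nat_lit 0), (nat_lit 0xcebbd73be75364e76efacbeeb9553a), (nat_lit 0), (nat_lit 0)⟩))) (BT.node (nat_lit 6070) (BT.node (nat_lit 6069) (BT.leaf ⟨(nat_lit 4), (nat_lit 2047), (nat_lit 0), (nat_lit 0xe29afa4f0be976e965faca3992f25f), (nat_lit 0), (nat_lit 0)⟩) (BT.leaf ⟨(nat_lit 4), (nat_lit 2048), (nat_lit 0), (nat_lit 0x656d40404801057cba3085c1bbd6b4), (nat_lit 0), (nat_lit 0)⟩)) (BT.node (nat_lit 6071) (BT.leaf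 ⟨(nat_lit 4), (nat_lit 2027), (nat_lit 0), (nat_lit 0xf8638f38dec088091d708420801202), (nat_lit 0), (nat_lit 0)⟩) (BT.leaf ⟨(nat_lit 4), (nat_lit 1890), (nat_lit 0), (nat_lit 0x18018032f408a02a37e8d3d4e92058d), (nat_lit 0), (nat_lit 0)⟩)))) (BT.node (nat_lit 6076) (BT.node (nat_lit 6074) (BT.node (nat_lit 6073) (BT.leaf ⟨(nat_lit 4), (nat_lit 1559), (nat_lit 0), (nat_lit 0x5da4f4de6272393509ed3d27ed8c9a), (nat_lit 0), (nat_lit 0)⟩) (BT.leaf ⟨(nat_lit 4), (nat_lit 1228), (nat_lit 0), (nat_lit 0x66f653357fd9ce29c7bab8a1e31c33), (nat_lit 0), (nat_lit 0)⟩)) (BT.node (nat_lit 6075) (BT.leaf ⟨(nat_lit 4), (nat_lit 997), (nat_lit 0), (nat_lit 0x49ed893f2df4bc95cc7ab985734ea2), (nat_lit 0), (nat_lit 0)⟩) (BT.leaf ⟨(nat_lit 4), (nat_lit 998), (nat_lit 0), (nat_lit 0xac4ad5345f37fec18b9d72aef65299), (nat_lit 0), (nat_lit 0)⟩))) (BT.node (nat_lit 6078) (BT.node (nat_lit 6077) (BT.leaf ⟨(nat_lit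 4), (nat_lit 648), (nat_lit 0), (nat_lit 0xf61d248e83d26a5f0eda969aa4e313), (nat_lit 0), (nat_lit 0)⟩) (BT.leaf ⟨(nat_lit 4), (nat_lit 1024), (nat_lit 0), (nat_lit 0xae57ca991cdd45cb239570db226ab1), (nat_lit 0), (nat_lit 0)⟩)) (BT.node (nat_lit 6079) (BT.leaf ⟨(nat_lit 4), (nat_lit 1252), (nat_lit 0), (nat_lit 0x2064fef5013e323900157080410a5e), (nat_lit 0), (nat_lit 0)⟩) (BT.leaf ⟨(nat_lit 4), (nat_lit 1597), (nat_lit 0), (nat_lit 0x3002121f090181205a8f9a1117c96f), (nat_lit 0), (nat_lit 0)⟩)))))))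
noncomputable def cP6016 : BT Pf := (BT.node (nat_lit 6048) (BT.node (nat_lit 6032) (BT.node (nat_lit 6024) (BT.node (nat_lit 6020) (BT.node (nat_lit 6018) (BT.node (nat_lit 6017) (BT.leaf (.pt (nat_lit 6015) (nat_lit 4))) (BT.leaf (.pt (nat_lit 6016) (nat_lit 1)))) (BT.node (nat_lit 6019) (BT.leaf (.pt (nat_lit 5246) (nat_lit 3))) (BT.leaf (.pt (nat_lit 6018) (nat_lit 1))))) (BT.node (nat_lit 6022) (BT.node (nat_lit 6021) (BT.leaf (.pt (nat_lit 6019) (nat_lit 4))) (BT.leaf (.pt (nat_lit 6020) (nat_lit 1)))) (BT.node (nat_lit 6023) (BT.leaf (.pt (nat_lit 4833) (nat_lit 4))) (BT.leaf (.pt (nat_lit 6022) (nat_lit 1)))))) (BT.node (nat_lit 6028) (BT.node (nat_lit 6026) (BT.node (nat_lit 6025) (BT.leaf (.pt (nat_lit 6023) (nat_lit 3))) (BT.leaf (.pt (nat_lit 5207) (nat_lit 3)))) (BT.node (nat_lit 6027) (BT.leaf (.pt (nat_lit 6025) (nat_lit 1))) (BT.leaf (.pt (nat_lit 6026) (nat_lit 4)))))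 (BT.node (nat_lit 6030) (BT.node (nat_lit 6029) (BT.leaf (.pt (nat_lit 6027) (nat_lit 1))) (BT.leaf (.pt (nat_lit 6028) (nat_lit 4)))) (BT.node (nat_lit 6031) (BT.leaf (.pt (nat_lit 5946) (nat_lit 1))) (BT.leaf (.pt (nat_lit 6030) (nat_lit 4))))))) (BT.node (nat_lit 6040) (BT.node (nat_lit 6036) (BT.node (nat_lit 6034) (BT.node (nat_lit 6033) (BT.leaf (.pt (nat_lit 6031) (nat_lit 1))) (BT.leaf (.pt (nat_lit 6032) (nat_lit 4)))) (BT.node (nat_lit 6035) (BT.leaf (.pt (nat_lit 6033) (nat_lit 1))) (BT.leaf (.pt (nat_lit 4935) (nat_lit 3))))) (BT.node (nat_lit 6038) (BT.node (nat_lit 6037) (BT.leaf (.pt (nat_lit 5504) (nat_lit 1))) (BT.leaf (.pt (nat_lit 5784) (nat_lit 1)))) (BT.node (nat_lit 6039) (BT.leaf (.pt (nat_lit 6037) (nat_lit 4))) (BT.leaf (.pt (nat_lit 6038) (nat_lit 1)))))) (BT.node (nat_lit 6044) (BT.node (nat_lit 6042) (BT.node (nat_lit 6041) (BT.leaf (.pt (nat_lit 6039) (nat_lit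 4))) (BT.leaf (.pt (nat_lit 4931) (nat_lit 3)))) (BT.node (nat_lit 6043) (BT.leaf (.pt (nat_lit 6041) (nat_lit 1))) (BT.leaf (.pt (nat_lit 6042) (nat_lit 4))))) (BT.node (nat_lit 6046) (BT.node (nat_lit 6045) (BT.leaf (.pt (nat_lit 6043) (nat_lit 1))) (BT.leaf (.pt (nat_lit 6044) (nat_lit 3)))) (BT.node (nat_lit 6047) (BT.leaf (.pt (nat_lit 6045) (nat_lit 1))) (BT.leaf (.pt (nat_lit 6046) (nat_lit 4)))))))) (BT.node (nat_lit 6064) (BT.node (nat_lit 6056) (BT.node (nat_lit 6052) (BT.node (nat_lit 6050) (BT.node (nat_lit 6049) (BT.leaf (.pt (nat_lit 5955) (nat_lit 4))) (BT.leaf (.pt (nat_lit 5186) (nat_lit 4)))) (BT.node (nat_lit 6051) (BT.leaf (.pt (nat_lit 6049) (nat_lit 1))) (BT.leaf (.pt (nat_lit 6050) (nat_lit 4))))) (BT.node (nat_lit 6054) (BT.node (nat_lit 6053) (BT.leaf (.pt (nat_lit 6051) (nat_lit 1))) (BT.leaf (.pt (nat_lit 4704) (nat_lit 3)))) (BT.node (nat_lit 6055) (BT.leaf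 (.pt (nat_lit 6053) (nat_lit 1))) (BT.leaf (.pt (nat_lit 6054) (nat_lit 3)))))) (BT.node (nat_lit 6060) (BT.node (nat_lit 6058) (BT.node (nat_lit 6057) (BT.leaf (.pt (nat_lit 6055) (nat_lit 1))) (BT.leaf (.pt (nat_lit 6056) (nat_lit 3)))) (BT.node (nat_lit 6059) (BT.leaf (.pt (nat_lit 6057) (nat_lit 1))) (BT.leaf (.pt (nat_lit 6058) (nat_lit 4))))) (BT.node (nat_lit 6062) (BT.node (nat_lit 6061) (BT.leaf (.pt (nat_lit 6059) (nat_lit 1))) (BT.leaf (.pt (nat_lit 6060) (nat_lit 4)))) (BT.node (nat_lit 6063) (BT.leaf (.pt (nat_lit 6061) (nat_lit 1))) (BT.leaf (.pt (nat_lit 5326) (nat_lit 3))))))) (BT.node (nat_lit 6072) (BT.node (nat_lit 6068) (BT.node (nat_lit 6066) (BT.node (nat_lit 6065) (BT.leaf (.pt (nat_lit 6063) (nat_lit 1))) (BT.leaf (.pt (nat_lit 6064) (nat_lit 4)))) (BT.node (nat_lit 6067) (BT.leaf (.pt (nat_lit 6065) (nat_lit 1))) (BT.leaf (.pt (nat_lit 6066) (nat_lit 3)))))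 (BT.node (nat_lit 6070) (BT.node (nat_lit 6069) (BT.leaf (.pt (nat_lit 6067) (nat_lit 1))) (BT.leaf (.pt (nat_lit 6068) (nat_lit 3)))) (BT.node (nat_lit 6071) (BT.leaf (.pt (nat_lit 6069) (nat_lit 1))) (BT.leaf (.pt (nat_lit 5217) (nat_lit 4)))))) (BT.node (nat_lit 6076) (BT.node (nat_lit 6074) (BT.node (nat_lit 6073) (BT.leaf (.pt (nat_lit 6071) (nat_lit 1))) (BT.leaf (.pt (nat_lit 6072) (nat_lit 4)))) (BT.node (nat_lit 6075) (BT.leaf (.pt (nat_lit 6073) (nat_lit 1))) (BT.leaf (.pt (nat_lit 6074) (nat_lit 3))))) (BT.node (nat_lit 6078) (BT.node (nat_lit 6077) (BT.leaf (.pt (nat_lit 5786) (nat_lit 3))) (BT.leaf (.pt (nat_lit 5081) (nat_lit 4)))) (BT.node (nat_lit 6079) (BT.leaf (.pt (nat_lit 6077) (nat_lit 1))) (BT.leaf (.pt (nat_lit 6078) (nat_lit 3)))))))))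
noncomputable def cF6080 : BT Fc := (BT.node (nat_lit 6112) (BT.node (nat_lit 6096) (BT.node (nat_lit 6088) (BT.node (nat_lit 6084) (BT.node (nat_lit 6082) (BT.node (nat_lit 6081) (BT.leaf ⟨(nat_lit 4), (nat_lit 1923), (nat_lit 0), (nat_lit 0x995c6d34d4432cbcf0df9b962e9785), (nat_lit 0), (nat_lit 0)⟩) (BT.leaf ⟨(nat_lit 4), (nat_lit 2384), (nat_lit 0), (nat_lit 0x17aa4e00a25a974eb822e88f8421202), (nat_lit 0), (nat_lit 0)⟩)) (BT.node (nat_lit 6083) (BT.leaf ⟨(nat_lit 5), (nat_lit 7), (nat_lit 0), (nat_lit 0x420400000004000008000000000000000000000000000000000000001000000000000000204000000000000000000000000000000000000000000000001000000000000004000008000000000000000000000000000000000000000000000000000000000000000000100000000004000000000000000000000000000000000000000000000000000000080000000000000000000800000000000400000000000000002000000000000000001000000000000200000000000000000000000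00000000000000000000000000000000000000000000000000000800000000000000800000000200000000000000001000000000008000000000000000000000000000000000000002000000000000000000000000000000000000000000000000040200200000000000000000000080000000000000000000001000000000000000000000000040002000000000000000000000000000000000004000000000000000000000000000000080000000000000020000000000100000000000000000000000000001000000000000000000000000000000000000000000000000000000000000000000000000000000000000000000000000000020000000000100000000000000000000000000000000000000000000000100), (nat_lit 0), (nat_lit 0)⟩) (BT.leaf ⟨(nat_lit 4), (nat_lit 3069), (nat_lit 0), (nat_lit 0x5e58e7db39d45f726744d52af7b6fc), (nat_lit 0), (nat_lit 0)⟩))) (BT.node (nat_lit 6086) (BT.node (nat_lit 6085) (BT.leaf ⟨(nat_lit 4), (nat_lit 2728), (nat_lit 0), (nat_lit 0x1a3490108c74409afd735c6ee6cf0d5), (nat_lit 0), (nat_lit 0)⟩) (BT.leaf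 ⟨(nat_lit 4), (nat_lit 2360), (nat_lit 0), (nat_lit 0x1e4252f7d46df8d6646e5c6e8df5cd9), (nat_lit 0), (nat_lit 0)⟩)) (BT.node (nat_lit 6087) (BT.leaf ⟨(nat_lit 4), (nat_lit 3291), (nat_lit 0), (nat_lit 0x13ceb9d5c7fc3b6d30736931ce19c63), (nat_lit 0), (nat_lit 0)⟩) (BT.leaf ⟨(nat_lit 4), (nat_lit 2985), (nat_lit 0), (nat_lit 0xcea6cf7ae541f2b2fba69273b0a8b7), (nat_lit 0), (nat_lit 0)⟩)))) (BT.node (nat_lit 6092) (BT.node (nat_lit 6090) (BT.node (nat_lit 6089) (BT.leaf ⟨(nat_lit 4), (nat_lit 2602), (nat_lit 0), (nat_lit 0x14027468d2200bffa59ec8cee6b98d5), (nat_lit 0), (nat_lit 0)⟩) (BT.leaf ⟨(nat_lit 4), (nat_lit 3045), (nat_lit 0), (nat_lit 0x800083e33aa4024f004bd10004073a), (nat_lit 0), (nat_lit 0)⟩)) (BT.node (nat_lit 6091) (BT.leaf ⟨(nat_lit 4), (nat_lit 3154), (nat_lit 0), (nat_lit 0x17b263d685a5edef07e8bd0abb05c3d), (nat_lit 0), (nat_lit 0)⟩) (BT.leaf ⟨(nat_lit 4), (nat_lit 1171),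 (nat_lit 0), (nat_lit 0x1782b44e833772132df85a47a2f47b7), (nat_lit 0), (nat_lit 0)⟩))) (BT.node (nat_lit 6094) (BT.node (nat_lit 6093) (BT.leaf ⟨(nat_lit 4), (nat_lit 3066), (nat_lit 0), (nat_lit 0x9fe100607867d4108a004172110024), (nat_lit 0), (nat_lit 0)⟩) (BT.leaf ⟨(nat_lit 4), (nat_lit 1718), (nat_lit 0), (nat_lit 0x997c2f9db1be3dc6f8cf13e37d6e8d), (nat_lit 0), (nat_lit 0)⟩)) (BT.node (nat_lit 6095) (BT.leaf ⟨(nat_lit 4), (nat_lit 1354), (nat_lit 0), (nat_lit 0x155e824208f9e4d5ecf124ac0a204), (nat_lit 0), (nat_lit 0)⟩) (BT.leaf ⟨(nat_lit 4), (nat_lit 1353), (nat_lit 0), (nat_lit 0x11ca79873ae6ff9a4c338c63b7c8453), (nat_lit 0), (nat_lit 0)⟩))))) (BT.node (nat_lit 6104) (BT.node (nat_lit 6100) (BT.node (nat_lit 6098) (BT.node (nat_lit 6097) (BT.leaf ⟨(nat_lit 4), (nat_lit 2908), (nat_lit 0), (nat_lit 0x1294ad2369b2f9cde7e37e6f8e372e3), (nat_lit 0), (nat_lit 0)⟩) (BT.leaf ⟨(nat_lit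 4), (nat_lit 3250), (nat_lit 0), (nat_lit 0x10437279d2212380c7567e60c0e2f2a), (nat_lit 0), (nat_lit 0)⟩)) (BT.node (nat_lit 6099) (BT.leaf ⟨(nat_lit 4), (nat_lit 3235), (nat_lit 0), (nat_lit 0x1ae765583772db14cabdc4e8e4ad0e6), (nat_lit 0), (nat_lit 0)⟩) (BT.leaf ⟨(nat_lit 4), (nat_lit 2888), (nat_lit 0), (nat_lit 0x126a4ff7dd832718989ec4f279d259e), (nat_lit 0), (nat_lit 0)⟩))) (BT.node (nat_lit 6102) (BT.node (nat_lit 6101) (BT.leaf ⟨(nat_lit 4), (nat_lit 2889), (nat_lit 0), (nat_lit 0x11dd43d73c58d2639da68e39cf65453), (nat_lit 0), (nat_lit 0)⟩) (BT.leaf ⟨(nat_lit 4), (nat_lit 3236), (nat_lit 0), (nat_lit 0x75ef52bb044109f08068e22088125d), (nat_lit 0), (nat_lit 0)⟩)) (BT.node (nat_lit 6103) (BT.leaf ⟨(nat_lit 4), (nat_lit 953), (nat_lit 0), (nat_lit 0x1b05d24969bd89e4749f97cc4ed8e9e), (nat_lit 0), (nat_lit 0)⟩) (BT.leaf ⟨(nat_lit 4), (nat_lit 436), (nat_lit 0), (nat_lit 0x1cc83e615e74d279f583749eebbd565),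 (nat_lit 0), (nat_lit 0)⟩)))) (BT.node (nat_lit 6108) (BT.node (nat_lit 6106) (BT.node (nat_lit 6105) (BT.leaf ⟨(nat_lit 4), (nat_lit 333), (nat_lit 0), (nat_lit 0x189e474ded8367b4f496748c4ed8c9e), (nat_lit 0), (nat_lit 0)⟩) (BT.leaf ⟨(nat_lit 4), (nat_lit 1020), (nat_lit 0), (nat_lit 0x10401848e029e7408c63eadb90e2910), (nat_lit 0), (nat_lit 0)⟩)) (BT.node (nat_lit 6107) (BT.leaf ⟨(nat_lit 4), (nat_lit 768), (nat_lit 0), (nat_lit 0x7a3f44e8bd90f58e4c74cb78157568), (nat_lit 0), (nat_lit 0)⟩) (BT.leaf ⟨(nat_lit 4), (nat_lit 614), (nat_lit 0), (nat_lit 0x1a8ae90cbe1be3d89b8d4cb4d346f89), (nat_lit 0), (nat_lit 0)⟩))) (BT.node (nat_lit 6110) (BT.node (nat_lit 6109) (BT.leaf ⟨(nat_lit 4), (nat_lit 1855), (nat_lit 0), (nat_lit 0x18021009ea01007f1c4068d00a025d5), (nat_lit 0), (nat_lit 0)⟩) (BT.leaf ⟨(nat_lit 4), (nat_lit 1515), (nat_lit 0), (nat_lit 0x1c1957742d27f1ba754668c6c9ec646), (nat_lit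 0), (nat_lit 0)⟩)) (BT.node (nat_lit 6111) (BT.leaf ⟨(nat_lit 4), (nat_lit 1203), (nat_lit 0), (nat_lit 0x1deb954d9ddece85bf3a749ccbdd73e), (nat_lit 0), (nat_lit 0)⟩) (BT.leaf ⟨(nat_lit 4), (nat_lit 966), (nat_lit 0), (nat_lit 0x1279ec41e935a7acf4de749273bed4b), (nat_lit 0), (nat_lit 0)⟩)))))) (BT.node (nat_lit 6128) (BT.node (nat_lit 6120) (BT.node (nat_lit 6116) (BT.node (nat_lit 6114) (BT.node (nat_lit 6113) (BT.leaf ⟨(nat_lit 4), (nat_lit 737), (nat_lit 0), (nat_lit 0x42319c5028fcc094104204ff9579d), (nat_lit 0), (nat_lit 0)⟩) (BT.leaf ⟨(nat_lit 4), (nat_lit 1791), (nat_lit 0), (nat_lit 0x10a0120293800b7b0120444080378f), (nat_lit 0), (nat_lit 0)⟩)) (BT.node (nat_lit 6115) (BT.leaf ⟨(nat_lit 4), (nat_lit 1441), (nat_lit 0), (nat_lit 0xc13f824f5bc6810860044a65104be), (nat_lit 0), (nat_lit 0)⟩) (BT.leaf ⟨(nat_lit 4), (nat_lit 1442), (nat_lit 0), (nat_lit 0x10429789e71b8035cc00675f8e012f4),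 (nat_lit 0), (nat_lit 0)⟩))) (BT.node (nat_lit 6118) (BT.node (nat_lit 6117) (BT.leaf ⟨(nat_lit 4), (nat_lit 1792), (nat_lit 0), (nat_lit 0x1ceb9973839cb4b9f72a6758e9d20b7), (nat_lit 0), (nat_lit 0)⟩) (BT.leaf ⟨(nat_lit 4), (nat_lit 815), (nat_lit 0), (nat_lit 0x1d1d57335d279a4d97420f9297ab74e), (nat_lit 0), (nat_lit 0)⟩)) (BT.node (nat_lit 6119) (BT.leaf ⟨(nat_lit 4), (nat_lit 2426), (nat_lit 0), (nat_lit 0xae64f3e3f1a754201000080420025f), (nat_lit 0), (nat_lit 0)⟩) (BT.leaf ⟨(nat_lit 4), (nat_lit 1989), (nat_lit 0), (nat_lit 0x412f64044b64af782bd008811f3f89), (nat_lit 0), (nat_lit 0)⟩)))) (BT.node (nat_lit 6124) (BT.node (nat_lit 6122) (BT.node (nat_lit 6121) (BT.leaf ⟨(nat_lit 4), (nat_lit 63), (nat_lit 0), (nat_lit 0x1b2ba895a57a2e54cb6ca6989f5cb96), (nat_lit 0), (nat_lit 0)⟩) (BT.leaf ⟨(nat_lit 4), (nat_lit 1738), (nat_lit 0), (nat_lit 0x14004f40868d97e08420800ce8399e8), (nat_lit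 0), (nat_lit 0)⟩)) (BT.node (nat_lit 6123) (BT.leaf ⟨(nat_lit 4), (nat_lit 1383), (nat_lit 0), (nat_lit 0x815cc73bd1e35f190080010004746), (nat_lit 0), (nat_lit 0)⟩) (BT.leaf ⟨(nat_lit 4), (nat_lit 1185), (nat_lit 0), (nat_lit 0x8500811bd30040292e012f8bc6472), (nat_lit 0), (nat_lit 0)⟩))) (BT.node (nat_lit 6126) (BT.node (nat_lit 6125) (BT.leaf ⟨(nat_lit 4), (nat_lit 946), (nat_lit 0), (nat_lit 0x49c047858f6423a7028013cc80c5e0), (nat_lit 0), (nat_lit 0)⟩) (BT.leaf ⟨(nat_lit 4), (nat_lit 724), (nat_lit 0), (nat_lit 0xcbe7a7e8ce68429d60060080900a04), (nat_lit 0), (nat_lit 0)⟩)) (BT.node (nat_lit 6127) (BT.leaf ⟨(nat_lit 4), (nat_lit 568), (nat_lit 0), (nat_lit 0x14006a9012086034682f600b8e74573), (nat_lit 0), (nat_lit 0)⟩) (BT.leaf ⟨(nat_lit 4), (nat_lit 569), (nat_lit 0), (nat_lit 0xbd37a287de0c728bee4ce9ad27a1ce), (nat_lit 0), (nat_lit 0)⟩))))) (BT.node (nat_lit 6136) (BT.node (nat_lit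 6132) (BT.node (nat_lit 6130) (BT.node (nat_lit 6129) (BT.leaf ⟨(nat_lit 4), (nat_lit 725), (nat_lit 0), (nat_lit 0x2420f280f74b7c40c80ce820a79884), (nat_lit 0), (nat_lit 0)⟩) (BT.leaf ⟨(nat_lit 4), (nat_lit 948), (nat_lit 0), (nat_lit 0x6158bebe65bf3a70288f60252ba08), (nat_lit 0), (nat_lit 0)⟩)) (BT.node (nat_lit 6131) (BT.leaf ⟨(nat_lit 4), (nat_lit 1186), (nat_lit 0), (nat_lit 0x114e79e2cce61ce3bc638f70cfc8349), (nat_lit 0), (nat_lit 0)⟩) (BT.leaf ⟨(nat_lit 4), (nat_lit 1173), (nat_lit 0), (nat_lit 0x11c7655a68ef1ce3de73336ffa31d5c), (nat_lit 0), (nat_lit 0)⟩))) (BT.node (nat_lit 6134) (BT.node (nat_lit 6133) (BT.leaf ⟨(nat_lit 4), (nat_lit 932), (nat_lit 0), (nat_lit 0x1fa18e5f898eb4a745ea33782e1edec), (nat_lit 0), (nat_lit 0)⟩) (BT.leaf ⟨(nat_lit 4), (nat_lit 715), (nat_lit 0), (nat_lit 0x2e6ffabd72cdb0ad2b9b0639b652b1), (nat_lit 0), (nat_lit 0)⟩)) (BT.node (nat_lit 6135) (BT.leaf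 ⟨(nat_lit 4), (nat_lit 557), (nat_lit 0), (nat_lit 0x1cebbd349e64ceb9553ab062df9f615), (nat_lit 0), (nat_lit 0)⟩) (BT.leaf ⟨(nat_lit 4), (nat_lit 930), (nat_lit 0), (nat_lit 0x1caa9d73aaca1f0e77325a5bbf1d349), (nat_lit 0), (nat_lit 0)⟩)))) (BT.node (nat_lit 6140) (BT.node (nat_lit 6138) (BT.node (nat_lit 6137) (BT.leaf ⟨(nat_lit 4), (nat_lit 3517), (nat_lit 0), (nat_lit 0x100008080005d192f8048e64bd5cf3a), (nat_lit 0), (nat_lit 0)⟩) (BT.leaf ⟨(nat_lit 4), (nat_lit 3518), (nat_lit 0), (nat_lit 0x18018053a4042e597a20a8d3d339bd5), (nat_lit 0), (nat_lit 0)⟩)) (BT.node (nat_lit 6139) (BT.leaf ⟨(nat_lit 4), (nat_lit 3207), (nat_lit 0), (nat_lit 0x169a3bf9050f3ce31c718a78b239eca), (nat_lit 0), (nat_lit 0)⟩) (BT.leaf ⟨(nat_lit 4), (nat_lit 1719), (nat_lit 0), (nat_lit 0xaa5dcabd89b4d15c2f96d8a655cd83), (nat_lit 0), (nat_lit 0)⟩))) (BT.node (nat_lit 6142) (BT.node (nat_lit 6141) (BT.leaf ⟨(nat_lit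 4), (nat_lit 1355), (nat_lit 0), (nat_lit 0x656d31d5dde776a59c56d875ce8f21), (nat_lit 0), (nat_lit 0)⟩) (BT.leaf ⟨(nat_lit 4), (nat_lit 1106), (nat_lit 0), (nat_lit 0x900f1a01a742e6a37e8409a7904200), (nat_lit 0), (nat_lit 0)⟩)) (BT.node (nat_lit 6143) (BT.leaf ⟨(nat_lit 4), (nat_lit 845), (nat_lit 0), (nat_lit 0x17b0e880c0080537804440809002f3e), (nat_lit 0), (nat_lit 0)⟩) (BT.leaf ⟨(nat_lit 4), (nat_lit 846), (nat_lit 0), (nat_lit 0x182cde4d97c6f89e195a7e6b30f1ca5), (nat_lit 0), (nat_lit 0)⟩)))))))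
noncomputable def cP6080 : BT Pf := (BT.node (nat_lit 6112) (BT.node (nat_lit 6096) (BT.node (nat_lit 6088) (BT.node (nat_lit 6084) (BT.node (nat_lit 6082) (BT.node (nat_lit 6081) (BT.leaf (.pt (nat_lit 6079) (nat_lit 1))) (BT.leaf (.pt (nat_lit 6080) (nat_lit 3)))) (BT.node (nat_lit 6083) (BT.leaf (.cov [] [⟨(nat_lit 1132), (nat_lit 5973), [(nat_lit 826), (nat_lit 1136)]⟩, ⟨(nat_lit 1134), (nat_lit 5978), [(nat_lit 240), (nat_lit 835)]⟩, ⟨(nat_lit 1135), (nat_lit 5980), [(nat_lit 763), (nat_lit 875)]⟩, ⟨(nat_lit 1137), (nat_lit 5987), [(nat_lit 763), (nat_lit 249)]⟩, ⟨(nat_lit 1138), (nat_lit 4902), [(nat_lit 913), (nat_lit 712)]⟩, ⟨(nat_lit 1139), (nat_lit 5438), [(nat_lit 943), (nat_lit 248)]⟩, ⟨(nat_lit 1142), (nat_lit 5990), [(nat_lit 520), (nat_lit 449)]⟩, ⟨(nat_lit 1143), (nat_lit 5996), [(nat_lit 43), (nat_lit 982)]⟩, ⟨(nat_lit 1144), (nat_lit 6001), [(nat_lit 1106), (nat_lit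 222)]⟩, ⟨(nat_lit 1145), (nat_lit 6013), [(nat_lit 254), (nat_lit 206)]⟩, ⟨(nat_lit 1146), (nat_lit 4913), [(nat_lit 473), (nat_lit 972)]⟩, ⟨(nat_lit 1149), (nat_lit 6017), [(nat_lit 209), (nat_lit 235)]⟩, ⟨(nat_lit 1154), (nat_lit 5229), [(nat_lit 1056), (nat_lit 821)]⟩, ⟨(nat_lit 1156), (nat_lit 5539), [(nat_lit 209), (nat_lit 330)]⟩, ⟨(nat_lit 1157), (nat_lit 5921), [(nat_lit 493), (nat_lit 717)]⟩, ⟨(nat_lit 1158), (nat_lit 6021), [(nat_lit 406), (nat_lit 586)]⟩, ⟨(nat_lit 1159), (nat_lit 6024), [(nat_lit 381), (nat_lit 279)]⟩, ⟨(nat_lit 1160), (nat_lit 6029), [(nat_lit 741), (nat_lit 605)]⟩, ⟨(nat_lit 1161), (nat_lit 6034), [(nat_lit 1600), (nat_lit 624)]⟩, ⟨(nat_lit 1163), (nat_lit 4535), [(nat_lit 928), (nat_lit 89)]⟩, ⟨(nat_lit 1164), (nat_lit 6035), [(nat_lit 19), (nat_lit 320)]⟩, ⟨(nat_lit 1166), (nat_lit 4663), [(nat_lit 1056), (nat_lit 676)]⟩, ⟨(nat_lit 1167), (nat_lit 6036),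 [(nat_lit 152), (nat_lit 737)]⟩, ⟨(nat_lit 1168), (nat_lit 6040), [(nat_lit 544), (nat_lit 802)]⟩, ⟨(nat_lit 1170), (nat_lit 6047), [(nat_lit 196), (nat_lit 395)]⟩, ⟨(nat_lit 1172), (nat_lit 5562), [(nat_lit 523), (nat_lit 808)]⟩, ⟨(nat_lit 1177), (nat_lit 6048), [(nat_lit 450), (nat_lit 287)]⟩, ⟨(nat_lit 1178), (nat_lit 4676), [(nat_lit 356), (nat_lit 1204)]⟩, ⟨(nat_lit 1179), (nat_lit 6052), [(nat_lit 941), (nat_lit 88)]⟩, ⟨(nat_lit 1181), (nat_lit 4834), [(nat_lit 441), (nat_lit 646)]⟩, ⟨(nat_lit 1182), (nat_lit 6062), [(nat_lit 991), (nat_lit 206)]⟩, ⟨(nat_lit 1185), (nat_lit 6070), [(nat_lit 150), (nat_lit 968)]⟩, ⟨(nat_lit 1186), (nat_lit 6075), [(nat_lit 521), (nat_lit 1745)]⟩, ⟨(nat_lit 1190), (nat_lit 5618), [(nat_lit 902), (nat_lit 864)]⟩, ⟨(nat_lit 1191), (nat_lit 5894), [(nat_lit 255), (nat_lit 778)]⟩, ⟨(nat_lit 1194), (nat_lit 5536), [(nat_lit 296), (nat_lit 291)]⟩, ⟨(nat_lit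 1196), (nat_lit 4863), [(nat_lit 1026), (nat_lit 972)]⟩, ⟨(nat_lit 1197), (nat_lit 4728), [(nat_lit 487), (nat_lit 163)]⟩, ⟨(nat_lit 1198), (nat_lit 6076), [(nat_lit 1027), (nat_lit 1348)]⟩, ⟨(nat_lit 1199), (nat_lit 6081), [(nat_lit 212), (nat_lit 236)]⟩])) (BT.leaf (.pt (nat_lit 4598) (nat_lit 1))))) (BT.node (nat_lit 6086) (BT.node (nat_lit 6085) (BT.leaf (.pt (nat_lit 6083) (nat_lit 3))) (BT.leaf (.pt (nat_lit 6084) (nat_lit 1)))) (BT.node (nat_lit 6087) (BT.leaf (.pt (nat_lit 5814) (nat_lit 3))) (BT.leaf (.pt (nat_lit 6086) (nat_lit 1)))))) (BT.node (nat_lit 6092) (BT.node (nat_lit 6090) (BT.node (nat_lit 6089) (BT.leaf (.pt (nat_lit 6087) (nat_lit 3))) (BT.leaf (.pt (nat_lit 5254) (nat_lit 3)))) (BT.node (nat_lit 6091) (BT.leaf (.pt (nat_lit 6089) (nat_lit 1))) (BT.leaf (.pt (nat_lit 5879) (nat_lit 3))))) (BT.node (nat_lit 6094) (BT.node (nat_lit 6093) (BT.leaf (.pt (nat_lit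 5711) (nat_lit 3))) (BT.leaf (.pt (nat_lit 5164) (nat_lit 4)))) (BT.node (nat_lit 6095) (BT.leaf (.pt (nat_lit 6093) (nat_lit 1))) (BT.leaf (.pt (nat_lit 6094) (nat_lit 4))))))) (BT.node (nat_lit 6104) (BT.node (nat_lit 6100) (BT.node (nat_lit 6098) (BT.node (nat_lit 6097) (BT.leaf (.pt (nat_lit 5036) (nat_lit 4))) (BT.leaf (.pt (nat_lit 6096) (nat_lit 1)))) (BT.node (nat_lit 6099) (BT.leaf (.pt (nat_lit 6097) (nat_lit 3))) (BT.leaf (.pt (nat_lit 6098) (nat_lit 1))))) (BT.node (nat_lit 6102) (BT.node (nat_lit 6101) (BT.leaf (.pt (nat_lit 6099) (nat_lit 3))) (BT.leaf (.pt (nat_lit 6100) (nat_lit 1)))) (BT.node (nat_lit 6103) (BT.leaf (.pt (nat_lit 4952) (nat_lit 3))) (BT.leaf (.pt (nat_lit 4688) (nat_lit 4)))))) (BT.node (nat_lit 6108) (BT.node (nat_lit 6106) (BT.node (nat_lit 6105) (BT.leaf (.pt (nat_lit 6103) (nat_lit 1))) (BT.leaf (.pt (nat_lit 5134) (nat_lit 1)))) (BT.node (nat_lit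 6107) (BT.leaf (.pt (nat_lit 6105) (nat_lit 3))) (BT.leaf (.pt (nat_lit 6106) (nat_lit 1))))) (BT.node (nat_lit 6110) (BT.node (nat_lit 6109) (BT.leaf (.pt (nat_lit 5843) (nat_lit 4))) (BT.leaf (.pt (nat_lit 6108) (nat_lit 1)))) (BT.node (nat_lit 6111) (BT.leaf (.pt (nat_lit 6109) (nat_lit 4))) (BT.leaf (.pt (nat_lit 6110) (nat_lit 1)))))))) (BT.node (nat_lit 6128) (BT.node (nat_lit 6120) (BT.node (nat_lit 6116) (BT.node (nat_lit 6114) (BT.node (nat_lit 6113) (BT.leaf (.pt (nat_lit 6111) (nat_lit 3))) (BT.leaf (.pt (nat_lit 4796) (nat_lit 4)))) (BT.node (nat_lit 6115) (BT.leaf (.pt (nat_lit 6113) (nat_lit 1))) (BT.leaf (.pt (nat_lit 6114) (nat_lit 3))))) (BT.node (nat_lit 6118) (BT.node (nat_lit 6117) (BT.leaf (.pt (nat_lit 6115) (nat_lit 1))) (BT.leaf (.pt (nat_lit 5965) (nat_lit 3)))) (BT.node (nat_lit 6119) (BT.leaf (.pt (nat_lit 5272) (nat_lit 4))) (BT.leaf (.pt (nat_lit 6118)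 (nat_lit 1)))))) (BT.node (nat_lit 6124) (BT.node (nat_lit 6122) (BT.node (nat_lit 6121) (BT.leaf (.pt (nat_lit 5071) (nat_lit 4))) (BT.leaf (.pt (nat_lit 5792) (nat_lit 3)))) (BT.node (nat_lit 6123) (BT.leaf (.pt (nat_lit 6121) (nat_lit 1))) (BT.leaf (.pt (nat_lit 6122) (nat_lit 4))))) (BT.node (nat_lit 6126) (BT.node (nat_lit 6125) (BT.leaf (.pt (nat_lit 6123) (nat_lit 1))) (BT.leaf (.pt (nat_lit 6124) (nat_lit 3)))) (BT.node (nat_lit 6127) (BT.leaf (.pt (nat_lit 6125) (nat_lit 1))) (BT.leaf (.pt (nat_lit 6126) (nat_lit 3))))))) (BT.node (nat_lit 6136) (BT.node (nat_lit 6132) (BT.node (nat_lit 6130) (BT.node (nat_lit 6129) (BT.leaf (.pt (nat_lit 6127) (nat_lit 1))) (BT.leaf (.pt (nat_lit 6128) (nat_lit 4)))) (BT.node (nat_lit 6131) (BT.leaf (.pt (nat_lit 6129) (nat_lit 1))) (BT.leaf (.pt (nat_lit 5563) (nat_lit 3))))) (BT.node (nat_lit 6134) (BT.node (nat_lit 6133) (BT.leaf (.pt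 (nat_lit 6131) (nat_lit 1))) (BT.leaf (.pt (nat_lit 6132) (nat_lit 3)))) (BT.node (nat_lit 6135) (BT.leaf (.pt (nat_lit 6133) (nat_lit 1))) (BT.leaf (.pt (nat_lit 6091) (nat_lit 1)))))) (BT.node (nat_lit 6140) (BT.node (nat_lit 6138) (BT.node (nat_lit 6137) (BT.leaf (.pt (nat_lit 5819) (nat_lit 1))) (BT.leaf (.pt (nat_lit 6136) (nat_lit 3)))) (BT.node (nat_lit 6139) (BT.leaf (.pt (nat_lit 5011) (nat_lit 4))) (BT.leaf (.pt (nat_lit 5179) (nat_lit 4))))) (BT.node (nat_lit 6142) (BT.node (nat_lit 6141) (BT.leaf (.pt (nat_lit 6139) (nat_lit 1))) (BT.leaf (.pt (nat_lit 6140) (nat_lit 4)))) (BT.node (nat_lit 6143) (BT.leaf (.pt (nat_lit 6141) (nat_lit 1))) (BT.leaf (.pt (nat_lit 6142) (nat_lit 3)))))))))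
noncomputable def cF6144 : BT Fc := (BT.node (nat_lit 6176) (BT.node (nat_lit 6160) (BT.node (nat_lit 6152) (BT.node (nat_lit 6148) (BT.node (nat_lit 6146) (BT.node (nat_lit 6145) (BT.leaf ⟨(nat_lit 4), (nat_lit 1107), (nat_lit 0), (nat_lit 0xaa448210ead0400c5f87e723b95010), (nat_lit 0), (nat_lit 0)⟩) (BT.leaf ⟨(nat_lit 4), (nat_lit 1358), (nat_lit 0), (nat_lit 0xee6b9920c8cb8c8168dc7442280300), (nat_lit 0), (nat_lit 0)⟩)) (BT.node (nat_lit 6147) (BT.leaf ⟨(nat_lit 4), (nat_lit 1721), (nat_lit 0), (nat_lit 0x2df9533aa74b4b9d583c758578d07c), (nat_lit 0), (nat_lit 0)⟩) (BT.leaf ⟨(nat_lit 4), (nat_lit 1850), (nat_lit 0), (nat_lit 0x1e244200640841378044048012f6404), (nat_lit 0), (nat_lit 0)⟩))) (BT.node (nat_lit 6150) (BT.node (nat_lit 6149) (BT.leaf ⟨(nat_lit 4), (nat_lit 1510), (nat_lit 0), (nat_lit 0x1838d5c8840a67b37ad0480a011220), (nat_lit 0), (nat_lit 0)⟩) (BT.leaf ⟨(nat_lit 4),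 (nat_lit 1200), (nat_lit 0), (nat_lit 0x300aaa809002084418047307842674), (nat_lit 0), (nat_lit 0)⟩)) (BT.node (nat_lit 6151) (BT.leaf ⟨(nat_lit 4), (nat_lit 963), (nat_lit 0), (nat_lit 0xee4732bd89aae3a8af9472ae45ceb9), (nat_lit 0), (nat_lit 0)⟩) (BT.leaf ⟨(nat_lit 5), (nat_lit 7), (nat_lit 0), (nat_lit 0x4000000000000000000000000000000000000000000000000000000000000000000000100000008000000000000400000000000000000000040000000000000000000000000000000000000000000000000000000000000000000000000000000000000000000000000000000000000000000404000001000000000000020000000000000000000000000000000000000100000000000000000000000000000000000040000000000000000000000000000000000000010000000000000000200000000000000000000000000000000000000000000008010000000000000000000000000000000000000000000000000000000000000000000008000000040000000000000000000000000000000200000000000000000000000000000000000000000400080000008000000000000000000008000000000000000000000008020000040000000000000000000000080000808000000000000000020000000000000000000000000000004000000000000020000000000000002000000000000000000000000000000000000000200400020000000000020000000000000040000000000000000020000000000000008020000000000000),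 (nat_lit 0), (nat_lit 0)⟩)))) (BT.node (nat_lit 6156) (BT.node (nat_lit 6154) (BT.node (nat_lit 6153) (BT.leaf ⟨(nat_lit 4), (nat_lit 674), (nat_lit 0), (nat_lit 0x1df5663e7fc6d8d71be2746f0e8bbe3), (nat_lit 0), (nat_lit 0)⟩) (BT.leaf ⟨(nat_lit 4), (nat_lit 3614), (nat_lit 0), (nat_lit 0x301b18819e707850239108554d7a80), (nat_lit 0), (nat_lit 0)⟩)) (BT.node (nat_lit 6155) (BT.leaf ⟨(nat_lit 4), (nat_lit 3407), (nat_lit 0), (nat_lit 0xaf52d92b40801882044109cf802c77), (nat_lit 0), (nat_lit 0)⟩) (BT.leaf ⟨(nat_lit 4), (nat_lit 3406), (nat_lit 0), (nat_lit 0xac7c2828410220046fc01242005127), (nat_lit 0), (nat_lit 0)⟩))) (BT.node (nat_lit 6158) (BT.node (nat_lit 6157) (BT.leaf ⟨(nat_lit 4), (nat_lit 3613), (nat_lit 0), (nat_lit 0x1bd40280325c106392b801275010a01), (nat_lit 0), (nat_lit 0)⟩) (BT.leaf ⟨(nat_lit 4), (nat_lit 1713), (nat_lit 0), (nat_lit 0x41171ff42058e8a0101301679af920), (nat_lit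 0), (nat_lit 0)⟩)) (BT.node (nat_lit 6159) (BT.leaf ⟨(nat_lit 4), (nat_lit 1349), (nat_lit 0), (nat_lit 0x204aaadf140202798843008e73a082), (nat_lit 0), (nat_lit 0)⟩) (BT.leaf ⟨(nat_lit 4), (nat_lit 2877), (nat_lit 0), (nat_lit 0x17e3ce91049f0437213f060fce472a9), (nat_lit 0), (nat_lit 0)⟩))))) (BT.node (nat_lit 6168) (BT.node (nat_lit 6164) (BT.node (nat_lit 6162) (BT.node (nat_lit 6161) (BT.leaf ⟨(nat_lit 4), (nat_lit 3180), (nat_lit 0), (nat_lit 0x43d104be53208b8d5c8061d989027f), (nat_lit 0), (nat_lit 0)⟩) (BT.leaf ⟨(nat_lit 4), (nat_lit 2785), (nat_lit 0), (nat_lit 0x1a8bc4dd2a69a3465b8df1fe33ce979), (nat_lit 0), (nat_lit 0)⟩)) (BT.node (nat_lit 6163) (BT.leaf ⟨(nat_lit 4), (nat_lit 1462), (nat_lit 0), (nat_lit 0x5daf55f83d16a2b42d287b72274265), (nat_lit 0), (nat_lit 0)⟩) (BT.leaf ⟨(nat_lit 4), (nat_lit 799), (nat_lit 0), (nat_lit 0x1ce3992d2e7cce8e7615e75bbfdd349), (nat_lit 0),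 (nat_lit 0)⟩))) (BT.node (nat_lit 6166) (BT.node (nat_lit 6165) (BT.leaf ⟨(nat_lit 4), (nat_lit 380), (nat_lit 0), (nat_lit 0x17e21e9764cb5a1572d298f6a0f44e8), (nat_lit 0), (nat_lit 0)⟩) (BT.leaf ⟨(nat_lit 4), (nat_lit 381), (nat_lit 0), (nat_lit 0x93cde35fba597d0fcab5be399b825e), (nat_lit 0), (nat_lit 0)⟩)) (BT.node (nat_lit 6167) (BT.leaf ⟨(nat_lit 4), (nat_lit 61), (nat_lit 0), (nat_lit 0x10409f8118c604828756061e740c6e4), (nat_lit 0), (nat_lit 0)⟩) (BT.leaf ⟨(nat_lit 4), (nat_lit 79), (nat_lit 0), (nat_lit 0x1d9890028da87d53fc20061c6810c53), (nat_lit 0), (nat_lit 0)⟩)))) (BT.node (nat_lit 6172) (BT.node (nat_lit 6170) (BT.node (nat_lit 6169) (BT.leaf ⟨(nat_lit 4), (nat_lit 111), (nat_lit 0), (nat_lit 0x1d1a4f040de8041f188000297cea808), (nat_lit 0), (nat_lit 0)⟩) (BT.leaf ⟨(nat_lit 4), (nat_lit 146), (nat_lit 0), (nat_lit 0x204109d401300639747003e3020ef5), (nat_lit 0), (nat_lit 0)⟩))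 (BT.node (nat_lit 6171) (BT.leaf ⟨(nat_lit 4), (nat_lit 604), (nat_lit 0), (nat_lit 0x11b9f9accefbe4305be27cef0d719e3), (nat_lit 0), (nat_lit 0)⟩) (BT.leaf ⟨(nat_lit 4), (nat_lit 759), (nat_lit 0), (nat_lit 0x1602104408af4027897cfd0895c9a), (nat_lit 0), (nat_lit 0)⟩))) (BT.node (nat_lit 6174) (BT.node (nat_lit 6173) (BT.leaf ⟨(nat_lit 4), (nat_lit 1007), (nat_lit 0), (nat_lit 0x104605a8480e8fbd1952de1017c940), (nat_lit 0), (nat_lit 0)⟩) (BT.leaf ⟨(nat_lit 4), (nat_lit 1237), (nat_lit 0), (nat_lit 0x3e895b9605fa8ad892e2de43e63b2f), (nat_lit 0), (nat_lit 0)⟩)) (BT.node (nat_lit 6175) (BT.leaf ⟨(nat_lit 4), (nat_lit 1572), (nat_lit 0), (nat_lit 0xe2b2fd656be87d2ba5df6fb06e90e6), (nat_lit 0), (nat_lit 0)⟩) (BT.leaf ⟨(nat_lit 4), (nat_lit 1902), (nat_lit 0), (nat_lit 0x17aa63a65ea37a7f443df6f7a1694e8), (nat_lit 0), (nat_lit 0)⟩)))))) (BT.node (nat_lit 6192) (BT.node (nat_lit 6184) (BT.node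 (nat_lit 6180) (BT.node (nat_lit 6178) (BT.node (nat_lit 6177) (BT.leaf ⟨(nat_lit 4), (nat_lit 2355), (nat_lit 0), (nat_lit 0x480a01855293fab463e5484008f9d), (nat_lit 0), (nat_lit 0)⟩) (BT.leaf ⟨(nat_lit 4), (nat_lit 555), (nat_lit 0), (nat_lit 0x1b052fa7f49ee28de25e6e03982fa5d), (nat_lit 0), (nat_lit 0)⟩)) (BT.node (nat_lit 6179) (BT.leaf ⟨(nat_lit 4), (nat_lit 280), (nat_lit 0), (nat_lit 0xd7f2368d05ec0171900b3c35480904), (nat_lit 0), (nat_lit 0)⟩) (BT.leaf ⟨(nat_lit 4), (nat_lit 110), (nat_lit 0), (nat_lit 0x19a663d5cfb64bb0a92d1f4b309f96f), (nat_lit 0), (nat_lit 0)⟩))) (BT.node (nat_lit 6182) (BT.node (nat_lit 6181) (BT.leaf ⟨(nat_lit 4), (nat_lit 145), (nat_lit 0), (nat_lit 0x75cea9c532a554eee931f5962d3721), (nat_lit 0), (nat_lit 0)⟩) (BT.leaf ⟨(nat_lit 4), (nat_lit 1375), (nat_lit 0), (nat_lit 0x80bc7902938f840500300caee015ea), (nat_lit 0), (nat_lit 0)⟩)) (BT.node (nat_lit 6183)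 (BT.leaf ⟨(nat_lit 4), (nat_lit 3747), (nat_lit 0), (nat_lit 0x97bdba7f0be97eb2ec1a32399b838a), (nat_lit 0), (nat_lit 0)⟩) (BT.leaf ⟨(nat_lit 4), (nat_lit 3778), (nat_lit 0), (nat_lit 0xf6383669d266c865f47a32cd7b3546), (nat_lit 0), (nat_lit 0)⟩)))) (BT.node (nat_lit 6188) (BT.node (nat_lit 6186) (BT.node (nat_lit 6185) (BT.leaf ⟨(nat_lit 4), (nat_lit 3714), (nat_lit 0), (nat_lit 0x5da747e887b720cdde8639783dbad2), (nat_lit 0), (nat_lit 0)⟩) (BT.leaf ⟨(nat_lit 4), (nat_lit 3605), (nat_lit 0), (nat_lit 0x1bd37b4ab39db93eda6a6391367a721), (nat_lit 0), (nat_lit 0)⟩)) (BT.node (nat_lit 6187) (BT.leaf ⟨(nat_lit 4), (nat_lit 1809), (nat_lit 0), (nat_lit 0x1bbdea8d5cb1a4c7d54b87a754e2dd5), (nat_lit 0), (nat_lit 0)⟩) (BT.leaf ⟨(nat_lit 4), (nat_lit 2191), (nat_lit 0), (nat_lit 0x1ce001c02f1e04801042e88976f5082), (nat_lit 0), (nat_lit 0)⟩))) (BT.node (nat_lit 6190) (BT.node (nat_lit 6189) (BT.leaf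 ⟨(nat_lit 4), (nat_lit 2616), (nat_lit 0), (nat_lit 0x1c199aaaef8d7ff2307ce89d99a30cb), (nat_lit 0), (nat_lit 0)⟩) (BT.leaf ⟨(nat_lit 4), (nat_lit 2999), (nat_lit 0), (nat_lit 0xe8df5be36c6f868bbe7fc6b8cad60b), (nat_lit 0), (nat_lit 0)⟩)) (BT.node (nat_lit 6191) (BT.leaf ⟨(nat_lit 4), (nat_lit 3300), (nat_lit 0), (nat_lit 0x1011a36b93d0ce9c6c40fc797e00480), (nat_lit 0), (nat_lit 0)⟩) (BT.leaf ⟨(nat_lit 4), (nat_lit 3450), (nat_lit 0), (nat_lit 0x746d372187a8d87d54b3ab96377b6c), (nat_lit 0), (nat_lit 0)⟩))))) (BT.node (nat_lit 6200) (BT.node (nat_lit 6196) (BT.node (nat_lit 6194) (BT.node (nat_lit 6193) (BT.leaf ⟨(nat_lit 4), (nat_lit 1520), (nat_lit 0), (nat_lit 0x1ceac1f2a748b4b77e15e7cd279953a), (nat_lit 0), (nat_lit 0)⟩) (BT.leaf ⟨(nat_lit 4), (nat_lit 1205), (nat_lit 0), (nat_lit 0x201b1a8083c22279fc6ad030042180), (nat_lit 0), (nat_lit 0)⟩)) (BT.node (nat_lit 6195) (BT.leaf ⟨(nat_lit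 4), (nat_lit 969), (nat_lit 0), (nat_lit 0xabbdbdec9d07a2fc5e8ad17a7f4176), (nat_lit 0), (nat_lit 0)⟩) (BT.leaf ⟨(nat_lit 4), (nat_lit 739), (nat_lit 0), (nat_lit 0x32fd6bfed1bc37c7979b1be75c6f89), (nat_lit 0), (nat_lit 0)⟩))) (BT.node (nat_lit 6198) (BT.node (nat_lit 6197) (BT.leaf ⟨(nat_lit 4), (nat_lit 583), (nat_lit 0), (nat_lit 0x13d3f46004088034f546b1a90339b00), (nat_lit 0), (nat_lit 0)⟩) (BT.leaf ⟨(nat_lit 4), (nat_lit 3153), (nat_lit 0), (nat_lit 0x113e6cdeef4100212f97461210f8c0), (nat_lit 0), (nat_lit 0)⟩)) (BT.node (nat_lit 6199) (BT.leaf ⟨(nat_lit 4), (nat_lit 3382), (nat_lit 0), (nat_lit 0x56b059bc6c678d1b3e7747f8fbecd9), (nat_lit 0), (nat_lit 0)⟩) (BT.leaf ⟨(nat_lit 4), (nat_lit 3075), (nat_lit 0), (nat_lit 0xbd1a3440bab0420089ecbe7a204073), (nat_lit 0), (nat_lit 0)⟩)))) (BT.node (nat_lit 6204) (BT.node (nat_lit 6202) (BT.node (nat_lit 6201) (BT.leaf ⟨(nat_lit 4), (nat_lit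 2982), (nat_lit 0), (nat_lit 0x1b06e9257c58d7d6fcabcbe96d0fb8a), (nat_lit 0), (nat_lit 0)⟩) (BT.leaf ⟨(nat_lit 5), (nat_lit 7), (nat_lit 0), (nat_lit 0x8000000002020010000000000000000000000000000000000040000000040000000400000000000000008000000000000000000080000000000000000000000000000000000000004100000000000000000000040000000000020000400000000000000000000000000000002000000000000000000000000000000000000000000000000000000000000000000000000000000000000000000000000000000000008000000200000000000000000000000000000000000000000000000001000000000000008000000000040000000000000000000000000000000000000000000000000000000000000000000000080000000000000000000080000000400000000000000000000000000000000008000400000000000000000000080000020000000000000000000000000000000000008000000000000000000000000000000000000000000000000000000000000000000000000000000000000000000000010000080000000000000000000000000000004000000000000000000000080800008001000000000000000000000000000000000000000300000000000000000000000010000000000000000000000000000000006000000000000000000000000000000000000),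 (nat_lit 0), (nat_lit 0)⟩)) (BT.node (nat_lit 6203) (BT.leaf ⟨(nat_lit 4), (nat_lit 346), (nat_lit 0), (nat_lit 0x3ea97d5ccd3f6c976a2c2ab30179af), (nat_lit 0), (nat_lit 0)⟩) (BT.leaf ⟨(nat_lit 4), (nat_lit 288), (nat_lit 0), (nat_lit 0x714084100224fd27c8edc8442fc030), (nat_lit 0), (nat_lit 0)⟩))) (BT.node (nat_lit 6206) (BT.node (nat_lit 6205) (BT.leaf ⟨(nat_lit 4), (nat_lit 397), (nat_lit 0), (nat_lit 0x9a943b1cda873b3a721dc85e57a6f5), (nat_lit 0), (nat_lit 0)⟩) (BT.leaf ⟨(nat_lit 4), (nat_lit 502), (nat_lit 0), (nat_lit 0x1279f1801041003c692fe74ae40825f), (nat_lit 0), (nat_lit 0)⟩)) (BT.node (nat_lit 6207) (BT.leaf ⟨(nat_lit 4), (nat_lit 103), (nat_lit 0), (nat_lit 0x10117a33a88100039fe371b082016b9), (nat_lit 0), (nat_lit 0)⟩) (BT.leaf ⟨(nat_lit 4), (nat_lit 1337), (nat_lit 0), (nat_lit 0x33a71dd92d023c28098f612044108), (nat_lit 0), (nat_lit 0)⟩)))))))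
noncomputable def cP6144 : BT Pf := (BT.node (nat_lit 6176) (BT.node (nat_lit 6160) (BT.node (nat_lit 6152) (BT.node (nat_lit 6148) (BT.node (nat_lit 6146) (BT.node (nat_lit 6145) (BT.leaf (.pt (nat_lit 6143) (nat_lit 1))) (BT.leaf (.pt (nat_lit 6144) (nat_lit 4)))) (BT.node (nat_lit 6147) (BT.leaf (.pt (nat_lit 6145) (nat_lit 1))) (BT.leaf (.pt (nat_lit 6146) (nat_lit 4))))) (BT.node (nat_lit 6150) (BT.node (nat_lit 6149) (BT.leaf (.pt (nat_lit 6147) (nat_lit 1))) (BT.leaf (.pt (nat_lit 6148) (nat_lit 3)))) (BT.node (nat_lit 6151) (BT.leaf (.pt (nat_lit 6149) (nat_lit 1))) (BT.leaf (.cov [] [⟨(nat_lit 1202), (nat_lit 6085), [(nat_lit 43), (nat_lit 333)]⟩, ⟨(nat_lit 1205), (nat_lit 4928), [(nat_lit 473), (nat_lit 248)]⟩, ⟨(nat_lit 1206), (nat_lit 6088), [(nat_lit 1014), (nat_lit 460)]⟩, ⟨(nat_lit 1207), (nat_lit 6090), [(nat_lit 941), (nat_lit 500)]⟩, ⟨(nat_lit 1208), (nat_lit 4611),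 [(nat_lit 298), (nat_lit 906)]⟩, ⟨(nat_lit 1209), (nat_lit 5399), [(nat_lit 428), (nat_lit 1605)]⟩, ⟨(nat_lit 1210), (nat_lit 5638), [(nat_lit 281), (nat_lit 1376)]⟩, ⟨(nat_lit 1212), (nat_lit 6091), [(nat_lit 357), (nat_lit 0)]⟩, ⟨(nat_lit 1213), (nat_lit 4809), [(nat_lit 1013), (nat_lit 89)]⟩, ⟨(nat_lit 1214), (nat_lit 6092), [(nat_lit 883), (nat_lit 294)]⟩, ⟨(nat_lit 1215), (nat_lit 6095), [(nat_lit 1103), (nat_lit 606)]⟩, ⟨(nat_lit 1217), (nat_lit 4697), [(nat_lit 212), (nat_lit 495)]⟩, ⟨(nat_lit 1220), (nat_lit 5840), [(nat_lit 582), (nat_lit 864)]⟩, ⟨(nat_lit 1221), (nat_lit 5310), [(nat_lit 1102), (nat_lit 1223)]⟩, ⟨(nat_lit 1222), (nat_lit 6101), [(nat_lit 915), (nat_lit 605)]⟩, ⟨(nat_lit 1224), (nat_lit 6102), [(nat_lit 705), (nat_lit 270)]⟩, ⟨(nat_lit 1225), (nat_lit 6104), [(nat_lit 129), (nat_lit 1216)]⟩, ⟨(nat_lit 1227), (nat_lit 6107), [(nat_lit 741), (nat_lit 1018)]⟩,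 ⟨(nat_lit 1228), (nat_lit 6112), [(nat_lit 94), (nat_lit 506)]⟩, ⟨(nat_lit 1230), (nat_lit 6116), [(nat_lit 1102), (nat_lit 1375)]⟩, ⟨(nat_lit 1231), (nat_lit 4612), [(nat_lit 579), (nat_lit 864)]⟩, ⟨(nat_lit 1232), (nat_lit 5874), [(nat_lit 466), (nat_lit 1036)]⟩, ⟨(nat_lit 1233), (nat_lit 6117), [(nat_lit 193), (nat_lit 1)]⟩, ⟨(nat_lit 1234), (nat_lit 6119), [(nat_lit 1292), (nat_lit 1849)]⟩, ⟨(nat_lit 1236), (nat_lit 4846), [(nat_lit 240), (nat_lit 906)]⟩, ⟨(nat_lit 1238), (nat_lit 4823), [(nat_lit 463), (nat_lit 459)]⟩, ⟨(nat_lit 1239), (nat_lit 4494), [(nat_lit 789)]⟩, ⟨(nat_lit 1240), (nat_lit 4743), [(nat_lit 521), (nat_lit 431)]⟩, ⟨(nat_lit 1241), (nat_lit 4858), [(nat_lit 97), (nat_lit 265)]⟩, ⟨(nat_lit 1243), (nat_lit 6120), [(nat_lit 763), (nat_lit 279)]⟩, ⟨(nat_lit 1244), (nat_lit 6130), [(nat_lit 381), (nat_lit 203)]⟩, ⟨(nat_lit 1245), (nat_lit 6134), [(nat_lit 446), (nat_lit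 777)]⟩, ⟨(nat_lit 1248), (nat_lit 5873), [(nat_lit 428), (nat_lit 573)]⟩, ⟨(nat_lit 1250), (nat_lit 6109), [(nat_lit 942), (nat_lit 202)]⟩, ⟨(nat_lit 1251), (nat_lit 6135), [(nat_lit 43), (nat_lit 762)]⟩, ⟨(nat_lit 1252), (nat_lit 6137), [(nat_lit 150), (nat_lit 1141)]⟩, ⟨(nat_lit 1253), (nat_lit 6138), [(nat_lit 675), (nat_lit 985)]⟩, ⟨(nat_lit 1258), (nat_lit 4971), [(nat_lit 474), (nat_lit 431)]⟩, ⟨(nat_lit 1259), (nat_lit 6150), [(nat_lit 208), (nat_lit 580)]⟩, ⟨(nat_lit 1260), (nat_lit 5909), [(nat_lit 296), (nat_lit 88)]⟩]))))) (BT.node (nat_lit 6156) (BT.node (nat_lit 6154) (BT.node (nat_lit 6153) (BT.leaf (.pt (nat_lit 5042) (nat_lit 3))) (BT.leaf (.pt (nat_lit 5655) (nat_lit 3)))) (BT.node (nat_lit 6155) (BT.leaf (.pt (nat_lit 6153) (nat_lit 1))) (BT.leaf (.pt (nat_lit 6154) (nat_lit 4))))) (BT.node (nat_lit 6158) (BT.node (nat_lit 6157) (BT.leaf (.pt (nat_lit 6155) (nat_lit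 1))) (BT.leaf (.pt (nat_lit 5631) (nat_lit 3)))) (BT.node (nat_lit 6159) (BT.leaf (.pt (nat_lit 6157) (nat_lit 1))) (BT.leaf (.pt (nat_lit 5229) (nat_lit 4))))))) (BT.node (nat_lit 6168) (BT.node (nat_lit 6164) (BT.node (nat_lit 6162) (BT.node (nat_lit 6161) (BT.leaf (.pt (nat_lit 6159) (nat_lit 1))) (BT.leaf (.pt (nat_lit 6160) (nat_lit 3)))) (BT.node (nat_lit 6163) (BT.leaf (.pt (nat_lit 5572) (nat_lit 4))) (BT.leaf (.pt (nat_lit 5825) (nat_lit 4))))) (BT.node (nat_lit 6166) (BT.node (nat_lit 6165) (BT.leaf (.pt (nat_lit 5705) (nat_lit 1))) (BT.leaf (.pt (nat_lit 6164) (nat_lit 3)))) (BT.node (nat_lit 6167) (BT.leaf (.pt (nat_lit 4606) (nat_lit 4))) (BT.leaf (.pt (nat_lit 6166) (nat_lit 1)))))) (BT.node (nat_lit 6172) (BT.node (nat_lit 6170) (BT.node (nat_lit 6169) (BT.leaf (.pt (nat_lit 6167) (nat_lit 4))) (BT.leaf (.pt (nat_lit 6168) (nat_lit 1)))) (BT.node (nat_lit 6171) (BT.leaf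 (.pt (nat_lit 4637) (nat_lit 3))) (BT.leaf (.pt (nat_lit 6170) (nat_lit 1))))) (BT.node (nat_lit 6174) (BT.node (nat_lit 6173) (BT.leaf (.pt (nat_lit 6171) (nat_lit 4))) (BT.leaf (.pt (nat_lit 6172) (nat_lit 1)))) (BT.node (nat_lit 6175) (BT.leaf (.pt (nat_lit 6173) (nat_lit 4))) (BT.leaf (.pt (nat_lit 6174) (nat_lit 1)))))))) (BT.node (nat_lit 6192) (BT.node (nat_lit 6184) (BT.node (nat_lit 6180) (BT.node (nat_lit 6178) (BT.node (nat_lit 6177) (BT.leaf (.pt (nat_lit 6175) (nat_lit 4))) (BT.leaf (.pt (nat_lit 5497) (nat_lit 3)))) (BT.node (nat_lit 6179) (BT.leaf (.pt (nat_lit 5961) (nat_lit 3))) (BT.leaf (.pt (nat_lit 6167) (nat_lit 3))))) (BT.node (nat_lit 6182) (BT.node (nat_lit 6181) (BT.leaf (.pt (nat_lit 6179) (nat_lit 1))) (BT.leaf (.pt (nat_lit 4772) (nat_lit 4)))) (BT.node (nat_lit 6183) (BT.leaf (.pt (nat_lit 4650) (nat_lit 3))) (BT.leaf (.pt (nat_lit 6182) (nat_lit 1))))))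 (BT.node (nat_lit 6188) (BT.node (nat_lit 6186) (BT.node (nat_lit 6185) (BT.leaf (.pt (nat_lit 6183) (nat_lit 3))) (BT.leaf (.pt (nat_lit 6184) (nat_lit 1)))) (BT.node (nat_lit 6187) (BT.leaf (.pt (nat_lit 6162) (nat_lit 1))) (BT.leaf (.pt (nat_lit 6186) (nat_lit 3))))) (BT.node (nat_lit 6190) (BT.node (nat_lit 6189) (BT.leaf (.pt (nat_lit 6187) (nat_lit 1))) (BT.leaf (.pt (nat_lit 6188) (nat_lit 4)))) (BT.node (nat_lit 6191) (BT.leaf (.pt (nat_lit 6189) (nat_lit 1))) (BT.leaf (.pt (nat_lit 6190) (nat_lit 4))))))) (BT.node (nat_lit 6200) (BT.node (nat_lit 6196) (BT.node (nat_lit 6194) (BT.node (nat_lit 6193) (BT.leaf (.pt (nat_lit 5978) (nat_lit 1))) (BT.leaf (.pt (nat_lit 6192) (nat_lit 3)))) (BT.node (nat_lit 6195) (BT.leaf (.pt (nat_lit 6193) (nat_lit 1))) (BT.leaf (.pt (nat_lit 6194) (nat_lit 4))))) (BT.node (nat_lit 6198) (BT.node (nat_lit 6197) (BT.leaf (.pt (nat_lit 6195) (nat_lit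 1))) (BT.leaf (.pt (nat_lit 6090) (nat_lit 4)))) (BT.node (nat_lit 6199) (BT.leaf (.pt (nat_lit 6197) (nat_lit 1))) (BT.leaf (.pt (nat_lit 4878) (nat_lit 3)))))) (BT.node (nat_lit 6204) (BT.node (nat_lit 6202) (BT.node (nat_lit 6201) (BT.leaf (.pt (nat_lit 6199) (nat_lit 1))) (BT.leaf (.cov [] [⟨(nat_lit 1262), (nat_lit 5835), [(nat_lit 631), (nat_lit 375)]⟩, ⟨(nat_lit 1263), (nat_lit 6152), [(nat_lit 94), (nat_lit 777)]⟩, ⟨(nat_lit 1264), (nat_lit 4956), [(nat_lit 629), (nat_lit 1133)]⟩, ⟨(nat_lit 1265), (nat_lit 6156), [(nat_lit 296), (nat_lit 566)]⟩, ⟨(nat_lit 1266), (nat_lit 6158), [(nat_lit 447), (nat_lit 190)]⟩, ⟨(nat_lit 1267), (nat_lit 5012), [(nat_lit 321), (nat_lit 190)]⟩, ⟨(nat_lit 1268), (nat_lit 5578), [(nat_lit 544), (nat_lit 1192)]⟩, ⟨(nat_lit 1269), (nat_lit 4929), [(nat_lit 272), (nat_lit 578)]⟩, ⟨(nat_lit 1270), (nat_lit 6161), [(nat_lit 196), (nat_lit 126)]⟩, ⟨(nat_lit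 1271), (nat_lit 4944), [(nat_lit 695), (nat_lit 361)]⟩, ⟨(nat_lit 1272), (nat_lit 5211), [(nat_lit 392), (nat_lit 363)]⟩, ⟨(nat_lit 1273), (nat_lit 6162), [(nat_lit 789), (nat_lit 460)]⟩, ⟨(nat_lit 1274), (nat_lit 4624), [(nat_lit 1126), (nat_lit 1376)]⟩, ⟨(nat_lit 1275), (nat_lit 6163), [(nat_lit 284), (nat_lit 288)]⟩, ⟨(nat_lit 1280), (nat_lit 6165), [(nat_lit 128), (nat_lit 710)]⟩, ⟨(nat_lit 1281), (nat_lit 5756), [(nat_lit 764), (nat_lit 1043)]⟩, ⟨(nat_lit 1282), (nat_lit 6169), [(nat_lit 786), (nat_lit 253)]⟩, ⟨(nat_lit 1283), (nat_lit 5956), [(nat_lit 284), (nat_lit 581)]⟩, ⟨(nat_lit 1285), (nat_lit 5455), [(nat_lit 763), (nat_lit 1472)]⟩, ⟨(nat_lit 1286), (nat_lit 5465), [(nat_lit 840), (nat_lit 512)]⟩, ⟨(nat_lit 1287), (nat_lit 6176), [(nat_lit 285), (nat_lit 868)]⟩, ⟨(nat_lit 1288), (nat_lit 6164), [(nat_lit 913), (nat_lit 880)]⟩, ⟨(nat_lit 1289), (nat_lit 6177), [(nat_lit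 282), (nat_lit 624)]⟩, ⟨(nat_lit 1290), (nat_lit 4946), [(nat_lit 913), (nat_lit 693)]⟩, ⟨(nat_lit 1291), (nat_lit 6178), [(nat_lit 193), (nat_lit 363)]⟩, ⟨(nat_lit 1293), (nat_lit 6098), [(nat_lit 991), (nat_lit 449)]⟩, ⟨(nat_lit 1294), (nat_lit 6180), [(nat_lit 193), (nat_lit 372)]⟩, ⟨(nat_lit 1295), (nat_lit 5163), [(nat_lit 280), (nat_lit 1247)]⟩, ⟨(nat_lit 1296), (nat_lit 6181), [(nat_lit 434), (nat_lit 1537)]⟩, ⟨(nat_lit 1297), (nat_lit 4878), [(nat_lit 273), (nat_lit 969)]⟩, ⟨(nat_lit 1298), (nat_lit 6110), [(nat_lit 213), (nat_lit 455)]⟩, ⟨(nat_lit 1299), (nat_lit 6185), [(nat_lit 208), (nat_lit 898)]⟩, ⟨(nat_lit 1300), (nat_lit 5033), [(nat_lit 629), (nat_lit 835)]⟩, ⟨(nat_lit 1302), (nat_lit 6191), [(nat_lit 470), (nat_lit 497)]⟩, ⟨(nat_lit 1303), (nat_lit 6196), [(nat_lit 825), (nat_lit 1605)]⟩, ⟨(nat_lit 1307), (nat_lit 5627), [(nat_lit 567), (nat_lit 1410)]⟩, ⟨(nat_lit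 1309), (nat_lit 5994), [(nat_lit 266), (nat_lit 225)]⟩, ⟨(nat_lit 1310), (nat_lit 5053), [(nat_lit 282), (nat_lit 1091)]⟩, ⟨(nat_lit 1311), (nat_lit 6198), [(nat_lit 208), (nat_lit 1192)]⟩, ⟨(nat_lit 1312), (nat_lit 6200), [(nat_lit 840), (nat_lit 1605)]⟩]))) (BT.node (nat_lit 6203) (BT.leaf (.pt (nat_lit 5422) (nat_lit 4))) (BT.leaf (.pt (nat_lit 4714) (nat_lit 3))))) (BT.node (nat_lit 6206) (BT.node (nat_lit 6205) (BT.leaf (.pt (nat_lit 6203) (nat_lit 1))) (BT.leaf (.pt (nat_lit 6204) (nat_lit 3)))) (BT.node (nat_lit 6207) (BT.leaf (.pt (nat_lit 5344) (nat_lit 3))) (BT.leaf (.pt (nat_lit 5244) (nat_lit 3)))))))))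
noncomputable def cF6208 : BT Fc := (BT.node (nat_lit 6240) (BT.node (nat_lit 6224) (BT.node (nat_lit 6216) (BT.node (nat_lit 6212) (BT.node (nat_lit 6210) (BT.node (nat_lit 6209) (BT.leaf ⟨(nat_lit 4), (nat_lit 1703), (nat_lit 0), (nat_lit 0x11cbc84f3ae718e38c778f6a1ed30ed), (nat_lit 0), (nat_lit 0)⟩) (BT.leaf ⟨(nat_lit 4), (nat_lit 1924), (nat_lit 0), (nat_lit 0xae1cb534772ac55ca996d8aed54a39), (nat_lit 0), (nat_lit 0)⟩)) (BT.node (nat_lit 6211) (BT.leaf ⟨(nat_lit 4), (nat_lit 1599), (nat_lit 0), (nat_lit 0x7d6d31c52aa746a59d46d86572c0d5), (nat_lit 0), (nat_lit 0)⟩) (BT.leaf ⟨(nat_lit 4), (nat_lit 1253), (nat_lit 0), (nat_lit 0x172305de8ad1d45697b74ca5daf65f8), (nat_lit 0), (nat_lit 0)⟩))) (BT.node (nat_lit 6214) (BT.node (nat_lit 6213) (BT.leaf ⟨(nat_lit 4), (nat_lit 1025), (nat_lit 0), (nat_lit 0x174b2c789f3be3346fad4cbe3fc6f0d), (nat_lit 0), (nat_lit 0)⟩) (BT.leaf ⟨(nat_lit 4),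 (nat_lit 772), (nat_lit 0), (nat_lit 0x14659a87ceacab8d9346e8d91ba3f42), (nat_lit 0), (nat_lit 0)⟩)) (BT.node (nat_lit 6215) (BT.leaf ⟨(nat_lit 4), (nat_lit 618), (nat_lit 0), (nat_lit 0x1003c68010080804025fe8d27b9d010), (nat_lit 0), (nat_lit 0)⟩) (BT.leaf ⟨(nat_lit 4), (nat_lit 619), (nat_lit 0), (nat_lit 0x1cf39c638eed247699b8a70cd9aa87), (nat_lit 0), (nat_lit 0)⟩)))) (BT.node (nat_lit 6220) (BT.node (nat_lit 6218) (BT.node (nat_lit 6217) (BT.leaf ⟨(nat_lit 4), (nat_lit 773), (nat_lit 0), (nat_lit 0x172087f66da80a010c208a648018024), (nat_lit 0), (nat_lit 0)⟩) (BT.leaf ⟨(nat_lit 4), (nat_lit 1027), (nat_lit 0), (nat_lit 0x1fa2c6a049e88418053a41080b39e9e), (nat_lit 0), (nat_lit 0)⟩)) (BT.node (nat_lit 6219) (BT.leaf ⟨(nat_lit 4), (nat_lit 1156), (nat_lit 0), (nat_lit 0x60eeefcf0a029f5de04100279900c), (nat_lit 0), (nat_lit 0)⟩) (BT.leaf ⟨(nat_lit 4), (nat_lit 909), (nat_lit 0), (nat_lit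 0x1fa11053a4089034f210410c027a58d), (nat_lit 0), (nat_lit 0)⟩))) (BT.node (nat_lit 6222) (BT.node (nat_lit 6221) (BT.leaf ⟨(nat_lit 4), (nat_lit 2467), (nat_lit 0), (nat_lit 0x18b25585f6e0e2b609bc43f97d6fa5f), (nat_lit 0), (nat_lit 0)⟩) (BT.leaf ⟨(nat_lit 4), (nat_lit 1986), (nat_lit 0), (nat_lit 0xe8c208c00805038343343e1092016f), (nat_lit 0), (nat_lit 0)⟩)) (BT.node (nat_lit 6223) (BT.leaf ⟨(nat_lit 4), (nat_lit 1666), (nat_lit 0), (nat_lit 0x145f787dbde93d37b721fe9b9255a6a), (nat_lit 0), (nat_lit 0)⟩) (BT.leaf ⟨(nat_lit 4), (nat_lit 3303), (nat_lit 0), (nat_lit 0x66e39e73b4ca1e29c631db0cc39d73), (nat_lit 0), (nat_lit 0)⟩))))) (BT.node (nat_lit 6232) (BT.node (nat_lit 6228) (BT.node (nat_lit 6226) (BT.node (nat_lit 6225) (BT.leaf ⟨(nat_lit 4), (nat_lit 2290), (nat_lit 0), (nat_lit 0xe594ce27172aa55c751bfeaeec1b6c), (nat_lit 0), (nat_lit 0)⟩) (BT.leaf ⟨(nat_lit 4), (nat_lit 1217),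 (nat_lit 0), (nat_lit 0xac55cb6ca6989f6575157a8e57cc4d), (nat_lit 0), (nat_lit 0)⟩)) (BT.node (nat_lit 6227) (BT.leaf ⟨(nat_lit 4), (nat_lit 3178), (nat_lit 0), (nat_lit 0x7452d8068ee03022204bd926812104), (nat_lit 0), (nat_lit 0)⟩) (BT.leaf ⟨(nat_lit 4), (nat_lit 3394), (nat_lit 0), (nat_lit 0x1fa2fc5c89d131f05c3dbd97a6f519b), (nat_lit 0), (nat_lit 0)⟩))) (BT.node (nat_lit 6230) (BT.node (nat_lit 6229) (BT.leaf ⟨(nat_lit 4), (nat_lit 3332), (nat_lit 0), (nat_lit 0x80040040200013a36f4004f8c97820), (nat_lit 0), (nat_lit 0)⟩) (BT.leaf ⟨(nat_lit 4), (nat_lit 3060), (nat_lit 0), (nat_lit 0x1bdaf512d04475e38a0200527021102), (nat_lit 0), (nat_lit 0)⟩)) (BT.node (nat_lit 6231) (BT.leaf ⟨(nat_lit 4), (nat_lit 2669), (nat_lit 0), (nat_lit 0x19d11c9801403020f0842abc34407c6), (nat_lit 0), (nat_lit 0)⟩) (BT.leaf ⟨(nat_lit 4), (nat_lit 2293), (nat_lit 0), (nat_lit 0x483b31f514114c12028044a67d6dc8),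 (nat_lit 0), (nat_lit 0)⟩)))) (BT.node (nat_lit 6236) (BT.node (nat_lit 6234) (BT.node (nat_lit 6233) (BT.leaf ⟨(nat_lit 4), (nat_lit 1782), (nat_lit 0), (nat_lit 0x1bd9439cedf9bc35a31cfe9c868bc4d), (nat_lit 0), (nat_lit 0)⟩) (BT.leaf ⟨(nat_lit 4), (nat_lit 1431), (nat_lit 0), (nat_lit 0x13a080ae377240323102fe84431d108), (nat_lit 0), (nat_lit 0)⟩)) (BT.node (nat_lit 6235) (BT.leaf ⟨(nat_lit 4), (nat_lit 1432), (nat_lit 0), (nat_lit 0x66f39c7bd94d2631c778e78b143c33), (nat_lit 0), (nat_lit 0)⟩) (BT.leaf ⟨(nat_lit 4), (nat_lit 2695), (nat_lit 0), (nat_lit 0x1edef05f855cb4af419b6390f6d45c8), (nat_lit 0), (nat_lit 0)⟩))) (BT.node (nat_lit 6238) (BT.node (nat_lit 6237) (BT.leaf ⟨(nat_lit 4), (nat_lit 2310), (nat_lit 0), (nat_lit 0xa1e26eb4da85e77b4ab638bd3721b2), (nat_lit 0), (nat_lit 0)⟩) (BT.leaf ⟨(nat_lit 4), (nat_lit 1871), (nat_lit 0), (nat_lit 0x11ee4b74e05006204732f0a032f0008), (nat_lit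 0), (nat_lit 0)⟩)) (BT.node (nat_lit 6239) (BT.leaf ⟨(nat_lit 4), (nat_lit 1535), (nat_lit 0), (nat_lit 0x2df51265f1b1bbe6bfef0b96065fad), (nat_lit 0), (nat_lit 0)⟩) (BT.leaf ⟨(nat_lit 4), (nat_lit 1536), (nat_lit 0), (nat_lit 0xe9313cbe93cf62a5c8eefba7a4b09e), (nat_lit 0), (nat_lit 0)⟩)))))) (BT.node (nat_lit 6256) (BT.node (nat_lit 6248) (BT.node (nat_lit 6244) (BT.node (nat_lit 6242) (BT.node (nat_lit 6241) (BT.leaf ⟨(nat_lit 4), (nat_lit 517), (nat_lit 0), (nat_lit 0xee5b62f9172aa7a8a995714d1cb5ff), (nat_lit 0), (nat_lit 0)⟩) (BT.leaf ⟨(nat_lit 4), (nat_lit 749), (nat_lit 0), (nat_lit 0x1c1ba2546f8dd1bb3519d27d09a30cb), (nat_lit 0), (nat_lit 0)⟩)) (BT.node (nat_lit 6243) (BT.leaf ⟨(nat_lit 4), (nat_lit 945), (nat_lit 0), (nat_lit 0x3e9b61d1b4c750eb95538ba4c6ae58), (nat_lit 0), (nat_lit 0)⟩) (BT.leaf ⟨(nat_lit 4), (nat_lit 1184), (nat_lit 0), (nat_lit 0x2400c110f3a0c2fc13f38afcc0a463),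 (nat_lit 0), (nat_lit 0)⟩))) (BT.node (nat_lit 6246) (BT.node (nat_lit 6245) (BT.leaf ⟨(nat_lit 4), (nat_lit 1121), (nat_lit 0), (nat_lit 0x107a4f49c62752e6f6c19345da5f59e), (nat_lit 0), (nat_lit 0)⟩) (BT.leaf ⟨(nat_lit 4), (nat_lit 867), (nat_lit 0), (nat_lit 0x96c0a0242084ae3b884935d0803789), (nat_lit 0), (nat_lit 0)⟩)) (BT.node (nat_lit 6247) (BT.leaf ⟨(nat_lit 4), (nat_lit 2739), (nat_lit 0), (nat_lit 0x1d983e706a8dd5affaaee89d0ba7669), (nat_lit 0), (nat_lit 0)⟩) (BT.leaf ⟨(nat_lit 4), (nat_lit 3139), (nat_lit 0), (nat_lit 0x84809d440200e39001012ae008841), (nat_lit 0), (nat_lit 0)⟩)))) (BT.node (nat_lit 6252) (BT.node (nat_lit 6250) (BT.node (nat_lit 6249) (BT.leaf ⟨(nat_lit 4), (nat_lit 3372), (nat_lit 0), (nat_lit 0x23a701809178093828012faceea08), (nat_lit 0), (nat_lit 0)⟩) (BT.leaf ⟨(nat_lit 4), (nat_lit 3359), (nat_lit 0), (nat_lit 0x40280300280355719029d1fd080d73), (nat_lit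 0), (nat_lit 0)⟩)) (BT.node (nat_lit 6251) (BT.leaf ⟨(nat_lit 4), (nat_lit 1494), (nat_lit 0), (nat_lit 0x7577799546cf546a8fa87bc84e8e58), (nat_lit 0), (nat_lit 0)⟩) (BT.leaf ⟨(nat_lit 4), (nat_lit 3051), (nat_lit 0), (nat_lit 0x1d38046fc4104200488856249cee828), (nat_lit 0), (nat_lit 0)⟩))) (BT.node (nat_lit 6254) (BT.node (nat_lit 6253) (BT.leaf ⟨(nat_lit 4), (nat_lit 3328), (nat_lit 0), (nat_lit 0x8e713b6c533d47655ff56256a268b9), (nat_lit 0), (nat_lit 0)⟩) (BT.leaf ⟨(nat_lit 4), (nat_lit 3541), (nat_lit 0), (nat_lit 0x2080900304402a0178fded1c6f51d7), (nat_lit 0), (nat_lit 0)⟩)) (BT.node (nat_lit 6255) (BT.leaf ⟨(nat_lit 4), (nat_lit 2086), (nat_lit 0), (nat_lit 0xaa40c6e402884008c63f3a4ff953f3), (nat_lit 0), (nat_lit 0)⟩) (BT.leaf ⟨(nat_lit 4), (nat_lit 2351), (nat_lit 0), (nat_lit 0xff9898b78dc996e9534f3ae34bcf89), (nat_lit 0), (nat_lit 0)⟩))))) (BT.node (nat_lit 6264) (BT.node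 (nat_lit 6260) (BT.node (nat_lit 6258) (BT.node (nat_lit 6257) (BT.leaf ⟨(nat_lit 4), (nat_lit 1915), (nat_lit 0), (nat_lit 0x1698ea9d446c714fae93e42e2a1eeef), (nat_lit 0), (nat_lit 0)⟩) (BT.leaf ⟨(nat_lit 4), (nat_lit 1480), (nat_lit 0), (nat_lit 0x2e75ce27552ae2ffa3972caed5eaf9), (nat_lit 0), (nat_lit 0)⟩)) (BT.node (nat_lit 6259) (BT.leaf ⟨(nat_lit 4), (nat_lit 1823), (nat_lit 0), (nat_lit 0x6bc9392b2de3ebedb2f72d31ed893f), (nat_lit 0), (nat_lit 0)⟩) (BT.leaf ⟨(nat_lit 4), (nat_lit 1772), (nat_lit 0), (nat_lit 0x12019d410880278f4401baae375cb46), (nat_lit 0), (nat_lit 0)⟩))) (BT.node (nat_lit 6262) (BT.node (nat_lit 6261) (BT.leaf ⟨(nat_lit 4), (nat_lit 373), (nat_lit 0), (nat_lit 0x1f1a4cd9e65eeb9f63a16f60d9d2d2), (nat_lit 0), (nat_lit 0)⟩) (BT.leaf ⟨(nat_lit 4), (nat_lit 468), (nat_lit 0), (nat_lit 0x1a37c638d4cbe36c68cb16fa8a37785), (nat_lit 0), (nat_lit 0)⟩)) (BT.node (nat_lit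 6263) (BT.leaf ⟨(nat_lit 4), (nat_lit 626), (nat_lit 0), (nat_lit 0x15ce31c7b337e42ae4f38e6a1da4c77), (nat_lit 0), (nat_lit 0)⟩) (BT.leaf ⟨(nat_lit 4), (nat_lit 780), (nat_lit 0), (nat_lit 0x2024f73a008102001008e6ae4045e8), (nat_lit 0), (nat_lit 0)⟩)))) (BT.node (nat_lit 6268) (BT.node (nat_lit 6266) (BT.node (nat_lit 6265) (BT.leaf ⟨(nat_lit 4), (nat_lit 1039), (nat_lit 0), (nat_lit 0xb7d3fb704b78b12eb8a4af97d0fd65), (nat_lit 0), (nat_lit 0)⟩) (BT.leaf ⟨(nat_lit 4), (nat_lit 1265), (nat_lit 0), (nat_lit 0x77404048e64422f00884afbf09380c), (nat_lit 0), (nat_lit 0)⟩)) (BT.node (nat_lit 6267) (BT.leaf ⟨(nat_lit 4), (nat_lit 1621), (nat_lit 0), (nat_lit 0x7d410824e3443f6a4532408813f822), (nat_lit 0), (nat_lit 0)⟩) (BT.leaf ⟨(nat_lit 4), (nat_lit 1944), (nat_lit 0), (nat_lit 0x15cf46b5f205918a00d52414008263a), (nat_lit 0), (nat_lit 0)⟩))) (BT.node (nat_lit 6270) (BT.node (nat_lit 6269)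 (BT.leaf ⟨(nat_lit 4), (nat_lit 2410), (nat_lit 0), (nat_lit 0x11c800f3b0060160092ee8eae010ef5), (nat_lit 0), (nat_lit 0)⟩) (BT.leaf ⟨(nat_lit 4), (nat_lit 2760), (nat_lit 0), (nat_lit 0x19a7ab7663652968cb35e8f5183e744), (nat_lit 0), (nat_lit 0)⟩)) (BT.node (nat_lit 6271) (BT.leaf ⟨(nat_lit 4), (nat_lit 3046), (nat_lit 0), (nat_lit 0x4bfc6802de9ce9000047c77a000c00), (nat_lit 0), (nat_lit 0)⟩) (BT.leaf ⟨(nat_lit 4), (nat_lit 3326), (nat_lit 0), (nat_lit 0xf9df5be2fc6d8de1acc7c6569f0d17), (nat_lit 0), (nat_lit 0)⟩)))))))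
noncomputable def cP6208 : BT Pf := (BT.node (nat_lit 6240) (BT.node (nat_lit 6224) (BT.node (nat_lit 6216) (BT.node (nat_lit 6212) (BT.node (nat_lit 6210) (BT.node (nat_lit 6209) (BT.leaf (.pt (nat_lit 6207) (nat_lit 1))) (BT.leaf (.pt (nat_lit 6208) (nat_lit 4)))) (BT.node (nat_lit 6211) (BT.leaf (.pt (nat_lit 6209) (nat_lit 1))) (BT.leaf (.pt (nat_lit 6210) (nat_lit 4))))) (BT.node (nat_lit 6214) (BT.node (nat_lit 6213) (BT.leaf (.pt (nat_lit 6211) (nat_lit 1))) (BT.leaf (.pt (nat_lit 6212) (nat_lit 4)))) (BT.node (nat_lit 6215) (BT.leaf (.pt (nat_lit 6213) (nat_lit 1))) (BT.leaf (.pt (nat_lit 6214) (nat_lit 3)))))) (BT.node (nat_lit 6220) (BT.node (nat_lit 6218) (BT.node (nat_lit 6217) (BT.leaf (.pt (nat_lit 6215) (nat_lit 1))) (BT.leaf (.pt (nat_lit 6216) (nat_lit 3)))) (BT.node (nat_lit 6219) (BT.leaf (.pt (nat_lit 6114) (nat_lit 4))) (BT.leaf (.pt (nat_lit 6218) (nat_lit 1)))))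 (BT.node (nat_lit 6222) (BT.node (nat_lit 6221) (BT.leaf (.pt (nat_lit 4985) (nat_lit 3))) (BT.leaf (.pt (nat_lit 6220) (nat_lit 1)))) (BT.node (nat_lit 6223) (BT.leaf (.pt (nat_lit 6221) (nat_lit 3))) (BT.leaf (.pt (nat_lit 5297) (nat_lit 3))))))) (BT.node (nat_lit 6232) (BT.node (nat_lit 6228) (BT.node (nat_lit 6226) (BT.node (nat_lit 6225) (BT.leaf (.pt (nat_lit 5977) (nat_lit 4))) (BT.leaf (.pt (nat_lit 5847) (nat_lit 1)))) (BT.node (nat_lit 6227) (BT.leaf (.pt (nat_lit 5200) (nat_lit 4))) (BT.leaf (.pt (nat_lit 6226) (nat_lit 1))))) (BT.node (nat_lit 6230) (BT.node (nat_lit 6229) (BT.leaf (.pt (nat_lit 6227) (nat_lit 4))) (BT.leaf (.pt (nat_lit 6228) (nat_lit 1)))) (BT.node (nat_lit 6231) (BT.leaf (.pt (nat_lit 6229) (nat_lit 3))) (BT.leaf (.pt (nat_lit 4880) (nat_lit 3)))))) (BT.node (nat_lit 6236) (BT.node (nat_lit 6234) (BT.node (nat_lit 6233) (BT.leaf (.pt (nat_lit 5717) (nat_lit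 4))) (BT.leaf (.pt (nat_lit 6232) (nat_lit 1)))) (BT.node (nat_lit 6235) (BT.leaf (.pt (nat_lit 6233) (nat_lit 3))) (BT.leaf (.pt (nat_lit 5992) (nat_lit 3))))) (BT.node (nat_lit 6238) (BT.node (nat_lit 6237) (BT.leaf (.pt (nat_lit 6235) (nat_lit 1))) (BT.leaf (.pt (nat_lit 6236) (nat_lit 3)))) (BT.node (nat_lit 6239) (BT.leaf (.pt (nat_lit 6237) (nat_lit 1))) (BT.leaf (.pt (nat_lit 6238) (nat_lit 3)))))))) (BT.node (nat_lit 6256) (BT.node (nat_lit 6248) (BT.node (nat_lit 6244) (BT.node (nat_lit 6242) (BT.node (nat_lit 6241) (BT.leaf (.pt (nat_lit 4570) (nat_lit 4))) (BT.leaf (.pt (nat_lit 4552) (nat_lit 4)))) (BT.node (nat_lit 6243) (BT.leaf (.pt (nat_lit 6124) (nat_lit 4))) (BT.leaf (.pt (nat_lit 6242) (nat_lit 1))))) (BT.node (nat_lit 6246) (BT.node (nat_lit 6245) (BT.leaf (.pt (nat_lit 6243) (nat_lit 4))) (BT.leaf (.pt (nat_lit 6244) (nat_lit 1)))) (BT.node (nat_lit 6247) (BT.leaf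 (.pt (nat_lit 6081) (nat_lit 1))) (BT.leaf (.pt (nat_lit 6246) (nat_lit 4)))))) (BT.node (nat_lit 6252) (BT.node (nat_lit 6250) (BT.node (nat_lit 6249) (BT.leaf (.pt (nat_lit 6247) (nat_lit 1))) (BT.leaf (.pt (nat_lit 6248) (nat_lit 3)))) (BT.node (nat_lit 6251) (BT.leaf (.pt (nat_lit 4954) (nat_lit 3))) (BT.leaf (.pt (nat_lit 5607) (nat_lit 3))))) (BT.node (nat_lit 6254) (BT.node (nat_lit 6253) (BT.leaf (.pt (nat_lit 6251) (nat_lit 1))) (BT.leaf (.pt (nat_lit 6252) (nat_lit 4)))) (BT.node (nat_lit 6255) (BT.leaf (.pt (nat_lit 5866) (nat_lit 3))) (BT.leaf (.pt (nat_lit 6254) (nat_lit 1))))))) (BT.node (nat_lit 6264) (BT.node (nat_lit 6260) (BT.node (nat_lit 6258) (BT.node (nat_lit 6257) (BT.leaf (.pt (nat_lit 6255) (nat_lit 4))) (BT.leaf (.pt (nat_lit 5835) (nat_lit 3)))) (BT.node (nat_lit 6259) (BT.leaf (.pt (nat_lit 6257) (nat_lit 1))) (BT.leaf (.pt (nat_lit 6258) (nat_lit 3)))))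 (BT.node (nat_lit 6262) (BT.node (nat_lit 6261) (BT.leaf (.pt (nat_lit 4657) (nat_lit 4))) (BT.leaf (.pt (nat_lit 6260) (nat_lit 1)))) (BT.node (nat_lit 6263) (BT.leaf (.pt (nat_lit 6261) (nat_lit 3))) (BT.leaf (.pt (nat_lit 6262) (nat_lit 1)))))) (BT.node (nat_lit 6268) (BT.node (nat_lit 6266) (BT.node (nat_lit 6265) (BT.leaf (.pt (nat_lit 6263) (nat_lit 4))) (BT.leaf (.pt (nat_lit 6264) (nat_lit 1)))) (BT.node (nat_lit 6267) (BT.leaf (.pt (nat_lit 6265) (nat_lit 3))) (BT.leaf (.pt (nat_lit 6266) (nat_lit 1))))) (BT.node (nat_lit 6270) (BT.node (nat_lit 6269) (BT.leaf (.pt (nat_lit 6267) (nat_lit 3))) (BT.leaf (.pt (nat_lit 6268) (nat_lit 1)))) (BT.node (nat_lit 6271) (BT.leaf (.pt (nat_lit 6269) (nat_lit 3))) (BT.leaf (.pt (nat_lit 6270) (nat_lit 1)))))))))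
noncomputable def cF6272 : BT Fc := (BT.node (nat_lit 6304) (BT.node (nat_lit 6288) (BT.node (nat_lit 6280) (BT.node (nat_lit 6276) (BT.node (nat_lit 6274) (BT.node (nat_lit 6273) (BT.leaf ⟨(nat_lit 4), (nat_lit 3537), (nat_lit 0), (nat_lit 0x1e27ce97971be3e9a0b7e1bf37c6d8d), (nat_lit 0), (nat_lit 0)⟩) (BT.leaf ⟨(nat_lit 4), (nat_lit 3524), (nat_lit 0), (nat_lit 0x1ee8c008050055440884e1b5a33a480), (nat_lit 0), (nat_lit 0)⟩)) (BT.node (nat_lit 6275) (BT.leaf ⟨(nat_lit 4), (nat_lit 3307), (nat_lit 0), (nat_lit 0x1f1ec5ffa8c32e8cb35365d1f49f46), (nat_lit 0), (nat_lit 0)⟩) (BT.leaf ⟨(nat_lit 4), (nat_lit 3009), (nat_lit 0), (nat_lit 0xa1f3a721de9bc17a1ce365ad226cf4), (nat_lit 0), (nat_lit 0)⟩))) (BT.node (nat_lit 6278) (BT.node (nat_lit 6277) (BT.leaf ⟨(nat_lit 4), (nat_lit 3010), (nat_lit 0), (nat_lit 0x3b64b69e93d89e6f3139352f9ec6c1), (nat_lit 0), (nat_lit 0)⟩) (BT.leaf ⟨(nat_lit 5),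 (nat_lit 7), (nat_lit 0), (nat_lit 0x400000000000000000000000000000000000002000000000000000000000000000000000000000000000800000000000008000000000000000000000000000000000000000000000000000000000000000000000000400000000000000000000000000000000000000000000000000000000000000000000000000000080000020000000000000000000000000000000000000000000000000000000000000000000000002000000000000000000002400000002000000000000200000000000000000000000000000000000000000800000000000000000000000000000080000000000000000000000000000000002100000000000000000000000000408000000000000000000000000000001000000000040000000000000010000000000000000000000000000200000000000000004000000020000000000000000000000000000000000800200000000080000000000000000000000000100200000000008400000000080000000000000000020000000000000000000000000000000000000000000000000000000002000400000000000100000000000000000000000000400000000000000000000000000000000000000000000000000000000000080000000000000000020001000),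 (nat_lit 0), (nat_lit 0)⟩)) (BT.node (nat_lit 6279) (BT.leaf ⟨(nat_lit 4), (nat_lit 2439), (nat_lit 0), (nat_lit 0x994cddecbd37e263d68f6ffa2f5176), (nat_lit 0), (nat_lit 0)⟩) (BT.leaf ⟨(nat_lit 4), (nat_lit 2055), (nat_lit 0), (nat_lit 0x997c2f8dcb11bbd6e8d71a5e7e6dd2), (nat_lit 0), (nat_lit 0)⟩)))) (BT.node (nat_lit 6284) (BT.node (nat_lit 6282) (BT.node (nat_lit 6281) (BT.leaf ⟨(nat_lit 4), (nat_lit 2517), (nat_lit 0), (nat_lit 0x1401a3440cbf00a081e871b802005d5), (nat_lit 0), (nat_lit 0)⟩) (BT.leaf ⟨(nat_lit 4), (nat_lit 2873), (nat_lit 0), (nat_lit 0x421589dd4ae021043eb014027c2828), (nat_lit 0), (nat_lit 0)⟩)) (BT.node (nat_lit 6283) (BT.leaf ⟨(nat_lit 4), (nat_lit 3229), (nat_lit 0), (nat_lit 0xf8638f8f04401821102015bd8eba5d), (nat_lit 0), (nat_lit 0)⟩) (BT.leaf ⟨(nat_lit 4), (nat_lit 3348), (nat_lit 0), (nat_lit 0xd8cd7a801402220f7ba2aa3004270d), (nat_lit 0), (nat_lit 0)⟩))) (BT.node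 (nat_lit 6286) (BT.node (nat_lit 6285) (BT.leaf ⟨(nat_lit 4), (nat_lit 1522), (nat_lit 0), (nat_lit 0x802a32800bffa0f1d8d9e8805978b9), (nat_lit 0), (nat_lit 0)⟩) (BT.leaf ⟨(nat_lit 4), (nat_lit 1112), (nat_lit 0), (nat_lit 0x17a0040044bef8e0073a0800824f12f), (nat_lit 0), (nat_lit 0)⟩)) (BT.node (nat_lit 6287) (BT.leaf ⟨(nat_lit 4), (nat_lit 852), (nat_lit 0), (nat_lit 0x1de8cacde2dfc1be6da80805002221f), (nat_lit 0), (nat_lit 0)⟩) (BT.leaf ⟨(nat_lit 4), (nat_lit 853), (nat_lit 0), (nat_lit 0x1cc84425724e030843ebe9c02404408), (nat_lit 0), (nat_lit 0)⟩))))) (BT.node (nat_lit 6296) (BT.node (nat_lit 6292) (BT.node (nat_lit 6290) (BT.node (nat_lit 6289) (BT.leaf ⟨(nat_lit 4), (nat_lit 490), (nat_lit 0), (nat_lit 0x12011c9559e6280417ba109c346041e), (nat_lit 0), (nat_lit 0)⟩) (BT.leaf ⟨(nat_lit 4), (nat_lit 609), (nat_lit 0), (nat_lit 0x1f8cad60b7e729566363f20f8d71beb), (nat_lit 0), (nat_lit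 0)⟩)) (BT.node (nat_lit 6291) (BT.leaf ⟨(nat_lit 4), (nat_lit 459), (nat_lit 0), (nat_lit 0x197f60a5749ed7d2fa1fa335971638a), (nat_lit 0), (nat_lit 0)⟩) (BT.leaf ⟨(nat_lit 4), (nat_lit 361), (nat_lit 0), (nat_lit 0x1c1865b35d266c957346a33d0ba7756), (nat_lit 0), (nat_lit 0)⟩))) (BT.node (nat_lit 6294) (BT.node (nat_lit 6293) (BT.leaf ⟨(nat_lit 4), (nat_lit 3241), (nat_lit 0), (nat_lit 0x127c02c017c48079d92e202ae001881), (nat_lit 0), (nat_lit 0)⟩) (BT.leaf ⟨(nat_lit 4), (nat_lit 2895), (nat_lit 0), (nat_lit 0xbc80102300357fa59e202442802e3), (nat_lit 0), (nat_lit 0)⟩)) (BT.node (nat_lit 6295) (BT.leaf ⟨(nat_lit 4), (nat_lit 2533), (nat_lit 0), (nat_lit 0x19a59a87cf8dd1e8caae68c6cb49f44), (nat_lit 0), (nat_lit 0)⟩) (BT.leaf ⟨(nat_lit 4), (nat_lit 2983), (nat_lit 0), (nat_lit 0xf62a369366bc1ba1756c8d7fda3747), (nat_lit 0), (nat_lit 0)⟩)))) (BT.node (nat_lit 6300) (BT.node (nat_lit 6298)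 (BT.node (nat_lit 6297) (BT.leaf ⟨(nat_lit 4), (nat_lit 3289), (nat_lit 0), (nat_lit 0x44017d002024008459ec8d3a06ad73), (nat_lit 0), (nat_lit 0)⟩) (BT.leaf ⟨(nat_lit 4), (nat_lit 770), (nat_lit 0), (nat_lit 0xe5958ab9a6856ba8a99172ae2c1c4d), (nat_lit 0), (nat_lit 0)⟩)) (BT.node (nat_lit 6299) (BT.leaf ⟨(nat_lit 4), (nat_lit 1435), (nat_lit 0), (nat_lit 0xff85bf8ca69e27c7f0df9ac4ee96a2), (nat_lit 0), (nat_lit 0)⟩) (BT.leaf ⟨(nat_lit 4), (nat_lit 1785), (nat_lit 0), (nat_lit 0x3003021f2df6a020433f9a14020af9), (nat_lit 0), (nat_lit 0)⟩))) (BT.node (nat_lit 6302) (BT.node (nat_lit 6301) (BT.leaf ⟨(nat_lit 4), (nat_lit 1938), (nat_lit 0), (nat_lit 0x1eeb99583c2bcef9573e5a47385bf38), (nat_lit 0), (nat_lit 0)⟩) (BT.leaf ⟨(nat_lit 4), (nat_lit 1614), (nat_lit 0), (nat_lit 0x17b274265bd4abbdbd685a45dba8cc7), (nat_lit 0), (nat_lit 0)⟩)) (BT.node (nat_lit 6303) (BT.leaf ⟨(nat_lit 4), (nat_lit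 3309), (nat_lit 0), (nat_lit 0x81108240ce6a03f42000be883003d5), (nat_lit 0), (nat_lit 0)⟩) (BT.leaf ⟨(nat_lit 4), (nat_lit 3500), (nat_lit 0), (nat_lit 0xf9cad4a5f206f237517fc782db1ba3), (nat_lit 0), (nat_lit 0)⟩)))))) (BT.node (nat_lit 6320) (BT.node (nat_lit 6312) (BT.node (nat_lit 6308) (BT.node (nat_lit 6306) (BT.node (nat_lit 6305) (BT.leaf ⟨(nat_lit 4), (nat_lit 3499), (nat_lit 0), (nat_lit 0xbd300480881002eac04fc6ce9a3073), (nat_lit 0), (nat_lit 0)⟩) (BT.leaf ⟨(nat_lit 4), (nat_lit 3279), (nat_lit 0), (nat_lit 0x11355c6ca5f37fec18e657389cad534), (nat_lit 0), (nat_lit 0)⟩)) (BT.node (nat_lit 6307) (BT.leaf ⟨(nat_lit 4), (nat_lit 2961), (nat_lit 0), (nat_lit 0x97c803e3f1a020406f45737a239840), (nat_lit 0), (nat_lit 0)⟩) (BT.leaf ⟨(nat_lit 4), (nat_lit 2584), (nat_lit 0), (nat_lit 0x97900841f191caf4f470120855c73b), (nat_lit 0), (nat_lit 0)⟩))) (BT.node (nat_lit 6310) (BT.node (nat_lit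 6309) (BT.leaf ⟨(nat_lit 4), (nat_lit 2145), (nat_lit 0), (nat_lit 0x1d38052b1e6449df5a5701325824785), (nat_lit 0), (nat_lit 0)⟩) (BT.leaf ⟨(nat_lit 4), (nat_lit 2130), (nat_lit 0), (nat_lit 0x1f6f7e31c95673b726d4365bd7fa721), (nat_lit 0), (nat_lit 0)⟩)) (BT.node (nat_lit 6311) (BT.leaf ⟨(nat_lit 4), (nat_lit 2572), (nat_lit 0), (nat_lit 0x1d99ec646d26cd465e69365f1957519), (nat_lit 0), (nat_lit 0)⟩) (BT.leaf ⟨(nat_lit 4), (nat_lit 2659), (nat_lit 0), (nat_lit 0xa0062573bb780447328f61237e018), (nat_lit 0), (nat_lit 0)⟩)))) (BT.node (nat_lit 6316) (BT.node (nat_lit 6314) (BT.node (nat_lit 6313) (BT.leaf ⟨(nat_lit 4), (nat_lit 2265), (nat_lit 0), (nat_lit 0xd2639a878c7e42b9c538f71cb165a6), (nat_lit 0), (nat_lit 0)⟩) (BT.leaf ⟨(nat_lit 4), (nat_lit 2395), (nat_lit 0), (nat_lit 0x422b9ff42098e8c00d520444323120), (nat_lit 0), (nat_lit 0)⟩)) (BT.node (nat_lit 6315) (BT.leaf ⟨(nat_lit 4),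 (nat_lit 2748), (nat_lit 0), (nat_lit 0x75c017440448089680a2057ab7b006), (nat_lit 0), (nat_lit 0)⟩) (BT.leaf ⟨(nat_lit 4), (nat_lit 615), (nat_lit 0), (nat_lit 0xcbd10204500c005cbd540478ff44f4), (nat_lit 0), (nat_lit 0)⟩))) (BT.node (nat_lit 6318) (BT.node (nat_lit 6317) (BT.leaf ⟨(nat_lit 4), (nat_lit 769), (nat_lit 0), (nat_lit 0x75c215eadec00ba212d40402803082), (nat_lit 0), (nat_lit 0)⟩) (BT.leaf ⟨(nat_lit 4), (nat_lit 890), (nat_lit 0), (nat_lit 0x7d53f8a0da80901412004008510299), (nat_lit 0), (nat_lit 0)⟩)) (BT.node (nat_lit 6319) (BT.leaf ⟨(nat_lit 4), (nat_lit 2401), (nat_lit 0), (nat_lit 0x163500b2fd3c841043d5408a0120200), (nat_lit 0), (nat_lit 0)⟩) (BT.leaf ⟨(nat_lit 4), (nat_lit 2752), (nat_lit 0), (nat_lit 0x745f384400896f7878940841095c9a), (nat_lit 0), (nat_lit 0)⟩))))) (BT.node (nat_lit 6328) (BT.node (nat_lit 6324) (BT.node (nat_lit 6322) (BT.node (nat_lit 6321) (BT.leaf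 ⟨(nat_lit 4), (nat_lit 1827), (nat_lit 0), (nat_lit 0xb3087b2f98e3e8d792bab85bf5113f), (nat_lit 0), (nat_lit 0)⟩) (BT.leaf ⟨(nat_lit 4), (nat_lit 1485), (nat_lit 0), (nat_lit 0x11de393fe8c6d259af90ab98b33999b), (nat_lit 0), (nat_lit 0)⟩)) (BT.node (nat_lit 6323) (BT.leaf ⟨(nat_lit 4), (nat_lit 1183), (nat_lit 0), (nat_lit 0x18010820244b48149c405d139c78f), (nat_lit 0), (nat_lit 0)⟩) (BT.leaf ⟨(nat_lit 4), (nat_lit 944), (nat_lit 0), (nat_lit 0x1a7b39d3ab1a78ff420440490140210), (nat_lit 0), (nat_lit 0)⟩))) (BT.node (nat_lit 6326) (BT.node (nat_lit 6325) (BT.leaf ⟨(nat_lit 4), (nat_lit 627), (nat_lit 0), (nat_lit 0x167a5f49a2ece91354deefba7a4f09e), (nat_lit 0), (nat_lit 0)⟩) (BT.leaf ⟨(nat_lit 4), (nat_lit 781), (nat_lit 0), (nat_lit 0xe8e373e3fc7295f5ae3efa569f3e0b), (nat_lit 0), (nat_lit 0)⟩)) (BT.node (nat_lit 6327) (BT.leaf ⟨(nat_lit 4), (nat_lit 1040), (nat_lit 0), (nat_lit 0x180185c88400914cf1aecc08a5f6d4),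 (nat_lit 0), (nat_lit 0)⟩) (BT.leaf ⟨(nat_lit 4), (nat_lit 3523), (nat_lit 0), (nat_lit 0x996f6568bd3fa3db99bbd4b4a63dc8), (nat_lit 0), (nat_lit 0)⟩)))) (BT.node (nat_lit 6332) (BT.node (nat_lit 6330) (BT.node (nat_lit 6329) (BT.leaf ⟨(nat_lit 4), (nat_lit 3561), (nat_lit 0), (nat_lit 0x11c48112d0452720178fbd410841003), (nat_lit 0), (nat_lit 0)⟩) (BT.leaf ⟨(nat_lit 4), (nat_lit 3352), (nat_lit 0), (nat_lit 0x11dfa100504821022204934746f625b), (nat_lit 0), (nat_lit 0)⟩)) (BT.node (nat_lit 6331) (BT.leaf ⟨(nat_lit 4), (nat_lit 3103), (nat_lit 0), (nat_lit 0x1a7b13976d8327ad88ed934e924fcbe), (nat_lit 0), (nat_lit 0)⟩) (BT.leaf ⟨(nat_lit 4), (nat_lit 3104), (nat_lit 0), (nat_lit 0x151b23766a33d1c3e7c6e8dd5ba1706), (nat_lit 0), (nat_lit 0)⟩))) (BT.node (nat_lit 6334) (BT.node (nat_lit 6333) (BT.leaf ⟨(nat_lit 4), (nat_lit 2929), (nat_lit 0), (nat_lit 0x20004004081bd2f4200e8c7541025f), (nat_lit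 0), (nat_lit 0)⟩) (BT.leaf ⟨(nat_lit 4), (nat_lit 2930), (nat_lit 0), (nat_lit 0x601dcb5f2804806a901fe94032363a), (nat_lit 0), (nat_lit 0)⟩)) (BT.node (nat_lit 6335) (BT.leaf ⟨(nat_lit 4), (nat_lit 2956), (nat_lit 0), (nat_lit 0x127876c967b189e4777d627b064fd4b), (nat_lit 0), (nat_lit 0)⟩) (BT.leaf ⟨(nat_lit 4), (nat_lit 3275), (nat_lit 0), (nat_lit 0x11bb86f8ccb1eb746f8d627a8bc28cb), (nat_lit 0), (nat_lit 0)⟩)))))))
noncomputable def cP6272 : BT Pf := (BT.node (nat_lit 6304) (BT.node (nat_lit 6288) (BT.node (nat_lit 6280) (BT.node (nat_lit 6276) (BT.node (nat_lit 6274) (BT.node (nat_lit 6273) (BT.leaf (.pt (nat_lit 6271) (nat_lit 3))) (BT.leaf (.pt (nat_lit 6272) (nat_lit 1)))) (BT.node (nat_lit 6275) (BT.leaf (.pt (nat_lit 6273) (nat_lit 4))) (BT.leaf (.pt (nat_lit 6274) (nat_lit 1))))) (BT.node (nat_lit 6278) (BT.node (nat_lit 6277) (BT.leaf (.pt (nat_lit 6275) (nat_lit 3))) (BT.leaf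 (.cov [] [⟨(nat_lit 1313), (nat_lit 6202), [(nat_lit 1189), (nat_lit 372)]⟩, ⟨(nat_lit 1314), (nat_lit 5590), [(nat_lit 353), (nat_lit 385)]⟩, ⟨(nat_lit 1315), (nat_lit 4536), [(nat_lit 213), (nat_lit 139)]⟩, ⟨(nat_lit 1316), (nat_lit 6205), [(nat_lit 239), (nat_lit 90)]⟩, ⟨(nat_lit 1317), (nat_lit 5319), [(nat_lit 568), (nat_lit 308)]⟩, ⟨(nat_lit 1318), (nat_lit 5301), [(nat_lit 381), (nat_lit 88)]⟩, ⟨(nat_lit 1319), (nat_lit 6206), [(nat_lit 258), (nat_lit 475)]⟩, ⟨(nat_lit 1320), (nat_lit 6217), [(nat_lit 165), (nat_lit 328)]⟩, ⟨(nat_lit 1321), (nat_lit 6219), [(nat_lit 1027), (nat_lit 969)]⟩, ⟨(nat_lit 1322), (nat_lit 6222), [(nat_lit 273), (nat_lit 455)]⟩, ⟨(nat_lit 1324), (nat_lit 5929), [(nat_lit 284), (nat_lit 279)]⟩, ⟨(nat_lit 1325), (nat_lit 6223), [(nat_lit 283), (nat_lit 974)]⟩, ⟨(nat_lit 1326), (nat_lit 4565), [(nat_lit 653), (nat_lit 868)]⟩, ⟨(nat_lit 1327), (nat_lit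 6224), [(nat_lit 832), (nat_lit 498)]⟩, ⟨(nat_lit 1328), (nat_lit 6225), [(nat_lit 152), (nat_lit 506)]⟩, ⟨(nat_lit 1330), (nat_lit 4738), [(nat_lit 93), (nat_lit 736)]⟩, ⟨(nat_lit 1332), (nat_lit 6230), [(nat_lit 391), (nat_lit 578)]⟩, ⟨(nat_lit 1333), (nat_lit 5764), [(nat_lit 900), (nat_lit 580)]⟩, ⟨(nat_lit 1334), (nat_lit 6231), [(nat_lit 211), (nat_lit 652)]⟩, ⟨(nat_lit 1335), (nat_lit 6234), [(nat_lit 977), (nat_lit 813)]⟩, ⟨(nat_lit 1336), (nat_lit 4862), [(nat_lit 352), (nat_lit 1226)]⟩, ⟨(nat_lit 1338), (nat_lit 6239), [(nat_lit 550), (nat_lit 270)]⟩, ⟨(nat_lit 1339), (nat_lit 5735), [(nat_lit 211)]⟩, ⟨(nat_lit 1340), (nat_lit 5702), [(nat_lit 128), (nat_lit 385)]⟩, ⟨(nat_lit 1341), (nat_lit 6240), [(nat_lit 250), (nat_lit 369)]⟩, ⟨(nat_lit 1346), (nat_lit 5191), [(nat_lit 254), (nat_lit 682)]⟩, ⟨(nat_lit 1347), (nat_lit 5563), [(nat_lit 282), (nat_lit 1211)]⟩, ⟨(nat_lit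 1349), (nat_lit 6241), [(nat_lit 673), (nat_lit 738)]⟩, ⟨(nat_lit 1350), (nat_lit 6245), [(nat_lit 296), (nat_lit 1537)]⟩, ⟨(nat_lit 1351), (nat_lit 4832), [(nat_lit 763), (nat_lit 127)]⟩, ⟨(nat_lit 1352), (nat_lit 6249), [(nat_lit 568), (nat_lit 1070)]⟩, ⟨(nat_lit 1353), (nat_lit 6250), [(nat_lit 783), (nat_lit 1100)]⟩, ⟨(nat_lit 1354), (nat_lit 6253), [(nat_lit 216), (nat_lit 573)]⟩, ⟨(nat_lit 1355), (nat_lit 6256), [(nat_lit 227), (nat_lit 581)]⟩, ⟨(nat_lit 1356), (nat_lit 6259), [(nat_lit 130), (nat_lit 563)]⟩, ⟨(nat_lit 1357), (nat_lit 5498), [(nat_lit 192), (nat_lit 1256)]⟩, ⟨(nat_lit 1358), (nat_lit 5531), [(nat_lit 260), (nat_lit 385)]⟩, ⟨(nat_lit 1360), (nat_lit 5698), [(nat_lit 151), (nat_lit 1605)]⟩, ⟨(nat_lit 1361), (nat_lit 6235), [(nat_lit 1026), (nat_lit 400)]⟩, ⟨(nat_lit 1362), (nat_lit 6276), [(nat_lit 356), (nat_lit 525)]⟩]))) (BT.node (nat_lit 6279) (BT.leaf (.pt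 (nat_lit 5205) (nat_lit 3))) (BT.leaf (.pt (nat_lit 5310) (nat_lit 4)))))) (BT.node (nat_lit 6284) (BT.node (nat_lit 6282) (BT.node (nat_lit 6281) (BT.leaf (.pt (nat_lit 6279) (nat_lit 1))) (BT.leaf (.pt (nat_lit 6280) (nat_lit 3)))) (BT.node (nat_lit 6283) (BT.leaf (.pt (nat_lit 6281) (nat_lit 1))) (BT.leaf (.pt (nat_lit 6282) (nat_lit 4))))) (BT.node (nat_lit 6286) (BT.node (nat_lit 6285) (BT.leaf (.pt (nat_lit 4882) (nat_lit 3))) (BT.leaf (.pt (nat_lit 5868) (nat_lit 3)))) (BT.node (nat_lit 6287) (BT.leaf (.pt (nat_lit 6285) (nat_lit 1))) (BT.leaf (.pt (nat_lit 6286) (nat_lit 3))))))) (BT.node (nat_lit 6296) (BT.node (nat_lit 6292) (BT.node (nat_lit 6290) (BT.node (nat_lit 6289) (BT.leaf (.pt (nat_lit 5963) (nat_lit 4))) (BT.leaf (.pt (nat_lit 6035) (nat_lit 1)))) (BT.node (nat_lit 6291) (BT.leaf (.pt (nat_lit 6289) (nat_lit 3))) (BT.leaf (.pt (nat_lit 6290) (nat_lit 1))))) (BT.node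 (nat_lit 6294) (BT.node (nat_lit 6293) (BT.leaf (.pt (nat_lit 5013) (nat_lit 4))) (BT.leaf (.pt (nat_lit 6292) (nat_lit 1)))) (BT.node (nat_lit 6295) (BT.leaf (.pt (nat_lit 6293) (nat_lit 4))) (BT.leaf (.pt (nat_lit 6200) (nat_lit 3)))))) (BT.node (nat_lit 6300) (BT.node (nat_lit 6298) (BT.node (nat_lit 6297) (BT.leaf (.pt (nat_lit 6295) (nat_lit 1))) (BT.leaf (.pt (nat_lit 4566) (nat_lit 3)))) (BT.node (nat_lit 6299) (BT.leaf (.pt (nat_lit 5943) (nat_lit 3))) (BT.leaf (.pt (nat_lit 6298) (nat_lit 1))))) (BT.node (nat_lit 6302) (BT.node (nat_lit 6301) (BT.leaf (.pt (nat_lit 6299) (nat_lit 3))) (BT.leaf (.pt (nat_lit 6300) (nat_lit 1)))) (BT.node (nat_lit 6303) (BT.leaf (.pt (nat_lit 5941) (nat_lit 1))) (BT.leaf (.pt (nat_lit 6302) (nat_lit 4)))))))) (BT.node (nat_lit 6320) (BT.node (nat_lit 6312) (BT.node (nat_lit 6308) (BT.node (nat_lit 6306) (BT.node (nat_lit 6305) (BT.leaf (.pt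 (nat_lit 6303) (nat_lit 1))) (BT.leaf (.pt (nat_lit 6304) (nat_lit 3)))) (BT.node (nat_lit 6307) (BT.leaf (.pt (nat_lit 6305) (nat_lit 1))) (BT.leaf (.pt (nat_lit 6306) (nat_lit 3))))) (BT.node (nat_lit 6310) (BT.node (nat_lit 6309) (BT.leaf (.pt (nat_lit 6307) (nat_lit 1))) (BT.leaf (.pt (nat_lit 4992) (nat_lit 4)))) (BT.node (nat_lit 6311) (BT.leaf (.pt (nat_lit 6309) (nat_lit 1))) (BT.leaf (.pt (nat_lit 6310) (nat_lit 3)))))) (BT.node (nat_lit 6316) (BT.node (nat_lit 6314) (BT.node (nat_lit 6313) (BT.leaf (.pt (nat_lit 6311) (nat_lit 1))) (BT.leaf (.pt (nat_lit 4665) (nat_lit 4)))) (BT.node (nat_lit 6315) (BT.leaf (.pt (nat_lit 6313) (nat_lit 1))) (BT.leaf (.pt (nat_lit 6107) (nat_lit 3))))) (BT.node (nat_lit 6318) (BT.node (nat_lit 6317) (BT.leaf (.pt (nat_lit 6315) (nat_lit 1))) (BT.leaf (.pt (nat_lit 6316) (nat_lit 3)))) (BT.node (nat_lit 6319) (BT.leaf (.pt (nat_lit 5926) (nat_lit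 4))) (BT.leaf (.pt (nat_lit 6318) (nat_lit 1))))))) (BT.node (nat_lit 6328) (BT.node (nat_lit 6324) (BT.node (nat_lit 6322) (BT.node (nat_lit 6321) (BT.leaf (.pt (nat_lit 5981) (nat_lit 3))) (BT.leaf (.pt (nat_lit 6320) (nat_lit 1)))) (BT.node (nat_lit 6323) (BT.leaf (.pt (nat_lit 6321) (nat_lit 4))) (BT.leaf (.pt (nat_lit 6322) (nat_lit 1))))) (BT.node (nat_lit 6326) (BT.node (nat_lit 6325) (BT.leaf (.pt (nat_lit 6261) (nat_lit 4))) (BT.leaf (.pt (nat_lit 6324) (nat_lit 1)))) (BT.node (nat_lit 6327) (BT.leaf (.pt (nat_lit 6325) (nat_lit 3))) (BT.leaf (.pt (nat_lit 5194) (nat_lit 3)))))) (BT.node (nat_lit 6332) (BT.node (nat_lit 6330) (BT.node (nat_lit 6329) (BT.leaf (.pt (nat_lit 6327) (nat_lit 1))) (BT.leaf (.pt (nat_lit 6328) (nat_lit 3)))) (BT.node (nat_lit 6331) (BT.leaf (.pt (nat_lit 6329) (nat_lit 1))) (BT.leaf (.pt (nat_lit 6330) (nat_lit 3))))) (BT.node (nat_lit 6334) (BT.node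 (nat_lit 6333) (BT.leaf (.pt (nat_lit 6331) (nat_lit 1))) (BT.leaf (.pt (nat_lit 6332) (nat_lit 3)))) (BT.node (nat_lit 6335) (BT.leaf (.pt (nat_lit 5715) (nat_lit 4))) (BT.leaf (.pt (nat_lit 6334) (nat_lit 1)))))))))
noncomputable def cF6336 : BT Fc := (BT.node (nat_lit 6368) (BT.node (nat_lit 6352) (BT.node (nat_lit 6344) (BT.node (nat_lit 6340) (BT.node (nat_lit 6338) (BT.node (nat_lit 6337) (BT.leaf ⟨(nat_lit 4), (nat_lit 3227), (nat_lit 0), (nat_lit 0x145e7a6e4e429ab5a31cdf9fd36a6f5), (nat_lit 0), (nat_lit 0)⟩) (BT.leaf ⟨(nat_lit 4), (nat_lit 2870), (nat_lit 0), (nat_lit 0x1783c2828012023a73ebdf895c0c1dd), (nat_lit 0), (nat_lit 0)⟩)) (BT.node (nat_lit 6339) (BT.leaf ⟨(nat_lit 5), (nat_lit 7), (nat_lit 0), (nat_lit 0x100000000000000000000000000000000000000000000000000000000000001000000000000002000000000000000000000040000000000000080000048000000000000000000000000000000000000000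000004000020000020004000000000000000000000000000011000000000000000000000000000000000000000000000000000002000000000000000000000008000000000000000000000040000000000000000000200000000000000000040000000000200000000000000200000000000000000000000000000000000000000000000000000000000000000000000000000002000000000000000000000000004000000000040000000000000000000008400000000000120000000000000000000000000000000000000000000020100000000000000000000000000000000000000000000000000000000000100000000000000000000000100000200000004000002002000000000000000000004000000000000000000000000000000000000000000000000000000000000000000000400000000000000000000000000000002000000000000000000000000000000000000000000000000000000000100000000001000000000000000000000), (nat_lit 0), (nat_lit 0)⟩) (BT.leaf ⟨(nat_lit 4), (nat_lit 1573), (nat_lit 0), (nat_lit 0x1c87726f4de1b537e2f42f2c735a1ce), (nat_lit 0), (nat_lit 0)⟩))) (BT.node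 (nat_lit 6342) (BT.node (nat_lit 6341) (BT.leaf ⟨(nat_lit 4), (nat_lit 1903), (nat_lit 0), (nat_lit 0xe36377cd16fe33c7e582f3a8bc6f89), (nat_lit 0), (nat_lit 0)⟩) (BT.leaf ⟨(nat_lit 4), (nat_lit 2341), (nat_lit 0), (nat_lit 0x104231814e540409f830023d5b72018), (nat_lit 0), (nat_lit 0)⟩)) (BT.node (nat_lit 6343) (BT.leaf ⟨(nat_lit 4), (nat_lit 2062), (nat_lit 0), (nat_lit 0x8440ef501240420c010237a402f3b), (nat_lit 0), (nat_lit 0)⟩) (BT.leaf ⟨(nat_lit 4), (nat_lit 1714), (nat_lit 0), (nat_lit 0x114fc83498f71dccdc73ae63b631d5c), (nat_lit 0), (nat_lit 0)⟩)))) (BT.node (nat_lit 6348) (BT.node (nat_lit 6346) (BT.node (nat_lit 6345) (BT.leaf ⟨(nat_lit 4), (nat_lit 2234), (nat_lit 0), (nat_lit 0x2bc78820444b4212bb0251c403744), (nat_lit 0), (nat_lit 0)⟩) (BT.leaf ⟨(nat_lit 4), (nat_lit 2235), (nat_lit 0), (nat_lit 0xfacf1ca5786f9fc83e3599f8df9be2), (nat_lit 0), (nat_lit 0)⟩)) (BT.node (nat_lit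 6347) (BT.leaf ⟨(nat_lit 4), (nat_lit 1677), (nat_lit 0), (nat_lit 0xffab9c5366b57339a87c5918e388ed), (nat_lit 0), (nat_lit 0)⟩) (BT.leaf ⟨(nat_lit 4), (nat_lit 1867), (nat_lit 0), (nat_lit 0x1cda4d5c8a73cfc8573c58a1e31e73), (nat_lit 0), (nat_lit 0)⟩))) (BT.node (nat_lit 6350) (BT.node (nat_lit 6349) (BT.leaf ⟨(nat_lit 4), (nat_lit 1530), (nat_lit 0), (nat_lit 0xd7d2da4f0bf7492be5fc58979b827f), (nat_lit 0), (nat_lit 0)⟩) (BT.leaf ⟨(nat_lit 4), (nat_lit 1529), (nat_lit 0), (nat_lit 0x500caba34810cf835a82de123e6850), (nat_lit 0), (nat_lit 0)⟩)) (BT.node (nat_lit 6351) (BT.leaf ⟨(nat_lit 4), (nat_lit 1389), (nat_lit 0), (nat_lit 0x131db86a227f4bc8782f2dff6d6632f), (nat_lit 0), (nat_lit 0)⟩) (BT.leaf ⟨(nat_lit 4), (nat_lit 1388), (nat_lit 0), (nat_lit 0x1d455edff552be713abb2b4a675cd34), (nat_lit 0), (nat_lit 0)⟩))))) (BT.node (nat_lit 6360) (BT.node (nat_lit 6356) (BT.node (nat_lit 6354)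 (BT.node (nat_lit 6353) (BT.leaf ⟨(nat_lit 4), (nat_lit 1743), (nat_lit 0), (nat_lit 0xf85667e38dcb8cf1e0b2b4fae52bf3), (nat_lit 0), (nat_lit 0)⟩) (BT.leaf ⟨(nat_lit 4), (nat_lit 1533), (nat_lit 0), (nat_lit 0x19a7b374219746749e46364d1bab335), (nat_lit 0), (nat_lit 0)⟩)) (BT.node (nat_lit 6355) (BT.leaf ⟨(nat_lit 4), (nat_lit 1534), (nat_lit 0), (nat_lit 0x4bd5cc73f1a042000084be0077a3e3), (nat_lit 0), (nat_lit 0)⟩) (BT.leaf ⟨(nat_lit 4), (nat_lit 2260), (nat_lit 0), (nat_lit 0x1d103e4a5ecc32fe3742a33d59a31b2), (nat_lit 0), (nat_lit 0)⟩))) (BT.node (nat_lit 6358) (BT.node (nat_lit 6357) (BT.leaf ⟨(nat_lit 4), (nat_lit 3147), (nat_lit 0), (nat_lit 0xbe4730b9ea2e5b13dff533ae55eabb), (nat_lit 0), (nat_lit 0)⟩) (BT.leaf ⟨(nat_lit 4), (nat_lit 3378), (nat_lit 0), (nat_lit 0x1d98108240444838d0605320c1105c8), (nat_lit 0), (nat_lit 0)⟩)) (BT.node (nat_lit 6359) (BT.leaf ⟨(nat_lit 4), (nat_lit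 132), (nat_lit 0), (nat_lit 0x6bd6f8a0f74241b1980f8c8e73a0c0), (nat_lit 0), (nat_lit 0)⟩) (BT.leaf ⟨(nat_lit 4), (nat_lit 97), (nat_lit 0), (nat_lit 0x191ba71b2e0cd199ae69f8dd0bb307c), (nat_lit 0), (nat_lit 0)⟩)))) (BT.node (nat_lit 6364) (BT.node (nat_lit 6362) (BT.node (nat_lit 6361) (BT.leaf ⟨(nat_lit 4), (nat_lit 96), (nat_lit 0), (nat_lit 0xc01001e3480a010169e4419cf004f4), (nat_lit 0), (nat_lit 0)⟩) (BT.leaf ⟨(nat_lit 4), (nat_lit 131), (nat_lit 0), (nat_lit 0x12fbb3420da843f8d120440a65e1860), (nat_lit 0), (nat_lit 0)⟩)) (BT.node (nat_lit 6363) (BT.leaf ⟨(nat_lit 4), (nat_lit 175), (nat_lit 0), (nat_lit 0x127c04803dea804ea78c7c5cec97401), (nat_lit 0), (nat_lit 0)⟩) (BT.leaf ⟨(nat_lit 4), (nat_lit 238), (nat_lit 0), (nat_lit 0x11b9e1accfc6b8dd1f7d7c5e41f0d17), (nat_lit 0), (nat_lit 0)⟩))) (BT.node (nat_lit 6366) (BT.node (nat_lit 6365) (BT.leaf ⟨(nat_lit 4), (nat_lit 444), (nat_lit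 0), (nat_lit 0x127c088014bc75097021e76f895c009), (nat_lit 0), (nat_lit 0)⟩) (BT.leaf ⟨(nat_lit 4), (nat_lit 342), (nat_lit 0), (nat_lit 0x1c683e583e64b4bbd3a4e762df9d565), (nat_lit 0), (nat_lit 0)⟩)) (BT.node (nat_lit 6367) (BT.leaf ⟨(nat_lit 4), (nat_lit 1063), (nat_lit 0), (nat_lit 0xaed5cb6cbffd457ca9977256ac1ab8), (nat_lit 0), (nat_lit 0)⟩) (BT.leaf ⟨(nat_lit 4), (nat_lit 700), (nat_lit 0), (nat_lit 0x1bd811082f1e809f084201475d5d806), (nat_lit 0), (nat_lit 0)⟩)))))) (BT.node (nat_lit 6384) (BT.node (nat_lit 6376) (BT.node (nat_lit 6372) (BT.node (nat_lit 6370) (BT.node (nat_lit 6369) (BT.leaf ⟨(nat_lit 4), (nat_lit 901), (nat_lit 0), (nat_lit 0x1bd600805f18ae0ea12e40200404c9f), (nat_lit 0), (nat_lit 0)⟩) (BT.leaf ⟨(nat_lit 4), (nat_lit 1148), (nat_lit 0), (nat_lit 0xcbea3208d3d4e9404f4402c010258d), (nat_lit 0), (nat_lit 0)⟩)) (BT.node (nat_lit 6371) (BT.leaf ⟨(nat_lit 4), (nat_lit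 1429), (nat_lit 0), (nat_lit 0x14be1038d13d012806b96741ce00dd5), (nat_lit 0), (nat_lit 0)⟩) (BT.leaf ⟨(nat_lit 4), (nat_lit 3034), (nat_lit 0), (nat_lit 0x13cda4c728a63b63be738671cd9ad5c), (nat_lit 0), (nat_lit 0)⟩))) (BT.node (nat_lit 6374) (BT.node (nat_lit 6373) (BT.leaf ⟨(nat_lit 4), (nat_lit 3321), (nat_lit 0), (nat_lit 0x9010ff062de501d18c0867f3420860), (nat_lit 0), (nat_lit 0)⟩) (BT.leaf ⟨(nat_lit 4), (nat_lit 3322), (nat_lit 0), (nat_lit 0x8200500c24f1eef01dd012fac8474e), (nat_lit 0), (nat_lit 0)⟩)) (BT.node (nat_lit 6375) (BT.leaf ⟨(nat_lit 4), (nat_lit 3035), (nat_lit 0), (nat_lit 0x75020901e8e20410a010120040292e), (nat_lit 0), (nat_lit 0)⟩) (BT.leaf ⟨(nat_lit 4), (nat_lit 1852), (nat_lit 0), (nat_lit 0x400841012804406ab00209403233b9), (nat_lit 0), (nat_lit 0)⟩)))) (BT.node (nat_lit 6380) (BT.node (nat_lit 6378) (BT.node (nat_lit 6377) (BT.leaf ⟨(nat_lit 4), (nat_lit 1512),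 (nat_lit 0), (nat_lit 0x81095f4257be26f6004208f9c02844), (nat_lit 0), (nat_lit 0)⟩) (BT.leaf ⟨(nat_lit 4), (nat_lit 1571), (nat_lit 0), (nat_lit 0x5573a2803015a050363e1a220607ba), (nat_lit 0), (nat_lit 0)⟩)) (BT.node (nat_lit 6379) (BT.leaf ⟨(nat_lit 4), (nat_lit 1901), (nat_lit 0), (nat_lit 0x11bae97cd16fe3e9a658e1be36c6e8d), (nat_lit 0), (nat_lit 0)⟩) (BT.leaf ⟨(nat_lit 4), (nat_lit 2352), (nat_lit 0), (nat_lit 0x145f787f439d3d37a31cdec6cb3a6d4), (nat_lit 0), (nat_lit 0)⟩))) (BT.node (nat_lit 6382) (BT.node (nat_lit 6381) (BT.leaf ⟨(nat_lit 4), (nat_lit 2722), (nat_lit 0), (nat_lit 0x17a8090820451c4213e1dec02881738), (nat_lit 0), (nat_lit 0)⟩) (BT.leaf ⟨(nat_lit 4), (nat_lit 3301), (nat_lit 0), (nat_lit 0x1a79008b9a8cf567a210480c0140200), (nat_lit 0), (nat_lit 0)⟩)) (BT.node (nat_lit 6383) (BT.leaf ⟨(nat_lit 4), (nat_lit 3000), (nat_lit 0), (nat_lit 0x143e68c00816a3bd4de4801117cf06),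 (nat_lit 0), (nat_lit 0)⟩) (BT.leaf ⟨(nat_lit 4), (nat_lit 2617), (nat_lit 0), (nat_lit 0x1043f1af48018032fc08d72ce8f4480), (nat_lit 0), (nat_lit 0)⟩))))) (BT.node (nat_lit 6392) (BT.node (nat_lit 6388) (BT.node (nat_lit 6386) (BT.node (nat_lit 6385) (BT.leaf ⟨(nat_lit 4), (nat_lit 2192), (nat_lit 0), (nat_lit 0xac57cf5147389effaa9d72ee626ab9), (nat_lit 0), (nat_lit 0)⟩) (BT.leaf ⟨(nat_lit 4), (nat_lit 1790), (nat_lit 0), (nat_lit 0x2bc7a5d10500811471dedd124e5ea), (nat_lit 0), (nat_lit 0)⟩)) (BT.node (nat_lit 6387) (BT.leaf ⟨(nat_lit 4), (nat_lit 1338), (nat_lit 0), (nat_lit 0xf9d662e3efad8dd1bf3fc7367c83e1), (nat_lit 0), (nat_lit 0)⟩) (BT.leaf ⟨(nat_lit 4), (nat_lit 31), (nat_lit 0), (nat_lit 0x1caa9d7320f93671d2d239d5979d71a), (nat_lit 0), (nat_lit 0)⟩))) (BT.node (nat_lit 6390) (BT.node (nat_lit 6389) (BT.leaf ⟨(nat_lit 4), (nat_lit 42), (nat_lit 0), (nat_lit 0xc7226ef4da9bd97a6e439d9d37e1b2),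 (nat_lit 0), (nat_lit 0)⟩) (BT.leaf ⟨(nat_lit 4), (nat_lit 55), (nat_lit 0), (nat_lit 0x66e19d738a6d25ff55c8f61ce38c73), (nat_lit 0), (nat_lit 0)⟩)) (BT.node (nat_lit 6391) (BT.leaf ⟨(nat_lit 4), (nat_lit 73), (nat_lit 0), (nat_lit 0x49f7e00a010063a75e08f695c84028), (nat_lit 0), (nat_lit 0)⟩) (BT.leaf ⟨(nat_lit 4), (nat_lit 3716), (nat_lit 0), (nat_lit 0x1e4339d739e71ee19c73b4d1dc76b35), (nat_lit 0), (nat_lit 0)⟩)))) (BT.node (nat_lit 6396) (BT.node (nat_lit 6394) (BT.node (nat_lit 6393) (BT.leaf ⟨(nat_lit 4), (nat_lit 3745), (nat_lit 0), (nat_lit 0x75777d4bd263e9b6236b4c7506a955), (nat_lit 0), (nat_lit 0)⟩) (BT.leaf ⟨(nat_lit 4), (nat_lit 3654), (nat_lit 0), (nat_lit 0x1e37d6fcd196ffbcedd2d1b4d351313), (nat_lit 0), (nat_lit 0)⟩)) (BT.node (nat_lit 6395) (BT.leaf ⟨(nat_lit 4), (nat_lit 3482), (nat_lit 0), (nat_lit 0xd7c6a82fb3cb8cc0100d1a410a0646), (nat_lit 0), (nat_lit 0)⟩) (BT.leaf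 ⟨(nat_lit 5), (nat_lit 7), (nat_lit 0), (nat_lit 0x20000000000000000000000000000000000000000000000000000000000000080004080000000000000000000000040000000000000000000000000000000000000000010000000000000000000000000000000040000000000800000010000000000000000100000000080000000000000100000000000000000000000000200400000000000000000000000000000008200000000000000000000000000000000000000000000000000000000000100000000000000000000010000008000000000020008000020000000000000000000000000000000000000000000000000000000000000000000000000000000000000000004000000000008008000400000000200000000000000000000000000000000000400001000000000000000000002200000000000800000000040000000000000000000000000000000200000000000000000000000000000000000080000000000000000000000000000000000000000000000000000000000000000000000008000000000000000000000000000000000000000000000000000000000000000000000000000000000000000000000000000000000040000000000000000000000000400000000000000000000000000800000000000002000000000000000000),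 (nat_lit 0), (nat_lit 0)⟩))) (BT.node (nat_lit 6398) (BT.node (nat_lit 6397) (BT.leaf ⟨(nat_lit 4), (nat_lit 1582), (nat_lit 0), (nat_lit 0x1636e97add1be305b979d45e75c6fcd), (nat_lit 0), (nat_lit 0)⟩) (BT.leaf ⟨(nat_lit 4), (nat_lit 2123), (nat_lit 0), (nat_lit 0x411afe3a2113a2b9e4624167bfa102), (nat_lit 0), (nat_lit 0)⟩)) (BT.node (nat_lit 6399) (BT.leaf ⟨(nat_lit 4), (nat_lit 2567), (nat_lit 0), (nat_lit 0x1d9810ed40440c010024240a678d028), (nat_lit 0), (nat_lit 0)⟩) (BT.leaf ⟨(nat_lit 4), (nat_lit 2935), (nat_lit 0), (nat_lit 0x32fe6bfef1fa36c6b8d16fe37ce979), (nat_lit 0), (nat_lit 0)⟩)))))))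
noncomputable def cP6336 : BT Pf := (BT.node (nat_lit 6368) (BT.node (nat_lit 6352) (BT.node (nat_lit 6344) (BT.node (nat_lit 6340) (BT.node (nat_lit 6338) (BT.node (nat_lit 6337) (BT.leaf (.pt (nat_lit 6335) (nat_lit 4))) (BT.leaf (.pt (nat_lit 6336) (nat_lit 1)))) (BT.node (nat_lit 6339) (BT.leaf (.cov [] [⟨(nat_lit 1365), (nat_lit 6278), [(nat_lit 429), (nat_lit 604)]⟩, ⟨(nat_lit 1366), (nat_lit 4990), [(nat_lit 153), (nat_lit 532)]⟩, ⟨(nat_lit 1367), (nat_lit 6283), [(nat_lit 1013), (nat_lit 108)]⟩, ⟨(nat_lit 1368), (nat_lit 6284), [(nat_lit 1218), (nat_lit 566)]⟩, ⟨(nat_lit 1370), (nat_lit 5404), [(nat_lit 241), (nat_lit 109)]⟩, ⟨(nat_lit 1371), (nat_lit 6287), [(nat_lit 428), (nat_lit 1001)]⟩, ⟨(nat_lit 1372), (nat_lit 4577), [(nat_lit 470), (nat_lit 717)]⟩, ⟨(nat_lit 1373), (nat_lit 5866), [(nat_lit 568), (nat_lit 572)]⟩, ⟨(nat_lit 1374), (nat_lit 6288), [(nat_lit 467), (nat_lit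 1279)]⟩, ⟨(nat_lit 1377), (nat_lit 6291), [(nat_lit 165), (nat_lit 901)]⟩, ⟨(nat_lit 1378), (nat_lit 6022), [(nat_lit 299), (nat_lit 478)]⟩, ⟨(nat_lit 1379), (nat_lit 5277), [(nat_lit 470), (nat_lit 596)]⟩, ⟨(nat_lit 1380), (nat_lit 6294), [(nat_lit 503), (nat_lit 559)]⟩, ⟨(nat_lit 1381), (nat_lit 6296), [(nat_lit 1174), (nat_lit 878)]⟩, ⟨(nat_lit 1382), (nat_lit 6297), [(nat_lit 629), (nat_lit 1043)]⟩, ⟨(nat_lit 1383), (nat_lit 4886), [(nat_lit 550), (nat_lit 395)]⟩, ⟨(nat_lit 1384), (nat_lit 5696), [(nat_lit 209), (nat_lit 491)]⟩, ⟨(nat_lit 1385), (nat_lit 4597), [(nat_lit 570), (nat_lit 372)]⟩, ⟨(nat_lit 1388), (nat_lit 5353), [(nat_lit 522), (nat_lit 1211)]⟩, ⟨(nat_lit 1391), (nat_lit 6301), [(nat_lit 2061), (nat_lit 573)]⟩, ⟨(nat_lit 1392), (nat_lit 5478), [(nat_lit 445), (nat_lit 125)]⟩, ⟨(nat_lit 1395), (nat_lit 6308), [(nat_lit 493), (nat_lit 1871)]⟩, ⟨(nat_lit 1396), (nat_lit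 6312), [(nat_lit 177), (nat_lit 141)]⟩, ⟨(nat_lit 1397), (nat_lit 6314), [(nat_lit 1257), (nat_lit 253)]⟩, ⟨(nat_lit 1398), (nat_lit 4849), [(nat_lit 296), (nat_lit 127)]⟩, ⟨(nat_lit 1399), (nat_lit 5188), [(nat_lit 208), (nat_lit 279)]⟩, ⟨(nat_lit 1400), (nat_lit 5809), [(nat_lit 473), (nat_lit 1083)]⟩, ⟨(nat_lit 1401), (nat_lit 5036), [(nat_lit 1600), (nat_lit 1369)]⟩, ⟨(nat_lit 1404), (nat_lit 6061), [(nat_lit 570), (nat_lit 738)]⟩, ⟨(nat_lit 1405), (nat_lit 6317), [(nat_lit 915), (nat_lit 333)]⟩, ⟨(nat_lit 1406), (nat_lit 6319), [(nat_lit 195), (nat_lit 124)]⟩, ⟨(nat_lit 1407), (nat_lit 6323), [(nat_lit 1218), (nat_lit 525)]⟩, ⟨(nat_lit 1408), (nat_lit 5118), [(nat_lit 433), (nat_lit 736)]⟩, ⟨(nat_lit 1409), (nat_lit 5992), [(nat_lit 511), (nat_lit 798)]⟩, ⟨(nat_lit 1411), (nat_lit 6326), [(nat_lit 1235), (nat_lit 379)]⟩, ⟨(nat_lit 1412), (nat_lit 5528), [(nat_lit 582), (nat_lit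 139)]⟩, ⟨(nat_lit 1413), (nat_lit 6333), [(nat_lit 214), (nat_lit 390)]⟩, ⟨(nat_lit 1414), (nat_lit 6247), [(nat_lit 271)]⟩, ⟨(nat_lit 1416), (nat_lit 6337), [(nat_lit 348), (nat_lit 795)]⟩, ⟨(nat_lit 1417), (nat_lit 4967), [(nat_lit 176), (nat_lit 835)]⟩])) (BT.leaf (.pt (nat_lit 4641) (nat_lit 3))))) (BT.node (nat_lit 6342) (BT.node (nat_lit 6341) (BT.leaf (.pt (nat_lit 6339) (nat_lit 1))) (BT.leaf (.pt (nat_lit 6340) (nat_lit 3)))) (BT.node (nat_lit 6343) (BT.leaf (.pt (nat_lit 6341) (nat_lit 1))) (BT.leaf (.pt (nat_lit 6342) (nat_lit 3)))))) (BT.node (nat_lit 6348) (BT.node (nat_lit 6346) (BT.node (nat_lit 6345) (BT.leaf (.pt (nat_lit 5740) (nat_lit 1))) (BT.leaf (.pt (nat_lit 6344) (nat_lit 3)))) (BT.node (nat_lit 6347) (BT.leaf (.pt (nat_lit 5821) (nat_lit 4))) (BT.leaf (.pt (nat_lit 5707) (nat_lit 3))))) (BT.node (nat_lit 6350) (BT.node (nat_lit 6349) (BT.leaf (.pt (nat_lit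 6347) (nat_lit 1))) (BT.leaf (.pt (nat_lit 6348) (nat_lit 4)))) (BT.node (nat_lit 6351) (BT.leaf (.pt (nat_lit 6349) (nat_lit 1))) (BT.leaf (.pt (nat_lit 6350) (nat_lit 4))))))) (BT.node (nat_lit 6360) (BT.node (nat_lit 6356) (BT.node (nat_lit 6354) (BT.node (nat_lit 6353) (BT.leaf (.pt (nat_lit 6351) (nat_lit 1))) (BT.leaf (.pt (nat_lit 5958) (nat_lit 1)))) (BT.node (nat_lit 6355) (BT.leaf (.pt (nat_lit 6353) (nat_lit 3))) (BT.leaf (.pt (nat_lit 5988) (nat_lit 3))))) (BT.node (nat_lit 6358) (BT.node (nat_lit 6357) (BT.leaf (.pt (nat_lit 4872) (nat_lit 4))) (BT.leaf (.pt (nat_lit 6356) (nat_lit 1)))) (BT.node (nat_lit 6359) (BT.leaf (.pt (nat_lit 5396) (nat_lit 4))) (BT.leaf (.pt (nat_lit 6358) (nat_lit 1)))))) (BT.node (nat_lit 6364) (BT.node (nat_lit 6362) (BT.node (nat_lit 6361) (BT.leaf (.pt (nat_lit 6359) (nat_lit 4))) (BT.leaf (.pt (nat_lit 6360) (nat_lit 1)))) (BT.node (nat_lit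 6363) (BT.leaf (.pt (nat_lit 6361) (nat_lit 4))) (BT.leaf (.pt (nat_lit 6362) (nat_lit 1))))) (BT.node (nat_lit 6366) (BT.node (nat_lit 6365) (BT.leaf (.pt (nat_lit 5113) (nat_lit 3))) (BT.leaf (.pt (nat_lit 6364) (nat_lit 1)))) (BT.node (nat_lit 6367) (BT.leaf (.pt (nat_lit 5798) (nat_lit 4))) (BT.leaf (.pt (nat_lit 5465) (nat_lit 1)))))))) (BT.node (nat_lit 6384) (BT.node (nat_lit 6376) (BT.node (nat_lit 6372) (BT.node (nat_lit 6370) (BT.node (nat_lit 6369) (BT.leaf (.pt (nat_lit 6367) (nat_lit 3))) (BT.leaf (.pt (nat_lit 6368) (nat_lit 1)))) (BT.node (nat_lit 6371) (BT.leaf (.pt (nat_lit 6369) (nat_lit 3))) (BT.leaf (.pt (nat_lit 4560) (nat_lit 3))))) (BT.node (nat_lit 6374) (BT.node (nat_lit 6373) (BT.leaf (.pt (nat_lit 6371) (nat_lit 1))) (BT.leaf (.pt (nat_lit 6372) (nat_lit 4)))) (BT.node (nat_lit 6375) (BT.leaf (.pt (nat_lit 6373) (nat_lit 1))) (BT.leaf (.pt (nat_lit 5829)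 (nat_lit 4)))))) (BT.node (nat_lit 6380) (BT.node (nat_lit 6378) (BT.node (nat_lit 6377) (BT.leaf (.pt (nat_lit 6375) (nat_lit 1))) (BT.leaf (.pt (nat_lit 6173) (nat_lit 3)))) (BT.node (nat_lit 6379) (BT.leaf (.pt (nat_lit 6377) (nat_lit 1))) (BT.leaf (.pt (nat_lit 6378) (nat_lit 3))))) (BT.node (nat_lit 6382) (BT.node (nat_lit 6381) (BT.leaf (.pt (nat_lit 6379) (nat_lit 1))) (BT.leaf (.pt (nat_lit 5541) (nat_lit 4)))) (BT.node (nat_lit 6383) (BT.leaf (.pt (nat_lit 6381) (nat_lit 1))) (BT.leaf (.pt (nat_lit 6382) (nat_lit 4))))))) (BT.node (nat_lit 6392) (BT.node (nat_lit 6388) (BT.node (nat_lit 6386) (BT.node (nat_lit 6385) (BT.leaf (.pt (nat_lit 6383) (nat_lit 1))) (BT.leaf (.pt (nat_lit 6384) (nat_lit 4)))) (BT.node (nat_lit 6387) (BT.leaf (.pt (nat_lit 5244) (nat_lit 4))) (BT.leaf (.pt (nat_lit 6005) (nat_lit 3))))) (BT.node (nat_lit 6390) (BT.node (nat_lit 6389) (BT.leaf (.pt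 (nat_lit 6387) (nat_lit 1))) (BT.leaf (.pt (nat_lit 6388) (nat_lit 4)))) (BT.node (nat_lit 6391) (BT.leaf (.pt (nat_lit 6389) (nat_lit 1))) (BT.leaf (.pt (nat_lit 5211) (nat_lit 4)))))) (BT.node (nat_lit 6396) (BT.node (nat_lit 6394) (BT.node (nat_lit 6393) (BT.leaf (.pt (nat_lit 6391) (nat_lit 1))) (BT.leaf (.pt (nat_lit 6392) (nat_lit 4)))) (BT.node (nat_lit 6395) (BT.leaf (.pt (nat_lit 6393) (nat_lit 1))) (BT.leaf (.cov [] [⟨(nat_lit 1418), (nat_lit 4646), [(nat_lit 1027), (nat_lit 625)]⟩, ⟨(nat_lit 1419), (nat_lit 6343), [(nat_lit 1175), (nat_lit 625)]⟩, ⟨(nat_lit 1420), (nat_lit 5054), [(nat_lit 503), (nat_lit 499)]⟩, ⟨(nat_lit 1421), (nat_lit 6345), [(nat_lit 212), (nat_lit 627)]⟩, ⟨(nat_lit 1422), (nat_lit 6346), [(nat_lit 281), (nat_lit 906)]⟩, ⟨(nat_lit 1424), (nat_lit 5706), [(nat_lit 352), (nat_lit 363)]⟩, ⟨(nat_lit 1425), (nat_lit 5505), [(nat_lit 93), (nat_lit 627)]⟩,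 ⟨(nat_lit 1426), (nat_lit 6352), [(nat_lit 196), (nat_lit 1109)]⟩, ⟨(nat_lit 1427), (nat_lit 6354), [(nat_lit 484), (nat_lit 270)]⟩, ⟨(nat_lit 1428), (nat_lit 6355), [(nat_lit 507), (nat_lit 906)]⟩, ⟨(nat_lit 1429), (nat_lit 6357), [(nat_lit 1126), (nat_lit 821)]⟩, ⟨(nat_lit 1430), (nat_lit 5299), [(nat_lit 391), (nat_lit 142)]⟩, ⟨(nat_lit 1431), (nat_lit 4679), [(nat_lit 152), (nat_lit 506)]⟩, ⟨(nat_lit 1435), (nat_lit 6363), [(nat_lit 196), (nat_lit 459)]⟩, ⟨(nat_lit 1436), (nat_lit 4588), [(nat_lit 237), (nat_lit 252)]⟩, ⟨(nat_lit 1438), (nat_lit 6365), [(nat_lit 570), (nat_lit 737)]⟩, ⟨(nat_lit 1439), (nat_lit 5968), [(nat_lit 239), (nat_lit 605)]⟩, ⟨(nat_lit 1440), (nat_lit 6366), [(nat_lit 257), (nat_lit 1133)]⟩, ⟨(nat_lit 1441), (nat_lit 6370), [(nat_lit 1308), (nat_lit 797)]⟩, ⟨(nat_lit 1442), (nat_lit 6374), [(nat_lit 335), (nat_lit 455)]⟩, ⟨(nat_lit 1443), (nat_lit 5381),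 [(nat_lit 1218), (nat_lit 559)]⟩, ⟨(nat_lit 1444), (nat_lit 4816), [(nat_lit 871), (nat_lit 738)]⟩, ⟨(nat_lit 1445), (nat_lit 6304), [(nat_lit 1175), (nat_lit 420)]⟩, ⟨(nat_lit 1447), (nat_lit 6376), [(nat_lit 1162), (nat_lit 328)]⟩, ⟨(nat_lit 1448), (nat_lit 4925), [(nat_lit 376), (nat_lit 985)]⟩, ⟨(nat_lit 1449), (nat_lit 5081), [(nat_lit 19), (nat_lit 172)]⟩, ⟨(nat_lit 1450), (nat_lit 5122), [(nat_lit 266), (nat_lit 478)]⟩, ⟨(nat_lit 1451), (nat_lit 5279), [(nat_lit 441), (nat_lit 1605)]⟩, ⟨(nat_lit 1452), (nat_lit 5046), [(nat_lit 192), (nat_lit 512)]⟩, ⟨(nat_lit 1453), (nat_lit 6361), [(nat_lit 357), (nat_lit 596)]⟩, ⟨(nat_lit 1454), (nat_lit 6380), [(nat_lit 520), (nat_lit 110)]⟩, ⟨(nat_lit 1457), (nat_lit 6385), [(nat_lit 273), (nat_lit 333)]⟩, ⟨(nat_lit 1459), (nat_lit 5808), [(nat_lit 1106), (nat_lit 389)]⟩, ⟨(nat_lit 1460), (nat_lit 5308), [(nat_lit 2124), (nat_lit 398)]⟩,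 ⟨(nat_lit 1461), (nat_lit 5535), [(nat_lit 466), (nat_lit 604)]⟩, ⟨(nat_lit 1462), (nat_lit 6386), [(nat_lit 164), (nat_lit 205)]⟩, ⟨(nat_lit 1463), (nat_lit 4958), [(nat_lit 352), (nat_lit 368)]⟩, ⟨(nat_lit 1464), (nat_lit 6390), [(nat_lit 953), (nat_lit 319)]⟩, ⟨(nat_lit 1465), (nat_lit 5210), [(nat_lit 575), (nat_lit 236)]⟩, ⟨(nat_lit 1466), (nat_lit 6394), [(nat_lit 551), (nat_lit 88)]⟩])))) (BT.node (nat_lit 6398) (BT.node (nat_lit 6397) (BT.leaf (.pt (nat_lit 4933) (nat_lit 3))) (BT.leaf (.pt (nat_lit 4929) (nat_lit 4)))) (BT.node (nat_lit 6399) (BT.leaf (.pt (nat_lit 6397) (nat_lit 1))) (BT.leaf (.pt (nat_lit 6398) (nat_lit 4)))))))))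
noncomputable def cF6400 : BT Fc := (BT.node (nat_lit 6432) (BT.node (nat_lit 6416) (BT.node (nat_lit 6408) (BT.node (nat_lit 6404) (BT.node (nat_lit 6402) (BT.node (nat_lit 6401) (BT.leaf ⟨(nat_lit 4), (nat_lit 3266), (nat_lit 0), (nat_lit 0xceb8d72a39dcfb9907c16ee91a4f38), (nat_lit 0), (nat_lit 0)⟩) (BT.leaf ⟨(nat_lit 4), (nat_lit 3484), (nat_lit 0), (nat_lit 0x120040a80ce9c34aab639e622042090), (nat_lit 0), (nat_lit 0)⟩)) (BT.node (nat_lit 6403) (BT.leaf ⟨(nat_lit 4), (nat_lit 3598), (nat_lit 0), (nat_lit 0x1e41a4c778c6cd6388739e71cf39a87), (nat_lit 0), (nat_lit 0)⟩) (BT.leaf ⟨(nat_lit 4), (nat_lit 3599), (nat_lit 0), (nat_lit 0xf88976f502280400f8ce8eae0409d4), (nat_lit 0), (nat_lit 0)⟩))) (BT.node (nat_lit 6406) (BT.node (nat_lit 6405) (BT.leaf ⟨(nat_lit 4), (nat_lit 2327), (nat_lit 0), (nat_lit 0x1bd4972b893e806f4809002f8840841), (nat_lit 0), (nat_lit 0)⟩) (BT.leaf ⟨(nat_lit 4),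 (nat_lit 2328), (nat_lit 0), (nat_lit 0xa1e31c331db3cfc8335ce78b239bfe), (nat_lit 0), (nat_lit 0)⟩)) (BT.node (nat_lit 6407) (BT.leaf ⟨(nat_lit 4), (nat_lit 2708), (nat_lit 0), (nat_lit 0x151901200b1b8005ccf4ce68112069e), (nat_lit 0), (nat_lit 0)⟩) (BT.leaf ⟨(nat_lit 4), (nat_lit 3041), (nat_lit 0), (nat_lit 0x1f377cd916ed278d63aef560d9d73a), (nat_lit 0), (nat_lit 0)⟩)))) (BT.node (nat_lit 6412) (BT.node (nat_lit 6410) (BT.node (nat_lit 6409) (BT.leaf ⟨(nat_lit 4), (nat_lit 2786), (nat_lit 0), (nat_lit 0x889002821e8814c8244fe0c2104be), (nat_lit 0), (nat_lit 0)⟩) (BT.leaf ⟨(nat_lit 4), (nat_lit 2973), (nat_lit 0), (nat_lit 0x17b305df8b51720bb7b7bd4ab932d68), (nat_lit 0), (nat_lit 0)⟩)) (BT.node (nat_lit 6411) (BT.leaf ⟨(nat_lit 4), (nat_lit 2966), (nat_lit 0), (nat_lit 0x97496f8f10480801806bd475c09042), (nat_lit 0), (nat_lit 0)⟩) (BT.leaf ⟨(nat_lit 4), (nat_lit 2591), (nat_lit 0), (nat_lit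 0x6f3f1ba36c6fcd1b3c33c6f8f05f7d), (nat_lit 0), (nat_lit 0)⟩))) (BT.node (nat_lit 6414) (BT.node (nat_lit 6413) (BT.leaf ⟨(nat_lit 4), (nat_lit 2158), (nat_lit 0), (nat_lit 0x881807e8d3d4eac685f3c751920280), (nat_lit 0), (nat_lit 0)⟩) (BT.leaf ⟨(nat_lit 4), (nat_lit 2157), (nat_lit 0), (nat_lit 0xa6558b6cc4e56b6544d5f34d2c1f51), (nat_lit 0), (nat_lit 0)⟩)) (BT.node (nat_lit 6415) (BT.leaf ⟨(nat_lit 4), (nat_lit 2492), (nat_lit 0), (nat_lit 0xaa428010f3a714480118c60c2fc13f), (nat_lit 0), (nat_lit 0)⟩) (BT.leaf ⟨(nat_lit 4), (nat_lit 2833), (nat_lit 0), (nat_lit 0xaf50212bf137b0124043a20323bf42), (nat_lit 0), (nat_lit 0)⟩))))) (BT.node (nat_lit 6424) (BT.node (nat_lit 6420) (BT.node (nat_lit 6418) (BT.node (nat_lit 6417) (BT.leaf ⟨(nat_lit 4), (nat_lit 3211), (nat_lit 0), (nat_lit 0x17551b5a6d27c84eab6c3a23547d658), (nat_lit 0), (nat_lit 0)⟩) (BT.leaf ⟨(nat_lit 4), (nat_lit 3420), (nat_lit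 0), (nat_lit 0x100b9c022e880192ec9c25a00b7b471), (nat_lit 0), (nat_lit 0)⟩)) (BT.node (nat_lit 6419) (BT.leaf ⟨(nat_lit 4), (nat_lit 15), (nat_lit 0), (nat_lit 0x3b739da68f71ddff55c0e714ccdf90), (nat_lit 0), (nat_lit 0)⟩) (BT.leaf ⟨(nat_lit 4), (nat_lit 3184), (nat_lit 0), (nat_lit 0x1c1820cde2de103bd3a3480be4a021f), (nat_lit 0), (nat_lit 0)⟩))) (BT.node (nat_lit 6422) (BT.node (nat_lit 6421) (BT.leaf ⟨(nat_lit 4), (nat_lit 2788), (nat_lit 0), (nat_lit 0x1d12f525d25a4095d80a004049016f6), (nat_lit 0), (nat_lit 0)⟩) (BT.leaf ⟨(nat_lit 4), (nat_lit 2450), (nat_lit 0), (nat_lit 0x2200200de80824f7460040112f92f), (nat_lit 0), (nat_lit 0)⟩)) (BT.node (nat_lit 6423) (BT.leaf ⟨(nat_lit 4), (nat_lit 3119), (nat_lit 0), (nat_lit 0x10032f89e8037575cc80820bd0f4404), (nat_lit 0), (nat_lit 0)⟩) (BT.leaf ⟨(nat_lit 4), (nat_lit 203), (nat_lit 0), (nat_lit 0x80b4f53a480cbd020b9ce682140210), (nat_lit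 0), (nat_lit 0)⟩)))) (BT.node (nat_lit 6428) (BT.node (nat_lit 6426) (BT.node (nat_lit 6425) (BT.leaf ⟨(nat_lit 4), (nat_lit 262), (nat_lit 0), (nat_lit 0x1b2ad34f38c6cd543c71ce7e41a4c33), (nat_lit 0), (nat_lit 0)⟩) (BT.leaf ⟨(nat_lit 4), (nat_lit 904), (nat_lit 0), (nat_lit 0x1eddafec17149fdb862c49e9782fd19), (nat_lit 0), (nat_lit 0)⟩)) (BT.node (nat_lit 6427) (BT.leaf ⟨(nat_lit 4), (nat_lit 1151), (nat_lit 0), (nat_lit 0x118d54a10eac142085f849e052471c5), (nat_lit 0), (nat_lit 0)⟩) (BT.leaf ⟨(nat_lit 4), (nat_lit 1160), (nat_lit 0), (nat_lit 0x1e41b1acc94a6f1f0be3efbf8dd19e3), (nat_lit 0), (nat_lit 0)⟩))) (BT.node (nat_lit 6430) (BT.node (nat_lit 6429) (BT.leaf ⟨(nat_lit 4), (nat_lit 3358), (nat_lit 0), (nat_lit 0x9fd2eb703798b32f85f5bf2ad2fa5b), (nat_lit 0), (nat_lit 0)⟩) (BT.leaf ⟨(nat_lit 4), (nat_lit 510), (nat_lit 0), (nat_lit 0x10619eb4080143834de747de822440), (nat_lit 0), (nat_lit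 0)⟩)) (BT.node (nat_lit 6431) (BT.leaf ⟨(nat_lit 4), (nat_lit 803), (nat_lit 0), (nat_lit 0xd1a97b8d9010097a65f809102ead00), (nat_lit 0), (nat_lit 0)⟩) (BT.leaf ⟨(nat_lit 4), (nat_lit 1073), (nat_lit 0), (nat_lit 0x96ef61d12088100a742808f9fc4884), (nat_lit 0), (nat_lit 0)⟩)))))) (BT.node (nat_lit 6448) (BT.node (nat_lit 6440) (BT.node (nat_lit 6436) (BT.node (nat_lit 6434) (BT.node (nat_lit 6433) (BT.leaf ⟨(nat_lit 4), (nat_lit 1298), (nat_lit 0), (nat_lit 0xdc30a9af05fa896612d65e4ba97fdb), (nat_lit 0), (nat_lit 0)⟩) (BT.leaf ⟨(nat_lit 4), (nat_lit 1671), (nat_lit 0), (nat_lit 0x8085ce009e8821ea85f65e90140300), (nat_lit 0), (nat_lit 0)⟩)) (BT.node (nat_lit 6435) (BT.leaf ⟨(nat_lit 4), (nat_lit 1993), (nat_lit 0), (nat_lit 0x12724f77d4d56c65f0ed83d52e4b09e), (nat_lit 0), (nat_lit 0)⟩) (BT.leaf ⟨(nat_lit 4), (nat_lit 2472), (nat_lit 0), (nat_lit 0x13cd40088900b7cc008283c205b1e74), (nat_lit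 0), (nat_lit 0)⟩))) (BT.node (nat_lit 6438) (BT.node (nat_lit 6437) (BT.leaf ⟨(nat_lit 4), (nat_lit 3282), (nat_lit 0), (nat_lit 0x18019d78e30081112d105e3d2ef44), (nat_lit 0), (nat_lit 0)⟩) (BT.leaf ⟨(nat_lit 4), (nat_lit 2964), (nat_lit 0), (nat_lit 0x6bdb1adff8d9d060084105ee8aacf3), (nat_lit 0), (nat_lit 0)⟩)) (BT.node (nat_lit 6439) (BT.leaf ⟨(nat_lit 4), (nat_lit 2606), (nat_lit 0), (nat_lit 0xbddc920c8c40acf1081aa503fa35f), (nat_lit 0), (nat_lit 0)⟩) (BT.leaf ⟨(nat_lit 5), (nat_lit 7), (nat_lit 0), (nat_lit 0x8000000000000000000000000000000000000000000010000200000000004000000020000000000000000000000000000000000000000000000000008000000000000010000200000000000000000000000000000000000000000000020000000000000000040000400000000000000100000000000000000000000040008000000000000000000000000000010000040000000000000000000000000000000000000000000040000000000000004000000000002000000000000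00000000000000000100000000000000000000000000000000000000000000000000000000000000000000000000000000000000100000000000000000000000400400000000000000000000000000000000000000000000000200000000000000000000010000000800000000000000000000080000100000000000000000000000000000000000000000000000000000000000000000000000000000000000400000000000000000000000001000000000000000000000000800020000800000000004000000040000000000000000000000000000000000000000000000000000000000000400000100000000000000000000000000000400000000004000000000000008000), (nat_lit 0), (nat_lit 0)⟩)))) (BT.node (nat_lit 6444) (BT.node (nat_lit 6442) (BT.node (nat_lit 6441) (BT.leaf ⟨(nat_lit 4), (nat_lit 2822), (nat_lit 0), (nat_lit 0xaa713bb9a68af54cb96d72ac55c15a), (nat_lit 0), (nat_lit 0)⟩) (BT.leaf ⟨(nat_lit 4), (nat_lit 507), (nat_lit 0), (nat_lit 0x1d46b44e855c994bb5a8bd866cf45e8), (nat_lit 0), (nat_lit 0)⟩)) (BT.node (nat_lit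 6443) (BT.leaf ⟨(nat_lit 4), (nat_lit 671), (nat_lit 0), (nat_lit 0x11002c0400896c0a2bdbd9cf882742), (nat_lit 0), (nat_lit 0)⟩) (BT.leaf ⟨(nat_lit 4), (nat_lit 849), (nat_lit 0), (nat_lit 0x300417c6100603dd70d5be556b441e), (nat_lit 0), (nat_lit 0)⟩))) (BT.node (nat_lit 6446) (BT.node (nat_lit 6445) (BT.leaf ⟨(nat_lit 4), (nat_lit 1109), (nat_lit 0), (nat_lit 0x17482ffb7d829ff2fa1f5bf8b28ca5f), (nat_lit 0), (nat_lit 0)⟩) (BT.leaf ⟨(nat_lit 4), (nat_lit 2577), (nat_lit 0), (nat_lit 0x1000f440467500608420a5f40039c40), (nat_lit 0), (nat_lit 0)⟩)) (BT.node (nat_lit 6447) (BT.leaf ⟨(nat_lit 4), (nat_lit 2136), (nat_lit 0), (nat_lit 0x43c93d5c2deb31b812fa5e3e895e15), (nat_lit 0), (nat_lit 0)⟩) (BT.leaf ⟨(nat_lit 4), (nat_lit 2989), (nat_lit 0), (nat_lit 0xdf11d40830064f8112024bb9da5e), (nat_lit 0), (nat_lit 0)⟩))))) (BT.node (nat_lit 6456) (BT.node (nat_lit 6452) (BT.node (nat_lit 6450) (BT.node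 (nat_lit 6449) (BT.leaf ⟨(nat_lit 4), (nat_lit 2413), (nat_lit 0), (nat_lit 0xf8b9da5e93e02600ab825c00c80c72), (nat_lit 0), (nat_lit 0)⟩) (BT.leaf ⟨(nat_lit 4), (nat_lit 2762), (nat_lit 0), (nat_lit 0xe599782fab9f6c97acc25c3e9b85b1), (nat_lit 0), (nat_lit 0)⟩)) (BT.node (nat_lit 6451) (BT.leaf ⟨(nat_lit 4), (nat_lit 3160), (nat_lit 0), (nat_lit 0x160f8d3a469359777f3239deeb9db3a), (nat_lit 0), (nat_lit 0)⟩) (BT.leaf ⟨(nat_lit 4), (nat_lit 1166), (nat_lit 0), (nat_lit 0x1749b8565a33edd0fa5e4b63992be2c), (nat_lit 0), (nat_lit 0)⟩))) (BT.node (nat_lit 6454) (BT.node (nat_lit 6453) (BT.leaf ⟨(nat_lit 4), (nat_lit 2411), (nat_lit 0), (nat_lit 0x118e476e40240c154bf3028143ab24f), (nat_lit 0), (nat_lit 0)⟩) (BT.leaf ⟨(nat_lit 4), (nat_lit 2238), (nat_lit 0), (nat_lit 0xf9c827424b67479f47702881378006), (nat_lit 0), (nat_lit 0)⟩)) (BT.node (nat_lit 6455) (BT.leaf ⟨(nat_lit 4), (nat_lit 1821),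 (nat_lit 0), (nat_lit 0xfafc2ab14ae062f0088df9cc8eef4e), (nat_lit 0), (nat_lit 0)⟩) (BT.leaf ⟨(nat_lit 4), (nat_lit 1476), (nat_lit 0), (nat_lit 0x19d378721364a1f7b517df9ad226cab), (nat_lit 0), (nat_lit 0)⟩)))) (BT.node (nat_lit 6460) (BT.node (nat_lit 6458) (BT.node (nat_lit 6457) (BT.leaf ⟨(nat_lit 4), (nat_lit 1178), (nat_lit 0), (nat_lit 0x1c37c6dd21974d3e6f9d7fce37c2a65), (nat_lit 0), (nat_lit 0)⟩) (BT.leaf ⟨(nat_lit 4), (nat_lit 938), (nat_lit 0), (nat_lit 0x118e3947b337572d34f37fcd2716335), (nat_lit 0), (nat_lit 0)⟩)) (BT.node (nat_lit 6459) (BT.leaf ⟨(nat_lit 4), (nat_lit 669), (nat_lit 0), (nat_lit 0x15a279fc6100a00d7c801039d048088), (nat_lit 0), (nat_lit 0)⟩) (BT.leaf ⟨(nat_lit 4), (nat_lit 505), (nat_lit 0), (nat_lit 0x1004028110121079dde910327fa3801), (nat_lit 0), (nat_lit 0)⟩))) (BT.node (nat_lit 6462) (BT.node (nat_lit 6461) (BT.leaf ⟨(nat_lit 4), (nat_lit 504), (nat_lit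 0), (nat_lit 0x14006a82f2106008168dc8d8e8a0110), (nat_lit 0), (nat_lit 0)⟩) (BT.leaf ⟨(nat_lit 4), (nat_lit 2186), (nat_lit 0), (nat_lit 0x6017190205fa37fa6462024027435f), (nat_lit 0), (nat_lit 0)⟩)) (BT.node (nat_lit 6463) (BT.leaf ⟨(nat_lit 4), (nat_lit 2611), (nat_lit 0), (nat_lit 0x1d1c20de94bd1c95c08120327c0192e), (nat_lit 0), (nat_lit 0)⟩) (BT.leaf ⟨(nat_lit 4), (nat_lit 2993), (nat_lit 0), (nat_lit 0x1a4cfaf21714356eabd53aedb2d343d), (nat_lit 0), (nat_lit 0)⟩)))))))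
noncomputable def cP6400 : BT Pf := (BT.node (nat_lit 6432) (BT.node (nat_lit 6416) (BT.node (nat_lit 6408) (BT.node (nat_lit 6404) (BT.node (nat_lit 6402) (BT.node (nat_lit 6401) (BT.leaf (.pt (nat_lit 6399) (nat_lit 1))) (BT.leaf (.pt (nat_lit 6400) (nat_lit 4)))) (BT.node (nat_lit 6403) (BT.leaf (.pt (nat_lit 6401) (nat_lit 1))) (BT.leaf (.pt (nat_lit 6402) (nat_lit 3))))) (BT.node (nat_lit 6406) (BT.node (nat_lit 6405) (BT.leaf (.pt (nat_lit 5933) (nat_lit 1))) (BT.leaf (.pt (nat_lit 6404) (nat_lit 3)))) (BT.node (nat_lit 6407) (BT.leaf (.pt (nat_lit 6405) (nat_lit 1))) (BT.leaf (.pt (nat_lit 6406) (nat_lit 4)))))) (BT.node (nat_lit 6412) (BT.node (nat_lit 6410) (BT.node (nat_lit 6409) (BT.leaf (.pt (nat_lit 5812) (nat_lit 3))) (BT.leaf (.pt (nat_lit 4823) (nat_lit 4)))) (BT.node (nat_lit 6411) (BT.leaf (.pt (nat_lit 6409) (nat_lit 1))) (BT.leaf (.pt (nat_lit 6410) (nat_lit 3)))))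 (BT.node (nat_lit 6414) (BT.node (nat_lit 6413) (BT.leaf (.pt (nat_lit 6411) (nat_lit 1))) (BT.leaf (.pt (nat_lit 6412) (nat_lit 4)))) (BT.node (nat_lit 6415) (BT.leaf (.pt (nat_lit 5791) (nat_lit 1))) (BT.leaf (.pt (nat_lit 6414) (nat_lit 3))))))) (BT.node (nat_lit 6424) (BT.node (nat_lit 6420) (BT.node (nat_lit 6418) (BT.node (nat_lit 6417) (BT.leaf (.pt (nat_lit 6415) (nat_lit 1))) (BT.leaf (.pt (nat_lit 6416) (nat_lit 4)))) (BT.node (nat_lit 6419) (BT.leaf (.pt (nat_lit 6003) (nat_lit 3))) (BT.leaf (.pt (nat_lit 6029) (nat_lit 1))))) (BT.node (nat_lit 6422) (BT.node (nat_lit 6421) (BT.leaf (.pt (nat_lit 6419) (nat_lit 3))) (BT.leaf (.pt (nat_lit 6420) (nat_lit 1)))) (BT.node (nat_lit 6423) (BT.leaf (.pt (nat_lit 5322) (nat_lit 3))) (BT.leaf (.pt (nat_lit 6180) (nat_lit 4)))))) (BT.node (nat_lit 6428) (BT.node (nat_lit 6426) (BT.node (nat_lit 6425) (BT.leaf (.pt (nat_lit 6423) (nat_lit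 1))) (BT.leaf (.pt (nat_lit 5175) (nat_lit 4)))) (BT.node (nat_lit 6427) (BT.leaf (.pt (nat_lit 6425) (nat_lit 1))) (BT.leaf (.pt (nat_lit 6426) (nat_lit 4))))) (BT.node (nat_lit 6430) (BT.node (nat_lit 6429) (BT.leaf (.pt (nat_lit 5852) (nat_lit 3))) (BT.leaf (.pt (nat_lit 6152) (nat_lit 1)))) (BT.node (nat_lit 6431) (BT.leaf (.pt (nat_lit 5786) (nat_lit 4))) (BT.leaf (.pt (nat_lit 6430) (nat_lit 1)))))))) (BT.node (nat_lit 6448) (BT.node (nat_lit 6440) (BT.node (nat_lit 6436) (BT.node (nat_lit 6434) (BT.node (nat_lit 6433) (BT.leaf (.pt (nat_lit 6431) (nat_lit 3))) (BT.leaf (.pt (nat_lit 6432) (nat_lit 1)))) (BT.node (nat_lit 6435) (BT.leaf (.pt (nat_lit 6433) (nat_lit 4))) (BT.leaf (.pt (nat_lit 6434) (nat_lit 1))))) (BT.node (nat_lit 6438) (BT.node (nat_lit 6437) (BT.leaf (.pt (nat_lit 6302) (nat_lit 3))) (BT.leaf (.pt (nat_lit 6436) (nat_lit 1)))) (BT.node (nat_lit 6439) (BT.leaf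 (.pt (nat_lit 6437) (nat_lit 4))) (BT.leaf (.cov [] [⟨(nat_lit 1467), (nat_lit 5233), [(nat_lit 256), (nat_lit 557)]⟩, ⟨(nat_lit 1468), (nat_lit 4905), [(nat_lit 283), (nat_lit 1100)]⟩, ⟨(nat_lit 1469), (nat_lit 6229), [(nat_lit 227), (nat_lit 682)]⟩, ⟨(nat_lit 1470), (nat_lit 6350), [(nat_lit 356), (nat_lit 711)]⟩, ⟨(nat_lit 1471), (nat_lit 5113), [(nat_lit 381), (nat_lit 898)]⟩, ⟨(nat_lit 1473), (nat_lit 6396), [(nat_lit 883), (nat_lit 563)]⟩, ⟨(nat_lit 1474), (nat_lit 6403), [(nat_lit 653), (nat_lit 906)]⟩, ⟨(nat_lit 1475), (nat_lit 5270), [(nat_lit 258), (nat_lit 205)]⟩, ⟨(nat_lit 1476), (nat_lit 6407), [(nat_lit 829), (nat_lit 191)]⟩, ⟨(nat_lit 1477), (nat_lit 4767), [(nat_lit 128), (nat_lit 1537)]⟩, ⟨(nat_lit 1479), (nat_lit 6408), [(nat_lit 208), (nat_lit 1279)]⟩, ⟨(nat_lit 1480), (nat_lit 5333), [(nat_lit 176), (nat_lit 1100)]⟩, ⟨(nat_lit 1481), (nat_lit 6413), [(nat_lit 527),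 (nat_lit 798)]⟩, ⟨(nat_lit 1485), (nat_lit 6322), [(nat_lit 575), (nat_lit 717)]⟩, ⟨(nat_lit 1486), (nat_lit 6411), [(nat_lit 1437), (nat_lit 1109)]⟩, ⟨(nat_lit 1487), (nat_lit 4543), [(nat_lit 178), (nat_lit 421)]⟩, ⟨(nat_lit 1488), (nat_lit 4721), [(nat_lit 689), (nat_lit 578)]⟩, ⟨(nat_lit 1489), (nat_lit 5024), [(nat_lit 2061), (nat_lit 222)]⟩, ⟨(nat_lit 1490), (nat_lit 4735), [(nat_lit 1337), (nat_lit 880)]⟩, ⟨(nat_lit 1491), (nat_lit 6417), [(nat_lit 207), (nat_lit 234)]⟩, ⟨(nat_lit 1492), (nat_lit 6418), [(nat_lit 350), (nat_lit 835)]⟩, ⟨(nat_lit 1493), (nat_lit 4783), [(nat_lit 1308), (nat_lit 555)]⟩, ⟨(nat_lit 1494), (nat_lit 6421), [(nat_lit 360), (nat_lit 880)]⟩, ⟨(nat_lit 1495), (nat_lit 6422), [(nat_lit 43), (nat_lit 813)]⟩, ⟨(nat_lit 1496), (nat_lit 4786), [(nat_lit 192), (nat_lit 681)]⟩, ⟨(nat_lit 1497), (nat_lit 5222), [(nat_lit 266), (nat_lit 206)]⟩, ⟨(nat_lit 1498),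 (nat_lit 6424), [(nat_lit 1014), (nat_lit 191)]⟩, ⟨(nat_lit 1499), (nat_lit 6427), [(nat_lit 391), (nat_lit 818)]⟩, ⟨(nat_lit 1500), (nat_lit 4564), [(nat_lit 905), (nat_lit 532)]⟩, ⟨(nat_lit 1501), (nat_lit 6428), [(nat_lit 280), (nat_lit 307)]⟩, ⟨(nat_lit 1502), (nat_lit 5817), [(nat_lit 176), (nat_lit 372)]⟩, ⟨(nat_lit 1504), (nat_lit 6429), [(nat_lit 215), (nat_lit 717)]⟩, ⟨(nat_lit 1505), (nat_lit 5450), [(nat_lit 167), (nat_lit 235)]⟩, ⟨(nat_lit 1506), (nat_lit 6009), [(nat_lit 487), (nat_lit 395)]⟩, ⟨(nat_lit 1507), (nat_lit 5777), [(nat_lit 462), (nat_lit 438)]⟩, ⟨(nat_lit 1508), (nat_lit 6435), [(nat_lit 391), (nat_lit 289)]⟩, ⟨(nat_lit 1509), (nat_lit 4968), [(nat_lit 97), (nat_lit 1375)]⟩, ⟨(nat_lit 1510), (nat_lit 6438), [(nat_lit 282), (nat_lit 1247)]⟩, ⟨(nat_lit 1511), (nat_lit 4638), [(nat_lit 914), (nat_lit 361)]⟩, ⟨(nat_lit 1512), (nat_lit 4910), [(nat_lit 484), (nat_lit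 399)]⟩]))))) (BT.node (nat_lit 6444) (BT.node (nat_lit 6442) (BT.node (nat_lit 6441) (BT.leaf (.pt (nat_lit 5567) (nat_lit 3))) (BT.leaf (.pt (nat_lit 4764) (nat_lit 3)))) (BT.node (nat_lit 6443) (BT.leaf (.pt (nat_lit 6441) (nat_lit 1))) (BT.leaf (.pt (nat_lit 6442) (nat_lit 3))))) (BT.node (nat_lit 6446) (BT.node (nat_lit 6445) (BT.leaf (.pt (nat_lit 6443) (nat_lit 1))) (BT.leaf (.pt (nat_lit 6026) (nat_lit 3)))) (BT.node (nat_lit 6447) (BT.leaf (.pt (nat_lit 6445) (nat_lit 1))) (BT.leaf (.pt (nat_lit 5506) (nat_lit 4))))))) (BT.node (nat_lit 6456) (BT.node (nat_lit 6452) (BT.node (nat_lit 6450) (BT.node (nat_lit 6449) (BT.leaf (.pt (nat_lit 5518) (nat_lit 4))) (BT.leaf (.pt (nat_lit 6448) (nat_lit 1)))) (BT.node (nat_lit 6451) (BT.leaf (.pt (nat_lit 6449) (nat_lit 3))) (BT.leaf (.pt (nat_lit 5979) (nat_lit 4))))) (BT.node (nat_lit 6454) (BT.node (nat_lit 6453) (BT.leaf (.pt (nat_lit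 6267) (nat_lit 4))) (BT.leaf (.pt (nat_lit 6452) (nat_lit 1)))) (BT.node (nat_lit 6455) (BT.leaf (.pt (nat_lit 6453) (nat_lit 4))) (BT.leaf (.pt (nat_lit 6454) (nat_lit 1)))))) (BT.node (nat_lit 6460) (BT.node (nat_lit 6458) (BT.node (nat_lit 6457) (BT.leaf (.pt (nat_lit 6455) (nat_lit 3))) (BT.leaf (.pt (nat_lit 6456) (nat_lit 1)))) (BT.node (nat_lit 6459) (BT.leaf (.pt (nat_lit 6142) (nat_lit 4))) (BT.leaf (.pt (nat_lit 6458) (nat_lit 1))))) (BT.node (nat_lit 6462) (BT.node (nat_lit 6461) (BT.leaf (.pt (nat_lit 6459) (nat_lit 4))) (BT.leaf (.pt (nat_lit 6299) (nat_lit 4)))) (BT.node (nat_lit 6463) (BT.leaf (.pt (nat_lit 6461) (nat_lit 1))) (BT.leaf (.pt (nat_lit 6462) (nat_lit 4)))))))))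
noncomputable def cF6464 : BT Fc := (BT.node (nat_lit 6496) (BT.node (nat_lit 6480) (BT.node (nat_lit 6472) (BT.node (nat_lit 6468) (BT.node (nat_lit 6466) (BT.node (nat_lit 6465) (BT.leaf ⟨(nat_lit 4), (nat_lit 3296), (nat_lit 0), (nat_lit 0x80801c71bd420896f443ae00b7b25d), (nat_lit 0), (nat_lit 0)⟩) (BT.leaf ⟨(nat_lit 4), (nat_lit 3501), (nat_lit 0), (nat_lit 0x8801427fb91b50101201400c0fac20), (nat_lit 0), (nat_lit 0)⟩)) (BT.node (nat_lit 6467) (BT.leaf ⟨(nat_lit 4), (nat_lit 2502), (nat_lit 0), (nat_lit 0x7a2eae008001cd7a480881402047e3), (nat_lit 0), (nat_lit 0)⟩) (BT.leaf ⟨(nat_lit 4), (nat_lit 2034), (nat_lit 0), (nat_lit 0x3010f848747de8285a8881f3520040), (nat_lit 0), (nat_lit 0)⟩))) (BT.node (nat_lit 6470) (BT.node (nat_lit 6469) (BT.leaf ⟨(nat_lit 4), (nat_lit 1696), (nat_lit 0), (nat_lit 0x6bc96fdb5994bdcb10f65e4ff0a927), (nat_lit 0), (nat_lit 0)⟩) (BT.leaf ⟨(nat_lit 4), (nat_lit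 1329), (nat_lit 0), (nat_lit 0x8812053a411fa10028065ec027a1e3), (nat_lit 0), (nat_lit 0)⟩)) (BT.node (nat_lit 6471) (BT.leaf ⟨(nat_lit 4), (nat_lit 1328), (nat_lit 0), (nat_lit 0x852f2b80124ba4ff47dea006f4f3b), (nat_lit 0), (nat_lit 0)⟩) (BT.leaf ⟨(nat_lit 4), (nat_lit 3662), (nat_lit 0), (nat_lit 0x20401f3b203d1c10801013bd5f1005), (nat_lit 0), (nat_lit 0)⟩)))) (BT.node (nat_lit 6476) (BT.node (nat_lit 6474) (BT.node (nat_lit 6473) (BT.leaf ⟨(nat_lit 4), (nat_lit 3506), (nat_lit 0), (nat_lit 0x21043eb018063c288801295f99108), (nat_lit 0), (nat_lit 0)⟩) (BT.leaf ⟨(nat_lit 4), (nat_lit 3505), (nat_lit 0), (nat_lit 0x7547d1f53a2751b654bddf960e2a36), (nat_lit 0), (nat_lit 0)⟩)) (BT.node (nat_lit 6475) (BT.leaf ⟨(nat_lit 4), (nat_lit 1132), (nat_lit 0), (nat_lit 0x1c681403053218229bc3240093b3021), (nat_lit 0), (nat_lit 0)⟩) (BT.leaf ⟨(nat_lit 5), (nat_lit 7), (nat_lit 0), (nat_lit 0x100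00000000000000000000000080100001000000000000000000000000000000002200000000000000000000000000020000000000000004001000000000000000000000000000080000000010000000000000100000000000000000020000000002000000020000000000004000000000000000000004000000000000000000000000000000000000000000000000000000000000000000000000000000000001000000000000000000000000000000000000000800000000000000000000000000010000000000000000001000000000000000000000000000000000000000000000000000000000000000000000000000000000000100040000000000000000000000000000000000000100000000000000000000000000000000000000000000000000000000000000000000000000100000000000080000000000000000000000000004000080010000020000000000400000000000000000000000000000204000400000000000000000000000000000000004000000000000000000002000000000000000000000000000000000000000000000001000000040000000000000000000000000000000000000000008008000000000000000000000000000000000000000000000000000000000000000000000000),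 (nat_lit 0), (nat_lit 0)⟩))) (BT.node (nat_lit 6478) (BT.node (nat_lit 6477) (BT.leaf ⟨(nat_lit 4), (nat_lit 1421), (nat_lit 0), (nat_lit 0x751c536cd26354e8955baa75ce2995), (nat_lit 0), (nat_lit 0)⟩) (BT.leaf ⟨(nat_lit 4), (nat_lit 1144), (nat_lit 0), (nat_lit 0x11ca3999b66a1cfc84538c71deb9eca), (nat_lit 0), (nat_lit 0)⟩)) (BT.node (nat_lit 6479) (BT.leaf ⟨(nat_lit 4), (nat_lit 2916), (nat_lit 0), (nat_lit 0x16374f5463c7fa1206735008105cd3a), (nat_lit 0), (nat_lit 0)⟩) (BT.leaf ⟨(nat_lit 4), (nat_lit 2233), (nat_lit 0), (nat_lit 0x10200480a8f695c0c00c7d62237e785), (nat_lit 0), (nat_lit 0)⟩))))) (BT.node (nat_lit 6488) (BT.node (nat_lit 6484) (BT.node (nat_lit 6482) (BT.node (nat_lit 6481) (BT.leaf ⟨(nat_lit 4), (nat_lit 2163), (nat_lit 0), (nat_lit 0xb7d2fd1943e39ae935fd832adc525b), (nat_lit 0), (nat_lit 0)⟩) (BT.leaf ⟨(nat_lit 4), (nat_lit 1739), (nat_lit 0), (nat_lit 0x1077a801042ae3a388193e02402a01),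 (nat_lit 0), (nat_lit 0)⟩)) (BT.node (nat_lit 6483) (BT.leaf ⟨(nat_lit 4), (nat_lit 1384), (nat_lit 0), (nat_lit 0x107aa5c9ad3ddf6474de93fb064f4be), (nat_lit 0), (nat_lit 0)⟩) (BT.leaf ⟨(nat_lit 4), (nat_lit 466), (nat_lit 0), (nat_lit 0x1cfb1d7baa75de83e73ab07ce39972a), (nat_lit 0), (nat_lit 0)⟩))) (BT.node (nat_lit 6486) (BT.node (nat_lit 6485) (BT.leaf ⟨(nat_lit 4), (nat_lit 718), (nat_lit 0), (nat_lit 0x4002746bd097f9d2b925e803c6840), (nat_lit 0), (nat_lit 0)⟩) (BT.leaf ⟨(nat_lit 4), (nat_lit 1900), (nat_lit 0), (nat_lit 0x11ec0500c7d7bf204208bc00a00c009), (nat_lit 0), (nat_lit 0)⟩)) (BT.node (nat_lit 6487) (BT.leaf ⟨(nat_lit 4), (nat_lit 398), (nat_lit 0), (nat_lit 0x1cf164738f6cd476e738671c679d5c), (nat_lit 0), (nat_lit 0)⟩) (BT.leaf ⟨(nat_lit 4), (nat_lit 3431), (nat_lit 0), (nat_lit 0x84303c34fe0c3d6820840a6487f66), (nat_lit 0), (nat_lit 0)⟩)))) (BT.node (nat_lit 6492) (BT.node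 (nat_lit 6490) (BT.node (nat_lit 6489) (BT.leaf ⟨(nat_lit 4), (nat_lit 1726), (nat_lit 0), (nat_lit 0x11edff433ae71ce395a6693b2aae073), (nat_lit 0), (nat_lit 0)⟩) (BT.leaf ⟨(nat_lit 4), (nat_lit 1363), (nat_lit 0), (nat_lit 0x1bbdd2615674b4ab2f3269273bbd63a), (nat_lit 0), (nat_lit 0)⟩)) (BT.node (nat_lit 6491) (BT.leaf ⟨(nat_lit 4), (nat_lit 2787), (nat_lit 0), (nat_lit 0x1637c48b7a69c3589f8571a5e532bfe), (nat_lit 0), (nat_lit 0)⟩) (BT.leaf ⟨(nat_lit 4), (nat_lit 2168), (nat_lit 0), (nat_lit 0xfafa747b3baac40400c411e16f0496), (nat_lit 0), (nat_lit 0)⟩))) (BT.node (nat_lit 6494) (BT.node (nat_lit 6493) (BT.leaf ⟨(nat_lit 4), (nat_lit 2599), (nat_lit 0), (nat_lit 0x811407e8d3c903001e3410c0339bd5), (nat_lit 0), (nat_lit 0)⟩) (BT.leaf ⟨(nat_lit 4), (nat_lit 482), (nat_lit 0), (nat_lit 0x169aea9d7cb0e286ae93a968d8e2955), (nat_lit 0), (nat_lit 0)⟩)) (BT.node (nat_lit 6495) (BT.leaf ⟨(nat_lit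 4), (nat_lit 385), (nat_lit 0), (nat_lit 0xd279d7ba16fcaa6cf3eacbcedd271a), (nat_lit 0), (nat_lit 0)⟩) (BT.leaf ⟨(nat_lit 4), (nat_lit 1006), (nat_lit 0), (nat_lit 0x477248e4204ffab463553ca9f9df8), (nat_lit 0), (nat_lit 0)⟩)))))) (BT.node (nat_lit 6512) (BT.node (nat_lit 6504) (BT.node (nat_lit 6500) (BT.node (nat_lit 6498) (BT.node (nat_lit 6497) (BT.leaf ⟨(nat_lit 4), (nat_lit 1236), (nat_lit 0), (nat_lit 0x1b297c95aea2db1dcab8552a67138b9), (nat_lit 0), (nat_lit 0)⟩) (BT.leaf ⟨(nat_lit 4), (nat_lit 3237), (nat_lit 0), (nat_lit 0x4410ef54bc804808011024b801f8c), (nat_lit 0), (nat_lit 0)⟩)) (BT.node (nat_lit 6499) (BT.leaf ⟨(nat_lit 4), (nat_lit 2890), (nat_lit 0), (nat_lit 0x200aa882e1a300440901032033a2df), (nat_lit 0), (nat_lit 0)⟩) (BT.leaf ⟨(nat_lit 4), (nat_lit 3538), (nat_lit 0), (nat_lit 0x412cf300a00400a00d5204480c0101), (nat_lit 0), (nat_lit 0)⟩))) (BT.node (nat_lit 6502) (BT.node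 (nat_lit 6501) (BT.leaf ⟨(nat_lit 4), (nat_lit 3579), (nat_lit 0), (nat_lit 0x75df08820064b77b0062057a901402), (nat_lit 0), (nat_lit 0)⟩) (BT.leaf ⟨(nat_lit 4), (nat_lit 3578), (nat_lit 0), (nat_lit 0x1a4fa7706e8f91a8cb35a8c6cb34fc6), (nat_lit 0), (nat_lit 0)⟩)) (BT.node (nat_lit 6503) (BT.leaf ⟨(nat_lit 4), (nat_lit 3469), (nat_lit 0), (nat_lit 0x19cd0132f500813003d5a8c88120201), (nat_lit 0), (nat_lit 0)⟩) (BT.leaf ⟨(nat_lit 4), (nat_lit 3470), (nat_lit 0), (nat_lit 0x11ec0c00911012014108018ac7a7257), (nat_lit 0), (nat_lit 0)⟩)))) (BT.node (nat_lit 6508) (BT.node (nat_lit 6506) (BT.node (nat_lit 6505) (BT.leaf ⟨(nat_lit 4), (nat_lit 3648), (nat_lit 0), (nat_lit 0x413c4f424b7cf895c77019bc002884), (nat_lit 0), (nat_lit 0)⟩) (BT.leaf ⟨(nat_lit 4), (nat_lit 1152), (nat_lit 0), (nat_lit 0x1d192f8800091cd5ca0020000a00001), (nat_lit 0), (nat_lit 0)⟩)) (BT.node (nat_lit 6507) (BT.leaf ⟨(nat_lit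 4), (nat_lit 1235), (nat_lit 0), (nat_lit 0x1f26cf3be7cceb9c6ef692e931d1ce), (nat_lit 0), (nat_lit 0)⟩) (BT.leaf ⟨(nat_lit 5), (nat_lit 7), (nat_lit 0), (nat_lit 0x1000000000000000000000000000000000000000000000100000000800000000000000000000000000000000000000000000000000010000000000000000000000400000000000000000000000000000000000000000000000000001000000400000000000000000000000008000000000000000000000000000000020000000000000080000000000000000000000000000000000000000000000000000000000000000000000000000040000000000002000000000000000008000000000000000100000000000000000000000000000000000000000000000010000000000000000000000000000000080200000000000000000000000000000000000000002000000000000000000000000000001000000000000000000000010000080000000000000000000000000002005800000000000000000000010000000000000000000020000000020000000000000000000000000000000000000000800000000000000000000020000000000000400000000000000000040004000000000000000400000000000000000000000400000000000000004002080000000000000000000000000000000000000000000000000000000000008400000000000000000000000000000000),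 (nat_lit 0), (nat_lit 0)⟩))) (BT.node (nat_lit 6510) (BT.node (nat_lit 6509) (BT.leaf ⟨(nat_lit 4), (nat_lit 2075), (nat_lit 0), (nat_lit 0x167ad8d4b935a7a4741ed83271ec4de), (nat_lit 0), (nat_lit 0)⟩) (BT.leaf ⟨(nat_lit 4), (nat_lit 2076), (nat_lit 0), (nat_lit 0x4039d040009d18012b9400f8d2ff8d), (nat_lit 0), (nat_lit 0)⟩)) (BT.node (nat_lit 6511) (BT.leaf ⟨(nat_lit 4), (nat_lit 166), (nat_lit 0), (nat_lit 0x10b83040881f366f2405f212060195), (nat_lit 0), (nat_lit 0)⟩) (BT.leaf ⟨(nat_lit 4), (nat_lit 947), (nat_lit 0), (nat_lit 0x40ea804e751cc015e84bfd1b7a3e3), (nat_lit 0), (nat_lit 0)⟩))))) (BT.node (nat_lit 6520) (BT.node (nat_lit 6516) (BT.node (nat_lit 6514) (BT.node (nat_lit 6513) (BT.leaf ⟨(nat_lit 4), (nat_lit 1002), (nat_lit 0), (nat_lit 0x1edd2bcab3789fc2fa4f4be87d2dd65), (nat_lit 0), (nat_lit 0)⟩) (BT.leaf ⟨(nat_lit 4), (nat_lit 756), (nat_lit 0), (nat_lit 0x10f6a5eef46c744cada63eb960ea9d7),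 (nat_lit 0), (nat_lit 0)⟩)) (BT.node (nat_lit 6515) (BT.leaf ⟨(nat_lit 4), (nat_lit 501), (nat_lit 0), (nat_lit 0x136705ae3efbe42375172b5f8df0a36), (nat_lit 0), (nat_lit 0)⟩) (BT.leaf ⟨(nat_lit 4), (nat_lit 481), (nat_lit 0), (nat_lit 0x1b29cb299a6989d5c2b1552ee4732bb), (nat_lit 0), (nat_lit 0)⟩))) (BT.node (nat_lit 6518) (BT.node (nat_lit 6517) (BT.leaf ⟨(nat_lit 4), (nat_lit 647), (nat_lit 0), (nat_lit 0x60e2a4f025d5848463553b901879d), (nat_lit 0), (nat_lit 0)⟩) (BT.leaf ⟨(nat_lit 4), (nat_lit 1130), (nat_lit 0), (nat_lit 0x43950128c7b91f9a4fbf0044e2f9d), (nat_lit 0), (nat_lit 0)⟩)) (BT.node (nat_lit 6519) (BT.leaf ⟨(nat_lit 4), (nat_lit 2213), (nat_lit 0), (nat_lit 0xaed54d8353239b65627a688e558ab8), (nat_lit 0), (nat_lit 0)⟩) (BT.leaf ⟨(nat_lit 4), (nat_lit 2627), (nat_lit 0), (nat_lit 0xc4cbcf85f196363778fa699605bfad), (nat_lit 0), (nat_lit 0)⟩)))) (BT.node (nat_lit 6524) (BT.node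 (nat_lit 6522) (BT.node (nat_lit 6521) (BT.leaf ⟨(nat_lit 4), (nat_lit 2892), (nat_lit 0), (nat_lit 0x278f4073803ae697d00675f8f00408), (nat_lit 0), (nat_lit 0)⟩) (BT.leaf ⟨(nat_lit 4), (nat_lit 3238), (nat_lit 0), (nat_lit 0x18e85bd3ae65ce38d3a4675ee9a4f3b), (nat_lit 0), (nat_lit 0)⟩)) (BT.node (nat_lit 6523) (BT.leaf ⟨(nat_lit 4), (nat_lit 3261), (nat_lit 0), (nat_lit 0x5035a16f0911002270686618021240), (nat_lit 0), (nat_lit 0)⟩) (BT.leaf ⟨(nat_lit 4), (nat_lit 2927), (nat_lit 0), (nat_lit 0xcd5a4c71ce63b639573867e42ae47b), (nat_lit 0), (nat_lit 0)⟩))) (BT.node (nat_lit 6526) (BT.node (nat_lit 6525) (BT.leaf ⟨(nat_lit 4), (nat_lit 1762), (nat_lit 0), (nat_lit 0x15198058da749034f67365ef5500fe8), (nat_lit 0), (nat_lit 0)⟩) (BT.leaf ⟨(nat_lit 4), (nat_lit 2028), (nat_lit 0), (nat_lit 0x182e747e86397a2b45e9b905dad4751), (nat_lit 0), (nat_lit 0)⟩)) (BT.node (nat_lit 6527) (BT.leaf ⟨(nat_lit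 4), (nat_lit 2499), (nat_lit 0), (nat_lit 0x84878605320a38d3c3b91d99106d4), (nat_lit 0), (nat_lit 0)⟩) (BT.leaf ⟨(nat_lit 4), (nat_lit 2396), (nat_lit 0), (nat_lit 0xcd476d5c8c71df654537fd3cc3999b), (nat_lit 0), (nat_lit 0)⟩)))))))
noncomputable def cP6464 : BT Pf := (BT.node (nat_lit 6496) (BT.node (nat_lit 6480) (BT.node (nat_lit 6472) (BT.node (nat_lit 6468) (BT.node (nat_lit 6466) (BT.node (nat_lit 6465) (BT.leaf (.pt (nat_lit 6463) (nat_lit 1))) (BT.leaf (.pt (nat_lit 6464) (nat_lit 3)))) (BT.node (nat_lit 6467) (BT.leaf (.pt (nat_lit 5583) (nat_lit 3))) (BT.leaf (.pt (nat_lit 6466) (nat_lit 1))))) (BT.node (nat_lit 6470) (BT.node (nat_lit 6469) (BT.leaf (.pt (nat_lit 6467) (nat_lit 4))) (BT.leaf (.pt (nat_lit 6468) (nat_lit 1)))) (BT.node (nat_lit 6471) (BT.leaf (.pt (nat_lit 6469) (nat_lit 4))) (BT.leaf (.pt (nat_lit 5537) (nat_lit 4)))))) (BT.node (nat_lit 6476) (BT.node (nat_lit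 6474) (BT.node (nat_lit 6473) (BT.leaf (.pt (nat_lit 6471) (nat_lit 1))) (BT.leaf (.pt (nat_lit 6472) (nat_lit 4)))) (BT.node (nat_lit 6475) (BT.leaf (.pt (nat_lit 4821) (nat_lit 3))) (BT.leaf (.cov [] [⟨(nat_lit 1513), (nat_lit 5748), [(nat_lit 829), (nat_lit 737)]⟩, ⟨(nat_lit 1514), (nat_lit 5378), [(nat_lit 1027), (nat_lit 252)]⟩, ⟨(nat_lit 1518), (nat_lit 6331), [(nat_lit 990), (nat_lit 385)]⟩, ⟨(nat_lit 1519), (nat_lit 5196), [(nat_lit 1012), (nat_lit 426)]⟩, ⟨(nat_lit 1520), (nat_lit 5543), [(nat_lit 631), (nat_lit 1123)]⟩, ⟨(nat_lit 1521), (nat_lit 6271), [(nat_lit 176), (nat_lit 124)]⟩, ⟨(nat_lit 1522), (nat_lit 4964), [(nat_lit 433), (nat_lit 361)]⟩, ⟨(nat_lit 1523), (nat_lit 6440), [(nat_lit 422), (nat_lit 455)]⟩, ⟨(nat_lit 1524), (nat_lit 5486), [(nat_lit 943), (nat_lit 109)]⟩, ⟨(nat_lit 1525), (nat_lit 5146), [(nat_lit 1126), (nat_lit 868)]⟩, ⟨(nat_lit 1526), (nat_lit 6444),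 [(nat_lit 970), (nat_lit 290)]⟩, ⟨(nat_lit 1527), (nat_lit 6446), [(nat_lit 43), (nat_lit 235)]⟩, ⟨(nat_lit 1528), (nat_lit 5927), [(nat_lit 764), (nat_lit 627)]⟩, ⟨(nat_lit 1529), (nat_lit 6447), [(nat_lit 352), (nat_lit 891)]⟩, ⟨(nat_lit 1530), (nat_lit 4505), [(nat_lit 97), (nat_lit 1223)]⟩, ⟨(nat_lit 1531), (nat_lit 6242), [(nat_lit 466), (nat_lit 821)]⟩, ⟨(nat_lit 1532), (nat_lit 6450), [(nat_lit 255), (nat_lit 203)]⟩, ⟨(nat_lit 1533), (nat_lit 4763), [(nat_lit 1174), (nat_lit 956)]⟩, ⟨(nat_lit 1534), (nat_lit 6451), [(nat_lit 1106), (nat_lit 738)]⟩, ⟨(nat_lit 1535), (nat_lit 6457), [(nat_lit 928), (nat_lit 700)]⟩, ⟨(nat_lit 1538), (nat_lit 6460), [(nat_lit 747), (nat_lit 127)]⟩, ⟨(nat_lit 1539), (nat_lit 5614), [(nat_lit 373), (nat_lit 1036)]⟩, ⟨(nat_lit 1540), (nat_lit 6232), [(nat_lit 95), (nat_lit 127)]⟩, ⟨(nat_lit 1541), (nat_lit 5351), [(nat_lit 1099), (nat_lit 762)]⟩, ⟨(nat_lit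 1542), (nat_lit 4807), [(nat_lit 424), (nat_lit 628)]⟩, ⟨(nat_lit 1543), (nat_lit 5064), [(nat_lit 466), (nat_lit 892)]⟩, ⟨(nat_lit 1544), (nat_lit 5567), [(nat_lit 510), (nat_lit 818)]⟩, ⟨(nat_lit 1545), (nat_lit 4921), [(nat_lit 990), (nat_lit 465)]⟩, ⟨(nat_lit 1549), (nat_lit 5357), [(nat_lit 128), (nat_lit 1053)]⟩, ⟨(nat_lit 1550), (nat_lit 4581), [(nat_lit 507), (nat_lit 347)]⟩, ⟨(nat_lit 1551), (nat_lit 5723), [(nat_lit 1162), (nat_lit 676)]⟩, ⟨(nat_lit 1552), (nat_lit 6465), [(nat_lit 447), (nat_lit 874)]⟩, ⟨(nat_lit 1553), (nat_lit 6470), [(nat_lit 587), (nat_lit 580)]⟩, ⟨(nat_lit 1554), (nat_lit 5906), [(nat_lit 195), (nat_lit 529)]⟩, ⟨(nat_lit 1555), (nat_lit 5984), [(nat_lit 393), (nat_lit 203)]⟩, ⟨(nat_lit 1556), (nat_lit 6473), [(nat_lit 215), (nat_lit 334)]⟩, ⟨(nat_lit 1557), (nat_lit 4752), [(nat_lit 990), (nat_lit 1376)]⟩, ⟨(nat_lit 1558), (nat_lit 6404), [(nat_lit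 298), (nat_lit 557)]⟩, ⟨(nat_lit 1559), (nat_lit 5088), [(nat_lit 970), (nat_lit 1537)]⟩, ⟨(nat_lit 1560), (nat_lit 6474), [(nat_lit 784), (nat_lit 1256)]⟩])))) (BT.node (nat_lit 6478) (BT.node (nat_lit 6477) (BT.leaf (.pt (nat_lit 6259) (nat_lit 1))) (BT.leaf (.pt (nat_lit 6476) (nat_lit 4)))) (BT.node (nat_lit 6479) (BT.leaf (.pt (nat_lit 5794) (nat_lit 3))) (BT.leaf (.pt (nat_lit 5475) (nat_lit 4))))))) (BT.node (nat_lit 6488) (BT.node (nat_lit 6484) (BT.node (nat_lit 6482) (BT.node (nat_lit 6481) (BT.leaf (.pt (nat_lit 6258) (nat_lit 4))) (BT.leaf (.pt (nat_lit 5002) (nat_lit 4)))) (BT.node (nat_lit 6483) (BT.leaf (.pt (nat_lit 6481) (nat_lit 1))) (BT.leaf (.pt (nat_lit 5332) (nat_lit 4))))) (BT.node (nat_lit 6486) (BT.node (nat_lit 6485) (BT.leaf (.pt (nat_lit 6457) (nat_lit 3))) (BT.leaf (.pt (nat_lit 6255) (nat_lit 3)))) (BT.node (nat_lit 6487) (BT.leaf (.pt (nat_lit 6459) (nat_lit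 3))) (BT.leaf (.pt (nat_lit 5451) (nat_lit 4)))))) (BT.node (nat_lit 6492) (BT.node (nat_lit 6490) (BT.node (nat_lit 6489) (BT.leaf (.pt (nat_lit 5231) (nat_lit 4))) (BT.leaf (.pt (nat_lit 6488) (nat_lit 1)))) (BT.node (nat_lit 6491) (BT.leaf (.pt (nat_lit 5484) (nat_lit 4))) (BT.leaf (.pt (nat_lit 4926) (nat_lit 3))))) (BT.node (nat_lit 6494) (BT.node (nat_lit 6493) (BT.leaf (.pt (nat_lit 6491) (nat_lit 1))) (BT.leaf (.pt (nat_lit 6076) (nat_lit 1)))) (BT.node (nat_lit 6495) (BT.leaf (.pt (nat_lit 6493) (nat_lit 3))) (BT.leaf (.pt (nat_lit 6171) (nat_lit 3)))))))) (BT.node (nat_lit 6512) (BT.node (nat_lit 6504) (BT.node (nat_lit 6500) (BT.node (nat_lit 6498) (BT.node (nat_lit 6497) (BT.leaf (.pt (nat_lit 6495) (nat_lit 1))) (BT.leaf (.pt (nat_lit 5125) (nat_lit 3)))) (BT.node (nat_lit 6499) (BT.leaf (.pt (nat_lit 6497) (nat_lit 1))) (BT.leaf (.pt (nat_lit 6271) (nat_lit 4))))) (BT.node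 (nat_lit 6502) (BT.node (nat_lit 6501) (BT.leaf (.pt (nat_lit 6499) (nat_lit 1))) (BT.leaf (.pt (nat_lit 6500) (nat_lit 4)))) (BT.node (nat_lit 6503) (BT.leaf (.pt (nat_lit 6501) (nat_lit 1))) (BT.leaf (.pt (nat_lit 6502) (nat_lit 3)))))) (BT.node (nat_lit 6508) (BT.node (nat_lit 6506) (BT.node (nat_lit 6505) (BT.leaf (.pt (nat_lit 6503) (nat_lit 1))) (BT.leaf (.pt (nat_lit 4788) (nat_lit 1)))) (BT.node (nat_lit 6507) (BT.leaf (.pt (nat_lit 6505) (nat_lit 3))) (BT.leaf (.cov [] [⟨(nat_lit 1561), (nat_lit 6477), [(nat_lit 1175), (nat_lit 291)]⟩, ⟨(nat_lit 1562), (nat_lit 5181), [(nat_lit 209), (nat_lit 1)]⟩, ⟨(nat_lit 1563), (nat_lit 6478), [(nat_lit 513), (nat_lit 1204)]⟩, ⟨(nat_lit 1564), (nat_lit 6479), [(nat_lit 829), (nat_lit 465)]⟩, ⟨(nat_lit 1565), (nat_lit 6480), [(nat_lit 527), (nat_lit 486)]⟩, ⟨(nat_lit 1566), (nat_lit 6482), [(nat_lit 447), (nat_lit 711)]⟩, ⟨(nat_lit 1567),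 (nat_lit 6079), [(nat_lit 825), (nat_lit 330)]⟩, ⟨(nat_lit 1568), (nat_lit 6483), [(nat_lit 416), (nat_lit 236)]⟩, ⟨(nat_lit 1569), (nat_lit 4781), [(nat_lit 94), (nat_lit 431)]⟩, ⟨(nat_lit 1570), (nat_lit 6484), [(nat_lit 192), (nat_lit 206)]⟩, ⟨(nat_lit 1571), (nat_lit 6485), [(nat_lit 913), (nat_lit 556)]⟩, ⟨(nat_lit 1572), (nat_lit 5255), [(nat_lit 258), (nat_lit 646)]⟩, ⟨(nat_lit 1573), (nat_lit 6486), [(nat_lit 271), (nat_lit 972)]⟩, ⟨(nat_lit 1574), (nat_lit 5797), [(nat_lit 734), (nat_lit 367)]⟩, ⟨(nat_lit 1575), (nat_lit 6487), [(nat_lit 393), (nat_lit 1009)]⟩, ⟨(nat_lit 1576), (nat_lit 6489), [(nat_lit 404), (nat_lit 264)]⟩, ⟨(nat_lit 1577), (nat_lit 6490), [(nat_lit 1004), (nat_lit 109)]⟩, ⟨(nat_lit 1578), (nat_lit 6492), [(nat_lit 128), (nat_lit 1203)]⟩, ⟨(nat_lit 1579), (nat_lit 4769), [(nat_lit 167), (nat_lit 141)]⟩, ⟨(nat_lit 1580), (nat_lit 5134), [(nat_lit 1201), (nat_lit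 1503)]⟩, ⟨(nat_lit 1584), (nat_lit 6262), [(nat_lit 406), (nat_lit 606)]⟩, ⟨(nat_lit 1585), (nat_lit 6455), [(nat_lit 177), (nat_lit 1410)]⟩, ⟨(nat_lit 1586), (nat_lit 6494), [(nat_lit 914), (nat_lit 1)]⟩, ⟨(nat_lit 1587), (nat_lit 5206), [(nat_lit 1189), (nat_lit 107)]⟩, ⟨(nat_lit 1588), (nat_lit 4580), [(nat_lit 510), (nat_lit 369)]⟩, ⟨(nat_lit 1589), (nat_lit 5451), [(nat_lit 128), (nat_lit 431)]⟩, ⟨(nat_lit 1592), (nat_lit 5050), [(nat_lit 523), (nat_lit 651)]⟩, ⟨(nat_lit 1595), (nat_lit 5135), [(nat_lit 96), (nat_lit 892)]⟩, ⟨(nat_lit 1596), (nat_lit 6496), [(nat_lit 403), (nat_lit 1)]⟩, ⟨(nat_lit 1597), (nat_lit 4811), [(nat_lit 357), (nat_lit 1376)]⟩, ⟨(nat_lit 1598), (nat_lit 6498), [(nat_lit 575), (nat_lit 234)]⟩, ⟨(nat_lit 1599), (nat_lit 5599), [(nat_lit 488), (nat_lit 291)]⟩, ⟨(nat_lit 1601), (nat_lit 4568), [(nat_lit 707), (nat_lit 293)]⟩, ⟨(nat_lit 1602), (nat_lit 6504),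 [(nat_lit 152), (nat_lit 431)]⟩, ⟨(nat_lit 1603), (nat_lit 6216), [(nat_lit 376), (nat_lit 1204)]⟩, ⟨(nat_lit 1604), (nat_lit 6011), [(nat_lit 493), (nat_lit 693)]⟩, ⟨(nat_lit 1606), (nat_lit 5410), [(nat_lit 570), (nat_lit 627)]⟩, ⟨(nat_lit 1608), (nat_lit 6212), [(nat_lit 260), (nat_lit 141)]⟩, ⟨(nat_lit 1609), (nat_lit 6506), [(nat_lit 942), (nat_lit 426)]⟩, ⟨(nat_lit 1610), (nat_lit 4641), [(nat_lit 865), (nat_lit 290)]⟩])))) (BT.node (nat_lit 6510) (BT.node (nat_lit 6509) (BT.leaf (.pt (nat_lit 6480) (nat_lit 1))) (BT.leaf (.pt (nat_lit 6508) (nat_lit 3)))) (BT.node (nat_lit 6511) (BT.leaf (.pt (nat_lit 5745) (nat_lit 3))) (BT.leaf (.pt (nat_lit 6128) (nat_lit 3))))))) (BT.node (nat_lit 6520) (BT.node (nat_lit 6516) (BT.node (nat_lit 6514) (BT.node (nat_lit 6513) (BT.leaf (.pt (nat_lit 6511) (nat_lit 1))) (BT.leaf (.pt (nat_lit 6512) (nat_lit 3)))) (BT.node (nat_lit 6515) (BT.leaf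 (.pt (nat_lit 4712) (nat_lit 4))) (BT.leaf (.pt (nat_lit 6493) (nat_lit 4))))) (BT.node (nat_lit 6518) (BT.node (nat_lit 6517) (BT.leaf (.pt (nat_lit 6515) (nat_lit 1))) (BT.leaf (.pt (nat_lit 5885) (nat_lit 3)))) (BT.node (nat_lit 6519) (BT.leaf (.pt (nat_lit 5356) (nat_lit 4))) (BT.leaf (.pt (nat_lit 6518) (nat_lit 1)))))) (BT.node (nat_lit 6524) (BT.node (nat_lit 6522) (BT.node (nat_lit 6521) (BT.leaf (.pt (nat_lit 6519) (nat_lit 4))) (BT.leaf (.pt (nat_lit 6520) (nat_lit 1)))) (BT.node (nat_lit 6523) (BT.leaf (.pt (nat_lit 6521) (nat_lit 4))) (BT.leaf (.pt (nat_lit 6522) (nat_lit 1))))) (BT.node (nat_lit 6526) (BT.node (nat_lit 6525) (BT.leaf (.pt (nat_lit 6308) (nat_lit 3))) (BT.leaf (.pt (nat_lit 6070) (nat_lit 3)))) (BT.node (nat_lit 6527) (BT.leaf (.pt (nat_lit 6525) (nat_lit 1))) (BT.leaf (.pt (nat_lit 5093) (nat_lit 3)))))))))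
noncomputable def cF6528 : BT Fc := (BT.node (nat_lit 6560) (BT.node (nat_lit 6544) (BT.node (nat_lit 6536) (BT.node (nat_lit 6532) (BT.node (nat_lit 6530) (BT.node (nat_lit 6529) (BT.leaf ⟨(nat_lit 4), (nat_lit 2749), (nat_lit 0), (nat_lit 0x1eb746b8d4cb963c68cb7fd74b5179d), (nat_lit 0), (nat_lit 0)⟩) (BT.leaf ⟨(nat_lit 4), (nat_lit 2521), (nat_lit 0), (nat_lit 0x12fa6f48e2ed6c760c9aa969a876e27), (nat_lit 0), (nat_lit 0)⟩)) (BT.node (nat_lit 6531) (BT.leaf ⟨(nat_lit 4), (nat_lit 3313), (nat_lit 0), (nat_lit 0x6bc402dfad0208c0155f7424040e74), (nat_lit 0), (nat_lit 0)⟩) (BT.leaf ⟨(nat_lit 4), (nat_lit 3245), (nat_lit 0), (nat_lit 0x16c589c9a2ece91ec77d93f67a4e6c1), (nat_lit 0), (nat_lit 0)⟩))) (BT.node (nat_lit 6534) (BT.node (nat_lit 6533) (BT.leaf ⟨(nat_lit 4), (nat_lit 2901), (nat_lit 0), (nat_lit 0xf88408034bc7537a92e93e02402de9), (nat_lit 0), (nat_lit 0)⟩) (BT.leaf ⟨(nat_lit 4),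 (nat_lit 2537), (nat_lit 0), (nat_lit 0xf0c107664ff2f830299049b50fa822), (nat_lit 0), (nat_lit 0)⟩)) (BT.node (nat_lit 6535) (BT.leaf ⟨(nat_lit 4), (nat_lit 3547), (nat_lit 0), (nat_lit 0x16c47d7dbab8e5b5152f25a49c87e69), (nat_lit 0), (nat_lit 0)⟩) (BT.leaf ⟨(nat_lit 4), (nat_lit 3548), (nat_lit 0), (nat_lit 0xe93bd07c693c6b9973eb07eeb9c565), (nat_lit 0), (nat_lit 0)⟩)))) (BT.node (nat_lit 6540) (BT.node (nat_lit 6538) (BT.node (nat_lit 6537) (BT.leaf ⟨(nat_lit 4), (nat_lit 3681), (nat_lit 0), (nat_lit 0xaf554abb1ccae226e27b06ae6ffeca), (nat_lit 0), (nat_lit 0)⟩) (BT.leaf ⟨(nat_lit 4), (nat_lit 454), (nat_lit 0), (nat_lit 0x1cebbd4d9f75c69a487ce654e99d615), (nat_lit 0), (nat_lit 0)⟩)) (BT.node (nat_lit 6539) (BT.leaf ⟨(nat_lit 4), (nat_lit 2718), (nat_lit 0), (nat_lit 0x1ccb77f3839dcfbbd72af74e938d07c), (nat_lit 0), (nat_lit 0)⟩) (BT.leaf ⟨(nat_lit 4), (nat_lit 3115), (nat_lit 0),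 (nat_lit 0x1021c6b465e90804f7e38081ce40600), (nat_lit 0), (nat_lit 0)⟩))) (BT.node (nat_lit 6542) (BT.node (nat_lit 6541) (BT.leaf ⟨(nat_lit 4), (nat_lit 2847), (nat_lit 0), (nat_lit 0xf9c9588440896c0300c808af7a16f0), (nat_lit 0), (nat_lit 0)⟩) (BT.leaf ⟨(nat_lit 4), (nat_lit 2697), (nat_lit 0), (nat_lit 0x11bb2c179b1a32e9a7adba5e31c6b13), (nat_lit 0), (nat_lit 0)⟩)) (BT.node (nat_lit 6543) (BT.leaf ⟨(nat_lit 4), (nat_lit 2312), (nat_lit 0), (nat_lit 0x9fdafe5fd83edd6f9bcba58b25585f), (nat_lit 0), (nat_lit 0)⟩) (BT.leaf ⟨(nat_lit 4), (nat_lit 2311), (nat_lit 0), (nat_lit 0x1c6b9d5837482dfbd72a39dee96933a), (nat_lit 0), (nat_lit 0)⟩))))) (BT.node (nat_lit 6552) (BT.node (nat_lit 6548) (BT.node (nat_lit 6546) (BT.node (nat_lit 6545) (BT.leaf ⟨(nat_lit 4), (nat_lit 277), (nat_lit 0), (nat_lit 0x93c08014e54045f9c6338bb9247050), (nat_lit 0), (nat_lit 0)⟩) (BT.leaf ⟨(nat_lit 4), (nat_lit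 386), (nat_lit 0), (nat_lit 0x1698eed4b32b7561eb8a38b960e8eef), (nat_lit 0), (nat_lit 0)⟩)) (BT.node (nat_lit 6547) (BT.leaf ⟨(nat_lit 4), (nat_lit 3297), (nat_lit 0), (nat_lit 0x17b2747b75a57a2f060bad10f6e4751), (nat_lit 0), (nat_lit 0)⟩) (BT.leaf ⟨(nat_lit 4), (nat_lit 1433), (nat_lit 0), (nat_lit 0x15cf468d5c8d67882120280409af82f), (nat_lit 0), (nat_lit 0)⟩))) (BT.node (nat_lit 6550) (BT.node (nat_lit 6549) (BT.leaf ⟨(nat_lit 4), (nat_lit 1497), (nat_lit 0), (nat_lit 0x181d1a1f2de10120433280104caf06), (nat_lit 0), (nat_lit 0)⟩) (BT.leaf ⟨(nat_lit 4), (nat_lit 1496), (nat_lit 0), (nat_lit 0x1c6bdd73ec2b8e8e7732ddf4eb9d565), (nat_lit 0), (nat_lit 0)⟩)) (BT.node (nat_lit 6551) (BT.leaf ⟨(nat_lit 5), (nat_lit 7), (nat_lit 0), (nat_lit 0x200000000000000000000000000000000000000000000000000000000000000000000000000000000000000100000000200000000000000000000000000000000000000000100000000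000000000000000000000001000000000000000000800000000000000000000000000000000000000000000000000000000000000000000000000000000000002000000000020002000008000000000000000000000000000020004000080000000080000000000080000000008000000000000000000000000000000000001000004000040000000000000000000000000000000000000040000000000000000000000000000400000000000000000000000000000000000000000000000000000000020000000100000000008000000000000000000000000000000000000000000000000000000001000000000000000000000004000000000000000000000400000000000008000000000000000000000010000000000000000000000000000000001000000000000000000000000000800000000000000000000000000000000000200020000000400000000000080004000000000000000000000000000000000000000000000000000000400000001000000000020000000000000000000200), (nat_lit 0), (nat_lit 0)⟩) (BT.leaf ⟨(nat_lit 4), (nat_lit 870), (nat_lit 0), (nat_lit 0xaee38822e700080940225b7a9016f6),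 (nat_lit 0), (nat_lit 0)⟩)))) (BT.node (nat_lit 6556) (BT.node (nat_lit 6554) (BT.node (nat_lit 6553) (BT.leaf ⟨(nat_lit 4), (nat_lit 2869), (nat_lit 0), (nat_lit 0x17b04204400bbc39f006029d0802024), (nat_lit 0), (nat_lit 0)⟩) (BT.leaf ⟨(nat_lit 4), (nat_lit 3226), (nat_lit 0), (nat_lit 0x480c010060fcce2df802844028011), (nat_lit 0), (nat_lit 0)⟩)) (BT.node (nat_lit 6555) (BT.leaf ⟨(nat_lit 4), (nat_lit 741), (nat_lit 0), (nat_lit 0x1467830cb0f9518d974294ba4fa3b46), (nat_lit 0), (nat_lit 0)⟩) (BT.leaf ⟨(nat_lit 4), (nat_lit 3370), (nat_lit 0), (nat_lit 0x185497b2f24f9a49590f05e5bed892e), (nat_lit 0), (nat_lit 0)⟩))) (BT.node (nat_lit 6558) (BT.node (nat_lit 6557) (BT.leaf ⟨(nat_lit 4), (nat_lit 3137), (nat_lit 0), (nat_lit 0x483fa59e2024428063a05eee580108), (nat_lit 0), (nat_lit 0)⟩) (BT.leaf ⟨(nat_lit 4), (nat_lit 2738), (nat_lit 0), (nat_lit 0x82f40080028015cf4602075497804), (nat_lit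 0), (nat_lit 0)⟩)) (BT.node (nat_lit 6559) (BT.leaf ⟨(nat_lit 4), (nat_lit 2383), (nat_lit 0), (nat_lit 0x1d592793f028fce470300201400c011), (nat_lit 0), (nat_lit 0)⟩) (BT.leaf ⟨(nat_lit 4), (nat_lit 2639), (nat_lit 0), (nat_lit 0x4be6393f25cdc0d79275998573490f), (nat_lit 0), (nat_lit 0)⟩)))))) (BT.node (nat_lit 6576) (BT.node (nat_lit 6568) (BT.node (nat_lit 6564) (BT.node (nat_lit 6562) (BT.node (nat_lit 6561) (BT.leaf ⟨(nat_lit 4), (nat_lit 3028), (nat_lit 0), (nat_lit 0x756a5da63a88d86af21d26555c51c5), (nat_lit 0), (nat_lit 0)⟩) (BT.leaf ⟨(nat_lit 4), (nat_lit 2758), (nat_lit 0), (nat_lit 0x1006eac02c0102200346fc627a8065f), (nat_lit 0), (nat_lit 0)⟩)) (BT.node (nat_lit 6563) (BT.leaf ⟨(nat_lit 4), (nat_lit 1008), (nat_lit 0), (nat_lit 0x8e44841e100a03e3180105eea400a0), (nat_lit 0), (nat_lit 0)⟩) (BT.leaf ⟨(nat_lit 4), (nat_lit 536), (nat_lit 0), (nat_lit 0x96ef673ede0af402be725605102004),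 (nat_lit 0), (nat_lit 0)⟩))) (BT.node (nat_lit 6566) (BT.node (nat_lit 6565) (BT.leaf ⟨(nat_lit 4), (nat_lit 3508), (nat_lit 0), (nat_lit 0x1cab8d73ee761f26cf38ddfccb9d33a), (nat_lit 0), (nat_lit 0)⟩) (BT.leaf ⟨(nat_lit 4), (nat_lit 2010), (nat_lit 0), (nat_lit 0x1deb837cd281ad10fc402de654605a8), (nat_lit 0), (nat_lit 0)⟩)) (BT.node (nat_lit 6567) (BT.leaf ⟨(nat_lit 4), (nat_lit 691), (nat_lit 0), (nat_lit 0xf9c06789e840140349a25605002044), (nat_lit 0), (nat_lit 0)⟩) (BT.leaf ⟨(nat_lit 4), (nat_lit 3384), (nat_lit 0), (nat_lit 0x1bf3786f55e8c73fa44d39dbd935287), (nat_lit 0), (nat_lit 0)⟩)))) (BT.node (nat_lit 6572) (BT.node (nat_lit 6570) (BT.node (nat_lit 6569) (BT.leaf ⟨(nat_lit 4), (nat_lit 2630), (nat_lit 0), (nat_lit 0x7d629920da8280302994fe09210021), (nat_lit 0), (nat_lit 0)⟩) (BT.leaf ⟨(nat_lit 4), (nat_lit 2218), (nat_lit 0), (nat_lit 0x39ab2e5f4bcdc3dbb8a4fe93dafcab), (nat_lit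 0), (nat_lit 0)⟩)) (BT.node (nat_lit 6571) (BT.leaf ⟨(nat_lit 4), (nat_lit 2219), (nat_lit 0), (nat_lit 0x1b29ff2878e55ce31cf3ab8cd629c33), (nat_lit 0), (nat_lit 0)⟩) (BT.leaf ⟨(nat_lit 4), (nat_lit 952), (nat_lit 0), (nat_lit 0xc70d96d4fb7bdb7af219e92ae26a87), (nat_lit 0), (nat_lit 0)⟩))) (BT.node (nat_lit 6574) (BT.node (nat_lit 6573) (BT.leaf ⟨(nat_lit 4), (nat_lit 1189), (nat_lit 0), (nat_lit 0xf55200b9ce6821007e89e88111032f), (nat_lit 0), (nat_lit 0)⟩) (BT.leaf ⟨(nat_lit 4), (nat_lit 1243), (nat_lit 0), (nat_lit 0x717950118c7b90481100600400c2a9), (nat_lit 0), (nat_lit 0)⟩)) (BT.node (nat_lit 6575) (BT.leaf ⟨(nat_lit 4), (nat_lit 2029), (nat_lit 0), (nat_lit 0x6c97a6f49e9bd75a6fca2ff6d354ab), (nat_lit 0), (nat_lit 0)⟩) (BT.leaf ⟨(nat_lit 4), (nat_lit 2500), (nat_lit 0), (nat_lit 0xfacad77d378f0e374a5a2ef9df19e3), (nat_lit 0), (nat_lit 0)⟩))))) (BT.node (nat_lit 6584) (BT.node (nat_lit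 6580) (BT.node (nat_lit 6578) (BT.node (nat_lit 6577) (BT.leaf ⟨(nat_lit 4), (nat_lit 2846), (nat_lit 0), (nat_lit 0x608805049fb90485f8021e741848e), (nat_lit 0), (nat_lit 0)⟩) (BT.leaf ⟨(nat_lit 4), (nat_lit 3056), (nat_lit 0), (nat_lit 0x17a1f182093dd19000080204bc2025f), (nat_lit 0), (nat_lit 0)⟩)) (BT.node (nat_lit 6579) (BT.leaf ⟨(nat_lit 4), (nat_lit 2667), (nat_lit 0), (nat_lit 0x13a31d35fb3c50017ff4c8c35488180), (nat_lit 0), (nat_lit 0)⟩) (BT.leaf ⟨(nat_lit 4), (nat_lit 429), (nat_lit 0), (nat_lit 0x1d18d9669e9dd0865e9368dd9affca5), (nat_lit 0), (nat_lit 0)⟩))) (BT.node (nat_lit 6582) (BT.node (nat_lit 6581) (BT.leaf ⟨(nat_lit 4), (nat_lit 324), (nat_lit 0), (nat_lit 0x17544f6b9fc720039c0068d97e97c08), (nat_lit 0), (nat_lit 0)⟩) (BT.leaf ⟨(nat_lit 4), (nat_lit 1373), (nat_lit 0), (nat_lit 0xaedcb36c57a2e473751bfeae55c239), (nat_lit 0), (nat_lit 0)⟩)) (BT.node (nat_lit 6583) (BT.leaf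 ⟨(nat_lit 4), (nat_lit 1381), (nat_lit 0), (nat_lit 0xab8d9747f8cf61a3744bff91b49f42), (nat_lit 0), (nat_lit 0)⟩) (BT.leaf ⟨(nat_lit 4), (nat_lit 138), (nat_lit 0), (nat_lit 0x11bae978fa69a36c6f8971be305bfcd), (nat_lit 0), (nat_lit 0)⟩)))) (BT.node (nat_lit 6588) (BT.node (nat_lit 6586) (BT.node (nat_lit 6585) (BT.leaf ⟨(nat_lit 4), (nat_lit 188), (nat_lit 0), (nat_lit 0x145fedeb489a73b7aef4fe86c97a287), (nat_lit 0), (nat_lit 0)⟩) (BT.leaf ⟨(nat_lit 5), (nat_lit 7), (nat_lit 0), (nat_lit 0x1000000000000001000000000000000000000000200000100000000000000000000000000000000000000040000000000000000000000100000000000000000000000001000000000000200000000000200000000000000000000000000000000000000000040000040000000000000000a000000000000010000000000000000000020000000000000000000000000000000000080000000000000000000000000000000000000000800000000000000000000000000000000000000000000000000040000000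008000000000000000000400000000000000000000000000400000000000000000000000000000000000000000000000000001000000000000000000000000000000082000000000000002000000000000000000000000000000000080000000000000000000000000000000000000000000000000000000001000200000000000000000000000000000040000020000000000000000000000000200000000000080000000000000000000000000000000000000100000000000000000000000002000000000200000000020000001000000000000000000000000000000000100000000000000000000000000000000080008000000000), (nat_lit 0), (nat_lit 0)⟩)) (BT.node (nat_lit 6587) (BT.leaf ⟨(nat_lit 4), (nat_lit 3158), (nat_lit 0), (nat_lit 0x49d58c7b011020eef85013bf12b908), (nat_lit 0), (nat_lit 0)⟩) (BT.leaf ⟨(nat_lit 4), (nat_lit 3107), (nat_lit 0), (nat_lit 0x1e3002a5e203cec0192e01327e39001), (nat_lit 0), (nat_lit 0)⟩))) (BT.node (nat_lit 6590) (BT.node (nat_lit 6589) (BT.leaf ⟨(nat_lit 4), (nat_lit 3108), (nat_lit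 0), (nat_lit 0x14d14cab9773b2b13eb9b06be558b6c), (nat_lit 0), (nat_lit 0)⟩) (BT.leaf ⟨(nat_lit 4), (nat_lit 3156), (nat_lit 0), (nat_lit 0xcebdd732ddf4eab28b7b0673b9d63a), (nat_lit 0), (nat_lit 0)⟩)) (BT.node (nat_lit 6591) (BT.leaf ⟨(nat_lit 4), (nat_lit 2759), (nat_lit 0), (nat_lit 0x1f8f05f7d46c569f9ca57c66f0f1beb), (nat_lit 0), (nat_lit 0)⟩) (BT.leaf ⟨(nat_lit 4), (nat_lit 1408), (nat_lit 0), (nat_lit 0x10f5b61d7cb0757499f5e43bbdc50d5), (nat_lit 0), (nat_lit 0)⟩)))))))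
noncomputable def cP6528 : BT Pf := (BT.node (nat_lit 6560) (BT.node (nat_lit 6544) (BT.node (nat_lit 6536) (BT.node (nat_lit 6532) (BT.node (nat_lit 6530) (BT.node (nat_lit 6529) (BT.leaf (.pt (nat_lit 6527) (nat_lit 1))) (BT.leaf (.pt (nat_lit 6528) (nat_lit 3)))) (BT.node (nat_lit 6531) (BT.leaf (.pt (nat_lit 5216) (nat_lit 1))) (BT.leaf (.pt (nat_lit 6530) (nat_lit 4))))) (BT.node (nat_lit 6534) (BT.node (nat_lit 6533) (BT.leaf (.pt (nat_lit 6531) (nat_lit 1))) (BT.leaf (.pt (nat_lit 6532) (nat_lit 4)))) (BT.node (nat_lit 6535) (BT.leaf (.pt (nat_lit 6417) (nat_lit 1))) (BT.leaf (.pt (nat_lit 6534) (nat_lit 3)))))) (BT.node (nat_lit 6540) (BT.node (nat_lit 6538) (BT.node (nat_lit 6537) (BT.leaf (.pt (nat_lit 6535) (nat_lit 1))) (BT.leaf (.pt (nat_lit 5663) (nat_lit 1)))) (BT.node (nat_lit 6539) (BT.leaf (.pt (nat_lit 5188) (nat_lit 1))) (BT.leaf (.pt (nat_lit 6538) (nat_lit 3)))))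 (BT.node (nat_lit 6542) (BT.node (nat_lit 6541) (BT.leaf (.pt (nat_lit 6539) (nat_lit 1))) (BT.leaf (.pt (nat_lit 6540) (nat_lit 3)))) (BT.node (nat_lit 6543) (BT.leaf (.pt (nat_lit 6541) (nat_lit 1))) (BT.leaf (.pt (nat_lit 6542) (nat_lit 4))))))) (BT.node (nat_lit 6552) (BT.node (nat_lit 6548) (BT.node (nat_lit 6546) (BT.node (nat_lit 6545) (BT.leaf (.pt (nat_lit 4612) (nat_lit 3))) (BT.leaf (.pt (nat_lit 6544) (nat_lit 1)))) (BT.node (nat_lit 6547) (BT.leaf (.pt (nat_lit 5818) (nat_lit 3))) (BT.leaf (.pt (nat_lit 6426) (nat_lit 3))))) (BT.node (nat_lit 6550) (BT.node (nat_lit 6549) (BT.leaf (.pt (nat_lit 6547) (nat_lit 1))) (BT.leaf (.pt (nat_lit 6548) (nat_lit 4)))) (BT.node (nat_lit 6551) (BT.leaf (.cov [] [⟨(nat_lit 1611), (nat_lit 5525), [(nat_lit 569), (nat_lit 141)]⟩, ⟨(nat_lit 1612), (nat_lit 6509), [(nat_lit 208), (nat_lit 400)]⟩, ⟨(nat_lit 1613), (nat_lit 4723), [(nat_lit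 733), (nat_lit 287)]⟩, ⟨(nat_lit 1614), (nat_lit 5258), [(nat_lit 292), (nat_lit 320)]⟩, ⟨(nat_lit 1615), (nat_lit 6510), [(nat_lit 815), (nat_lit 736)]⟩, ⟨(nat_lit 1616), (nat_lit 6513), [(nat_lit 2061), (nat_lit 525)]⟩, ⟨(nat_lit 1617), (nat_lit 6514), [(nat_lit 673), (nat_lit 1192)]⟩, ⟨(nat_lit 1618), (nat_lit 6516), [(nat_lit 827), (nat_lit 530)]⟩, ⟨(nat_lit 1619), (nat_lit 6349), [(nat_lit 1437), (nat_lit 124)]⟩, ⟨(nat_lit 1621), (nat_lit 4742), [(nat_lit 402), (nat_lit 455)]⟩, ⟨(nat_lit 1622), (nat_lit 4489), [(nat_lit 441), (nat_lit 982)]⟩, ⟨(nat_lit 1624), (nat_lit 5659), [(nat_lit 1099), (nat_lit 363)]⟩, ⟨(nat_lit 1625), (nat_lit 5256), [(nat_lit 335), (nat_lit 499)]⟩, ⟨(nat_lit 1626), (nat_lit 4643), [(nat_lit 483), (nat_lit 795)]⟩, ⟨(nat_lit 1627), (nat_lit 6517), [(nat_lit 579), (nat_lit 1088)]⟩, ⟨(nat_lit 1628), (nat_lit 6523), [(nat_lit 1218), (nat_lit 253)]⟩, ⟨(nat_lit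 1629), (nat_lit 4747), [(nat_lit 957), (nat_lit 486)]⟩, ⟨(nat_lit 1630), (nat_lit 6524), [(nat_lit 406), (nat_lit 190)]⟩, ⟨(nat_lit 1631), (nat_lit 6382), [(nat_lit 484), (nat_lit 330)]⟩, ⟨(nat_lit 1633), (nat_lit 6228), [(nat_lit 391), (nat_lit 1043)]⟩, ⟨(nat_lit 1634), (nat_lit 5560), [(nat_lit 914), (nat_lit 676)]⟩, ⟨(nat_lit 1635), (nat_lit 6526), [(nat_lit 829), (nat_lit 307)]⟩, ⟨(nat_lit 1636), (nat_lit 5715), [(nat_lit 152), (nat_lit 294)]⟩, ⟨(nat_lit 1638), (nat_lit 6467), [(nat_lit 488), (nat_lit 107)]⟩, ⟨(nat_lit 1639), (nat_lit 6529), [(nat_lit 1099), (nat_lit 982)]⟩, ⟨(nat_lit 1640), (nat_lit 5000), [(nat_lit 467), (nat_lit 88)]⟩, ⟨(nat_lit 1641), (nat_lit 6533), [(nat_lit 526), (nat_lit 278)]⟩, ⟨(nat_lit 1642), (nat_lit 6536), [(nat_lit 782), (nat_lit 584)]⟩, ⟨(nat_lit 1643), (nat_lit 5872), [(nat_lit 1092), (nat_lit 486)]⟩, ⟨(nat_lit 1644), (nat_lit 6537), [(nat_lit 990),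 (nat_lit 1109)]⟩, ⟨(nat_lit 1645), (nat_lit 6543), [(nat_lit 957), (nat_lit 891)]⟩, ⟨(nat_lit 1646), (nat_lit 6545), [(nat_lit 1337), (nat_lit 203)]⟩, ⟨(nat_lit 1647), (nat_lit 6546), [(nat_lit 1337), (nat_lit 379)]⟩, ⟨(nat_lit 1651), (nat_lit 4562), [(nat_lit 256), (nat_lit 369)]⟩, ⟨(nat_lit 1652), (nat_lit 5555), [(nat_lit 353), (nat_lit 390)]⟩, ⟨(nat_lit 1653), (nat_lit 5159), [(nat_lit 774), (nat_lit 440)]⟩, ⟨(nat_lit 1654), (nat_lit 5913), [(nat_lit 1092), (nat_lit 1053)]⟩, ⟨(nat_lit 1655), (nat_lit 6549), [(nat_lit 1600), (nat_lit 252)]⟩, ⟨(nat_lit 1658), (nat_lit 6358), [(nat_lit 1242), (nat_lit 1036)]⟩, ⟨(nat_lit 1659), (nat_lit 4506), [(nat_lit 675), (nat_lit 141)]⟩])) (BT.leaf (.pt (nat_lit 6036) (nat_lit 4)))))) (BT.node (nat_lit 6556) (BT.node (nat_lit 6554) (BT.node (nat_lit 6553) (BT.leaf (.pt (nat_lit 6337) (nat_lit 4))) (BT.leaf (.pt (nat_lit 6552) (nat_lit 1)))) (BT.node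 (nat_lit 6555) (BT.leaf (.pt (nat_lit 5969) (nat_lit 4))) (BT.leaf (.pt (nat_lit 4839) (nat_lit 4))))) (BT.node (nat_lit 6558) (BT.node (nat_lit 6557) (BT.leaf (.pt (nat_lit 6555) (nat_lit 1))) (BT.leaf (.pt (nat_lit 6556) (nat_lit 3)))) (BT.node (nat_lit 6559) (BT.leaf (.pt (nat_lit 6557) (nat_lit 1))) (BT.leaf (.pt (nat_lit 6345) (nat_lit 1)))))))) (BT.node (nat_lit 6576) (BT.node (nat_lit 6568) (BT.node (nat_lit 6564) (BT.node (nat_lit 6562) (BT.node (nat_lit 6561) (BT.leaf (.pt (nat_lit 6559) (nat_lit 4))) (BT.leaf (.pt (nat_lit 4704) (nat_lit 4)))) (BT.node (nat_lit 6563) (BT.leaf (.pt (nat_lit 4639) (nat_lit 3))) (BT.leaf (.pt (nat_lit 5936) (nat_lit 3))))) (BT.node (nat_lit 6566) (BT.node (nat_lit 6565) (BT.leaf (.pt (nat_lit 6296) (nat_lit 4))) (BT.leaf (.pt (nat_lit 5565) (nat_lit 4)))) (BT.node (nat_lit 6567) (BT.leaf (.pt (nat_lit 5849) (nat_lit 3))) (BT.leaf (.pt (nat_lit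 6450) (nat_lit 1)))))) (BT.node (nat_lit 6572) (BT.node (nat_lit 6570) (BT.node (nat_lit 6569) (BT.leaf (.pt (nat_lit 5215) (nat_lit 3))) (BT.leaf (.pt (nat_lit 6568) (nat_lit 1)))) (BT.node (nat_lit 6571) (BT.leaf (.pt (nat_lit 6569) (nat_lit 3))) (BT.leaf (.pt (nat_lit 4690) (nat_lit 4))))) (BT.node (nat_lit 6574) (BT.node (nat_lit 6573) (BT.leaf (.pt (nat_lit 6571) (nat_lit 1))) (BT.leaf (.pt (nat_lit 6572) (nat_lit 4)))) (BT.node (nat_lit 6575) (BT.leaf (.pt (nat_lit 5760) (nat_lit 3))) (BT.leaf (.pt (nat_lit 6574) (nat_lit 1))))))) (BT.node (nat_lit 6584) (BT.node (nat_lit 6580) (BT.node (nat_lit 6578) (BT.node (nat_lit 6577) (BT.leaf (.pt (nat_lit 6575) (nat_lit 4))) (BT.leaf (.pt (nat_lit 6576) (nat_lit 1)))) (BT.node (nat_lit 6579) (BT.leaf (.pt (nat_lit 6577) (nat_lit 3))) (BT.leaf (.pt (nat_lit 6134) (nat_lit 3))))) (BT.node (nat_lit 6582) (BT.node (nat_lit 6581) (BT.leaf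 (.pt (nat_lit 6579) (nat_lit 1))) (BT.leaf (.pt (nat_lit 5040) (nat_lit 3)))) (BT.node (nat_lit 6583) (BT.leaf (.pt (nat_lit 6581) (nat_lit 1))) (BT.leaf (.pt (nat_lit 6206) (nat_lit 1)))))) (BT.node (nat_lit 6588) (BT.node (nat_lit 6586) (BT.node (nat_lit 6585) (BT.leaf (.pt (nat_lit 6583) (nat_lit 3))) (BT.leaf (.cov [] [⟨(nat_lit 1660), (nat_lit 6389), [(nat_lit 237), (nat_lit 287)]⟩, ⟨(nat_lit 1661), (nat_lit 6142), [(nat_lit 216), (nat_lit 206)]⟩, ⟨(nat_lit 1662), (nat_lit 6551), [(nat_lit 957), (nat_lit 740)]⟩, ⟨(nat_lit 1663), (nat_lit 6114), [(nat_lit 579), (nat_lit 969)]⟩, ⟨(nat_lit 1664), (nat_lit 5504), [(nat_lit 544), (nat_lit 320)]⟩, ⟨(nat_lit 1665), (nat_lit 5716), [(nat_lit 1026), (nat_lit 581)]⟩, ⟨(nat_lit 1667), (nat_lit 5957), [(nat_lit 977), (nat_lit 1017)]⟩, ⟨(nat_lit 1668), (nat_lit 6553), [(nat_lit 928), (nat_lit 868)]⟩, ⟨(nat_lit 1669), (nat_lit 5721), [(nat_lit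 393), (nat_lit 956)]⟩, ⟨(nat_lit 1670), (nat_lit 6554), [(nat_lit 1032), (nat_lit 375)]⟩, ⟨(nat_lit 1671), (nat_lit 6558), [(nat_lit 446), (nat_lit 555)]⟩, ⟨(nat_lit 1672), (nat_lit 5441), [(nat_lit 296), (nat_lit 253)]⟩, ⟨(nat_lit 1673), (nat_lit 6560), [(nat_lit 348), (nat_lit 455)]⟩, ⟨(nat_lit 1674), (nat_lit 6561), [(nat_lit 450), (nat_lit 124)]⟩, ⟨(nat_lit 1675), (nat_lit 6562), [(nat_lit 787), (nat_lit 486)]⟩, ⟨(nat_lit 1676), (nat_lit 5663), [(nat_lit 689), (nat_lit 107)]⟩, ⟨(nat_lit 1677), (nat_lit 6563), [(nat_lit 488), (nat_lit 795)]⟩, ⟨(nat_lit 1678), (nat_lit 5993), [(nat_lit 285), (nat_lit 1043)]⟩, ⟨(nat_lit 1679), (nat_lit 6564), [(nat_lit 539), (nat_lit 593)]⟩, ⟨(nat_lit 1680), (nat_lit 6565), [(nat_lit 177), (nat_lit 291)]⟩, ⟨(nat_lit 1681), (nat_lit 6566), [(nat_lit 503), (nat_lit 264)]⟩, ⟨(nat_lit 1682), (nat_lit 6567), [(nat_lit 941), (nat_lit 90)]⟩, ⟨(nat_lit 1683),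 (nat_lit 6174), [(nat_lit 483), (nat_lit 559)]⟩, ⟨(nat_lit 1684), (nat_lit 6570), [(nat_lit 764), (nat_lit 491)]⟩, ⟨(nat_lit 1685), (nat_lit 5680), [(nat_lit 195), (nat_lit 898)]⟩, ⟨(nat_lit 1686), (nat_lit 5852), [(nat_lit 520), (nat_lit 1216)]⟩, ⟨(nat_lit 1687), (nat_lit 6573), [(nat_lit 913), (nat_lit 797)]⟩, ⟨(nat_lit 1688), (nat_lit 5090), [(nat_lit 226), (nat_lit 162)]⟩, ⟨(nat_lit 1689), (nat_lit 6578), [(nat_lit 469), (nat_lit 1537)]⟩, ⟨(nat_lit 1690), (nat_lit 6580), [(nat_lit 424), (nat_lit 269)]⟩, ⟨(nat_lit 1691), (nat_lit 4527), [(nat_lit 902), (nat_lit 738)]⟩, ⟨(nat_lit 1692), (nat_lit 6582), [(nat_lit 429), (nat_lit 593)]⟩, ⟨(nat_lit 1693), (nat_lit 5919), [(nat_lit 433), (nat_lit 736)]⟩, ⟨(nat_lit 1694), (nat_lit 5945), [(nat_lit 705), (nat_lit 968)]⟩, ⟨(nat_lit 1695), (nat_lit 5607), [(nat_lit 381), (nat_lit 504)]⟩, ⟨(nat_lit 1696), (nat_lit 6584), [(nat_lit 1292), (nat_lit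 676)]⟩, ⟨(nat_lit 1697), (nat_lit 5467), [(nat_lit 271), (nat_lit 586)]⟩, ⟨(nat_lit 1698), (nat_lit 5291), [(nat_lit 213), (nat_lit 1216)]⟩, ⟨(nat_lit 1699), (nat_lit 6332), [(nat_lit 1087), (nat_lit 307)]⟩, ⟨(nat_lit 1700), (nat_lit 5681), [(nat_lit 260), (nat_lit 606)]⟩]))) (BT.node (nat_lit 6587) (BT.leaf (.pt (nat_lit 4825) (nat_lit 4))) (BT.leaf (.pt (nat_lit 6586) (nat_lit 1))))) (BT.node (nat_lit 6590) (BT.node (nat_lit 6589) (BT.leaf (.pt (nat_lit 6587) (nat_lit 3))) (BT.leaf (.pt (nat_lit 6588) (nat_lit 1)))) (BT.node (nat_lit 6591) (BT.leaf (.pt (nat_lit 6589) (nat_lit 4))) (BT.leaf (.pt (nat_lit 5599) (nat_lit 1)))))))))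
noncomputable def cF6592 : BT Fc := (BT.node (nat_lit 6624) (BT.node (nat_lit 6608) (BT.node (nat_lit 6600) (BT.node (nat_lit 6596) (BT.node (nat_lit 6594) (BT.node (nat_lit 6593) (BT.leaf ⟨(nat_lit 4), (nat_lit 1137), (nat_lit 0), (nat_lit 0x7a039d0071b97d9d4808010417a440), (nat_lit 0), (nat_lit 0)⟩) (BT.leaf ⟨(nat_lit 4), (nat_lit 1129), (nat_lit 0), (nat_lit 0xfad71d17efb365f0be3fc7297c83c3), (nat_lit 0), (nat_lit 0)⟩)) (BT.node (nat_lit 6595) (BT.leaf ⟨(nat_lit 4), (nat_lit 880), (nat_lit 0), (nat_lit 0x1003000738407a2eac08fc74bd7a09e), (nat_lit 0), (nat_lit 0)⟩) (BT.leaf ⟨(nat_lit 4), (nat_lit 2151), (nat_lit 0), (nat_lit 0x50082101b3d3a34682fc74b8c84102), (nat_lit 0), (nat_lit 0)⟩))) (BT.node (nat_lit 6598) (BT.node (nat_lit 6597) (BT.leaf ⟨(nat_lit 4), (nat_lit 2585), (nat_lit 0), (nat_lit 0x1856b2f32e70d26c1f7ac75cab9dba4), (nat_lit 0), (nat_lit 0)⟩) (BT.leaf ⟨(nat_lit 4),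 (nat_lit 2963), (nat_lit 0), (nat_lit 0x6be4070d1046033a0a01028e679888), (nat_lit 0), (nat_lit 0)⟩)) (BT.node (nat_lit 6599) (BT.leaf ⟨(nat_lit 4), (nat_lit 1104), (nat_lit 0), (nat_lit 0x1cfa9d565ef42df9c6ef0f8e91a4cd9), (nat_lit 0), (nat_lit 0)⟩) (BT.leaf ⟨(nat_lit 4), (nat_lit 798), (nat_lit 0), (nat_lit 0x1c8749e581aa7551b36c7150f5ea9dd), (nat_lit 0), (nat_lit 0)⟩)))) (BT.node (nat_lit 6604) (BT.node (nat_lit 6602) (BT.node (nat_lit 6601) (BT.leaf ⟨(nat_lit 4), (nat_lit 644), (nat_lit 0), (nat_lit 0x3992d85f4af97d2f4ab71487ee935f), (nat_lit 0), (nat_lit 0)⟩) (BT.leaf ⟨(nat_lit 4), (nat_lit 478), (nat_lit 0), (nat_lit 0xaa6473f30307141813ff3a04608210), (nat_lit 0), (nat_lit 0)⟩)) (BT.node (nat_lit 6603) (BT.leaf ⟨(nat_lit 4), (nat_lit 3758), (nat_lit 0), (nat_lit 0x7a297d00674e372fc08801ae439c40), (nat_lit 0), (nat_lit 0)⟩) (BT.leaf ⟨(nat_lit 4), (nat_lit 3787), (nat_lit 0), (nat_lit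 0x20eac7308127ba35e88000808073a), (nat_lit 0), (nat_lit 0)⟩))) (BT.node (nat_lit 6606) (BT.node (nat_lit 6605) (BT.leaf ⟨(nat_lit 4), (nat_lit 3780), (nat_lit 0), (nat_lit 0x49c976152de0bc87ea2b63f6e97b70), (nat_lit 0), (nat_lit 0)⟩) (BT.leaf ⟨(nat_lit 4), (nat_lit 1870), (nat_lit 0), (nat_lit 0x95eb2cab3789752db704bfedf165d2), (nat_lit 0), (nat_lit 0)⟩)) (BT.node (nat_lit 6607) (BT.leaf ⟨(nat_lit 4), (nat_lit 2307), (nat_lit 0), (nat_lit 0xac54cd342b5b2ba8aa9576be55ceb9), (nat_lit 0), (nat_lit 0)⟩) (BT.leaf ⟨(nat_lit 4), (nat_lit 2692), (nat_lit 0), (nat_lit 0x4a4e00280480b7b00a57600fc7be1), (nat_lit 0), (nat_lit 0)⟩))))) (BT.node (nat_lit 6616) (BT.node (nat_lit 6612) (BT.node (nat_lit 6610) (BT.node (nat_lit 6609) (BT.leaf ⟨(nat_lit 4), (nat_lit 897), (nat_lit 0), (nat_lit 0xc0e2910552240280118c7e76fc756), (nat_lit 0), (nat_lit 0)⟩) (BT.leaf ⟨(nat_lit 4), (nat_lit 898), (nat_lit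 0), (nat_lit 0x80047465737a3c6c00101bd239be3), (nat_lit 0), (nat_lit 0)⟩)) (BT.node (nat_lit 6611) (BT.leaf ⟨(nat_lit 4), (nat_lit 1949), (nat_lit 0), (nat_lit 0x6f3f1be35c678cad3c37c5295663eb), (nat_lit 0), (nat_lit 0)⟩) (BT.leaf ⟨(nat_lit 4), (nat_lit 1626), (nat_lit 0), (nat_lit 0x879d92e012207c625e7c410400901), (nat_lit 0), (nat_lit 0)⟩))) (BT.node (nat_lit 6614) (BT.node (nat_lit 6613) (BT.leaf ⟨(nat_lit 4), (nat_lit 1267), (nat_lit 0), (nat_lit 0x1082015008110022060090027bf1eb9), (nat_lit 0), (nat_lit 0)⟩) (BT.leaf ⟨(nat_lit 4), (nat_lit 3170), (nat_lit 0), (nat_lit 0xaf558aa9d7313713dffea2a67652b8), (nat_lit 0), (nat_lit 0)⟩)) (BT.node (nat_lit 6615) (BT.leaf ⟨(nat_lit 4), (nat_lit 3436), (nat_lit 0), (nat_lit 0x1e4039b35b4d1eeae6ca8a70cc76c63), (nat_lit 0), (nat_lit 0)⟩) (BT.leaf ⟨(nat_lit 4), (nat_lit 3428), (nat_lit 0), (nat_lit 0xa676a4be06172010bc38a69ffb31f5), (nat_lit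 0), (nat_lit 0)⟩)))) (BT.node (nat_lit 6620) (BT.node (nat_lit 6618) (BT.node (nat_lit 6617) (BT.leaf ⟨(nat_lit 4), (nat_lit 3218), (nat_lit 0), (nat_lit 0x1ae6405d5820d1b2fc083d0ce839d2f), (nat_lit 0), (nat_lit 0)⟩) (BT.leaf ⟨(nat_lit 4), (nat_lit 2853), (nat_lit 0), (nat_lit 0x1782f619b98f7a8bb7513d16a21edf8), (nat_lit 0), (nat_lit 0)⟩)) (BT.node (nat_lit 6619) (BT.leaf ⟨(nat_lit 4), (nat_lit 2882), (nat_lit 0), (nat_lit 0x17fd5c299d943995cb96552af69a3b9), (nat_lit 0), (nat_lit 0)⟩) (BT.leaf ⟨(nat_lit 4), (nat_lit 1266), (nat_lit 0), (nat_lit 0x1f28cbd8365a4fa3706ecd51957346), (nat_lit 0), (nat_lit 0)⟩))) (BT.node (nat_lit 6622) (BT.node (nat_lit 6621) (BT.leaf ⟨(nat_lit 4), (nat_lit 1624), (nat_lit 0), (nat_lit 0xd26396ca50f14eae4f33371ced30ed), (nat_lit 0), (nat_lit 0)⟩) (BT.leaf ⟨(nat_lit 4), (nat_lit 1947), (nat_lit 0), (nat_lit 0x15a15743d2ed6a0f42d23377aba8b1c), (nat_lit 0),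 (nat_lit 0)⟩)) (BT.node (nat_lit 6623) (BT.leaf ⟨(nat_lit 4), (nat_lit 2416), (nat_lit 0), (nat_lit 0xd8cde2ccefbe41f5ae32b5f8dd1a36), (nat_lit 0), (nat_lit 0)⟩) (BT.leaf ⟨(nat_lit 4), (nat_lit 2764), (nat_lit 0), (nat_lit 0xee7a8af96d960e26a392b4ae5cb627), (nat_lit 0), (nat_lit 0)⟩)))))) (BT.node (nat_lit 6640) (BT.node (nat_lit 6632) (BT.node (nat_lit 6628) (BT.node (nat_lit 6626) (BT.node (nat_lit 6625) (BT.leaf ⟨(nat_lit 4), (nat_lit 1997), (nat_lit 0), (nat_lit 0x17559d7e38810017a65f901012041e8), (nat_lit 0), (nat_lit 0)⟩) (BT.leaf ⟨(nat_lit 5), (nat_lit 7), (nat_lit 0), (nat_lit 0x80100000000000000000010000000000000000000000000000000820000040000000000000000000000000000000000000100000000000000000000000000000000000000400000000000000000400800000000000000000000000010000000000000000000000080000000000000080000400000020000000000000800000001080000008000000001000000000000000000000000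0000000000008000000000000000010000000000000000000000008000000000000000000000000000000002000000000000000002000000000000000000000000000000000000000000020000000000000000010000000000000000000000000000000000008000000000000000000000000000000000000000000000000000040000000000000000000000000000000000000000000000000000000000000000000000000080000000000000000000000000000000200000001000000000000000000000000400000000000000000000000000400010000001000000001000000000000000000000000000000000000000000000000000000000000000001000000000000000000400000000000000000000000000000000000800000000000000000000000000000000000000000000000000000000000000000000000000000000000), (nat_lit 0), (nat_lit 0)⟩)) (BT.node (nat_lit 6627) (BT.leaf ⟨(nat_lit 4), (nat_lit 161), (nat_lit 0), (nat_lit 0x1bc18e7f4df86c9356e4da8a1f7b1ce), (nat_lit 0), (nat_lit 0)⟩) (BT.leaf ⟨(nat_lit 4), (nat_lit 225), (nat_lit 0), (nat_lit 0xc010822e349fde1824da87d490028),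 (nat_lit 0), (nat_lit 0)⟩))) (BT.node (nat_lit 6630) (BT.node (nat_lit 6629) (BT.leaf ⟨(nat_lit 4), (nat_lit 292), (nat_lit 0), (nat_lit 0x17e3f45e05a53a21eaaef6f7a18e176), (nat_lit 0), (nat_lit 0)⟩) (BT.leaf ⟨(nat_lit 4), (nat_lit 352), (nat_lit 0), (nat_lit 0x14672fcabd823992ea4ff6f8b12bd65), (nat_lit 0), (nat_lit 0)⟩)) (BT.node (nat_lit 6631) (BT.leaf ⟨(nat_lit 4), (nat_lit 1131), (nat_lit 0), (nat_lit 0x11bae965816fc36c6b8df1be3c65a65), (nat_lit 0), (nat_lit 0)⟩) (BT.leaf ⟨(nat_lit 4), (nat_lit 3347), (nat_lit 0), (nat_lit 0xaa55daf91cd7fddcf5157a2e54cab1), (nat_lit 0), (nat_lit 0)⟩)))) (BT.node (nat_lit 6636) (BT.node (nat_lit 6634) (BT.node (nat_lit 6633) (BT.leaf ⟨(nat_lit 4), (nat_lit 2334), (nat_lit 0), (nat_lit 0xc4c4f49ca9737a4d26a83c5db13ba4), (nat_lit 0), (nat_lit 0)⟩) (BT.leaf ⟨(nat_lit 4), (nat_lit 3474), (nat_lit 0), (nat_lit 0x97f60dd26be6f1c521f957edd2f27f), (nat_lit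 0), (nat_lit 0)⟩)) (BT.node (nat_lit 6635) (BT.leaf ⟨(nat_lit 4), (nat_lit 3586), (nat_lit 0), (nat_lit 0x1ad0e76f5da93d226ef4956bd0bcff4), (nat_lit 0), (nat_lit 0)⟩) (BT.leaf ⟨(nat_lit 4), (nat_lit 2165), (nat_lit 0), (nat_lit 0x81042404de1cf8820148ee96df3f89), (nat_lit 0), (nat_lit 0)⟩))) (BT.node (nat_lit 6638) (BT.node (nat_lit 6637) (BT.leaf ⟨(nat_lit 4), (nat_lit 1914), (nat_lit 0), (nat_lit 0x80020008de91ccea8027c64039d400), (nat_lit 0), (nat_lit 0)⟩) (BT.leaf ⟨(nat_lit 4), (nat_lit 2252), (nat_lit 0), (nat_lit 0x104201420803f8dc6c40c007a35caf4), (nat_lit 0), (nat_lit 0)⟩)) (BT.node (nat_lit 6639) (BT.leaf ⟨(nat_lit 4), (nat_lit 2647), (nat_lit 0), (nat_lit 0x901040b99e8f574f210c0081110201), (nat_lit 0), (nat_lit 0)⟩) (BT.leaf ⟨(nat_lit 4), (nat_lit 1010), (nat_lit 0), (nat_lit 0xb7f8688435ea00aa88210224040180), (nat_lit 0), (nat_lit 0)⟩))))) (BT.node (nat_lit 6648) (BT.node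 (nat_lit 6644) (BT.node (nat_lit 6642) (BT.node (nat_lit 6641) (BT.leaf ⟨(nat_lit 4), (nat_lit 1239), (nat_lit 0), (nat_lit 0xc20801203ced5c25e10327c0292e), (nat_lit 0), (nat_lit 0)⟩) (BT.leaf ⟨(nat_lit 4), (nat_lit 3449), (nat_lit 0), (nat_lit 0xae0970031021077ac7293e75100a5e), (nat_lit 0), (nat_lit 0)⟩)) (BT.node (nat_lit 6643) (BT.leaf ⟨(nat_lit 4), (nat_lit 2144), (nat_lit 0), (nat_lit 0xd1a081e8675006eac04881f8e97eb9), (nat_lit 0), (nat_lit 0)⟩) (BT.leaf ⟨(nat_lit 4), (nat_lit 2583), (nat_lit 0), (nat_lit 0x1102416f5f287fe6f06880182d477a), (nat_lit 0), (nat_lit 0)⟩))) (BT.node (nat_lit 6646) (BT.node (nat_lit 6645) (BT.leaf ⟨(nat_lit 4), (nat_lit 2656), (nat_lit 0), (nat_lit 0x160f1d3495a54eb77d65ef47399d732), (nat_lit 0), (nat_lit 0)⟩) (BT.leaf ⟨(nat_lit 4), (nat_lit 2945), (nat_lit 0), (nat_lit 0xa6418028b910836a10f4412f830022), (nat_lit 0), (nat_lit 0)⟩)) (BT.node (nat_lit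 6647) (BT.leaf ⟨(nat_lit 4), (nat_lit 3270), (nat_lit 0), (nat_lit 0xcbd00240404813398b944078d047e8), (nat_lit 0), (nat_lit 0)⟩) (BT.leaf ⟨(nat_lit 4), (nat_lit 3490), (nat_lit 0), (nat_lit 0x1a8bc6179f1feb465f0df0affbc4fcd), (nat_lit 0), (nat_lit 0)⟩)))) (BT.node (nat_lit 6652) (BT.node (nat_lit 6650) (BT.node (nat_lit 6649) (BT.leaf ⟨(nat_lit 4), (nat_lit 3477), (nat_lit 0), (nat_lit 0x2210400c090ac6f0127f0b25b7e00a), (nat_lit 0), (nat_lit 0)⟩) (BT.leaf ⟨(nat_lit 4), (nat_lit 3338), (nat_lit 0), (nat_lit 0x20480803083bd64f821570753c6747), (nat_lit 0), (nat_lit 0)⟩)) (BT.node (nat_lit 6651) (BT.leaf ⟨(nat_lit 4), (nat_lit 1282), (nat_lit 0), (nat_lit 0x11c81092e01275040a5e8037a420803), (nat_lit 0), (nat_lit 0)⟩) (BT.leaf ⟨(nat_lit 4), (nat_lit 1650), (nat_lit 0), (nat_lit 0x1e426cca57d7f8fbeae3746d8d1b2cc), (nat_lit 0), (nat_lit 0)⟩))) (BT.node (nat_lit 6654) (BT.node (nat_lit 6653)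 (BT.leaf ⟨(nat_lit 4), (nat_lit 1970), (nat_lit 0), (nat_lit 0x500209952de87c2143374690383048), (nat_lit 0), (nat_lit 0)⟩) (BT.leaf ⟨(nat_lit 4), (nat_lit 1877), (nat_lit 0), (nat_lit 0x4001049e25ef8c0878de8c0092f9d5), (nat_lit 0), (nat_lit 0)⟩)) (BT.node (nat_lit 6655) (BT.leaf ⟨(nat_lit 4), (nat_lit 1542), (nat_lit 0), (nat_lit 0x32f83519d26cd7a7646e8df19ec669), (nat_lit 0), (nat_lit 0)⟩) (BT.leaf ⟨(nat_lit 4), (nat_lit 2322), (nat_lit 0), (nat_lit 0x4fd549c5220045f9c8e4217e3956e4), (nat_lit 0), (nat_lit 0)⟩)))))))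
noncomputable def cP6592 : BT Pf := (BT.node (nat_lit 6624) (BT.node (nat_lit 6608) (BT.node (nat_lit 6600) (BT.node (nat_lit 6596) (BT.node (nat_lit 6594) (BT.node (nat_lit 6593) (BT.leaf (.pt (nat_lit 6591) (nat_lit 3))) (BT.leaf (.pt (nat_lit 5177) (nat_lit 4)))) (BT.node (nat_lit 6595) (BT.leaf (.pt (nat_lit 6593) (nat_lit 1))) (BT.leaf (.pt (nat_lit 5528) (nat_lit 4))))) (BT.node (nat_lit 6598) (BT.node (nat_lit 6597) (BT.leaf (.pt (nat_lit 6595) (nat_lit 1))) (BT.leaf (.pt (nat_lit 6596) (nat_lit 4)))) (BT.node (nat_lit 6599) (BT.leaf (.pt (nat_lit 6017) (nat_lit 4))) (BT.leaf (.pt (nat_lit 5697) (nat_lit 3)))))) (BT.node (nat_lit 6604) (BT.node (nat_lit 6602) (BT.node (nat_lit 6601) (BT.leaf (.pt (nat_lit 6599) (nat_lit 1))) (BT.leaf (.pt (nat_lit 6600) (nat_lit 4)))) (BT.node (nat_lit 6603) (BT.leaf (.pt (nat_lit 5539) (nat_lit 3))) (BT.leaf (.pt (nat_lit 6602) (nat_lit 1)))))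 (BT.node (nat_lit 6606) (BT.node (nat_lit 6605) (BT.leaf (.pt (nat_lit 6603) (nat_lit 3))) (BT.leaf (.pt (nat_lit 6354) (nat_lit 1)))) (BT.node (nat_lit 6607) (BT.leaf (.pt (nat_lit 6605) (nat_lit 3))) (BT.leaf (.pt (nat_lit 6606) (nat_lit 1))))))) (BT.node (nat_lit 6616) (BT.node (nat_lit 6612) (BT.node (nat_lit 6610) (BT.node (nat_lit 6609) (BT.leaf (.pt (nat_lit 6477) (nat_lit 1))) (BT.leaf (.pt (nat_lit 6608) (nat_lit 3)))) (BT.node (nat_lit 6611) (BT.leaf (.pt (nat_lit 4906) (nat_lit 3))) (BT.leaf (.pt (nat_lit 6610) (nat_lit 1))))) (BT.node (nat_lit 6614) (BT.node (nat_lit 6613) (BT.leaf (.pt (nat_lit 6611) (nat_lit 3))) (BT.leaf (.pt (nat_lit 5065) (nat_lit 4)))) (BT.node (nat_lit 6615) (BT.leaf (.pt (nat_lit 6335) (nat_lit 3))) (BT.leaf (.pt (nat_lit 6614) (nat_lit 1)))))) (BT.node (nat_lit 6620) (BT.node (nat_lit 6618) (BT.node (nat_lit 6617) (BT.leaf (.pt (nat_lit 6615) (nat_lit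 3))) (BT.leaf (.pt (nat_lit 6616) (nat_lit 1)))) (BT.node (nat_lit 6619) (BT.leaf (.pt (nat_lit 5771) (nat_lit 3))) (BT.leaf (.pt (nat_lit 6326) (nat_lit 1))))) (BT.node (nat_lit 6622) (BT.node (nat_lit 6621) (BT.leaf (.pt (nat_lit 6619) (nat_lit 4))) (BT.leaf (.pt (nat_lit 6620) (nat_lit 1)))) (BT.node (nat_lit 6623) (BT.leaf (.pt (nat_lit 6621) (nat_lit 4))) (BT.leaf (.pt (nat_lit 6622) (nat_lit 1)))))))) (BT.node (nat_lit 6640) (BT.node (nat_lit 6632) (BT.node (nat_lit 6628) (BT.node (nat_lit 6626) (BT.node (nat_lit 6625) (BT.leaf (.pt (nat_lit 5022) (nat_lit 3))) (BT.leaf (.cov [] [⟨(nat_lit 1701), (nat_lit 5966), [(nat_lit 991), (nat_lit 580)]⟩, ⟨(nat_lit 1702), (nat_lit 6209), [(nat_lit 267), (nat_lit 1223)]⟩, ⟨(nat_lit 1703), (nat_lit 6590), [(nat_lit 1126), (nat_lit 328)]⟩, ⟨(nat_lit 1704), (nat_lit 6286), [(nat_lit 488), (nat_lit 248)]⟩, ⟨(nat_lit 1705), (nat_lit 6592), [(nat_lit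 587), (nat_lit 530)]⟩, ⟨(nat_lit 1706), (nat_lit 6594), [(nat_lit 915), (nat_lit 426)]⟩, ⟨(nat_lit 1707), (nat_lit 5411), [(nat_lit 1087), (nat_lit 140)]⟩, ⟨(nat_lit 1708), (nat_lit 5085), [(nat_lit 569), (nat_lit 1165)]⟩, ⟨(nat_lit 1709), (nat_lit 6597), [(nat_lit 2124), (nat_lit 1)]⟩, ⟨(nat_lit 1710), (nat_lit 4727), [(nat_lit 630), (nat_lit 431)]⟩, ⟨(nat_lit 1711), (nat_lit 5650), [(nat_lit 970), (nat_lit 1216)]⟩, ⟨(nat_lit 1712), (nat_lit 6598), [(nat_lit 492), (nat_lit 652)]⟩, ⟨(nat_lit 1713), (nat_lit 5131), [(nat_lit 166), (nat_lit 290)]⟩, ⟨(nat_lit 1714), (nat_lit 6601), [(nat_lit 900), (nat_lit 249)]⟩, ⟨(nat_lit 1715), (nat_lit 5125), [(nat_lit 358), (nat_lit 1140)]⟩, ⟨(nat_lit 1716), (nat_lit 4949), [(nat_lit 474), (nat_lit 874)]⟩, ⟨(nat_lit 1717), (nat_lit 5831), [(nat_lit 695), (nat_lit 1018)]⟩, ⟨(nat_lit 1718), (nat_lit 5982), [(nat_lit 272), (nat_lit 559)]⟩, ⟨(nat_lit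 1719), (nat_lit 6604), [(nat_lit 942), (nat_lit 478)]⟩, ⟨(nat_lit 1720), (nat_lit 6577), [(nat_lit 164), (nat_lit 808)]⟩, ⟨(nat_lit 1721), (nat_lit 6500), [(nat_lit 280), (nat_lit 278)]⟩, ⟨(nat_lit 1722), (nat_lit 6607), [(nat_lit 441), (nat_lit 898)]⟩, ⟨(nat_lit 1723), (nat_lit 5814), [(nat_lit 447), (nat_lit 1203)]⟩, ⟨(nat_lit 1724), (nat_lit 4750), [(nat_lit 208), (nat_lit 808)]⟩, ⟨(nat_lit 1726), (nat_lit 6609), [(nat_lit 826), (nat_lit 835)]⟩, ⟨(nat_lit 1727), (nat_lit 4724), [(nat_lit 376), (nat_lit 390)]⟩, ⟨(nat_lit 1728), (nat_lit 6612), [(nat_lit 928), (nat_lit 385)]⟩, ⟨(nat_lit 1729), (nat_lit 4869), [(nat_lit 1102), (nat_lit 88)]⟩, ⟨(nat_lit 1730), (nat_lit 6065), [(nat_lit 784), (nat_lit 693)]⟩, ⟨(nat_lit 1731), (nat_lit 4586), [(nat_lit 259), (nat_lit 712)]⟩, ⟨(nat_lit 1732), (nat_lit 4919), [(nat_lit 513), (nat_lit 662)]⟩, ⟨(nat_lit 1733), (nat_lit 6495), [(nat_lit 467),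 (nat_lit 1101)]⟩, ⟨(nat_lit 1734), (nat_lit 6613), [(nat_lit 1056), (nat_lit 1537)]⟩, ⟨(nat_lit 1735), (nat_lit 4825), [(nat_lit 461), (nat_lit 88)]⟩, ⟨(nat_lit 1736), (nat_lit 6617), [(nat_lit 394), (nat_lit 529)]⟩, ⟨(nat_lit 1737), (nat_lit 6618), [(nat_lit 226), (nat_lit 662)]⟩, ⟨(nat_lit 1738), (nat_lit 6623), [(nat_lit 254), (nat_lit 204)]⟩, ⟨(nat_lit 1739), (nat_lit 5546), [(nat_lit 273), (nat_lit 224)]⟩, ⟨(nat_lit 1741), (nat_lit 5634), [(nat_lit 629), (nat_lit 681)]⟩, ⟨(nat_lit 1742), (nat_lit 6624), [(nat_lit 358), (nat_lit 1939)]⟩]))) (BT.node (nat_lit 6627) (BT.leaf (.pt (nat_lit 4760) (nat_lit 4))) (BT.leaf (.pt (nat_lit 6626) (nat_lit 1))))) (BT.node (nat_lit 6630) (BT.node (nat_lit 6629) (BT.leaf (.pt (nat_lit 6627) (nat_lit 3))) (BT.leaf (.pt (nat_lit 6628) (nat_lit 1)))) (BT.node (nat_lit 6631) (BT.leaf (.pt (nat_lit 4931) (nat_lit 4))) (BT.leaf (.pt (nat_lit 5987)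 (nat_lit 3)))))) (BT.node (nat_lit 6636) (BT.node (nat_lit 6634) (BT.node (nat_lit 6633) (BT.leaf (.pt (nat_lit 6052) (nat_lit 3))) (BT.leaf (.pt (nat_lit 6000) (nat_lit 4)))) (BT.node (nat_lit 6635) (BT.leaf (.pt (nat_lit 6633) (nat_lit 1))) (BT.leaf (.pt (nat_lit 5568) (nat_lit 1))))) (BT.node (nat_lit 6638) (BT.node (nat_lit 6637) (BT.leaf (.pt (nat_lit 6635) (nat_lit 4))) (BT.leaf (.pt (nat_lit 4558) (nat_lit 4)))) (BT.node (nat_lit 6639) (BT.leaf (.pt (nat_lit 6637) (nat_lit 1))) (BT.leaf (.pt (nat_lit 5938) (nat_lit 4))))))) (BT.node (nat_lit 6648) (BT.node (nat_lit 6644) (BT.node (nat_lit 6642) (BT.node (nat_lit 6641) (BT.leaf (.pt (nat_lit 6639) (nat_lit 1))) (BT.leaf (.pt (nat_lit 6198) (nat_lit 4)))) (BT.node (nat_lit 6643) (BT.leaf (.pt (nat_lit 6308) (nat_lit 4))) (BT.leaf (.pt (nat_lit 6642) (nat_lit 1))))) (BT.node (nat_lit 6646) (BT.node (nat_lit 6645) (BT.leaf (.pt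 (nat_lit 5257) (nat_lit 1))) (BT.leaf (.pt (nat_lit 6644) (nat_lit 3)))) (BT.node (nat_lit 6647) (BT.leaf (.pt (nat_lit 6645) (nat_lit 1))) (BT.leaf (.pt (nat_lit 6646) (nat_lit 4)))))) (BT.node (nat_lit 6652) (BT.node (nat_lit 6650) (BT.node (nat_lit 6649) (BT.leaf (.pt (nat_lit 6647) (nat_lit 1))) (BT.leaf (.pt (nat_lit 6648) (nat_lit 3)))) (BT.node (nat_lit 6651) (BT.leaf (.pt (nat_lit 5638) (nat_lit 1))) (BT.leaf (.pt (nat_lit 6650) (nat_lit 4))))) (BT.node (nat_lit 6654) (BT.node (nat_lit 6653) (BT.leaf (.pt (nat_lit 6651) (nat_lit 1))) (BT.leaf (.pt (nat_lit 6652) (nat_lit 4)))) (BT.node (nat_lit 6655) (BT.leaf (.pt (nat_lit 6653) (nat_lit 1))) (BT.leaf (.pt (nat_lit 5103) (nat_lit 3)))))))))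
noncomputable def cF6656 : BT Fc := (BT.node (nat_lit 6688) (BT.node (nat_lit 6672) (BT.node (nat_lit 6664) (BT.node (nat_lit 6660) (BT.node (nat_lit 6658) (BT.node (nat_lit 6657) (BT.leaf ⟨(nat_lit 4), (nat_lit 2642), (nat_lit 0), (nat_lit 0xaf75cab85f2aef6544da6989d4caa9), (nat_lit 0), (nat_lit 0)⟩) (BT.leaf ⟨(nat_lit 4), (nat_lit 2244), (nat_lit 0), (nat_lit 0x5e532fadf3b74b86f89a69963c67cd), (nat_lit 0), (nat_lit 0)⟩)) (BT.node (nat_lit 6659) (BT.leaf ⟨(nat_lit 4), (nat_lit 1826), (nat_lit 0), (nat_lit 0xbd204440821006eac02cbf0035c873), (nat_lit 0), (nat_lit 0)⟩) (BT.leaf ⟨(nat_lit 4), (nat_lit 1484), (nat_lit 0), (nat_lit 0x975af8e6c595953fcabcbfb050fa4f), (nat_lit 0), (nat_lit 0)⟩))) (BT.node (nat_lit 6662) (BT.node (nat_lit 6661) (BT.leaf ⟨(nat_lit 4), (nat_lit 2943), (nat_lit 0), (nat_lit 0x100004002bd0ae4203e3f1a7541073a), (nat_lit 0), (nat_lit 0)⟩) (BT.leaf ⟨(nat_lit 4),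 (nat_lit 3152), (nat_lit 0), (nat_lit 0x11bb46fad16fa8ae938df1be77c7a65), (nat_lit 0), (nat_lit 0)⟩)) (BT.node (nat_lit 6663) (BT.leaf ⟨(nat_lit 4), (nat_lit 2754), (nat_lit 0), (nat_lit 0xfad045e0e640280c2b124e02404048), (nat_lit 0), (nat_lit 0)⟩) (BT.leaf ⟨(nat_lit 4), (nat_lit 2403), (nat_lit 0), (nat_lit 0xe5ad892f2df57087acc24e3ea63e15), (nat_lit 0), (nat_lit 0)⟩)))) (BT.node (nat_lit 6668) (BT.node (nat_lit 6666) (BT.node (nat_lit 6665) (BT.leaf ⟨(nat_lit 5), (nat_lit 7), (nat_lit 0), (nat_lit 0x10000000004000000000000004000000000000000000000000000000000200000000000400000000000008040000000000000000000000000000000000000000000002000000000000000000000800000000000000000000000000000000000000000000000000000000000000000000000000000000000000000000000000000000800000000000000080080000000000000000000000000000000000008000080000008000000000500400000000000000000000000000000008000000000000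00000000000000000000000000000000000000000000000000000000040000000000000000000000000000000000000000000020000020000000000000000100000000000080000000000040000000000000100000010000000000000100000000000000000000000000000000000000008200000000001000000000000008000000000000000000000000000000000100000000000000000000000000000000000000000000000000000000000000000000000000000000000000000000000000000000000000000200000000000040000000000000000000000000000000010000000000000000000100000000000000000000000000010000000000000000010000000000000008000000), (nat_lit 0), (nat_lit 0)⟩) (BT.leaf ⟨(nat_lit 4), (nat_lit 3033), (nat_lit 0), (nat_lit 0x1ee8e7565ddfcab8d4d9e75cee9d07c), (nat_lit 0), (nat_lit 0)⟩)) (BT.node (nat_lit 6667) (BT.leaf ⟨(nat_lit 4), (nat_lit 1854), (nat_lit 0), (nat_lit 0xe589792d05e5be97b70fb63e99792b), (nat_lit 0), (nat_lit 0)⟩) (BT.leaf ⟨(nat_lit 4), (nat_lit 1514), (nat_lit 0), (nat_lit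 0x12af7e4f4de0a1e8bc4dfb673b7b7f4), (nat_lit 0), (nat_lit 0)⟩))) (BT.node (nat_lit 6670) (BT.node (nat_lit 6669) (BT.leaf ⟨(nat_lit 4), (nat_lit 1513), (nat_lit 0), (nat_lit 0x9fc5042004843fb35c8044f0e29a20), (nat_lit 0), (nat_lit 0)⟩) (BT.leaf ⟨(nat_lit 4), (nat_lit 2712), (nat_lit 0), (nat_lit 0x17c6021e77004208812031c8975e9), (nat_lit 0), (nat_lit 0)⟩)) (BT.node (nat_lit 6671) (BT.leaf ⟨(nat_lit 4), (nat_lit 2867), (nat_lit 0), (nat_lit 0x1806014e85cfb787894084adf3c77), (nat_lit 0), (nat_lit 0)⟩) (BT.leaf ⟨(nat_lit 4), (nat_lit 3225), (nat_lit 0), (nat_lit 0x16342f9e3ce68805ca0240980108546), (nat_lit 0), (nat_lit 0)⟩))))) (BT.node (nat_lit 6680) (BT.node (nat_lit 6676) (BT.node (nat_lit 6674) (BT.node (nat_lit 6673) (BT.leaf ⟨(nat_lit 4), (nat_lit 3344), (nat_lit 0), (nat_lit 0x1e14eef4e8f606204732050420066fc), (nat_lit 0), (nat_lit 0)⟩) (BT.leaf ⟨(nat_lit 4), (nat_lit 3088), (nat_lit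 0), (nat_lit 0x1c6a5f024da8085e1fad05043fb3453), (nat_lit 0), (nat_lit 0)⟩)) (BT.node (nat_lit 6675) (BT.leaf ⟨(nat_lit 4), (nat_lit 1234), (nat_lit 0), (nat_lit 0x1d451caf96d8a6554bb989a2e5cb2b1), (nat_lit 0), (nat_lit 0)⟩) (BT.leaf ⟨(nat_lit 4), (nat_lit 3187), (nat_lit 0), (nat_lit 0x93fdba1fcbf2adc51bc4bc17ee935f), (nat_lit 0), (nat_lit 0)⟩))) (BT.node (nat_lit 6678) (BT.node (nat_lit 6677) (BT.leaf ⟨(nat_lit 4), (nat_lit 1305), (nat_lit 0), (nat_lit 0x12ad6fa5dd8397d0fdd2c5895d3fd19), (nat_lit 0), (nat_lit 0)⟩) (BT.leaf ⟨(nat_lit 4), (nat_lit 1076), (nat_lit 0), (nat_lit 0x1fd1dce46b3c4808402fa00356b9b00), (nat_lit 0), (nat_lit 0)⟩)) (BT.node (nat_lit 6679) (BT.leaf ⟨(nat_lit 4), (nat_lit 806), (nat_lit 0), (nat_lit 0x14bcf4073c01006012f4a01041a309e), (nat_lit 0), (nat_lit 0)⟩) (BT.leaf ⟨(nat_lit 4), (nat_lit 1917), (nat_lit 0), (nat_lit 0x14021041013dae439d2f805011c69e8), (nat_lit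 0), (nat_lit 0)⟩)))) (BT.node (nat_lit 6684) (BT.node (nat_lit 6682) (BT.node (nat_lit 6681) (BT.leaf ⟨(nat_lit 4), (nat_lit 1590), (nat_lit 0), (nat_lit 0x4b50178fbd49777b10280475c0949c), (nat_lit 0), (nat_lit 0)⟩) (BT.leaf ⟨(nat_lit 4), (nat_lit 1589), (nat_lit 0), (nat_lit 0x19a7a733555cd1ba387ceac6ca8c8cb), (nat_lit 0), (nat_lit 0)⟩)) (BT.node (nat_lit 6683) (BT.leaf ⟨(nat_lit 4), (nat_lit 1916), (nat_lit 0), (nat_lit 0x1ca80924ff3a4424713feac05231df8), (nat_lit 0), (nat_lit 0)⟩) (BT.leaf ⟨(nat_lit 4), (nat_lit 2374), (nat_lit 0), (nat_lit 0x1364f1be28dd295d1be3f21df5719bc), (nat_lit 0), (nat_lit 0)⟩))) (BT.node (nat_lit 6686) (BT.node (nat_lit 6685) (BT.leaf ⟨(nat_lit 4), (nat_lit 3626), (nat_lit 0), (nat_lit 0x30279980f8c6bc42081e1a20041568), (nat_lit 0), (nat_lit 0)⟩) (BT.leaf ⟨(nat_lit 4), (nat_lit 3429), (nat_lit 0), (nat_lit 0x1e323778f4cb74ac6fcde1a2df468cb), (nat_lit 0),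 (nat_lit 0)⟩)) (BT.node (nat_lit 6687) (BT.leaf ⟨(nat_lit 4), (nat_lit 1099), (nat_lit 0), (nat_lit 0xd263d8ed8e73ce394778c78b2b9f90), (nat_lit 0), (nat_lit 0)⟩) (BT.leaf ⟨(nat_lit 5), (nat_lit 7), (nat_lit 0), (nat_lit 0x1000000000000000000400000000000000200000000000000000000000000000000000000000000008000000000000080000001000000000000000010000000000000201000000000000000000000000000000000000000000000000000000200000000000100000000001400000000000000000000000000000020000000000000000000000008000100000000008002000000000400000000000000000000000000000080000000000000000000000000000000000000000000000040000000000000000000080000000000000000000000000000000100000000000000004000000000000000000000000000000000000800000000000000010000000000002000000000000000000000000000000000000000000000000100000000000000000000400000000000000000000000000000000080000200001040020000000000000000000000000000000000000000000000000000000004000000000000080000000000000000000000000000200000000000000000000000000004000000000000008000000000000000000000000000000000000000000000000000000000000000000000000020000000000000000000000000000000000000000),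 (nat_lit 0), (nat_lit 0)⟩)))))) (BT.node (nat_lit 6704) (BT.node (nat_lit 6696) (BT.node (nat_lit 6692) (BT.node (nat_lit 6690) (BT.node (nat_lit 6689) (BT.leaf ⟨(nat_lit 4), (nat_lit 3535), (nat_lit 0), (nat_lit 0x8836a021048182e43c3f5aa6629830), (nat_lit 0), (nat_lit 0)⟩) (BT.leaf ⟨(nat_lit 4), (nat_lit 2919), (nat_lit 0), (nat_lit 0x1223dde0e6502006088411e152b9dd), (nat_lit 0), (nat_lit 0)⟩)) (BT.node (nat_lit 6691) (BT.leaf ⟨(nat_lit 4), (nat_lit 2435), (nat_lit 0), (nat_lit 0x12af7851739d3d226b1c365b93edf21), (nat_lit 0), (nat_lit 0)⟩) (BT.leaf ⟨(nat_lit 4), (nat_lit 2777), (nat_lit 0), (nat_lit 0xabba2669d27d99a3519365c1a5287c), (nat_lit 0), (nat_lit 0)⟩))) (BT.node (nat_lit 6694) (BT.node (nat_lit 6693) (BT.leaf ⟨(nat_lit 4), (nat_lit 3005), (nat_lit 0), (nat_lit 0xac4041dd0144239940824e027c2848), (nat_lit 0), (nat_lit 0)⟩) (BT.leaf ⟨(nat_lit 4), (nat_lit 3124), (nat_lit 0),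 (nat_lit 0x14bc95ea22de6bed8b9624eb307d12d), (nat_lit 0), (nat_lit 0)⟩)) (BT.node (nat_lit 6695) (BT.leaf ⟨(nat_lit 4), (nat_lit 2723), (nat_lit 0), (nat_lit 0x1003a3002080755f19001000800473a), (nat_lit 0), (nat_lit 0)⟩) (BT.leaf ⟨(nat_lit 4), (nat_lit 2335), (nat_lit 0), (nat_lit 0xae004c9f202107a3f3b043e3100881), (nat_lit 0), (nat_lit 0)⟩)))) (BT.node (nat_lit 6700) (BT.node (nat_lit 6698) (BT.node (nat_lit 6697) (BT.leaf ⟨(nat_lit 4), (nat_lit 2137), (nat_lit 0), (nat_lit 0x1c6b6a220141082e42990429fe5f120), (nat_lit 0), (nat_lit 0)⟩) (BT.leaf ⟨(nat_lit 4), (nat_lit 2138), (nat_lit 0), (nat_lit 0x1cc8061081112592b84881006004f4e), (nat_lit 0), (nat_lit 0)⟩)) (BT.node (nat_lit 6699) (BT.leaf ⟨(nat_lit 4), (nat_lit 2578), (nat_lit 0), (nat_lit 0x11020040168d4bf0033a810e3680480), (nat_lit 0), (nat_lit 0)⟩) (BT.leaf ⟨(nat_lit 4), (nat_lit 1460), (nat_lit 0), (nat_lit 0x75deac3da968d8e89ddd27698aa9d4),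 (nat_lit 0), (nat_lit 0)⟩))) (BT.node (nat_lit 6702) (BT.node (nat_lit 6701) (BT.leaf ⟨(nat_lit 4), (nat_lit 1419), (nat_lit 0), (nat_lit 0x994f443d55d780bb7b7b517a9694c7), (nat_lit 0), (nat_lit 0)⟩) (BT.leaf ⟨(nat_lit 4), (nat_lit 1770), (nat_lit 0), (nat_lit 0x87f5a77a2de90020fcdb50100caf06), (nat_lit 0), (nat_lit 0)⟩)) (BT.node (nat_lit 6703) (BT.leaf ⟨(nat_lit 4), (nat_lit 2159), (nat_lit 0), (nat_lit 0x197f5cb46a5f75600408c01040f409e), (nat_lit 0), (nat_lit 0)⟩) (BT.leaf ⟨(nat_lit 4), (nat_lit 2371), (nat_lit 0), (nat_lit 0x821107e8d3c8129d05fc0080aa332f), (nat_lit 0), (nat_lit 0)⟩))))) (BT.node (nat_lit 6712) (BT.node (nat_lit 6708) (BT.node (nat_lit 6706) (BT.node (nat_lit 6705) (BT.leaf ⟨(nat_lit 4), (nat_lit 2372), (nat_lit 0), (nat_lit 0xac626b96c4f7fd5db6c57bb2b5cab9), (nat_lit 0), (nat_lit 0)⟩) (BT.leaf ⟨(nat_lit 4), (nat_lit 2237), (nat_lit 0), (nat_lit 0x745f3c04008212f600c57a05095c9a),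 (nat_lit 0), (nat_lit 0)⟩)) (BT.node (nat_lit 6707) (BT.leaf ⟨(nat_lit 4), (nat_lit 2236), (nat_lit 0), (nat_lit 0x654a0042080be420fcd2df6a060440), (nat_lit 0), (nat_lit 0)⟩) (BT.leaf ⟨(nat_lit 4), (nat_lit 2178), (nat_lit 0), (nat_lit 0x1a88959afa5e49ed88fa2df5709692f), (nat_lit 0), (nat_lit 0)⟩))) (BT.node (nat_lit 6710) (BT.node (nat_lit 6709) (BT.leaf ⟨(nat_lit 4), (nat_lit 2463), (nat_lit 0), (nat_lit 0x22158a573ba0302447be9dbf24b009), (nat_lit 0), (nat_lit 0)⟩) (BT.leaf ⟨(nat_lit 4), (nat_lit 2934), (nat_lit 0), (nat_lit 0x1465b82574bb594737b749e17dafe2c), (nat_lit 0), (nat_lit 0)⟩)) (BT.node (nat_lit 6711) (BT.leaf ⟨(nat_lit 4), (nat_lit 2021), (nat_lit 0), (nat_lit 0x127c7697674827a4754bd8367a4f627), (nat_lit 0), (nat_lit 0)⟩) (BT.leaf ⟨(nat_lit 4), (nat_lit 2494), (nat_lit 0), (nat_lit 0xe296fa5f1cd7493fa5ed8287fdbd65), (nat_lit 0), (nat_lit 0)⟩)))) (BT.node (nat_lit 6716)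 (BT.node (nat_lit 6714) (BT.node (nat_lit 6713) (BT.leaf ⟨(nat_lit 4), (nat_lit 2836), (nat_lit 0), (nat_lit 0x169bc8349d9466e198737fd1ec76c63), (nat_lit 0), (nat_lit 0)⟩) (BT.leaf ⟨(nat_lit 4), (nat_lit 3212), (nat_lit 0), (nat_lit 0xe37c7b13f3ba8bc6e587fda345bd34), (nat_lit 0), (nat_lit 0)⟩)) (BT.node (nat_lit 6715) (BT.leaf ⟨(nat_lit 4), (nat_lit 3421), (nat_lit 0), (nat_lit 0x1f8db195a7e736571e0b599297c83a3), (nat_lit 0), (nat_lit 0)⟩) (BT.leaf ⟨(nat_lit 4), (nat_lit 3622), (nat_lit 0), (nat_lit 0x131d97d5c2de4aed8d2f59849dcb13f), (nat_lit 0), (nat_lit 0)⟩))) (BT.node (nat_lit 6718) (BT.node (nat_lit 6717) (BT.leaf ⟨(nat_lit 4), (nat_lit 3663), (nat_lit 0), (nat_lit 0x15a0410901808e4447ba108281b1980), (nat_lit 0), (nat_lit 0)⟩) (BT.leaf ⟨(nat_lit 4), (nat_lit 2944), (nat_lit 0), (nat_lit 0x81000103abbd0203e3bd1e3639900), (nat_lit 0), (nat_lit 0)⟩)) (BT.node (nat_lit 6719) (BT.leaf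 ⟨(nat_lit 4), (nat_lit 3149), (nat_lit 0), (nat_lit 0x75200c9f0024b8808114bd7a500809), (nat_lit 0), (nat_lit 0)⟩) (BT.leaf ⟨(nat_lit 4), (nat_lit 3380), (nat_lit 0), (nat_lit 0x93d3f85f4ae9750fb8a4bcb7f60a5f), (nat_lit 0), (nat_lit 0)⟩)))))))
noncomputable def cP6656 : BT Pf := (BT.node (nat_lit 6688) (BT.node (nat_lit 6672) (BT.node (nat_lit 6664) (BT.node (nat_lit 6660) (BT.node (nat_lit 6658) (BT.node (nat_lit 6657) (BT.leaf (.pt (nat_lit 4823) (nat_lit 3))) (BT.leaf (.pt (nat_lit 6656) (nat_lit 1)))) (BT.node (nat_lit 6659) (BT.leaf (.pt (nat_lit 6657) (nat_lit 3))) (BT.leaf (.pt (nat_lit 6658) (nat_lit 1))))) (BT.node (nat_lit 6662) (BT.node (nat_lit 6661) (BT.leaf (.pt (nat_lit 4994) (nat_lit 4))) (BT.leaf (.pt (nat_lit 6660) (nat_lit 1)))) (BT.node (nat_lit 6663) (BT.leaf (.pt (nat_lit 6661) (nat_lit 3))) (BT.leaf (.pt (nat_lit 6662) (nat_lit 1)))))) (BT.node (nat_lit 6668)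 (BT.node (nat_lit 6666) (BT.node (nat_lit 6665) (BT.leaf (.cov [] [⟨(nat_lit 1743), (nat_lit 6629), [(nat_lit 348), (nat_lit 389)]⟩, ⟨(nat_lit 1744), (nat_lit 4817), [(nat_lit 734), (nat_lit 529)]⟩, ⟨(nat_lit 1746), (nat_lit 6630), [(nat_lit 675), (nat_lit 1165)]⟩, ⟨(nat_lit 1747), (nat_lit 4759), [(nat_lit 764), (nat_lit 440)]⟩, ⟨(nat_lit 1748), (nat_lit 6631), [(nat_lit 493), (nat_lit 265)]⟩, ⟨(nat_lit 1749), (nat_lit 4538), [(nat_lit 250), (nat_lit 455)]⟩, ⟨(nat_lit 1750), (nat_lit 5311), [(nat_lit 1004), (nat_lit 265)]⟩, ⟨(nat_lit 1751), (nat_lit 5187), [(nat_lit 445), (nat_lit 1256)]⟩, ⟨(nat_lit 1752), (nat_lit 4579), [(nat_lit 1242), (nat_lit 813)]⟩, ⟨(nat_lit 1753), (nat_lit 5112), [(nat_lit 733), (nat_lit 319)]⟩, ⟨(nat_lit 1754), (nat_lit 6632), [(nat_lit 196), (nat_lit 1053)]⟩, ⟨(nat_lit 1755), (nat_lit 4797), [(nat_lit 285), (nat_lit 163)]⟩, ⟨(nat_lit 1756), (nat_lit 6634),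 [(nat_lit 871), (nat_lit 1410)]⟩, ⟨(nat_lit 1757), (nat_lit 6636), [(nat_lit 1014), (nat_lit 225)]⟩, ⟨(nat_lit 1758), (nat_lit 5249), [(nat_lit 209), (nat_lit 269)]⟩, ⟨(nat_lit 1759), (nat_lit 4806), [(nat_lit 215), (nat_lit 778)]⟩, ⟨(nat_lit 1760), (nat_lit 4754), [(nat_lit 192), (nat_lit 1247)]⟩, ⟨(nat_lit 1761), (nat_lit 6638), [(nat_lit 1257), (nat_lit 1583)]⟩, ⟨(nat_lit 1762), (nat_lit 4994), [(nat_lit 544), (nat_lit 362)]⟩, ⟨(nat_lit 1763), (nat_lit 6640), [(nat_lit 474), (nat_lit 287)]⟩, ⟨(nat_lit 1764), (nat_lit 6014), [(nat_lit 1087), (nat_lit 878)]⟩, ⟨(nat_lit 1765), (nat_lit 5488), [(nat_lit 707), (nat_lit 1133)]⟩, ⟨(nat_lit 1766), (nat_lit 4692), [(nat_lit 441), (nat_lit 432)]⟩, ⟨(nat_lit 1767), (nat_lit 5390), [(nat_lit 482), (nat_lit 604)]⟩, ⟨(nat_lit 1768), (nat_lit 5189), [(nat_lit 526), (nat_lit 1001)]⟩, ⟨(nat_lit 1769), (nat_lit 4999), [(nat_lit 914), (nat_lit 1136)]⟩,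 ⟨(nat_lit 1770), (nat_lit 4821), [(nat_lit 913), (nat_lit 1503)]⟩, ⟨(nat_lit 1771), (nat_lit 6641), [(nat_lit 165), (nat_lit 835)]⟩, ⟨(nat_lit 1772), (nat_lit 6643), [(nat_lit 207), (nat_lit 1133)]⟩, ⟨(nat_lit 1773), (nat_lit 6649), [(nat_lit 764), (nat_lit 400)]⟩, ⟨(nat_lit 1774), (nat_lit 4761), [(nat_lit 522), (nat_lit 203)]⟩, ⟨(nat_lit 1775), (nat_lit 6654), [(nat_lit 482), (nat_lit 205)]⟩, ⟨(nat_lit 1776), (nat_lit 6655), [(nat_lit 483), (nat_lit 265)]⟩, ⟨(nat_lit 1779), (nat_lit 5616), [(nat_lit 280), (nat_lit 662)]⟩, ⟨(nat_lit 1780), (nat_lit 6197), [(nat_lit 259), (nat_lit 308)]⟩, ⟨(nat_lit 1781), (nat_lit 4585), [(nat_lit 376), (nat_lit 171)]⟩, ⟨(nat_lit 1782), (nat_lit 6659), [(nat_lit 461), (nat_lit 676)]⟩, ⟨(nat_lit 1783), (nat_lit 5816), [(nat_lit 150), (nat_lit 969)]⟩, ⟨(nat_lit 1784), (nat_lit 6663), [(nat_lit 292), (nat_lit 426)]⟩, ⟨(nat_lit 1785), (nat_lit 5253), [(nat_lit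 445), (nat_lit 163)]⟩])) (BT.leaf (.pt (nat_lit 4844) (nat_lit 1)))) (BT.node (nat_lit 6667) (BT.leaf (.pt (nat_lit 5050) (nat_lit 3))) (BT.leaf (.pt (nat_lit 6666) (nat_lit 1))))) (BT.node (nat_lit 6670) (BT.node (nat_lit 6669) (BT.leaf (.pt (nat_lit 6667) (nat_lit 4))) (BT.leaf (.pt (nat_lit 5419) (nat_lit 4)))) (BT.node (nat_lit 6671) (BT.leaf (.pt (nat_lit 5912) (nat_lit 3))) (BT.leaf (.pt (nat_lit 6670) (nat_lit 1))))))) (BT.node (nat_lit 6680) (BT.node (nat_lit 6676) (BT.node (nat_lit 6674) (BT.node (nat_lit 6673) (BT.leaf (.pt (nat_lit 6671) (nat_lit 3))) (BT.leaf (.pt (nat_lit 6672) (nat_lit 1)))) (BT.node (nat_lit 6675) (BT.leaf (.pt (nat_lit 5737) (nat_lit 4))) (BT.leaf (.pt (nat_lit 4837) (nat_lit 3))))) (BT.node (nat_lit 6678) (BT.node (nat_lit 6677) (BT.leaf (.pt (nat_lit 6346) (nat_lit 1))) (BT.leaf (.pt (nat_lit 6676) (nat_lit 3)))) (BT.node (nat_lit 6679) (BT.leaf (.pt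 (nat_lit 6677) (nat_lit 1))) (BT.leaf (.pt (nat_lit 4817) (nat_lit 4)))))) (BT.node (nat_lit 6684) (BT.node (nat_lit 6682) (BT.node (nat_lit 6681) (BT.leaf (.pt (nat_lit 6679) (nat_lit 1))) (BT.leaf (.pt (nat_lit 6680) (nat_lit 4)))) (BT.node (nat_lit 6683) (BT.leaf (.pt (nat_lit 6681) (nat_lit 1))) (BT.leaf (.pt (nat_lit 6682) (nat_lit 4))))) (BT.node (nat_lit 6686) (BT.node (nat_lit 6685) (BT.leaf (.pt (nat_lit 5350) (nat_lit 4))) (BT.leaf (.pt (nat_lit 6684) (nat_lit 1)))) (BT.node (nat_lit 6687) (BT.leaf (.pt (nat_lit 5312) (nat_lit 4))) (BT.leaf (.cov [] [⟨(nat_lit 1786), (nat_lit 6596), [(nat_lit 356), (nat_lit 1369)]⟩, ⟨(nat_lit 1787), (nat_lit 4859), [(nat_lit 508), (nat_lit 375)]⟩, ⟨(nat_lit 1788), (nat_lit 5195), [(nat_lit 97), (nat_lit 581)]⟩, ⟨(nat_lit 1789), (nat_lit 4938), [(nat_lit 350), (nat_lit 368)]⟩, ⟨(nat_lit 1790), (nat_lit 6448), [(nat_lit 941), (nat_lit 289)]⟩,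 ⟨(nat_lit 1791), (nat_lit 4828), [(nat_lit 212), (nat_lit 717)]⟩, ⟨(nat_lit 1792), (nat_lit 6589), [(nat_lit 357), (nat_lit 693)]⟩, ⟨(nat_lit 1793), (nat_lit 6665), [(nat_lit 208), (nat_lit 1211)]⟩, ⟨(nat_lit 1794), (nat_lit 6668), [(nat_lit 466), (nat_lit 190)]⟩, ⟨(nat_lit 1795), (nat_lit 5596), [(nat_lit 94), (nat_lit 455)]⟩, ⟨(nat_lit 1796), (nat_lit 4559), [(nat_lit 462), (nat_lit 751)]⟩, ⟨(nat_lit 1797), (nat_lit 4961), [(nat_lit 424), (nat_lit 1133)]⟩, ⟨(nat_lit 1799), (nat_lit 5602), [(nat_lit 905), (nat_lit 172)]⟩, ⟨(nat_lit 1800), (nat_lit 6669), [(nat_lit 1242), (nat_lit 874)]⟩, ⟨(nat_lit 1801), (nat_lit 5468), [(nat_lit 259), (nat_lit 1204)]⟩, ⟨(nat_lit 1802), (nat_lit 5625), [(nat_lit 402), (nat_lit 90)]⟩, ⟨(nat_lit 1803), (nat_lit 5147), [(nat_lit 422), (nat_lit 880)]⟩, ⟨(nat_lit 1804), (nat_lit 5260), [(nat_lit 1004), (nat_lit 1070)]⟩, ⟨(nat_lit 1805), (nat_lit 6290),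 [(nat_lit 763), (nat_lit 127)]⟩, ⟨(nat_lit 1806), (nat_lit 5084), [(nat_lit 527), (nat_lit 107)]⟩, ⟨(nat_lit 1807), (nat_lit 4570), [(nat_lit 647)]⟩, ⟨(nat_lit 1808), (nat_lit 4965), [(nat_lit 128), (nat_lit 475)]⟩, ⟨(nat_lit 1809), (nat_lit 4983), [(nat_lit 393), (nat_lit 525)]⟩, ⟨(nat_lit 1810), (nat_lit 6673), [(nat_lit 695), (nat_lit 1503)]⟩, ⟨(nat_lit 1811), (nat_lit 6674), [(nat_lit 1201), (nat_lit 802)]⟩, ⟨(nat_lit 1812), (nat_lit 5271), [(nat_lit 258), (nat_lit 572)]⟩, ⟨(nat_lit 1813), (nat_lit 6647), [(nat_lit 258), (nat_lit 532)]⟩, ⟨(nat_lit 1814), (nat_lit 6626), [(nat_lit 630), (nat_lit 306)]⟩, ⟨(nat_lit 1815), (nat_lit 5231), [(nat_lit 282), (nat_lit 1247)]⟩, ⟨(nat_lit 1816), (nat_lit 6675), [(nat_lit 1092), (nat_lit 109)]⟩, ⟨(nat_lit 1818), (nat_lit 5503), [(nat_lit 196), (nat_lit 578)]⟩, ⟨(nat_lit 1819), (nat_lit 6678), [(nat_lit 747), (nat_lit 1021)]⟩, ⟨(nat_lit 1826),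 (nat_lit 6683), [(nat_lit 364), (nat_lit 864)]⟩, ⟨(nat_lit 1829), (nat_lit 5380), [(nat_lit 467), (nat_lit 1009)]⟩, ⟨(nat_lit 1831), (nat_lit 6051), [(nat_lit 355), (nat_lit 328)]⟩, ⟨(nat_lit 1832), (nat_lit 6685), [(nat_lit 832), (nat_lit 802)]⟩, ⟨(nat_lit 1847), (nat_lit 5789), [(nat_lit 194), (nat_lit 222)]⟩, ⟨(nat_lit 1851), (nat_lit 5654), [(nat_lit 575), (nat_lit 0)]⟩, ⟨(nat_lit 1852), (nat_lit 6686), [(nat_lit 271), (nat_lit 1001)]⟩, ⟨(nat_lit 1854), (nat_lit 5674), [(nat_lit 526), (nat_lit 710)]⟩]))))))) (BT.node (nat_lit 6704) (BT.node (nat_lit 6696) (BT.node (nat_lit 6692) (BT.node (nat_lit 6690) (BT.node (nat_lit 6689) (BT.leaf (.pt (nat_lit 6039) (nat_lit 3))) (BT.leaf (.pt (nat_lit 5955) (nat_lit 3)))) (BT.node (nat_lit 6691) (BT.leaf (.pt (nat_lit 5391) (nat_lit 3))) (BT.leaf (.pt (nat_lit 6690) (nat_lit 1))))) (BT.node (nat_lit 6694) (BT.node (nat_lit 6693) (BT.leaf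 (.pt (nat_lit 5299) (nat_lit 3))) (BT.leaf (.pt (nat_lit 6692) (nat_lit 1)))) (BT.node (nat_lit 6695) (BT.leaf (.pt (nat_lit 6693) (nat_lit 3))) (BT.leaf (.pt (nat_lit 5613) (nat_lit 3)))))) (BT.node (nat_lit 6700) (BT.node (nat_lit 6698) (BT.node (nat_lit 6697) (BT.leaf (.pt (nat_lit 6695) (nat_lit 1))) (BT.leaf (.pt (nat_lit 6696) (nat_lit 3)))) (BT.node (nat_lit 6699) (BT.leaf (.pt (nat_lit 6697) (nat_lit 1))) (BT.leaf (.pt (nat_lit 5551) (nat_lit 4))))) (BT.node (nat_lit 6702) (BT.node (nat_lit 6701) (BT.leaf (.pt (nat_lit 4809) (nat_lit 3))) (BT.leaf (.pt (nat_lit 6700) (nat_lit 1)))) (BT.node (nat_lit 6703) (BT.leaf (.pt (nat_lit 6701) (nat_lit 3))) (BT.leaf (.pt (nat_lit 6702) (nat_lit 1))))))) (BT.node (nat_lit 6712) (BT.node (nat_lit 6708) (BT.node (nat_lit 6706) (BT.node (nat_lit 6705) (BT.leaf (.pt (nat_lit 6703) (nat_lit 3))) (BT.leaf (.pt (nat_lit 6704) (nat_lit 1))))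 (BT.node (nat_lit 6707) (BT.leaf (.pt (nat_lit 6705) (nat_lit 4))) (BT.leaf (.pt (nat_lit 6706) (nat_lit 1))))) (BT.node (nat_lit 6710) (BT.node (nat_lit 6709) (BT.leaf (.pt (nat_lit 5101) (nat_lit 3))) (BT.leaf (.pt (nat_lit 6398) (nat_lit 3)))) (BT.node (nat_lit 6711) (BT.leaf (.pt (nat_lit 5777) (nat_lit 4))) (BT.leaf (.pt (nat_lit 6710) (nat_lit 1)))))) (BT.node (nat_lit 6716) (BT.node (nat_lit 6714) (BT.node (nat_lit 6713) (BT.leaf (.pt (nat_lit 6711) (nat_lit 3))) (BT.leaf (.pt (nat_lit 6712) (nat_lit 1)))) (BT.node (nat_lit 6715) (BT.leaf (.pt (nat_lit 6713) (nat_lit 3))) (BT.leaf (.pt (nat_lit 6714) (nat_lit 1))))) (BT.node (nat_lit 6718) (BT.node (nat_lit 6717) (BT.leaf (.pt (nat_lit 6715) (nat_lit 3))) (BT.leaf (.pt (nat_lit 6310) (nat_lit 4)))) (BT.node (nat_lit 6719) (BT.leaf (.pt (nat_lit 6319) (nat_lit 3))) (BT.leaf (.pt (nat_lit 6718) (nat_lit 1)))))))))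
noncomputable def cF6720 : BT Fc := (BT.node (nat_lit 6752) (BT.node (nat_lit 6736) (BT.node (nat_lit 6728) (BT.node (nat_lit 6724) (BT.node (nat_lit 6722) (BT.node (nat_lit 6721) (BT.leaf ⟨(nat_lit 4), (nat_lit 828), (nat_lit 0), (nat_lit 0x17d97e9e7aa80a7a673402803f453a), (nat_lit 0), (nat_lit 0)⟩) (BT.leaf ⟨(nat_lit 4), (nat_lit 1096), (nat_lit 0), (nat_lit 0x11c95c5e9e7608600a5e403e324f9d4), (nat_lit 0), (nat_lit 0)⟩)) (BT.node (nat_lit 6723) (BT.leaf ⟨(nat_lit 4), (nat_lit 1340), (nat_lit 0), (nat_lit 0x1e4252d179b278dd1bf3efbf8de1e0b), (nat_lit 0), (nat_lit 0)⟩) (BT.leaf ⟨(nat_lit 4), (nat_lit 1623), (nat_lit 0), (nat_lit 0x1cabcec10dc97e10801438a4fc182a9), (nat_lit 0), (nat_lit 0)⟩))) (BT.node (nat_lit 6726) (BT.node (nat_lit 6725) (BT.leaf ⟨(nat_lit 4), (nat_lit 3771), (nat_lit 0), (nat_lit 0xbe5cb6b9472ee55edff2b4a66268e6), (nat_lit 0), (nat_lit 0)⟩) (BT.leaf ⟨(nat_lit 4),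 (nat_lit 3770), (nat_lit 0), (nat_lit 0x1deb9553af75365a4f3839dcfb1d33a), (nat_lit 0), (nat_lit 0)⟩)) (BT.node (nat_lit 6727) (BT.leaf ⟨(nat_lit 4), (nat_lit 2717), (nat_lit 0), (nat_lit 0x108a03a3f9a110306b409087cca841), (nat_lit 0), (nat_lit 0)⟩) (BT.leaf ⟨(nat_lit 5), (nat_lit 7), (nat_lit 0), (nat_lit 0x4000000000000000000000000008020000000000000000000000000000080000000000010000000100000000000000000100000000000000000000000000200002000000000000000000000000000000000000000000000000000000000000000000000000000010040008000000000000000000000000000000000020001000000000820000000000000000000000000000000000400040000400000000000000000008000000000000000000000000000000000000000000000000000000000000020000000040000000000000000000000000040000000000000020000000000000000000000000000000000000000000000000000000000000000000000000000000000000000000000008000000200000000000000000100000000000000100000000000000000000010000000100000000000000000000000000000000000000000000000000000000000001000000000000000000000000000000000000000000000000000000000000200000000000000000000000000000060000000000000000000000000000000002000000000000000000000000000028000000000000008000000000000000000000000000000000000000000000000000000000000000040000000000000000040000000000000000000),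 (nat_lit 0), (nat_lit 0)⟩)))) (BT.node (nat_lit 6732) (BT.node (nat_lit 6730) (BT.node (nat_lit 6729) (BT.leaf ⟨(nat_lit 4), (nat_lit 290), (nat_lit 0), (nat_lit 0xcbd4020860078deaa204208012058d), (nat_lit 0), (nat_lit 0)⟩) (BT.leaf ⟨(nat_lit 4), (nat_lit 399), (nat_lit 0), (nat_lit 0xc208050f3aaa7ab13f4212380c110), (nat_lit 0), (nat_lit 0)⟩)) (BT.node (nat_lit 6731) (BT.leaf ⟨(nat_lit 4), (nat_lit 424), (nat_lit 0), (nat_lit 0x86f49d4f188063925e013d1d5c041), (nat_lit 0), (nat_lit 0)⟩) (BT.leaf ⟨(nat_lit 4), (nat_lit 1789), (nat_lit 0), (nat_lit 0xd263dcf37fc66f166ca8c75719ad73), (nat_lit 0), (nat_lit 0)⟩))) (BT.node (nat_lit 6734) (BT.node (nat_lit 6733) (BT.leaf ⟨(nat_lit 4), (nat_lit 1439), (nat_lit 0), (nat_lit 0xaa4e2f5622123a0872a8c60c04879d), (nat_lit 0), (nat_lit 0)⟩) (BT.leaf ⟨(nat_lit 4), (nat_lit 1155), (nat_lit 0), (nat_lit 0x568f19bc5c7e428bbe76c7f8fbeca5), (nat_lit 0),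 (nat_lit 0)⟩)) (BT.node (nat_lit 6735) (BT.leaf ⟨(nat_lit 4), (nat_lit 581), (nat_lit 0), (nat_lit 0x18002fd3ab1a2e540200420821eaa04), (nat_lit 0), (nat_lit 0)⟩) (BT.leaf ⟨(nat_lit 4), (nat_lit 441), (nat_lit 0), (nat_lit 0x1cd9ac777fd69a3df90d94a1e31c71), (nat_lit 0), (nat_lit 0)⟩))))) (BT.node (nat_lit 6744) (BT.node (nat_lit 6740) (BT.node (nat_lit 6738) (BT.node (nat_lit 6737) (BT.leaf ⟨(nat_lit 4), (nat_lit 3776), (nat_lit 0), (nat_lit 0x3005018091bf0ee80992c0a23d908), (nat_lit 0), (nat_lit 0)⟩) (BT.leaf ⟨(nat_lit 4), (nat_lit 1502), (nat_lit 0), (nat_lit 0x10f5c51953aa8d9ea9551abc86d31d7), (nat_lit 0), (nat_lit 0)⟩)) (BT.node (nat_lit 6739) (BT.leaf ⟨(nat_lit 4), (nat_lit 1843), (nat_lit 0), (nat_lit 0x60088573204482804e81aaee4a0100), (nat_lit 0), (nat_lit 0)⟩) (BT.leaf ⟨(nat_lit 4), (nat_lit 1907), (nat_lit 0), (nat_lit 0x107a4b69e93952d89ba49bc27a5f0ed), (nat_lit 0), (nat_lit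 0)⟩))) (BT.node (nat_lit 6742) (BT.node (nat_lit 6741) (BT.leaf ⟨(nat_lit 4), (nat_lit 325), (nat_lit 0), (nat_lit 0x1c875a6fca2ff6e55ef0ce9fd0d9179), (nat_lit 0), (nat_lit 0)⟩) (BT.leaf ⟨(nat_lit 4), (nat_lit 430), (nat_lit 0), (nat_lit 0x212b47c6e1a2091c955ce828044363), (nat_lit 0), (nat_lit 0)⟩)) (BT.node (nat_lit 6743) (BT.leaf ⟨(nat_lit 4), (nat_lit 558), (nat_lit 0), (nat_lit 0x1126f3a3f9a1203016f0841435a21f), (nat_lit 0), (nat_lit 0)⟩) (BT.leaf ⟨(nat_lit 4), (nat_lit 523), (nat_lit 0), (nat_lit 0x11dfa101457a0301273e00d26af6104), (nat_lit 0), (nat_lit 0)⟩)))) (BT.node (nat_lit 6748) (BT.node (nat_lit 6746) (BT.node (nat_lit 6745) (BT.leaf ⟨(nat_lit 4), (nat_lit 2819), (nat_lit 0), (nat_lit 0x182e742d2b917b21ede9b505d98e4c7), (nat_lit 0), (nat_lit 0)⟩) (BT.leaf ⟨(nat_lit 4), (nat_lit 2859), (nat_lit 0), (nat_lit 0x104216b42dff37833a3b50903bd060), (nat_lit 0), (nat_lit 0)⟩)) (BT.node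 (nat_lit 6747) (BT.leaf ⟨(nat_lit 4), (nat_lit 2737), (nat_lit 0), (nat_lit 0x4048012005f8e980104d1a442740d5), (nat_lit 0), (nat_lit 0)⟩) (BT.leaf ⟨(nat_lit 4), (nat_lit 2831), (nat_lit 0), (nat_lit 0x102039e0071b002087e3881012102f4), (nat_lit 0), (nat_lit 0)⟩))) (BT.node (nat_lit 6750) (BT.node (nat_lit 6749) (BT.leaf ⟨(nat_lit 4), (nat_lit 2915), (nat_lit 0), (nat_lit 0x27bbec9e83d23a4e17692d89e4fec1), (nat_lit 0), (nat_lit 0)⟩) (BT.leaf ⟨(nat_lit 4), (nat_lit 3712), (nat_lit 0), (nat_lit 0x1c18246b40a05017cda80885bcca8c0), (nat_lit 0), (nat_lit 0)⟩)) (BT.node (nat_lit 6751) (BT.leaf ⟨(nat_lit 5), (nat_lit 7), (nat_lit 0), (nat_lit 0x100000000000000010000000000000000002000000000000000000200000000000000000000000000000000000000000004000000000000000200000000000000000000000000000000000000000000000000000000000000000000000000000000000000000000000000200800000000000000000000800000000000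00000000010200000000000000100000000004000000000000400000000000000000000000000000000000000000000000000000000000000000000000008000000000000080000000000000000000000000000000000000000000000000000000000000000000004000000000080000000000000000000000000000000000000000000102000000000000000000000000000000004000000000010000000000000000000000000000000000000000000000000000000000000000000000000000000000000000000000000a000000400004000000100000020000000000000000000000000000000000000000000000000000000000000000000000000001000000000000000100000000004000000000000000020040000000080000000000000000000200010000000000000000000000000000010000020000000000000000000000000000000000000000000000200000800000000000000000), (nat_lit 0), (nat_lit 0)⟩) (BT.leaf ⟨(nat_lit 4), (nat_lit 3434), (nat_lit 0), (nat_lit 0xc4e6f26a1db26acf49f91d89e5f77d), (nat_lit 0), (nat_lit 0)⟩)))))) (BT.node (nat_lit 6768) (BT.node (nat_lit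 6760) (BT.node (nat_lit 6756) (BT.node (nat_lit 6754) (BT.node (nat_lit 6753) (BT.leaf ⟨(nat_lit 4), (nat_lit 2921), (nat_lit 0), (nat_lit 0x8400c5f8553ca80a012061e77ab6e4), (nat_lit 0), (nat_lit 0)⟩) (BT.leaf ⟨(nat_lit 4), (nat_lit 1394), (nat_lit 0), (nat_lit 0x189f652a9532be558ab8d72af45c95a), (nat_lit 0), (nat_lit 0)⟩)) (BT.node (nat_lit 6755) (BT.leaf ⟨(nat_lit 4), (nat_lit 1747), (nat_lit 0), (nat_lit 0x1005a3600fc72029789ed7375608420), (nat_lit 0), (nat_lit 0)⟩) (BT.leaf ⟨(nat_lit 4), (nat_lit 1509), (nat_lit 0), (nat_lit 0x87d27cabcbe96f60a5e4bb464737b7), (nat_lit 0), (nat_lit 0)⟩))) (BT.node (nat_lit 6758) (BT.node (nat_lit 6757) (BT.leaf ⟨(nat_lit 4), (nat_lit 939), (nat_lit 0), (nat_lit 0x49e04008e64fafa7048563bf00c785), (nat_lit 0), (nat_lit 0)⟩) (BT.leaf ⟨(nat_lit 4), (nat_lit 1110), (nat_lit 0), (nat_lit 0xf5508201c019ccf1a0248017ff432f), (nat_lit 0), (nat_lit 0)⟩)) (BT.node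 (nat_lit 6759) (BT.leaf ⟨(nat_lit 4), (nat_lit 864), (nat_lit 0), (nat_lit 0x555b638ab4c754e89dda97a4f90e58), (nat_lit 0), (nat_lit 0)⟩) (BT.leaf ⟨(nat_lit 4), (nat_lit 1412), (nat_lit 0), (nat_lit 0x14bcf438d68d402084085e9ae439c40), (nat_lit 0), (nat_lit 0)⟩)))) (BT.node (nat_lit 6764) (BT.node (nat_lit 6762) (BT.node (nat_lit 6761) (BT.leaf ⟨(nat_lit 4), (nat_lit 1764), (nat_lit 0), (nat_lit 0x1bf28ba87d69b50e77db5e89a8bc9b2), (nat_lit 0), (nat_lit 0)⟩) (BT.leaf ⟨(nat_lit 4), (nat_lit 2149), (nat_lit 0), (nat_lit 0x821012104818010005fb1b4e910673), (nat_lit 0), (nat_lit 0)⟩)) (BT.node (nat_lit 6763) (BT.leaf ⟨(nat_lit 4), (nat_lit 983), (nat_lit 0), (nat_lit 0x6cbe35ff68caba52f42e8ccd7ab766), (nat_lit 0), (nat_lit 0)⟩) (BT.leaf ⟨(nat_lit 4), (nat_lit 746), (nat_lit 0), (nat_lit 0x7385bf7a675ce9d253ae5536569583), (nat_lit 0), (nat_lit 0)⟩))) (BT.node (nat_lit 6766) (BT.node (nat_lit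 6765) (BT.leaf ⟨(nat_lit 4), (nat_lit 1940), (nat_lit 0), (nat_lit 0x2e58053a481fa1eaa02ce6a0104210), (nat_lit 0), (nat_lit 0)⟩) (BT.leaf ⟨(nat_lit 4), (nat_lit 689), (nat_lit 0), (nat_lit 0xae4732bb5325695c2f989adb3a8eca), (nat_lit 0), (nat_lit 0)⟩)) (BT.node (nat_lit 6767) (BT.leaf ⟨(nat_lit 4), (nat_lit 1930), (nat_lit 0), (nat_lit 0x200aaa39ce920279fc683c212b4082), (nat_lit 0), (nat_lit 0)⟩) (BT.leaf ⟨(nat_lit 5), (nat_lit 7), (nat_lit 0), (nat_lit 0x2400000000000000000000000000000000001000000000000040080000000000000000000000000000000000000000000000000000000008040000000040000002000000000000000000000000000008000000000000000000000000000000000000000000000000000000000000000000000000000000000000000000000000000000000000100000000000000000000000000000000000000000000000000000a00000000000000000000000000000000000000000000000000810040000000000000000000000000000000000000000000008000000000000000202000000000000000000000000000000000000000020000000008000000000000000000000000000000200000000000000000000080000000000000000000000000000000000004000000000000000000000000000000000000000040800000000000000000100000000000000000010000000000400000000000002000000000000000002020000002000000000000000000000000000000000000010000000000000208000000004000000000000000000000000000a000000000000000008000000000000000000000000000000000000),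 (nat_lit 0), (nat_lit 0)⟩))))) (BT.node (nat_lit 6776) (BT.node (nat_lit 6772) (BT.node (nat_lit 6770) (BT.node (nat_lit 6769) (BT.leaf ⟨(nat_lit 4), (nat_lit 2854), (nat_lit 0), (nat_lit 0x2233a09035e554607c6104602402df), (nat_lit 0), (nat_lit 0)⟩) (BT.leaf ⟨(nat_lit 4), (nat_lit 2954), (nat_lit 0), (nat_lit 0x1d13c7c024ba00a3880a105ce00912d), (nat_lit 0), (nat_lit 0)⟩)) (BT.node (nat_lit 6771) (BT.leaf ⟨(nat_lit 4), (nat_lit 2955), (nat_lit 0), (nat_lit 0x6cb787db957b90e7721de9bd73a6b4), (nat_lit 0), (nat_lit 0)⟩) (BT.leaf ⟨(nat_lit 4), (nat_lit 2884), (nat_lit 0), (nat_lit 0x1b9226ed49e8a1f7a26a39dbc37b31c), (nat_lit 0), (nat_lit 0)⟩))) (BT.node (nat_lit 6774) (BT.node (nat_lit 6773) (BT.leaf ⟨(nat_lit 4), (nat_lit 3233), (nat_lit 0), (nat_lit 0xe919d7385a5deb77f2a39deeb8d53a), (nat_lit 0), (nat_lit 0)⟩) (BT.leaf ⟨(nat_lit 4), (nat_lit 525), (nat_lit 0), (nat_lit 0x3b7165a67fd1ee3bd730e70cf39f90),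 (nat_lit 0), (nat_lit 0)⟩)) (BT.node (nat_lit 6775) (BT.leaf ⟨(nat_lit 4), (nat_lit 685), (nat_lit 0), (nat_lit 0x140200e00fc70024009e0e6bd2eab8d), (nat_lit 0), (nat_lit 0)⟩) (BT.leaf ⟨(nat_lit 4), (nat_lit 873), (nat_lit 0), (nat_lit 0xee6ffabd2b5b2ba8a996d88e55c8b9), (nat_lit 0), (nat_lit 0)⟩)))) (BT.node (nat_lit 6780) (BT.node (nat_lit 6778) (BT.node (nat_lit 6777) (BT.leaf ⟨(nat_lit 4), (nat_lit 847), (nat_lit 0), (nat_lit 0x7d6ea9d57ab52f2c0d56d8654e8a36), (nat_lit 0), (nat_lit 0)⟩) (BT.leaf ⟨(nat_lit 4), (nat_lit 848), (nat_lit 0), (nat_lit 0x1d9ba24a5a8dd0b833357b01f2ffaae), (nat_lit 0), (nat_lit 0)⟩)) (BT.node (nat_lit 6779) (BT.leaf ⟨(nat_lit 4), (nat_lit 1108), (nat_lit 0), (nat_lit 0x3b6476272ed6c64f4be7b107bbee9e), (nat_lit 0), (nat_lit 0)⟩) (BT.leaf ⟨(nat_lit 4), (nat_lit 2926), (nat_lit 0), (nat_lit 0x1d5bce814420140e2a4f27e04647012), (nat_lit 0), (nat_lit 0)⟩))) (BT.node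 (nat_lit 6782) (BT.node (nat_lit 6781) (BT.leaf ⟨(nat_lit 4), (nat_lit 2495), (nat_lit 0), (nat_lit 0xb485bf3af753659d07cc2bdeb99565), (nat_lit 0), (nat_lit 0)⟩) (BT.leaf ⟨(nat_lit 4), (nat_lit 2838), (nat_lit 0), (nat_lit 0x17a801a5d104028212027c275c96902), (nat_lit 0), (nat_lit 0)⟩)) (BT.node (nat_lit 6783) (BT.leaf ⟨(nat_lit 4), (nat_lit 2812), (nat_lit 0), (nat_lit 0x78df3acc5c745df1e0b7c2fccde363), (nat_lit 0), (nat_lit 0)⟩) (BT.leaf ⟨(nat_lit 4), (nat_lit 2474), (nat_lit 0), (nat_lit 0x1a7a5f4deb3d273138edd83279355b1), (nat_lit 0), (nat_lit 0)⟩)))))))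
noncomputable def cP6720 : BT Pf := (BT.node (nat_lit 6752) (BT.node (nat_lit 6736) (BT.node (nat_lit 6728) (BT.node (nat_lit 6724) (BT.node (nat_lit 6722) (BT.node (nat_lit 6721) (BT.leaf (.pt (nat_lit 5242) (nat_lit 4))) (BT.leaf (.pt (nat_lit 6720) (nat_lit 1)))) (BT.node (nat_lit 6723) (BT.leaf (.pt (nat_lit 6721) (nat_lit 4))) (BT.leaf (.pt (nat_lit 6619) (nat_lit 3))))) (BT.node (nat_lit 6726) (BT.node (nat_lit 6725) (BT.leaf (.pt (nat_lit 5462) (nat_lit 1))) (BT.leaf (.pt (nat_lit 6724) (nat_lit 4)))) (BT.node (nat_lit 6727) (BT.leaf (.pt (nat_lit 5404) (nat_lit 3))) (BT.leaf (.cov [] [⟨(nat_lit 1859), (nat_lit 4937), [(nat_lit 165), (nat_lit 265)]⟩, ⟨(nat_lit 1860), (nat_lit 6025), [(nat_lit 1600), (nat_lit 880)]⟩, ⟨(nat_lit 1862), (nat_lit 4625), [(nat_lit 928), (nat_lit 880)]⟩, ⟨(nat_lit 1865), (nat_lit 6688), [(nat_lit 240), (nat_lit 606)]⟩, ⟨(nat_lit 1872), (nat_lit 6689),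 [(nat_lit 257), (nat_lit 901)]⟩, ⟨(nat_lit 1875), (nat_lit 4687), [(nat_lit 192), (nat_lit 495)]⟩, ⟨(nat_lit 1879), (nat_lit 6691), [(nat_lit 1173), (nat_lit 307)]⟩, ⟨(nat_lit 1885), (nat_lit 5647), [(nat_lit 510), (nat_lit 676)]⟩, ⟨(nat_lit 1887), (nat_lit 6192), [(nat_lit 827), (nat_lit 736)]⟩, ⟨(nat_lit 1889), (nat_lit 5425), [(nat_lit 482), (nat_lit 330)]⟩, ⟨(nat_lit 1891), (nat_lit 5098), [(nat_lit 165), (nat_lit 475)]⟩, ⟨(nat_lit 1896), (nat_lit 4896), [(nat_lit 353), (nat_lit 1036)]⟩, ⟨(nat_lit 1898), (nat_lit 6694), [(nat_lit 689), (nat_lit 533)]⟩, ⟨(nat_lit 1901), (nat_lit 4700), [(nat_lit 689), (nat_lit 868)]⟩, ⟨(nat_lit 1903), (nat_lit 6518), [(nat_lit 213), (nat_lit 1211)]⟩, ⟨(nat_lit 1906), (nat_lit 6698), [(nat_lit 393), (nat_lit 1871)]⟩, ⟨(nat_lit 1907), (nat_lit 6699), [(nat_lit 957), (nat_lit 495)]⟩, ⟨(nat_lit 1910), (nat_lit 5727), [(nat_lit 522), (nat_lit 90)]⟩,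 ⟨(nat_lit 1911), (nat_lit 5014), [(nat_lit 422), (nat_lit 235)]⟩, ⟨(nat_lit 1915), (nat_lit 6707), [(nat_lit 914), (nat_lit 222)]⟩, ⟨(nat_lit 1917), (nat_lit 6443), [(nat_lit 1087), (nat_lit 399)]⟩, ⟨(nat_lit 1923), (nat_lit 6128), [(nat_lit 193), (nat_lit 287)]⟩, ⟨(nat_lit 1925), (nat_lit 6708), [(nat_lit 273), (nat_lit 400)]⟩, ⟨(nat_lit 1927), (nat_lit 6709), [(nat_lit 787), (nat_lit 389)]⟩, ⟨(nat_lit 1930), (nat_lit 6716), [(nat_lit 1004), (nat_lit 1165)]⟩, ⟨(nat_lit 1933), (nat_lit 6717), [(nat_lit 211), (nat_lit 892)]⟩, ⟨(nat_lit 1936), (nat_lit 6719), [(nat_lit 707), (nat_lit 320)]⟩, ⟨(nat_lit 1941), (nat_lit 6722), [(nat_lit 527), (nat_lit 752)]⟩, ⟨(nat_lit 1944), (nat_lit 6269), [(nat_lit 239), (nat_lit 956)]⟩, ⟨(nat_lit 1947), (nat_lit 5140), [(nat_lit 93), (nat_lit 1136)]⟩, ⟨(nat_lit 1949), (nat_lit 5566), [(nat_lit 483), (nat_lit 585)]⟩, ⟨(nat_lit 1950), (nat_lit 4608),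 [(nat_lit 194)]⟩, ⟨(nat_lit 1952), (nat_lit 6723), [(nat_lit 240), (nat_lit 821)]⟩, ⟨(nat_lit 1955), (nat_lit 6401), [(nat_lit 97), (nat_lit 205)]⟩, ⟨(nat_lit 1959), (nat_lit 4544), [(nat_lit 726), (nat_lit 124)]⟩, ⟨(nat_lit 1961), (nat_lit 5040), [(nat_lit 130), (nat_lit 202)]⟩, ⟨(nat_lit 1963), (nat_lit 6725), [(nat_lit 227), (nat_lit 320)]⟩, ⟨(nat_lit 1965), (nat_lit 5165), [(nat_lit 226), (nat_lit 529)]⟩, ⟨(nat_lit 1968), (nat_lit 5087), [(nat_lit 335), (nat_lit 330)]⟩, ⟨(nat_lit 1970), (nat_lit 6726), [(nat_lit 255), (nat_lit 440)]⟩]))))) (BT.node (nat_lit 6732) (BT.node (nat_lit 6730) (BT.node (nat_lit 6729) (BT.leaf (.pt (nat_lit 4762) (nat_lit 3))) (BT.leaf (.pt (nat_lit 6728) (nat_lit 1)))) (BT.node (nat_lit 6731) (BT.leaf (.pt (nat_lit 6729) (nat_lit 4))) (BT.leaf (.pt (nat_lit 6186) (nat_lit 4))))) (BT.node (nat_lit 6734) (BT.node (nat_lit 6733) (BT.leaf (.pt (nat_lit 6731)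 (nat_lit 1))) (BT.leaf (.pt (nat_lit 6732) (nat_lit 4)))) (BT.node (nat_lit 6735) (BT.leaf (.pt (nat_lit 6112) (nat_lit 1))) (BT.leaf (.pt (nat_lit 6734) (nat_lit 3))))))) (BT.node (nat_lit 6744) (BT.node (nat_lit 6740) (BT.node (nat_lit 6738) (BT.node (nat_lit 6737) (BT.leaf (.pt (nat_lit 4864) (nat_lit 3))) (BT.leaf (.pt (nat_lit 4514) (nat_lit 3)))) (BT.node (nat_lit 6739) (BT.leaf (.pt (nat_lit 6737) (nat_lit 1))) (BT.leaf (.pt (nat_lit 6738) (nat_lit 4))))) (BT.node (nat_lit 6742) (BT.node (nat_lit 6741) (BT.leaf (.pt (nat_lit 6580) (nat_lit 3))) (BT.leaf (.pt (nat_lit 6740) (nat_lit 1)))) (BT.node (nat_lit 6743) (BT.leaf (.pt (nat_lit 6741) (nat_lit 3))) (BT.leaf (.pt (nat_lit 5749) (nat_lit 3)))))) (BT.node (nat_lit 6748) (BT.node (nat_lit 6746) (BT.node (nat_lit 6745) (BT.leaf (.pt (nat_lit 5823) (nat_lit 4))) (BT.leaf (.pt (nat_lit 6744) (nat_lit 1)))) (BT.node (nat_lit 6747)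 (BT.leaf (.pt (nat_lit 6745) (nat_lit 3))) (BT.leaf (.pt (nat_lit 5346) (nat_lit 4))))) (BT.node (nat_lit 6750) (BT.node (nat_lit 6749) (BT.leaf (.pt (nat_lit 5097) (nat_lit 3))) (BT.leaf (.pt (nat_lit 5854) (nat_lit 4)))) (BT.node (nat_lit 6751) (BT.leaf (.cov [] [⟨(nat_lit 1971), (nat_lit 4569), [(nat_lit 447), (nat_lit 1036)]⟩, ⟨(nat_lit 1973), (nat_lit 6730), [(nat_lit 434), (nat_lit 375)]⟩, ⟨(nat_lit 1976), (nat_lit 5962), [(nat_lit 175)]⟩, ⟨(nat_lit 1978), (nat_lit 6733), [(nat_lit 522), (nat_lit 202)]⟩, ⟨(nat_lit 1979), (nat_lit 4715), [(nat_lit 295), (nat_lit 581)]⟩, ⟨(nat_lit 1982), (nat_lit 5426), [(nat_lit 94), (nat_lit 224)]⟩, ⟨(nat_lit 1983), (nat_lit 5943), [(nat_lit 212), (nat_lit 1605)]⟩, ⟨(nat_lit 1985), (nat_lit 6677), [(nat_lit 250), (nat_lit 821)]⟩, ⟨(nat_lit 1987), (nat_lit 6058), [(nat_lit 1201), (nat_lit 486)]⟩, ⟨(nat_lit 1989), (nat_lit 5235), [(nat_lit 427),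 (nat_lit 572)]⟩, ⟨(nat_lit 1991), (nat_lit 6372), [(nat_lit 348), (nat_lit 334)]⟩, ⟨(nat_lit 1995), (nat_lit 4976), [(nat_lit 1126), (nat_lit 1369)]⟩, ⟨(nat_lit 1997), (nat_lit 5646), [(nat_lit 94), (nat_lit 1537)]⟩, ⟨(nat_lit 1998), (nat_lit 4495), [(nat_lit 502), (nat_lit 581)]⟩, ⟨(nat_lit 2001), (nat_lit 6735), [(nat_lit 177), (nat_lit 1369)]⟩, ⟨(nat_lit 2004), (nat_lit 5259), [(nat_lit 990), (nat_lit 127)]⟩, ⟨(nat_lit 2007), (nat_lit 6127), [(nat_lit 759), (nat_lit 1256)]⟩, ⟨(nat_lit 2009), (nat_lit 5105), [(nat_lit 461), (nat_lit 808)]⟩, ⟨(nat_lit 2010), (nat_lit 6736), [(nat_lit 194), (nat_lit 191)]⟩, ⟨(nat_lit 2014), (nat_lit 6739), [(nat_lit 259), (nat_lit 293)]⟩, ⟨(nat_lit 2018), (nat_lit 5276), [(nat_lit 292), (nat_lit 985)]⟩, ⟨(nat_lit 2020), (nat_lit 4705), [(nat_lit 1014), (nat_lit 798)]⟩, ⟨(nat_lit 2022), (nat_lit 5843), [(nat_lit 784), (nat_lit 682)]⟩, ⟨(nat_lit 2023),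 (nat_lit 5052), [(nat_lit 689), (nat_lit 363)]⟩, ⟨(nat_lit 2026), (nat_lit 6742), [(nat_lit 447), (nat_lit 287)]⟩, ⟨(nat_lit 2027), (nat_lit 6328), [(nat_lit 296), (nat_lit 762)]⟩, ⟨(nat_lit 2029), (nat_lit 6743), [(nat_lit 129), (nat_lit 475)]⟩, ⟨(nat_lit 2032), (nat_lit 5597), [(nat_lit 355), (nat_lit 249)]⟩, ⟨(nat_lit 2035), (nat_lit 6141), [(nat_lit 445), (nat_lit 395)]⟩, ⟨(nat_lit 2039), (nat_lit 6746), [(nat_lit 153), (nat_lit 395)]⟩, ⟨(nat_lit 2042), (nat_lit 5897), [(nat_lit 194), (nat_lit 1)]⟩, ⟨(nat_lit 2045), (nat_lit 6747), [(nat_lit 292), (nat_lit 835)]⟩, ⟨(nat_lit 2047), (nat_lit 5867), [(nat_lit 128), (nat_lit 170)]⟩, ⟨(nat_lit 2050), (nat_lit 6146), [(nat_lit 376), (nat_lit 901)]⟩, ⟨(nat_lit 2051), (nat_lit 6748), [(nat_lit 484), (nat_lit 891)]⟩, ⟨(nat_lit 2057), (nat_lit 4513), [(nat_lit 296), (nat_lit 752)]⟩, ⟨(nat_lit 2060), (nat_lit 6680), [(nat_lit 462), (nat_lit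 936)]⟩, ⟨(nat_lit 2062), (nat_lit 5018), [(nat_lit 321), (nat_lit 647)]⟩, ⟨(nat_lit 2064), (nat_lit 5513), [(nat_lit 484), (nat_lit 1136)]⟩, ⟨(nat_lit 2068), (nat_lit 6749), [(nat_lit 404), (nat_lit 396)]⟩])) (BT.leaf (.pt (nat_lit 6671) (nat_lit 4)))))))) (BT.node (nat_lit 6768) (BT.node (nat_lit 6760) (BT.node (nat_lit 6756) (BT.node (nat_lit 6754) (BT.node (nat_lit 6753) (BT.leaf (.pt (nat_lit 5998) (nat_lit 3))) (BT.leaf (.pt (nat_lit 5062) (nat_lit 3)))) (BT.node (nat_lit 6755) (BT.leaf (.pt (nat_lit 6753) (nat_lit 1))) (BT.leaf (.pt (nat_lit 6148) (nat_lit 4))))) (BT.node (nat_lit 6758) (BT.node (nat_lit 6757) (BT.leaf (.pt (nat_lit 5443) (nat_lit 3))) (BT.leaf (.pt (nat_lit 6489) (nat_lit 4)))) (BT.node (nat_lit 6759) (BT.leaf (.pt (nat_lit 4576) (nat_lit 3))) (BT.leaf (.pt (nat_lit 5522) (nat_lit 3)))))) (BT.node (nat_lit 6764) (BT.node (nat_lit 6762) (BT.node (nat_lit 6761)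 (BT.leaf (.pt (nat_lit 6759) (nat_lit 1))) (BT.leaf (.pt (nat_lit 6760) (nat_lit 4)))) (BT.node (nat_lit 6763) (BT.leaf (.pt (nat_lit 5341) (nat_lit 1))) (BT.leaf (.pt (nat_lit 6762) (nat_lit 4))))) (BT.node (nat_lit 6766) (BT.node (nat_lit 6765) (BT.leaf (.pt (nat_lit 6663) (nat_lit 3))) (BT.leaf (.pt (nat_lit 6594) (nat_lit 4)))) (BT.node (nat_lit 6767) (BT.leaf (.pt (nat_lit 6116) (nat_lit 4))) (BT.leaf (.cov [] [⟨(nat_lit 2070), (nat_lit 6751), [(nat_lit 295), (nat_lit 1018)]⟩, ⟨(nat_lit 2072), (nat_lit 5497), [(nat_lit 619), (nat_lit 475)]⟩, ⟨(nat_lit 2073), (nat_lit 6124), [(nat_lit 619), (nat_lit 901)]⟩, ⟨(nat_lit 2077), (nat_lit 6752), [(nat_lit 1026), (nat_lit 108)]⟩, ⟨(nat_lit 2081), (nat_lit 5023), [(nat_lit 579), (nat_lit 604)]⟩, ⟨(nat_lit 2083), (nat_lit 6336), [(nat_lit 237), (nat_lit 1375)]⟩, ⟨(nat_lit 2085), (nat_lit 5893), [(nat_lit 256), (nat_lit 530)]⟩, ⟨(nat_lit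 2087), (nat_lit 5900), [(nat_lit 393), (nat_lit 712)]⟩, ⟨(nat_lit 2088), (nat_lit 6521), [(nat_lit 406), (nat_lit 171)]⟩, ⟨(nat_lit 2092), (nat_lit 6734), [(nat_lit 928), (nat_lit 605)]⟩, ⟨(nat_lit 2095), (nat_lit 5008), [(nat_lit 402), (nat_lit 495)]⟩, ⟨(nat_lit 2096), (nat_lit 5288), [(nat_lit 761), (nat_lit 557)]⟩, ⟨(nat_lit 2098), (nat_lit 5312), [(nat_lit 462), (nat_lit 777)]⟩, ⟨(nat_lit 2101), (nat_lit 5078), [(nat_lit 447), (nat_lit 835)]⟩, ⟨(nat_lit 2102), (nat_lit 5730), [(nat_lit 193), (nat_lit 1849)]⟩, ⟨(nat_lit 2110), (nat_lit 6754), [(nat_lit 619), (nat_lit 440)]⟩, ⟨(nat_lit 2115), (nat_lit 6755), [(nat_lit 1174), (nat_lit 306)]⟩, ⟨(nat_lit 2117), (nat_lit 6289), [(nat_lit 280), (nat_lit 308)]⟩, ⟨(nat_lit 2123), (nat_lit 4613), [(nat_lit 826), (nat_lit 367)]⟩, ⟨(nat_lit 2127), (nat_lit 6756), [(nat_lit 335), (nat_lit 290)]⟩, ⟨(nat_lit 2130), (nat_lit 5080), [(nat_lit 359),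 (nat_lit 898)]⟩, ⟨(nat_lit 2131), (nat_lit 4550), [(nat_lit 446), (nat_lit 1375)]⟩, ⟨(nat_lit 2135), (nat_lit 6757), [(nat_lit 434), (nat_lit 1009)]⟩, ⟨(nat_lit 2141), (nat_lit 4962), [(nat_lit 789), (nat_lit 88)]⟩, ⟨(nat_lit 2180), (nat_lit 6758), [(nat_lit 92), (nat_lit 379)]⟩, ⟨(nat_lit 2183), (nat_lit 5986), [(nat_lit 272), (nat_lit 684)]⟩, ⟨(nat_lit 2184), (nat_lit 5565), [(nat_lit 381), (nat_lit 173)]⟩, ⟨(nat_lit 2186), (nat_lit 5477), [(nat_lit 364), (nat_lit 495)]⟩, ⟨(nat_lit 2189), (nat_lit 5373), [(nat_lit 335), (nat_lit 1537)]⟩, ⟨(nat_lit 2193), (nat_lit 6761), [(nat_lit 469), (nat_lit 875)]⟩, ⟨(nat_lit 2195), (nat_lit 6763), [(nat_lit 2124), (nat_lit 375)]⟩, ⟨(nat_lit 2197), (nat_lit 5336), [(nat_lit 761), (nat_lit 125)]⟩, ⟨(nat_lit 2199), (nat_lit 5961), [(nat_lit 690), (nat_lit 1503)]⟩, ⟨(nat_lit 2201), (nat_lit 6621), [(nat_lit 492), (nat_lit 248)]⟩, ⟨(nat_lit 2202),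 (nat_lit 6595), [(nat_lit 446), (nat_lit 605)]⟩, ⟨(nat_lit 2204), (nat_lit 5075), [(nat_lit 402), (nat_lit 1100)]⟩, ⟨(nat_lit 2206), (nat_lit 6764), [(nat_lit 461), (nat_lit 1537)]⟩, ⟨(nat_lit 2211), (nat_lit 6260), [(nat_lit 1600), (nat_lit 821)]⟩, ⟨(nat_lit 2213), (nat_lit 6765), [(nat_lit 402), (nat_lit 163)]⟩, ⟨(nat_lit 2219), (nat_lit 6766), [(nat_lit 406), (nat_lit 901)]⟩])))))) (BT.node (nat_lit 6776) (BT.node (nat_lit 6772) (BT.node (nat_lit 6770) (BT.node (nat_lit 6769) (BT.leaf (.pt (nat_lit 6617) (nat_lit 3))) (BT.leaf (.pt (nat_lit 6768) (nat_lit 1)))) (BT.node (nat_lit 6771) (BT.leaf (.pt (nat_lit 6769) (nat_lit 3))) (BT.leaf (.pt (nat_lit 5767) (nat_lit 4))))) (BT.node (nat_lit 6774) (BT.node (nat_lit 6773) (BT.leaf (.pt (nat_lit 6771) (nat_lit 1))) (BT.leaf (.pt (nat_lit 5647) (nat_lit 3)))) (BT.node (nat_lit 6775) (BT.leaf (.pt (nat_lit 6773) (nat_lit 1))) (BT.leaf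 (.pt (nat_lit 6774) (nat_lit 4)))))) (BT.node (nat_lit 6780) (BT.node (nat_lit 6778) (BT.node (nat_lit 6777) (BT.leaf (.pt (nat_lit 6775) (nat_lit 1))) (BT.leaf (.pt (nat_lit 6776) (nat_lit 3)))) (BT.node (nat_lit 6779) (BT.leaf (.pt (nat_lit 6777) (nat_lit 1))) (BT.leaf (.pt (nat_lit 6523) (nat_lit 4))))) (BT.node (nat_lit 6782) (BT.node (nat_lit 6781) (BT.leaf (.pt (nat_lit 4944) (nat_lit 1))) (BT.leaf (.pt (nat_lit 6780) (nat_lit 3)))) (BT.node (nat_lit 6783) (BT.leaf (.pt (nat_lit 6781) (nat_lit 1))) (BT.leaf (.pt (nat_lit 6782) (nat_lit 4)))))))))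
noncomputable def cF6784 : BT Fc := (BT.node (nat_lit 6816) (BT.node (nat_lit 6800) (BT.node (nat_lit 6792) (BT.node (nat_lit 6788) (BT.node (nat_lit 6786) (BT.node (nat_lit 6785) (BT.leaf ⟨(nat_lit 4), (nat_lit 2770), (nat_lit 0), (nat_lit 0xbd32f89efc74bc39c10bab8019d402), (nat_lit 0), (nat_lit 0)⟩) (BT.leaf ⟨(nat_lit 4), (nat_lit 1382), (nat_lit 0), (nat_lit 0x8e626ecaa68af4ad2b8532be5b62bb), (nat_lit 0), (nat_lit 0)⟩)) (BT.node (nat_lit 6787) (BT.leaf ⟨(nat_lit 4), (nat_lit 1444), (nat_lit 0), (nat_lit 0x865f1f50449fc900a0533d9a29fad), (nat_lit 0), (nat_lit 0)⟩) (BT.leaf ⟨(nat_lit 4), (nat_lit 1443), (nat_lit 0), (nat_lit 0x805001e34042e69d600ce6c002fbd5), (nat_lit 0), (nat_lit 0)⟩))) (BT.node (nat_lit 6790) (BT.node (nat_lit 6789) (BT.leaf ⟨(nat_lit 4), (nat_lit 1370), (nat_lit 0), (nat_lit 0x1e775138d197e345b979f1f749ff7ad), (nat_lit 0), (nat_lit 0)⟩) (BT.leaf ⟨(nat_lit 4), (nat_lit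 2326), (nat_lit 0), (nat_lit 0xd8c4428083c600d78a05bfee91c880), (nat_lit 0), (nat_lit 0)⟩)) (BT.node (nat_lit 6791) (BT.leaf ⟨(nat_lit 4), (nat_lit 2706), (nat_lit 0), (nat_lit 0x9ff160e64be87d2d9bc5bf2ac2fec1), (nat_lit 0), (nat_lit 0)⟩) (BT.leaf ⟨(nat_lit 4), (nat_lit 3097), (nat_lit 0), (nat_lit 0xa0eec960108237e10809102044127), (nat_lit 0), (nat_lit 0)⟩)))) (BT.node (nat_lit 6796) (BT.node (nat_lit 6794) (BT.node (nat_lit 6793) (BT.leaf ⟨(nat_lit 4), (nat_lit 1859), (nat_lit 0), (nat_lit 0x182e6c95a7c6b31f99bc3c745de1f7d), (nat_lit 0), (nat_lit 0)⟩) (BT.leaf ⟨(nat_lit 4), (nat_lit 3625), (nat_lit 0), (nat_lit 0x4ac827420181124d73e57a09042014), (nat_lit 0), (nat_lit 0)⟩)) (BT.node (nat_lit 6795) (BT.leaf ⟨(nat_lit 4), (nat_lit 3726), (nat_lit 0), (nat_lit 0x1f6e55ef4df91358e179ce89ab5a1b2), (nat_lit 0), (nat_lit 0)⟩) (BT.leaf ⟨(nat_lit 4), (nat_lit 729), (nat_lit 0), (nat_lit 0x90903c30c0088146d4f5bc694c830),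 (nat_lit 0), (nat_lit 0)⟩))) (BT.node (nat_lit 6798) (BT.node (nat_lit 6797) (BT.leaf ⟨(nat_lit 4), (nat_lit 98), (nat_lit 0), (nat_lit 0x5bc208600805010ff7a0a065619fcd), (nat_lit 0), (nat_lit 0)⟩) (BT.leaf ⟨(nat_lit 4), (nat_lit 2074), (nat_lit 0), (nat_lit 0xffad3335ce714eae790336a1eb9c71), (nat_lit 0), (nat_lit 0)⟩)) (BT.node (nat_lit 6799) (BT.leaf ⟨(nat_lit 5), (nat_lit 7), (nat_lit 0), (nat_lit 0x46000000000000000000000000000000000000000000000000002000000000000000000000000000000000000000000000000000080020048000001000020000000000000000000000000000200002000000000000000000100000000000000008000000400000000000000000000000000000001000000400000000000000000000000000000000000000000000000000000000000000000000000004000000000000010000800000000000010000000000000000000000000000040000000000000000000000000000000000000400000000000000000000000000000000000000000000000000000800000000000000000000000000000000000000020000000000000000000000000000000000000000000000000000000000000008000000000000000004000000000000000000000000000000000000000000000000000000000000000010000000000000000800000000000000010000000000000000000000000200000000000000000000000000000000000200000000000000000000000000000000000000000000000000000000000000004000020000000000000000000000000000000000000000000080000000000000000000000000000000000000200004000100400000000000002000),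 (nat_lit 0), (nat_lit 0)⟩) (BT.leaf ⟨(nat_lit 4), (nat_lit 958), (nat_lit 0), (nat_lit 0xd8fbe9e37e68d9d1e0b2b5f8de1cd9), (nat_lit 0), (nat_lit 0)⟩))))) (BT.node (nat_lit 6808) (BT.node (nat_lit 6804) (BT.node (nat_lit 6802) (BT.node (nat_lit 6801) (BT.leaf ⟨(nat_lit 4), (nat_lit 1195), (nat_lit 0), (nat_lit 0x1d455ca99b07b2a26a392b4ee45caa9), (nat_lit 0), (nat_lit 0)⟩) (BT.leaf ⟨(nat_lit 4), (nat_lit 1500), (nat_lit 0), (nat_lit 0x5da4d48e749a7acf54b1db27fbecde), (nat_lit 0), (nat_lit 0)⟩)) (BT.node (nat_lit 6803) (BT.leaf ⟨(nat_lit 4), (nat_lit 1841), (nat_lit 0), (nat_lit 0x169b167908671c62999b1da1ce31b49), (nat_lit 0), (nat_lit 0)⟩) (BT.leaf ⟨(nat_lit 4), (nat_lit 2269), (nat_lit 0), (nat_lit 0x3eb3482f2df6c75112727e43c96acc), (nat_lit 0), (nat_lit 0)⟩))) (BT.node (nat_lit 6806) (BT.node (nat_lit 6805) (BT.leaf ⟨(nat_lit 4), (nat_lit 2281), (nat_lit 0), (nat_lit 0x62318127e77e3951c527e04488050),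 (nat_lit 0), (nat_lit 0)⟩) (BT.leaf ⟨(nat_lit 4), (nat_lit 3166), (nat_lit 0), (nat_lit 0x1bd0040027c7ce90000425e004ea840), (nat_lit 0), (nat_lit 0)⟩)) (BT.node (nat_lit 6807) (BT.leaf ⟨(nat_lit 4), (nat_lit 2866), (nat_lit 0), (nat_lit 0x9792db5facbb05b827f4bf4652edd2), (nat_lit 0), (nat_lit 0)⟩) (BT.leaf ⟨(nat_lit 4), (nat_lit 3627), (nat_lit 0), (nat_lit 0x4ac8793f5984bf3492e05e6beae370), (nat_lit 0), (nat_lit 0)⟩)))) (BT.node (nat_lit 6812) (BT.node (nat_lit 6810) (BT.node (nat_lit 6809) (BT.leaf ⟨(nat_lit 4), (nat_lit 3727), (nat_lit 0), (nat_lit 0x74790b8a46d698aadd53aa7746a9d7), (nat_lit 0), (nat_lit 0)⟩) (BT.leaf ⟨(nat_lit 4), (nat_lit 2907), (nat_lit 0), (nat_lit 0x1e3386e8df1f1b85b979ba432fceb13), (nat_lit 0), (nat_lit 0)⟩)) (BT.node (nat_lit 6811) (BT.leaf ⟨(nat_lit 4), (nat_lit 3443), (nat_lit 0), (nat_lit 0x1ad37aa874d5fd18e179df99d17a6f0), (nat_lit 0), (nat_lit 0)⟩) (BT.leaf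 ⟨(nat_lit 4), (nat_lit 1481), (nat_lit 0), (nat_lit 0x101039af4805043f1c40a00d1a001e8), (nat_lit 0), (nat_lit 0)⟩))) (BT.node (nat_lit 6814) (BT.node (nat_lit 6813) (BT.leaf ⟨(nat_lit 4), (nat_lit 1834), (nat_lit 0), (nat_lit 0xc4d3509ea9725b13c9c93537a0f59e), (nat_lit 0), (nat_lit 0)⟩) (BT.leaf ⟨(nat_lit 4), (nat_lit 2683), (nat_lit 0), (nat_lit 0x2896f8fbd40092e902044f84eb882), (nat_lit 0), (nat_lit 0)⟩)) (BT.node (nat_lit 6815) (BT.leaf ⟨(nat_lit 4), (nat_lit 2818), (nat_lit 0), (nat_lit 0x7a3a8df8b515a21ede92ed72305fb7), (nat_lit 0), (nat_lit 0)⟩) (BT.leaf ⟨(nat_lit 4), (nat_lit 3204), (nat_lit 0), (nat_lit 0x127ed8f7dd82c4dec09e2ece92474de), (nat_lit 0), (nat_lit 0)⟩)))))) (BT.node (nat_lit 6832) (BT.node (nat_lit 6824) (BT.node (nat_lit 6820) (BT.node (nat_lit 6818) (BT.node (nat_lit 6817) (BT.leaf ⟨(nat_lit 4), (nat_lit 3411), (nat_lit 0), (nat_lit 0xae1dcaf91ccaa6c1a39a682e7a8b6c),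 (nat_lit 0), (nat_lit 0)⟩) (BT.leaf ⟨(nat_lit 4), (nat_lit 3512), (nat_lit 0), (nat_lit 0x1c35ff265cb05e63778ca69eb7e6dd2), (nat_lit 0), (nat_lit 0)⟩)) (BT.node (nat_lit 6819) (BT.leaf ⟨(nat_lit 4), (nat_lit 3513), (nat_lit 0), (nat_lit 0x60017b5f1aa50090110fe8421dce3a), (nat_lit 0), (nat_lit 0)⟩) (BT.leaf ⟨(nat_lit 4), (nat_lit 476), (nat_lit 0), (nat_lit 0x19d0441af1033ce0f0905bea00c070d), (nat_lit 0), (nat_lit 0)⟩))) (BT.node (nat_lit 6822) (BT.node (nat_lit 6821) (BT.leaf ⟨(nat_lit 4), (nat_lit 445), (nat_lit 0), (nat_lit 0x1bd803042006974010222052723892d), (nat_lit 0), (nat_lit 0)⟩) (BT.leaf ⟨(nat_lit 4), (nat_lit 343), (nat_lit 0), (nat_lit 0x480c057305e44346ff4204ee4a0101), (nat_lit 0), (nat_lit 0)⟩)) (BT.node (nat_lit 6823) (BT.leaf ⟨(nat_lit 4), (nat_lit 251), (nat_lit 0), (nat_lit 0x1722f05e898f7a9572d2b50996fc19b), (nat_lit 0), (nat_lit 0)⟩) (BT.leaf ⟨(nat_lit 4), (nat_lit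 3339), (nat_lit 0), (nat_lit 0x13ce39c336923b739c77f215ceae335), (nat_lit 0), (nat_lit 0)⟩)))) (BT.node (nat_lit 6828) (BT.node (nat_lit 6826) (BT.node (nat_lit 6825) (BT.leaf ⟨(nat_lit 5), (nat_lit 7), (nat_lit 0), (nat_lit 0x80000000000001000000000000000000000000000000000000000200002000000000000900000000000000000000000008000000000000000000000000000000800000000000400000000000000000000000000000000000000000000001000000000400000008000000000400000000000040000000000000000000000040000000080000000000000000800000000000000000000000000000000000000000000000000000000000000000000000000000000002000000000000000000000000000000000000000000000000000002000000000000004000000000000000000000000000000000020000000400000400000000000000000000000000000000000000000000000000000000000000000000000000000000020040002000000000000000000400000000000000000004000040000000000000000000000000000000000000000000000000000000000000000000000000000000200000000000000000000000000000000000000000000100000010000000000000000000000000000000400000000000000000000000000000000010000000000000001000001000000000000000000000001000000000000800000000000000000000080400000000000000000000000000000000000000),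 (nat_lit 0), (nat_lit 0)⟩) (BT.leaf ⟨(nat_lit 4), (nat_lit 529), (nat_lit 0), (nat_lit 0x1ad17a31c50fbf1356f489a6cb7b6d4), (nat_lit 0), (nat_lit 0)⟩)) (BT.node (nat_lit 6827) (BT.leaf ⟨(nat_lit 4), (nat_lit 2243), (nat_lit 0), (nat_lit 0x1fd171d73220ee48063a202601af920), (nat_lit 0), (nat_lit 0)⟩) (BT.leaf ⟨(nat_lit 4), (nat_lit 2641), (nat_lit 0), (nat_lit 0x1cefc625e04201420ef520327e39011), (nat_lit 0), (nat_lit 0)⟩))) (BT.node (nat_lit 6830) (BT.node (nat_lit 6829) (BT.leaf ⟨(nat_lit 4), (nat_lit 2905), (nat_lit 0), (nat_lit 0x1365f5bf3787e43be95a7cf29571be3), (nat_lit 0), (nat_lit 0)⟩) (BT.leaf ⟨(nat_lit 4), (nat_lit 3248), (nat_lit 0), (nat_lit 0xaf4959040088112df3e7ce2100a024), (nat_lit 0), (nat_lit 0)⟩)) (BT.node (nat_lit 6831) (BT.leaf ⟨(nat_lit 4), (nat_lit 3461), (nat_lit 0), (nat_lit 0x1ae4f409e801f8eeac0282197f00500), (nat_lit 0), (nat_lit 0)⟩) (BT.leaf ⟨(nat_lit 4), (nat_lit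 3514), (nat_lit 0), (nat_lit 0x480a210221ca8182a9821d5a47010), (nat_lit 0), (nat_lit 0)⟩))))) (BT.node (nat_lit 6840) (BT.node (nat_lit 6836) (BT.node (nat_lit 6834) (BT.node (nat_lit 6833) (BT.leaf ⟨(nat_lit 4), (nat_lit 2506), (nat_lit 0), (nat_lit 0x1e16c6dd2d44e3746f8dcb0c4fc7bfe), (nat_lit 0), (nat_lit 0)⟩) (BT.leaf ⟨(nat_lit 4), (nat_lit 2862), (nat_lit 0), (nat_lit 0x14017a52fd72cebf1c40821004f4073), (nat_lit 0), (nat_lit 0)⟩)) (BT.node (nat_lit 6835) (BT.leaf ⟨(nat_lit 4), (nat_lit 3222), (nat_lit 0), (nat_lit 0x143ab5f88c6716471108200509faa9), (nat_lit 0), (nat_lit 0)⟩) (BT.leaf ⟨(nat_lit 4), (nat_lit 3433), (nat_lit 0), (nat_lit 0x1ad37b44d50ff6f781cee43b517a517), (nat_lit 0), (nat_lit 0)⟩))) (BT.node (nat_lit 6838) (BT.node (nat_lit 6837) (BT.leaf ⟨(nat_lit 4), (nat_lit 1634), (nat_lit 0), (nat_lit 0x17804400ae651ed04408df80248474e), (nat_lit 0), (nat_lit 0)⟩) (BT.leaf ⟨(nat_lit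 4), (nat_lit 1955), (nat_lit 0), (nat_lit 0xbd226ff4365b537831cdf9ad37b1ce), (nat_lit 0), (nat_lit 0)⟩)) (BT.node (nat_lit 6839) (BT.leaf ⟨(nat_lit 4), (nat_lit 1686), (nat_lit 0), (nat_lit 0x1200aafbaf8c208604f3141c3444280), (nat_lit 0), (nat_lit 0)⟩) (BT.leaf ⟨(nat_lit 4), (nat_lit 191), (nat_lit 0), (nat_lit 0x1de8a0050867ad020860b513782016f), (nat_lit 0), (nat_lit 0)⟩)))) (BT.node (nat_lit 6844) (BT.node (nat_lit 6842) (BT.node (nat_lit 6841) (BT.leaf ⟨(nat_lit 4), (nat_lit 1490), (nat_lit 0), (nat_lit 0x1bbf9c73b74873b9f583f75ceb992d2), (nat_lit 0), (nat_lit 0)⟩) (BT.leaf ⟨(nat_lit 4), (nat_lit 1832), (nat_lit 0), (nat_lit 0x8e56f888ad060140155f746bc40c1e), (nat_lit 0), (nat_lit 0)⟩)) (BT.node (nat_lit 6843) (BT.leaf ⟨(nat_lit 4), (nat_lit 2254), (nat_lit 0), (nat_lit 0x1ae439c043d0ce9c6c4080380280408), (nat_lit 0), (nat_lit 0)⟩) (BT.leaf ⟨(nat_lit 4), (nat_lit 2880), (nat_lit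 0), (nat_lit 0x1c6b9dd835a4d24e7732c2bceb77b3a), (nat_lit 0), (nat_lit 0)⟩))) (BT.node (nat_lit 6846) (BT.node (nat_lit 6845) (BT.leaf ⟨(nat_lit 4), (nat_lit 3679), (nat_lit 0), (nat_lit 0x39b2fa1f49f74ab2ec14bc17db87b7), (nat_lit 0), (nat_lit 0)⟩) (BT.leaf ⟨(nat_lit 4), (nat_lit 665), (nat_lit 0), (nat_lit 0x11345cabb6d97fdcb5832b4ae1dce27), (nat_lit 0), (nat_lit 0)⟩)) (BT.node (nat_lit 6847) (BT.leaf ⟨(nat_lit 4), (nat_lit 837), (nat_lit 0), (nat_lit 0xc72f617687b3a2f499b55dedf05a65), (nat_lit 0), (nat_lit 0)⟩) (BT.leaf ⟨(nat_lit 4), (nat_lit 856), (nat_lit 0), (nat_lit 0xcd7a34a5197d3ba21b255cd19ec693), (nat_lit 0), (nat_lit 0)⟩)))))))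
noncomputable def cP6784 : BT Pf := (BT.node (nat_lit 6816) (BT.node (nat_lit 6800) (BT.node (nat_lit 6792) (BT.node (nat_lit 6788) (BT.node (nat_lit 6786) (BT.node (nat_lit 6785) (BT.leaf (.pt (nat_lit 5596) (nat_lit 1))) (BT.leaf (.pt (nat_lit 6243) (nat_lit 3)))) (BT.node (nat_lit 6787) (BT.leaf (.pt (nat_lit 6785) (nat_lit 1))) (BT.leaf (.pt (nat_lit 6786) (nat_lit 4))))) (BT.node (nat_lit 6790) (BT.node (nat_lit 6789) (BT.leaf (.pt (nat_lit 5044) (nat_lit 3))) (BT.leaf (.pt (nat_lit 5162) (nat_lit 4)))) (BT.node (nat_lit 6791) (BT.leaf (.pt (nat_lit 6789) (nat_lit 1))) (BT.leaf (.pt (nat_lit 6790) (nat_lit 3)))))) (BT.node (nat_lit 6796) (BT.node (nat_lit 6794) (BT.node (nat_lit 6793) (BT.leaf (.pt (nat_lit 5945) (nat_lit 3))) (BT.leaf (.pt (nat_lit 5776) (nat_lit 1)))) (BT.node (nat_lit 6795) (BT.leaf (.pt (nat_lit 6793) (nat_lit 4))) (BT.leaf (.pt (nat_lit 4980) (nat_lit 3)))))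 (BT.node (nat_lit 6798) (BT.node (nat_lit 6797) (BT.leaf (.pt (nat_lit 6390) (nat_lit 3))) (BT.leaf (.pt (nat_lit 6146) (nat_lit 3)))) (BT.node (nat_lit 6799) (BT.leaf (.cov [] [⟨(nat_lit 2222), (nat_lit 5006), [(nat_lit 467), (nat_lit 294)]⟩, ⟨(nat_lit 2225), (nat_lit 4497), [(nat_lit 164), (nat_lit 162)]⟩, ⟨(nat_lit 2226), (nat_lit 6305), [(nat_lit 550), (nat_lit 808)]⟩, ⟨(nat_lit 2231), (nat_lit 5073), [(nat_lit 164), (nat_lit 877)]⟩, ⟨(nat_lit 2233), (nat_lit 5116), [(nat_lit 763), (nat_lit 499)]⟩, ⟨(nat_lit 2238), (nat_lit 6274), [(nat_lit 1014), (nat_lit 822)]⟩, ⟨(nat_lit 2241), (nat_lit 4874), [(nat_lit 209), (nat_lit 1247)]⟩, ⟨(nat_lit 2242), (nat_lit 6770), [(nat_lit 840), (nat_lit 1348)]⟩, ⟨(nat_lit 2246), (nat_lit 6772), [(nat_lit 416), (nat_lit 738)]⟩, ⟨(nat_lit 2249), (nat_lit 6778), [(nat_lit 152), (nat_lit 319)]⟩, ⟨(nat_lit 2251), (nat_lit 5466), [(nat_lit 428), (nat_lit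 1017)]⟩, ⟨(nat_lit 2252), (nat_lit 5034), [(nat_lit 1026), (nat_lit 676)]⟩, ⟨(nat_lit 2257), (nat_lit 4595), [(nat_lit 513), (nat_lit 234)]⟩, ⟨(nat_lit 2260), (nat_lit 6779), [(nat_lit 447), (nat_lit 1537)]⟩, ⟨(nat_lit 2263), (nat_lit 6783), [(nat_lit 538), (nat_lit 224)]⟩, ⟨(nat_lit 2264), (nat_lit 5156), [(nat_lit 423), (nat_lit 499)]⟩, ⟨(nat_lit 2267), (nat_lit 6775), [(nat_lit 193), (nat_lit 1203)]⟩, ⟨(nat_lit 2269), (nat_lit 6784), [(nat_lit 164), (nat_lit 585)]⟩, ⟨(nat_lit 2275), (nat_lit 4720), [(nat_lit 296), (nat_lit 190)]⟩, ⟨(nat_lit 2276), (nat_lit 4510), [(nat_lit 783), (nat_lit 1376)]⟩, ⟨(nat_lit 2278), (nat_lit 4654), [(nat_lit 913), (nat_lit 1216)]⟩, ⟨(nat_lit 2280), (nat_lit 6136), [(nat_lit 422), (nat_lit 294)]⟩, ⟨(nat_lit 2284), (nat_lit 6787), [(nat_lit 915), (nat_lit 529)]⟩, ⟨(nat_lit 2286), (nat_lit 6788), [(nat_lit 174), (nat_lit 124)]⟩, ⟨(nat_lit 2293), (nat_lit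 5365), [(nat_lit 174), (nat_lit 249)]⟩, ⟨(nat_lit 2295), (nat_lit 6622), [(nat_lit 508), (nat_lit 693)]⟩, ⟨(nat_lit 2297), (nat_lit 5884), [(nat_lit 840), (nat_lit 1216)]⟩, ⟨(nat_lit 2299), (nat_lit 5621), [(nat_lit 380), (nat_lit 379)]⟩, ⟨(nat_lit 2300), (nat_lit 4546), [(nat_lit 781), (nat_lit 878)]⟩, ⟨(nat_lit 2304), (nat_lit 4524), [(nat_lit 447), (nat_lit 202)]⟩, ⟨(nat_lit 2306), (nat_lit 6791), [(nat_lit 759), (nat_lit 253)]⟩, ⟨(nat_lit 2307), (nat_lit 6792), [(nat_lit 905), (nat_lit 486)]⟩, ⟨(nat_lit 2310), (nat_lit 6794), [(nat_lit 575), (nat_lit 287)]⟩, ⟨(nat_lit 2314), (nat_lit 6795), [(nat_lit 551), (nat_lit 606)]⟩, ⟨(nat_lit 2316), (nat_lit 6796), [(nat_lit 764), (nat_lit 1165)]⟩, ⟨(nat_lit 2322), (nat_lit 5508), [(nat_lit 502), (nat_lit 736)]⟩, ⟨(nat_lit 2324), (nat_lit 4884), [(nat_lit 151), (nat_lit 234)]⟩, ⟨(nat_lit 2327), (nat_lit 6797), [(nat_lit 941), (nat_lit 287)]⟩,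 ⟨(nat_lit 2328), (nat_lit 5652), [(nat_lit 1102), (nat_lit 368)]⟩, ⟨(nat_lit 2333), (nat_lit 6436), [(nat_lit 256), (nat_lit 490)]⟩])) (BT.leaf (.pt (nat_lit 5667) (nat_lit 4))))))) (BT.node (nat_lit 6808) (BT.node (nat_lit 6804) (BT.node (nat_lit 6802) (BT.node (nat_lit 6801) (BT.leaf (.pt (nat_lit 6799) (nat_lit 1))) (BT.leaf (.pt (nat_lit 6800) (nat_lit 3)))) (BT.node (nat_lit 6803) (BT.leaf (.pt (nat_lit 6801) (nat_lit 1))) (BT.leaf (.pt (nat_lit 6802) (nat_lit 4))))) (BT.node (nat_lit 6806) (BT.node (nat_lit 6805) (BT.leaf (.pt (nat_lit 6803) (nat_lit 1))) (BT.leaf (.pt (nat_lit 6784) (nat_lit 3)))) (BT.node (nat_lit 6807) (BT.leaf (.pt (nat_lit 5908) (nat_lit 3))) (BT.leaf (.pt (nat_lit 5452) (nat_lit 1)))))) (BT.node (nat_lit 6812) (BT.node (nat_lit 6810) (BT.node (nat_lit 6809) (BT.leaf (.pt (nat_lit 6807) (nat_lit 3))) (BT.leaf (.pt (nat_lit 5048) (nat_lit 4)))) (BT.node (nat_lit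 6811) (BT.leaf (.pt (nat_lit 5773) (nat_lit 3))) (BT.leaf (.pt (nat_lit 5839) (nat_lit 3))))) (BT.node (nat_lit 6814) (BT.node (nat_lit 6813) (BT.leaf (.pt (nat_lit 5783) (nat_lit 3))) (BT.leaf (.pt (nat_lit 6231) (nat_lit 1)))) (BT.node (nat_lit 6815) (BT.leaf (.pt (nat_lit 4631) (nat_lit 3))) (BT.leaf (.pt (nat_lit 6814) (nat_lit 1)))))))) (BT.node (nat_lit 6832) (BT.node (nat_lit 6824) (BT.node (nat_lit 6820) (BT.node (nat_lit 6818) (BT.node (nat_lit 6817) (BT.leaf (.pt (nat_lit 6815) (nat_lit 3))) (BT.leaf (.pt (nat_lit 6816) (nat_lit 1)))) (BT.node (nat_lit 6819) (BT.leaf (.pt (nat_lit 6817) (nat_lit 3))) (BT.leaf (.pt (nat_lit 6165) (nat_lit 1))))) (BT.node (nat_lit 6822) (BT.node (nat_lit 6821) (BT.leaf (.pt (nat_lit 6819) (nat_lit 4))) (BT.leaf (.pt (nat_lit 6820) (nat_lit 1)))) (BT.node (nat_lit 6823) (BT.leaf (.pt (nat_lit 6821) (nat_lit 4))) (BT.leaf (.pt (nat_lit 5278)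 (nat_lit 4)))))) (BT.node (nat_lit 6828) (BT.node (nat_lit 6826) (BT.node (nat_lit 6825) (BT.leaf (.cov [] [⟨(nat_lit 2335), (nat_lit 6804), [(nat_lit 523), (nat_lit 127)]⟩, ⟨(nat_lit 2336), (nat_lit 4712), [(nat_lit 349), (nat_lit 1192)]⟩, ⟨(nat_lit 2340), (nat_lit 6805), [(nat_lit 351), (nat_lit 694)]⟩, ⟨(nat_lit 2342), (nat_lit 5651), [(nat_lit 707), (nat_lit 985)]⟩, ⟨(nat_lit 2343), (nat_lit 4572), [(nat_lit 1032), (nat_lit 1375)]⟩, ⟨(nat_lit 2346), (nat_lit 6432), [(nat_lit 462), (nat_lit 252)]⟩, ⟨(nat_lit 2348), (nat_lit 6018), [(nat_lit 283), (nat_lit 191)]⟩, ⟨(nat_lit 2352), (nat_lit 5158), [(nat_lit 392), (nat_lit 459)]⟩, ⟨(nat_lit 2353), (nat_lit 6806), [(nat_lit 747), (nat_lit 596)]⟩, ⟨(nat_lit 2356), (nat_lit 6045), [(nat_lit 451), (nat_lit 580)]⟩, ⟨(nat_lit 2358), (nat_lit 5203), [(nat_lit 900), (nat_lit 395)]⟩, ⟨(nat_lit 2366), (nat_lit 6808), [(nat_lit 451), (nat_lit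 1009)]⟩, ⟨(nat_lit 2368), (nat_lit 4785), [(nat_lit 492), (nat_lit 605)]⟩, ⟨(nat_lit 2371), (nat_lit 6060), [(nat_lit 575), (nat_lit 985)]⟩, ⟨(nat_lit 2372), (nat_lit 6809), [(nat_lit 1173), (nat_lit 141)]⟩, ⟨(nat_lit 2375), (nat_lit 5169), [(nat_lit 129), (nat_lit 389)]⟩, ⟨(nat_lit 2378), (nat_lit 5089), [(nat_lit 391), (nat_lit 795)]⟩, ⟨(nat_lit 2381), (nat_lit 5770), [(nat_lit 1027), (nat_lit 204)]⟩, ⟨(nat_lit 2383), (nat_lit 5810), [(nat_lit 567), (nat_lit 270)]⟩, ⟨(nat_lit 2386), (nat_lit 5331), [(nat_lit 192), (nat_lit 877)]⟩, ⟨(nat_lit 2387), (nat_lit 6538), [(nat_lit 43), (nat_lit 864)]⟩, ⟨(nat_lit 2390), (nat_lit 5370), [(nat_lit 237), (nat_lit 778)]⟩, ⟨(nat_lit 2392), (nat_lit 6810), [(nat_lit 1126), (nat_lit 785)]⟩, ⟨(nat_lit 2396), (nat_lit 6811), [(nat_lit 786), (nat_lit 676)]⟩, ⟨(nat_lit 2398), (nat_lit 5355), [(nat_lit 174), (nat_lit 170)]⟩, ⟨(nat_lit 2400), (nat_lit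 5611), [(nat_lit 1026), (nat_lit 190)]⟩, ⟨(nat_lit 2401), (nat_lit 4856), [(nat_lit 629), (nat_lit 1133)]⟩, ⟨(nat_lit 2406), (nat_lit 6812), [(nat_lit 900), (nat_lit 399)]⟩, ⟨(nat_lit 2407), (nat_lit 6813), [(nat_lit 254), (nat_lit 1165)]⟩, ⟨(nat_lit 2412), (nat_lit 4957), [(nat_lit 462), (nat_lit 1204)]⟩, ⟨(nat_lit 2415), (nat_lit 5119), [(nat_lit 507), (nat_lit 440)]⟩, ⟨(nat_lit 2416), (nat_lit 4852), [(nat_lit 295), (nat_lit 1216)]⟩, ⟨(nat_lit 2418), (nat_lit 5888), [(nat_lit 786), (nat_lit 573)]⟩, ⟨(nat_lit 2423), (nat_lit 6818), [(nat_lit 467), (nat_lit 936)]⟩, ⟨(nat_lit 2424), (nat_lit 5227), [(nat_lit 832), (nat_lit 1018)]⟩, ⟨(nat_lit 2427), (nat_lit 4744), [(nat_lit 587), (nat_lit 395)]⟩, ⟨(nat_lit 2428), (nat_lit 6822), [(nat_lit 257), (nat_lit 532)]⟩, ⟨(nat_lit 2430), (nat_lit 5332), [(nat_lit 467), (nat_lit 1849)]⟩, ⟨(nat_lit 2433), (nat_lit 5668), [(nat_lit 1195), (nat_lit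 956)]⟩, ⟨(nat_lit 2435), (nat_lit 6823), [(nat_lit 281), (nat_lit 1583)]⟩])) (BT.leaf (.pt (nat_lit 6765) (nat_lit 1)))) (BT.node (nat_lit 6827) (BT.leaf (.pt (nat_lit 6657) (nat_lit 4))) (BT.leaf (.pt (nat_lit 6826) (nat_lit 1))))) (BT.node (nat_lit 6830) (BT.node (nat_lit 6829) (BT.leaf (.pt (nat_lit 6827) (nat_lit 3))) (BT.leaf (.pt (nat_lit 6828) (nat_lit 1)))) (BT.node (nat_lit 6831) (BT.leaf (.pt (nat_lit 6829) (nat_lit 4))) (BT.leaf (.pt (nat_lit 6830) (nat_lit 1))))))) (BT.node (nat_lit 6840) (BT.node (nat_lit 6836) (BT.node (nat_lit 6834) (BT.node (nat_lit 6833) (BT.leaf (.pt (nat_lit 6617) (nat_lit 4))) (BT.leaf (.pt (nat_lit 5108) (nat_lit 3)))) (BT.node (nat_lit 6835) (BT.leaf (.pt (nat_lit 6833) (nat_lit 1))) (BT.leaf (.pt (nat_lit 6834) (nat_lit 3))))) (BT.node (nat_lit 6838) (BT.node (nat_lit 6837) (BT.leaf (.pt (nat_lit 5593) (nat_lit 4))) (BT.leaf (.pt (nat_lit 6836)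 (nat_lit 1)))) (BT.node (nat_lit 6839) (BT.leaf (.pt (nat_lit 6837) (nat_lit 3))) (BT.leaf (.pt (nat_lit 6822) (nat_lit 1)))))) (BT.node (nat_lit 6844) (BT.node (nat_lit 6842) (BT.node (nat_lit 6841) (BT.leaf (.pt (nat_lit 4556) (nat_lit 4))) (BT.leaf (.pt (nat_lit 6840) (nat_lit 1)))) (BT.node (nat_lit 6843) (BT.leaf (.pt (nat_lit 6841) (nat_lit 4))) (BT.leaf (.pt (nat_lit 6528) (nat_lit 4))))) (BT.node (nat_lit 6846) (BT.node (nat_lit 6845) (BT.leaf (.pt (nat_lit 4862) (nat_lit 4))) (BT.leaf (.pt (nat_lit 6514) (nat_lit 1)))) (BT.node (nat_lit 6847) (BT.leaf (.pt (nat_lit 6845) (nat_lit 3))) (BT.leaf (.pt (nat_lit 6846) (nat_lit 1)))))))))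
noncomputable def cF6848 : BT Fc := (BT.node (nat_lit 6880) (BT.node (nat_lit 6864) (BT.node (nat_lit 6856) (BT.node (nat_lit 6852) (BT.node (nat_lit 6850) (BT.node (nat_lit 6849) (BT.leaf ⟨(nat_lit 4), (nat_lit 735), (nat_lit 0), (nat_lit 0x11dd021d1f1326a02104018092f6005), (nat_lit 0), (nat_lit 0)⟩) (BT.leaf ⟨(nat_lit 4), (nat_lit 579), (nat_lit 0), (nat_lit 0x4200c5e0012121f5c7b01895ceef85), (nat_lit 0), (nat_lit 0)⟩)) (BT.node (nat_lit 6851) (BT.leaf ⟨(nat_lit 4), (nat_lit 578), (nat_lit 0), (nat_lit 0xee51ceb9570af5cb5836d85697cf51), (nat_lit 0), (nat_lit 0)⟩) (BT.leaf ⟨(nat_lit 4), (nat_lit 734), (nat_lit 0), (nat_lit 0x1bbcee99587b69b2c0d56d87d6ea9d4), (nat_lit 0), (nat_lit 0)⟩))) (BT.node (nat_lit 6854) (BT.node (nat_lit 6853) (BT.leaf ⟨(nat_lit 4), (nat_lit 762), (nat_lit 0), (nat_lit 0x1f3ab66955d7ffa21b268c32d9af06), (nat_lit 0), (nat_lit 0)⟩) (BT.leaf ⟨(nat_lit 4), (nat_lit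 1230), (nat_lit 0), (nat_lit 0x8e5b198014107b869af11120042081), (nat_lit 0), (nat_lit 0)⟩)) (BT.node (nat_lit 6855) (BT.leaf ⟨(nat_lit 4), (nat_lit 999), (nat_lit 0), (nat_lit 0x49d0400c013d380c2b111095c84028), (nat_lit 0), (nat_lit 0)⟩) (BT.leaf ⟨(nat_lit 4), (nat_lit 1000), (nat_lit 0), (nat_lit 0xb31f1bc37c4b8cde77d94a8d9b1c6e), (nat_lit 0), (nat_lit 0)⟩)))) (BT.node (nat_lit 6860) (BT.node (nat_lit 6858) (BT.node (nat_lit 6857) (BT.leaf ⟨(nat_lit 4), (nat_lit 1231), (nat_lit 0), (nat_lit 0xf63a27c61961f3a166994ad1bb3747), (nat_lit 0), (nat_lit 0)⟩) (BT.leaf ⟨(nat_lit 4), (nat_lit 761), (nat_lit 0), (nat_lit 0x197e046b9a5f004f434680175700404), (nat_lit 0), (nat_lit 0)⟩)) (BT.node (nat_lit 6859) (BT.leaf ⟨(nat_lit 4), (nat_lit 606), (nat_lit 0), (nat_lit 0x1d18402000080088025f8012795c92f), (nat_lit 0), (nat_lit 0)⟩) (BT.leaf ⟨(nat_lit 4), (nat_lit 458), (nat_lit 0), (nat_lit 0x1d9bd6dc804908229bc353248011220),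 (nat_lit 0), (nat_lit 0)⟩))) (BT.node (nat_lit 6862) (BT.node (nat_lit 6861) (BT.leaf ⟨(nat_lit 4), (nat_lit 2196), (nat_lit 0), (nat_lit 0x4bdb86a2fb76c417b2f98f57297b96), (nat_lit 0), (nat_lit 0)⟩) (BT.leaf ⟨(nat_lit 4), (nat_lit 716), (nat_lit 0), (nat_lit 0x4fd97b9635f572d892d24e43c7d12e), (nat_lit 0), (nat_lit 0)⟩)) (BT.node (nat_lit 6863) (BT.leaf ⟨(nat_lit 4), (nat_lit 1407), (nat_lit 0), (nat_lit 0x5da4d4de6269aa4777dd82f624f49c), (nat_lit 0), (nat_lit 0)⟩) (BT.leaf ⟨(nat_lit 5), (nat_lit 7), (nat_lit 0), (nat_lit 0x800000000000000000000000000000000000000004000000000000080000020000000080000000000000000000000000000000000000000000000000000000000000000000000000000000000000000000000000000000000002000040000000000000010000000000080000000000000000000000000080000000000000000000000000000000000000000000000000000004000004000000000000000000000000000000000000000000000000000000014000000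00400001000000000000000000000000000000000000000000000000000000000000000040000000080002000000000000000010000000000000000000100000000004040000000000000000000000000000000000000000000000000000000000000000000008000000100000000000201000000000000000000000080000000000000000000000000000000000000020000000004000000000000000000000000000000000000000000000000000000000000000200040000000000100000100000000000000040000000020000000000000003000000000000000004000000000000000000000000000000000000000000000000000000000000000000800000000000000000000000000000000000000000000000), (nat_lit 0), (nat_lit 0)⟩))))) (BT.node (nat_lit 6872) (BT.node (nat_lit 6868) (BT.node (nat_lit 6866) (BT.node (nat_lit 6865) (BT.leaf ⟨(nat_lit 4), (nat_lit 2984), (nat_lit 0), (nat_lit 0x1080109f506114d4c82421e9ffb3060), (nat_lit 0), (nat_lit 0)⟩) (BT.leaf ⟨(nat_lit 4), (nat_lit 3290), (nat_lit 0), (nat_lit 0x4af0ae692de6bf5152f21e4bc7d13f),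 (nat_lit 0), (nat_lit 0)⟩)) (BT.node (nat_lit 6867) (BT.leaf ⟨(nat_lit 4), (nat_lit 3286), (nat_lit 0), (nat_lit 0x810f18b9480881042027ab63540546), (nat_lit 0), (nat_lit 0)⟩) (BT.leaf ⟨(nat_lit 4), (nat_lit 1927), (nat_lit 0), (nat_lit 0x17a40888125c01600ab800727df178c), (nat_lit 0), (nat_lit 0)⟩))) (BT.node (nat_lit 6870) (BT.node (nat_lit 6869) (BT.leaf ⟨(nat_lit 4), (nat_lit 675), (nat_lit 0), (nat_lit 0x118c48011f3b7e01805091c0480c3f3), (nat_lit 0), (nat_lit 0)⟩) (BT.leaf ⟨(nat_lit 4), (nat_lit 1953), (nat_lit 0), (nat_lit 0x8029d3007aa8067a210c00821201e3), (nat_lit 0), (nat_lit 0)⟩)) (BT.node (nat_lit 6871) (BT.leaf ⟨(nat_lit 4), (nat_lit 1434), (nat_lit 0), (nat_lit 0x1d9bd6ed40484825f5c8840a66298a0), (nat_lit 0), (nat_lit 0)⟩) (BT.leaf ⟨(nat_lit 4), (nat_lit 1784), (nat_lit 0), (nat_lit 0x7a20007390180200b468414bd7a404), (nat_lit 0), (nat_lit 0)⟩)))) (BT.node (nat_lit 6876)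 (BT.node (nat_lit 6874) (BT.node (nat_lit 6873) (BT.leaf ⟨(nat_lit 4), (nat_lit 2184), (nat_lit 0), (nat_lit 0x99637789e1a5e75168db1be77d6b13), (nat_lit 0), (nat_lit 0)⟩) (BT.leaf ⟨(nat_lit 4), (nat_lit 3715), (nat_lit 0), (nat_lit 0x15716666972d8549596f27edc09690f), (nat_lit 0), (nat_lit 0)⟩)) (BT.node (nat_lit 6875) (BT.leaf ⟨(nat_lit 4), (nat_lit 3240), (nat_lit 0), (nat_lit 0x3104088bc00212b80ae6449df5efc), (nat_lit 0), (nat_lit 0)⟩) (BT.leaf ⟨(nat_lit 4), (nat_lit 2894), (nat_lit 0), (nat_lit 0x1ce377cd939ce92c1f3ee658ebdd2d2), (nat_lit 0), (nat_lit 0)⟩))) (BT.node (nat_lit 6878) (BT.node (nat_lit 6877) (BT.leaf ⟨(nat_lit 4), (nat_lit 591), (nat_lit 0), (nat_lit 0x843ab5f8552050186e4e544fc28410), (nat_lit 0), (nat_lit 0)⟩) (BT.leaf ⟨(nat_lit 4), (nat_lit 2437), (nat_lit 0), (nat_lit 0x1bd81100a404aec8149ce88048031d7), (nat_lit 0), (nat_lit 0)⟩)) (BT.node (nat_lit 6879) (BT.leaf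 ⟨(nat_lit 4), (nat_lit 2778), (nat_lit 0), (nat_lit 0xf6065f42d27295571b2e89f1ba7546), (nat_lit 0), (nat_lit 0)⟩) (BT.leaf ⟨(nat_lit 4), (nat_lit 2434), (nat_lit 0), (nat_lit 0xb7b49c405e3c09022007ce12edea), (nat_lit 0), (nat_lit 0)⟩)))))) (BT.node (nat_lit 6896) (BT.node (nat_lit 6888) (BT.node (nat_lit 6884) (BT.node (nat_lit 6882) (BT.node (nat_lit 6881) (BT.leaf ⟨(nat_lit 4), (nat_lit 2626), (nat_lit 0), (nat_lit 0x197f006b9bab0117a33afc7101c6c10), (nat_lit 0), (nat_lit 0)⟩) (BT.leaf ⟨(nat_lit 4), (nat_lit 2211), (nat_lit 0), (nat_lit 0x1367c846e7e6f8df09bcfc6b8cad236), (nat_lit 0), (nat_lit 0)⟩)) (BT.node (nat_lit 6883) (BT.leaf ⟨(nat_lit 4), (nat_lit 2210), (nat_lit 0), (nat_lit 0x1c6ae46d406108010cbe532088107ad), (nat_lit 0), (nat_lit 0)⟩) (BT.leaf ⟨(nat_lit 5), (nat_lit 7), (nat_lit 0), (nat_lit 0x1000000000000800000800000000400000000000000000020000000000000000000000000000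00000000000040000000000000000000000000000000200000400400000000000000000000000000000800000000000000000001000000000000000000000000000000000080000000004000000040000000000000000000040000000000000010000000000000000000000000001000000000000080000000000000010000000000000400000000000000000000000000000000000000000000000020000004000001000000000000000000000000000000000000008000000000000000000200000080000000000000000000000000000000000000000800000000000000000000000200000000000000000000000000000000000000000000000000020100000000000000000000000000000000000000000000000000000000000000000000000000000000000000000000000000000000001000000000000000000000000000000000000000000000000000000000000000000000004000000000000008000000000000000000008000000000000000000000000000000000000000200000810000000000800000000000000010000000000000000000000000000000000000000000000000800000000000000000000000), (nat_lit 0), (nat_lit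 0)⟩))) (BT.node (nat_lit 6886) (BT.node (nat_lit 6885) (BT.leaf ⟨(nat_lit 4), (nat_lit 908), (nat_lit 0), (nat_lit 0x2104841ef8deeb86a396c66bd6f980), (nat_lit 0), (nat_lit 0)⟩) (BT.leaf ⟨(nat_lit 4), (nat_lit 1511), (nat_lit 0), (nat_lit 0xa0050155472602798821035a386fc6), (nat_lit 0), (nat_lit 0)⟩)) (BT.node (nat_lit 6887) (BT.leaf ⟨(nat_lit 4), (nat_lit 2592), (nat_lit 0), (nat_lit 0xf9e8bcd9c16f0dd19bc46cfacf1ca5), (nat_lit 0), (nat_lit 0)⟩) (BT.leaf ⟨(nat_lit 4), (nat_lit 1524), (nat_lit 0), (nat_lit 0x152dc04bd811095a0400dcf88249a), (nat_lit 0), (nat_lit 0)⟩)))) (BT.node (nat_lit 6892) (BT.node (nat_lit 6890) (BT.node (nat_lit 6889) (BT.leaf ⟨(nat_lit 4), (nat_lit 1523), (nat_lit 0), (nat_lit 0x11c943c7b3371c631c53ae757219873), (nat_lit 0), (nat_lit 0)⟩) (BT.leaf ⟨(nat_lit 4), (nat_lit 1862), (nat_lit 0), (nat_lit 0x48082140a00c02cf101ae6ee4844e8), (nat_lit 0), (nat_lit 0)⟩)) (BT.node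 (nat_lit 6891) (BT.leaf ⟨(nat_lit 4), (nat_lit 2294), (nat_lit 0), (nat_lit 0x1b537a31c5e9bf226ef69e86c943ee4), (nat_lit 0), (nat_lit 0)⟩) (BT.leaf ⟨(nat_lit 4), (nat_lit 2684), (nat_lit 0), (nat_lit 0x80940673420f55202209e8cbff4600), (nat_lit 0), (nat_lit 0)⟩))) (BT.node (nat_lit 6894) (BT.node (nat_lit 6893) (BT.leaf ⟨(nat_lit 4), (nat_lit 1908), (nat_lit 0), (nat_lit 0x4b4b7acc27e4ac93b2fc2adc07d7db), (nat_lit 0), (nat_lit 0)⟩) (BT.leaf ⟨(nat_lit 4), (nat_lit 2837), (nat_lit 0), (nat_lit 0x75f7b0125772700512dbd408bc7802), (nat_lit 0), (nat_lit 0)⟩)) (BT.node (nat_lit 6895) (BT.leaf ⟨(nat_lit 4), (nat_lit 2037), (nat_lit 0), (nat_lit 0x1571ff4538e75cda4c7b66b18e38da6), (nat_lit 0), (nat_lit 0)⟩) (BT.leaf ⟨(nat_lit 4), (nat_lit 2329), (nat_lit 0), (nat_lit 0x1d3957744d27f19ec66966bd0bb3746), (nat_lit 0), (nat_lit 0)⟩))))) (BT.node (nat_lit 6904) (BT.node (nat_lit 6900) (BT.node (nat_lit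 6898) (BT.node (nat_lit 6897) (BT.leaf ⟨(nat_lit 4), (nat_lit 2330), (nat_lit 0), (nat_lit 0x1e169a78dcb1eb7c4e8de1bf35ff0b7), (nat_lit 0), (nat_lit 0)⟩) (BT.leaf ⟨(nat_lit 4), (nat_lit 2000), (nat_lit 0), (nat_lit 0x602404f3f74a0041088e1a24040155), (nat_lit 0), (nat_lit 0)⟩)) (BT.node (nat_lit 6899) (BT.leaf ⟨(nat_lit 4), (nat_lit 1675), (nat_lit 0), (nat_lit 0x1fd255ef039c5e77ad17de9bda7a287), (nat_lit 0), (nat_lit 0)⟩) (BT.leaf ⟨(nat_lit 4), (nat_lit 655), (nat_lit 0), (nat_lit 0x1cf90204493496c95c04109bc0e8c77), (nat_lit 0), (nat_lit 0)⟩))) (BT.node (nat_lit 6902) (BT.node (nat_lit 6901) (BT.leaf ⟨(nat_lit 4), (nat_lit 818), (nat_lit 0), (nat_lit 0x18ea74102b3c601719001aa0bdaf940), (nat_lit 0), (nat_lit 0)⟩) (BT.leaf ⟨(nat_lit 4), (nat_lit 3121), (nat_lit 0), (nat_lit 0x17b12df3e048410062048ef26b78004), (nat_lit 0), (nat_lit 0)⟩)) (BT.node (nat_lit 6903) (BT.leaf ⟨(nat_lit 4),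 (nat_lit 3357), (nat_lit 0), (nat_lit 0x19ceae2878e71ca7999b8eecd5a4c53), (nat_lit 0), (nat_lit 0)⟩) (BT.leaf ⟨(nat_lit 4), (nat_lit 3566), (nat_lit 0), (nat_lit 0x1635c6f85f1be269a65816fc37c6179), (nat_lit 0), (nat_lit 0)⟩)))) (BT.node (nat_lit 6908) (BT.node (nat_lit 6906) (BT.node (nat_lit 6905) (BT.leaf ⟨(nat_lit 4), (nat_lit 931), (nat_lit 0), (nat_lit 0x900208482df0cd0fc4032a503bd050), (nat_lit 0), (nat_lit 0)⟩) (BT.leaf ⟨(nat_lit 4), (nat_lit 1172), (nat_lit 0), (nat_lit 0x17561eeef38a75ce8bd532b960ee8fa), (nat_lit 0), (nat_lit 0)⟩)) (BT.node (nat_lit 6907) (BT.leaf ⟨(nat_lit 4), (nat_lit 3481), (nat_lit 0), (nat_lit 0x1edd695f82ec9958e5eab515a305cc7), (nat_lit 0), (nat_lit 0)⟩) (BT.leaf ⟨(nat_lit 4), (nat_lit 3570), (nat_lit 0), (nat_lit 0x108a03a32de1038321fb50be4284de), (nat_lit 0), (nat_lit 0)⟩))) (BT.node (nat_lit 6910) (BT.node (nat_lit 6909) (BT.leaf ⟨(nat_lit 4), (nat_lit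 1941), (nat_lit 0), (nat_lit 0x5e77b721365ad33a6f4dc9bf226ff4), (nat_lit 0), (nat_lit 0)⟩) (BT.leaf ⟨(nat_lit 4), (nat_lit 2405), (nat_lit 0), (nat_lit 0xffb39d5c66b18e3be2cd953ce19da6), (nat_lit 0), (nat_lit 0)⟩)) (BT.node (nat_lit 6911) (BT.leaf ⟨(nat_lit 4), (nat_lit 3594), (nat_lit 0), (nat_lit 0xa1104538412f81127fb91d9b8d1f5), (nat_lit 0), (nat_lit 0)⟩) (BT.leaf ⟨(nat_lit 4), (nat_lit 3346), (nat_lit 0), (nat_lit 0x11ef7e00a5622202400c8107764b009), (nat_lit 0), (nat_lit 0)⟩)))))))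
noncomputable def cP6848 : BT Pf := (BT.node (nat_lit 6880) (BT.node (nat_lit 6864) (BT.node (nat_lit 6856) (BT.node (nat_lit 6852) (BT.node (nat_lit 6850) (BT.node (nat_lit 6849) (BT.leaf (.pt (nat_lit 6847) (nat_lit 3))) (BT.leaf (.pt (nat_lit 6848) (nat_lit 1)))) (BT.node (nat_lit 6851) (BT.leaf (.pt (nat_lit 6849) (nat_lit 4))) (BT.leaf (.pt (nat_lit 6850) (nat_lit 1))))) (BT.node (nat_lit 6854) (BT.node (nat_lit 6853) (BT.leaf (.pt (nat_lit 6851) (nat_lit 4))) (BT.leaf (.pt (nat_lit 4847) (nat_lit 3)))) (BT.node (nat_lit 6855) (BT.leaf (.pt (nat_lit 6853) (nat_lit 1))) (BT.leaf (.pt (nat_lit 6854) (nat_lit 3)))))) (BT.node (nat_lit 6860) (BT.node (nat_lit 6858) (BT.node (nat_lit 6857) (BT.leaf (.pt (nat_lit 6855) (nat_lit 1))) (BT.leaf (.pt (nat_lit 5938) (nat_lit 3)))) (BT.node (nat_lit 6859) (BT.leaf (.pt (nat_lit 6857) (nat_lit 1))) (BT.leaf (.pt (nat_lit 6858) (nat_lit 4)))))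 (BT.node (nat_lit 6862) (BT.node (nat_lit 6861) (BT.leaf (.pt (nat_lit 6116) (nat_lit 3))) (BT.leaf (.pt (nat_lit 5703) (nat_lit 3)))) (BT.node (nat_lit 6863) (BT.leaf (.pt (nat_lit 6591) (nat_lit 4))) (BT.leaf (.cov [] [⟨(nat_lit 2438), (nat_lit 5889), [(nat_lit 914), (nat_lit 500)]⟩, ⟨(nat_lit 2440), (nat_lit 6825), [(nat_lit 441), (nat_lit 581)]⟩, ⟨(nat_lit 2442), (nat_lit 6831), [(nat_lit 1027), (nat_lit 557)]⟩, ⟨(nat_lit 2445), (nat_lit 6832), [(nat_lit 273), (nat_lit 892)]⟩, ⟨(nat_lit 2447), (nat_lit 4892), [(nat_lit 429), (nat_lit 1503)]⟩, ⟨(nat_lit 2449), (nat_lit 5859), [(nat_lit 259), (nat_lit 334)]⟩, ⟨(nat_lit 2452), (nat_lit 6835), [(nat_lit 470), (nat_lit 693)]⟩, ⟨(nat_lit 2453), (nat_lit 6300), [(nat_lit 19), (nat_lit 330)]⟩, ⟨(nat_lit 2455), (nat_lit 6838), [(nat_lit 582), (nat_lit 497)]⟩, ⟨(nat_lit 2457), (nat_lit 5434), [(nat_lit 1102), (nat_lit 593)]⟩, ⟨(nat_lit 2460),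 (nat_lit 4959), [(nat_lit 295), (nat_lit 248)]⟩, ⟨(nat_lit 2464), (nat_lit 5783), [(nat_lit 945), (nat_lit 738)]⟩, ⟨(nat_lit 2468), (nat_lit 6306), [(nat_lit 746), (nat_lit 1605)]⟩, ⟨(nat_lit 2473), (nat_lit 5660), [(nat_lit 673), (nat_lit 426)]⟩, ⟨(nat_lit 2475), (nat_lit 5753), [(nat_lit 259), (nat_lit 190)]⟩, ⟨(nat_lit 2478), (nat_lit 6839), [(nat_lit 829), (nat_lit 90)]⟩, ⟨(nat_lit 2481), (nat_lit 6842), [(nat_lit 392), (nat_lit 627)]⟩, ⟨(nat_lit 2483), (nat_lit 4662), [(nat_lit 473), (nat_lit 694)]⟩, ⟨(nat_lit 2485), (nat_lit 6059), [(nat_lit 551), (nat_lit 191)]⟩, ⟨(nat_lit 2488), (nat_lit 5059), [(nat_lit 43), (nat_lit 969)]⟩, ⟨(nat_lit 2490), (nat_lit 6843), [(nat_lit 151), (nat_lit 171)]⟩, ⟨(nat_lit 2492), (nat_lit 6340), [(nat_lit 941), (nat_lit 222)]⟩, ⟨(nat_lit 2494), (nat_lit 6844), [(nat_lit 510), (nat_lit 224)]⟩, ⟨(nat_lit 2500), (nat_lit 5509), [(nat_lit 900), (nat_lit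 681)]⟩, ⟨(nat_lit 2507), (nat_lit 5058), [(nat_lit 151), (nat_lit 396)]⟩, ⟨(nat_lit 2510), (nat_lit 5780), [(nat_lit 394), (nat_lit 139)]⟩, ⟨(nat_lit 2519), (nat_lit 6852), [(nat_lit 197), (nat_lit 597)]⟩, ⟨(nat_lit 2520), (nat_lit 6469), [(nat_lit 257), (nat_lit 110)]⟩, ⟨(nat_lit 2523), (nat_lit 6856), [(nat_lit 900), (nat_lit 1410)]⟩, ⟨(nat_lit 2529), (nat_lit 6859), [(nat_lit 764), (nat_lit 813)]⟩, ⟨(nat_lit 2531), (nat_lit 5489), [(nat_lit 900), (nat_lit 1017)]⟩, ⟨(nat_lit 2534), (nat_lit 4995), [(nat_lit 394), (nat_lit 465)]⟩, ⟨(nat_lit 2539), (nat_lit 6431), [(nat_lit 92), (nat_lit 1001)]⟩, ⟨(nat_lit 2542), (nat_lit 6860), [(nat_lit 240), (nat_lit 802)]⟩, ⟨(nat_lit 2546), (nat_lit 5267), [(nat_lit 569), (nat_lit 290)]⟩, ⟨(nat_lit 2548), (nat_lit 6861), [(nat_lit 689), (nat_lit 752)]⟩, ⟨(nat_lit 2551), (nat_lit 6569), [(nat_lit 1242), (nat_lit 124)]⟩, ⟨(nat_lit 2552), (nat_lit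 5157), [(nat_lit 450), (nat_lit 269)]⟩, ⟨(nat_lit 2554), (nat_lit 5334), [(nat_lit 239), (nat_lit 1348)]⟩, ⟨(nat_lit 2558), (nat_lit 6862), [(nat_lit 513), (nat_lit 563)]⟩])))))) (BT.node (nat_lit 6872) (BT.node (nat_lit 6868) (BT.node (nat_lit 6866) (BT.node (nat_lit 6865) (BT.leaf (.pt (nat_lit 6087) (nat_lit 4))) (BT.leaf (.pt (nat_lit 6864) (nat_lit 1)))) (BT.node (nat_lit 6867) (BT.leaf (.pt (nat_lit 6865) (nat_lit 4))) (BT.leaf (.pt (nat_lit 5514) (nat_lit 3))))) (BT.node (nat_lit 6870) (BT.node (nat_lit 6869) (BT.leaf (.pt (nat_lit 6847) (nat_lit 4))) (BT.leaf (.pt (nat_lit 5131) (nat_lit 4)))) (BT.node (nat_lit 6871) (BT.leaf (.pt (nat_lit 6505) (nat_lit 4))) (BT.leaf (.pt (nat_lit 6870) (nat_lit 1)))))) (BT.node (nat_lit 6876) (BT.node (nat_lit 6874) (BT.node (nat_lit 6873) (BT.leaf (.pt (nat_lit 6871) (nat_lit 3))) (BT.leaf (.pt (nat_lit 5543) (nat_lit 3)))) (BT.node (nat_lit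 6875) (BT.leaf (.pt (nat_lit 6190) (nat_lit 3))) (BT.leaf (.pt (nat_lit 6874) (nat_lit 1))))) (BT.node (nat_lit 6878) (BT.node (nat_lit 6877) (BT.leaf (.pt (nat_lit 6763) (nat_lit 1))) (BT.leaf (.pt (nat_lit 5428) (nat_lit 3)))) (BT.node (nat_lit 6879) (BT.leaf (.pt (nat_lit 6877) (nat_lit 1))) (BT.leaf (.pt (nat_lit 5387) (nat_lit 3)))))))) (BT.node (nat_lit 6896) (BT.node (nat_lit 6888) (BT.node (nat_lit 6884) (BT.node (nat_lit 6882) (BT.node (nat_lit 6881) (BT.leaf (.pt (nat_lit 5897) (nat_lit 3))) (BT.leaf (.pt (nat_lit 6880) (nat_lit 1)))) (BT.node (nat_lit 6883) (BT.leaf (.pt (nat_lit 6881) (nat_lit 4))) (BT.leaf (.cov [] [⟨(nat_lit 2561), (nat_lit 6851), [(nat_lit 256), (nat_lit 426)]⟩, ⟨(nat_lit 2563), (nat_lit 5281), [(nat_lit 1600), (nat_lit 449)]⟩, ⟨(nat_lit 2565), (nat_lit 5637), [(nat_lit 222)]⟩, ⟨(nat_lit 2567), (nat_lit 6105), [(nat_lit 618), (nat_lit 1043)]⟩, ⟨(nat_lit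 2571), (nat_lit 5141), [(nat_lit 271), (nat_lit 398)]⟩, ⟨(nat_lit 2573), (nat_lit 5097), [(nat_lit 1041), (nat_lit 512)]⟩, ⟨(nat_lit 2576), (nat_lit 6628), [(nat_lit 474), (nat_lit 580)]⟩, ⟨(nat_lit 2578), (nat_lit 5358), [(nat_lit 570), (nat_lit 1088)]⟩, ⟨(nat_lit 2580), (nat_lit 5584), [(nat_lit 43), (nat_lit 472)]⟩, ⟨(nat_lit 2583), (nat_lit 6866), [(nat_lit 746), (nat_lit 307)]⟩, ⟨(nat_lit 2585), (nat_lit 4867), [(nat_lit 422), (nat_lit 530)]⟩, ⟨(nat_lit 2589), (nat_lit 5975), [(nat_lit 422), (nat_lit 289)]⟩, ⟨(nat_lit 2592), (nat_lit 6302), [(nat_lit 387), (nat_lit 682)]⟩, ⟨(nat_lit 2593), (nat_lit 6867), [(nat_lit 446), (nat_lit 475)]⟩, ⟨(nat_lit 2598), (nat_lit 6868), [(nat_lit 826), (nat_lit 1165)]⟩, ⟨(nat_lit 2603), (nat_lit 6399), [(nat_lit 469), (nat_lit 593)]⟩, ⟨(nat_lit 2605), (nat_lit 6833), [(nat_lit 174), (nat_lit 248)]⟩, ⟨(nat_lit 2606), (nat_lit 6869), [(nat_lit 1175),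 (nat_lit 835)]⟩, ⟨(nat_lit 2608), (nat_lit 6053), [(nat_lit 1162), (nat_lit 426)]⟩, ⟨(nat_lit 2611), (nat_lit 4780), [(nat_lit 226), (nat_lit 646)]⟩, ⟨(nat_lit 2612), (nat_lit 6872), [(nat_lit 300), (nat_lit 1100)]⟩, ⟨(nat_lit 2617), (nat_lit 6873), [(nat_lit 915), (nat_lit 822)]⟩, ⟨(nat_lit 2618), (nat_lit 6875), [(nat_lit 673), (nat_lit 472)]⟩, ⟨(nat_lit 2620), (nat_lit 4729), [(nat_lit 1175), (nat_lit 580)]⟩, ⟨(nat_lit 2622), (nat_lit 4917), [(nat_lit 447), (nat_lit 1021)]⟩, ⟨(nat_lit 2625), (nat_lit 5722), [(nat_lit 914), (nat_lit 968)]⟩, ⟨(nat_lit 2627), (nat_lit 4602), [(nat_lit 913), (nat_lit 1165)]⟩, ⟨(nat_lit 2633), (nat_lit 6876), [(nat_lit 1126), (nat_lit 597)]⟩, ⟨(nat_lit 2641), (nat_lit 4571), [(nat_lit 271), (nat_lit 1018)]⟩, ⟨(nat_lit 2644), (nat_lit 6878), [(nat_lit 784), (nat_lit 440)]⟩, ⟨(nat_lit 2646), (nat_lit 6705), [(nat_lit 406), (nat_lit 1478)]⟩, ⟨(nat_lit 2647),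 (nat_lit 5374), [(nat_lit 761), (nat_lit 204)]⟩, ⟨(nat_lit 2650), (nat_lit 6879), [(nat_lit 256), (nat_lit 1410)]⟩, ⟨(nat_lit 2652), (nat_lit 6579), [(nat_lit 521), (nat_lit 224)]⟩, ⟨(nat_lit 2653), (nat_lit 4636), [(nat_lit 273), (nat_lit 333)]⟩, ⟨(nat_lit 2658), (nat_lit 5979), [(nat_lit 387), (nat_lit 328)]⟩, ⟨(nat_lit 2661), (nat_lit 5545), [(nat_lit 433), (nat_lit 465)]⟩, ⟨(nat_lit 2663), (nat_lit 6882), [(nat_lit 350), (nat_lit 652)]⟩, ⟨(nat_lit 2670), (nat_lit 4764), [(nat_lit 349), (nat_lit 625)]⟩, ⟨(nat_lit 2672), (nat_lit 5521), [(nat_lit 348), (nat_lit 110)]⟩])))) (BT.node (nat_lit 6886) (BT.node (nat_lit 6885) (BT.leaf (.pt (nat_lit 6733) (nat_lit 1))) (BT.leaf (.pt (nat_lit 6376) (nat_lit 4)))) (BT.node (nat_lit 6887) (BT.leaf (.pt (nat_lit 5779) (nat_lit 3))) (BT.leaf (.pt (nat_lit 6181) (nat_lit 1)))))) (BT.node (nat_lit 6892) (BT.node (nat_lit 6890) (BT.node (nat_lit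 6889) (BT.leaf (.pt (nat_lit 6887) (nat_lit 4))) (BT.leaf (.pt (nat_lit 6888) (nat_lit 1)))) (BT.node (nat_lit 6891) (BT.leaf (.pt (nat_lit 6889) (nat_lit 3))) (BT.leaf (.pt (nat_lit 6890) (nat_lit 1))))) (BT.node (nat_lit 6894) (BT.node (nat_lit 6893) (BT.leaf (.pt (nat_lit 5413) (nat_lit 4))) (BT.leaf (.pt (nat_lit 6711) (nat_lit 4)))) (BT.node (nat_lit 6895) (BT.leaf (.pt (nat_lit 4720) (nat_lit 4))) (BT.leaf (.pt (nat_lit 6894) (nat_lit 1))))))) (BT.node (nat_lit 6904) (BT.node (nat_lit 6900) (BT.node (nat_lit 6898) (BT.node (nat_lit 6897) (BT.leaf (.pt (nat_lit 6895) (nat_lit 3))) (BT.leaf (.pt (nat_lit 6896) (nat_lit 1)))) (BT.node (nat_lit 6899) (BT.leaf (.pt (nat_lit 6897) (nat_lit 4))) (BT.leaf (.pt (nat_lit 6288) (nat_lit 1))))) (BT.node (nat_lit 6902) (BT.node (nat_lit 6901) (BT.leaf (.pt (nat_lit 6899) (nat_lit 4))) (BT.leaf (.pt (nat_lit 6380) (nat_lit 3)))) (BT.node (nat_lit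 6903) (BT.leaf (.pt (nat_lit 6901) (nat_lit 1))) (BT.leaf (.pt (nat_lit 6902) (nat_lit 4)))))) (BT.node (nat_lit 6908) (BT.node (nat_lit 6906) (BT.node (nat_lit 6905) (BT.leaf (.pt (nat_lit 6132) (nat_lit 4))) (BT.leaf (.pt (nat_lit 6904) (nat_lit 1)))) (BT.node (nat_lit 6907) (BT.leaf (.pt (nat_lit 6394) (nat_lit 4))) (BT.leaf (.pt (nat_lit 6906) (nat_lit 1))))) (BT.node (nat_lit 6910) (BT.node (nat_lit 6909) (BT.leaf (.pt (nat_lit 5627) (nat_lit 1))) (BT.leaf (.pt (nat_lit 6908) (nat_lit 4)))) (BT.node (nat_lit 6911) (BT.leaf (.pt (nat_lit 6567) (nat_lit 3))) (BT.leaf (.pt (nat_lit 5431) (nat_lit 3)))))))))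
noncomputable def cF6912 : BT Fc := (BT.node (nat_lit 6944) (BT.node (nat_lit 6928) (BT.node (nat_lit 6920) (BT.node (nat_lit 6916) (BT.node (nat_lit 6914) (BT.node (nat_lit 6913) (BT.leaf ⟨(nat_lit 4), (nat_lit 3090), (nat_lit 0), (nat_lit 0x10128009e8034bff1873810cea016b9), (nat_lit 0), (nat_lit 0)⟩) (BT.leaf ⟨(nat_lit 4), (nat_lit 1466), (nat_lit 0), (nat_lit 0x1007a392e022027c647200608420a5e), (nat_lit 0), (nat_lit 0)⟩)) (BT.node (nat_lit 6915) (BT.leaf ⟨(nat_lit 4), (nat_lit 1547), (nat_lit 0), (nat_lit 0x1f372c0b7f12ff9c6f8cf1b63532dd2), (nat_lit 0), (nat_lit 0)⟩) (BT.leaf ⟨(nat_lit 4), (nat_lit 1197), (nat_lit 0), (nat_lit 0x1e34086f420001000a5fe8c4bc01400), (nat_lit 0), (nat_lit 0)⟩))) (BT.node (nat_lit 6918) (BT.node (nat_lit 6917) (BT.leaf ⟨(nat_lit 4), (nat_lit 960), (nat_lit 0), (nat_lit 0x1465ec74468cabbe30cbe8dd98d9646), (nat_lit 0), (nat_lit 0)⟩) (BT.leaf ⟨(nat_lit 4),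 (nat_lit 961), (nat_lit 0), (nat_lit 0x93ce2910821b9018014bf0fcc08011), (nat_lit 0), (nat_lit 0)⟩)) (BT.node (nat_lit 6919) (BT.leaf ⟨(nat_lit 4), (nat_lit 1198), (nat_lit 0), (nat_lit 0x17b1695e8bd3d46f57b7bf131e741e8), (nat_lit 0), (nat_lit 0)⟩) (BT.leaf ⟨(nat_lit 4), (nat_lit 1506), (nat_lit 0), (nat_lit 0x11de3dc538e518f39c33ae71c765473), (nat_lit 0), (nat_lit 0)⟩)))) (BT.node (nat_lit 6924) (BT.node (nat_lit 6922) (BT.node (nat_lit 6921) (BT.leaf ⟨(nat_lit 5), (nat_lit 7), (nat_lit 0), (nat_lit 0x10000004000004400000000000000000000000000000000000002000000000000000000000800000000000000000040020000000000000000000000000000200020004000000000000000000000000000000000000000000000000000000800000002000000000000000000000000000000000000010000000000000000000000100000000000000000000000000000008008000000000002000000000000000000000000000000000000000000000000000040000000000000000000000000000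0000000000200000000000001000000000000000001000000000000000000000000000000000000000000000000000000000080000000000000000000000000000000800000000840000000004000000000008000000000000000000000000000000004000000000000000000000000000100000000000020000000000000000200000000000000000000000000000002000100000000000000000000004000000020400000000000100000000000000000000000000000000000000010000000000000000000000000000000000000000000000000000000000000000000000000000000000000000000000000000000000000002000000000000000000000000000000), (nat_lit 0), (nat_lit 0)⟩) (BT.leaf ⟨(nat_lit 4), (nat_lit 1333), (nat_lit 0), (nat_lit 0x1d1b34f477b01f3e334666b297a7546), (nat_lit 0), (nat_lit 0)⟩)) (BT.node (nat_lit 6923) (BT.leaf ⟨(nat_lit 4), (nat_lit 3013), (nat_lit 0), (nat_lit 0x4154c6338a1439509027f239085f8), (nat_lit 0), (nat_lit 0)⟩) (BT.leaf ⟨(nat_lit 4), (nat_lit 3310), (nat_lit 0), (nat_lit 0x6bc17b2f98e49e9792f27e43eae0fa),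 (nat_lit 0), (nat_lit 0)⟩))) (BT.node (nat_lit 6926) (BT.node (nat_lit 6925) (BT.leaf ⟨(nat_lit 4), (nat_lit 3528), (nat_lit 0), (nat_lit 0xd8df14d9c16fce37517f21f8df59e3), (nat_lit 0), (nat_lit 0)⟩) (BT.leaf ⟨(nat_lit 4), (nat_lit 3496), (nat_lit 0), (nat_lit 0xa1eae47bce71ced34f3f203b5a499b), (nat_lit 0), (nat_lit 0)⟩)) (BT.node (nat_lit 6927) (BT.leaf ⟨(nat_lit 4), (nat_lit 3786), (nat_lit 0), (nat_lit 0x141f9f9d91c046080300297e009463), (nat_lit 0), (nat_lit 0)⟩) (BT.leaf ⟨(nat_lit 4), (nat_lit 3756), (nat_lit 0), (nat_lit 0x91020068efbc15e84402896fc4c9a), (nat_lit 0), (nat_lit 0)⟩))))) (BT.node (nat_lit 6936) (BT.node (nat_lit 6932) (BT.node (nat_lit 6930) (BT.node (nat_lit 6929) (BT.leaf ⟨(nat_lit 4), (nat_lit 477), (nat_lit 0), (nat_lit 0x6bc443635019d2400841025556f980), (nat_lit 0), (nat_lit 0)⟩) (BT.leaf ⟨(nat_lit 4), (nat_lit 705), (nat_lit 0), (nat_lit 0xee57ce27a688e55daa9533ae55e8b9),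 (nat_lit 0), (nat_lit 0)⟩)) (BT.node (nat_lit 6931) (BT.leaf ⟨(nat_lit 4), (nat_lit 546), (nat_lit 0), (nat_lit 0xc0108244409ff8d120533b525f7ad), (nat_lit 0), (nat_lit 0)⟩) (BT.leaf ⟨(nat_lit 4), (nat_lit 422), (nat_lit 0), (nat_lit 0x140b7fcd48137b5a0c043e6557c842), (nat_lit 0), (nat_lit 0)⟩))) (BT.node (nat_lit 6934) (BT.node (nat_lit 6933) (BT.leaf ⟨(nat_lit 4), (nat_lit 317), (nat_lit 0), (nat_lit 0xb7d2b8e64ba97d2da4f43f97ee905f), (nat_lit 0), (nat_lit 0)⟩) (BT.leaf ⟨(nat_lit 4), (nat_lit 237), (nat_lit 0), (nat_lit 0x6bc9732f25ba8a97db125f570b7fdb), (nat_lit 0), (nat_lit 0)⟩)) (BT.node (nat_lit 6935) (BT.leaf ⟨(nat_lit 4), (nat_lit 1858), (nat_lit 0), (nat_lit 0x10f4cada6baadb0ebd4b3a9961ea9dd), (nat_lit 0), (nat_lit 0)⟩) (BT.leaf ⟨(nat_lit 4), (nat_lit 255), (nat_lit 0), (nat_lit 0x151900d3ad3c82339b00173637f43d5), (nat_lit 0), (nat_lit 0)⟩)))) (BT.node (nat_lit 6940) (BT.node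 (nat_lit 6938) (BT.node (nat_lit 6937) (BT.leaf ⟨(nat_lit 4), (nat_lit 975), (nat_lit 0), (nat_lit 0x66e31e2c8671edff6ca0e71dd9af90), (nat_lit 0), (nat_lit 0)⟩) (BT.leaf ⟨(nat_lit 4), (nat_lit 1210), (nat_lit 0), (nat_lit 0x1ae680346fc72019d1e80e78032fc40), (nat_lit 0), (nat_lit 0)⟩)) (BT.node (nat_lit 6939) (BT.leaf ⟨(nat_lit 4), (nat_lit 1475), (nat_lit 0), (nat_lit 0x20480de9e8e0260092e57000e391d4), (nat_lit 0), (nat_lit 0)⟩) (BT.leaf ⟨(nat_lit 4), (nat_lit 1820), (nat_lit 0), (nat_lit 0xe5a26eca6d85687323957160fa8dff), (nat_lit 0), (nat_lit 0)⟩))) (BT.node (nat_lit 6942) (BT.node (nat_lit 6941) (BT.leaf ⟨(nat_lit 4), (nat_lit 1830), (nat_lit 0), (nat_lit 0xbc806461ab3a31d1085c6c0080d00), (nat_lit 0), (nat_lit 0)⟩) (BT.leaf ⟨(nat_lit 4), (nat_lit 1899), (nat_lit 0), (nat_lit 0x557779957abc84ea0d587a7172c1d7), (nat_lit 0), (nat_lit 0)⟩)) (BT.node (nat_lit 6943) (BT.leaf ⟨(nat_lit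 4), (nat_lit 1232), (nat_lit 0), (nat_lit 0x108090030da8180125c81407d7b3299), (nat_lit 0), (nat_lit 0)⟩) (BT.leaf ⟨(nat_lit 4), (nat_lit 1304), (nat_lit 0), (nat_lit 0xc72f47e82ec66e1ede9b916a0f45ea), (nat_lit 0), (nat_lit 0)⟩)))))) (BT.node (nat_lit 6960) (BT.node (nat_lit 6952) (BT.node (nat_lit 6948) (BT.node (nat_lit 6946) (BT.node (nat_lit 6945) (BT.leaf ⟨(nat_lit 4), (nat_lit 1584), (nat_lit 0), (nat_lit 0x853fc20045eb7b36d4b900c1104be), (nat_lit 0), (nat_lit 0)⟩) (BT.leaf ⟨(nat_lit 4), (nat_lit 1583), (nat_lit 0), (nat_lit 0x14421d100d7b39f3e7409d0bc4c04), (nat_lit 0), (nat_lit 0)⟩)) (BT.node (nat_lit 6947) (BT.leaf ⟨(nat_lit 4), (nat_lit 3142), (nat_lit 0), (nat_lit 0x1ad3bd4de0810ccca940f9a30120042), (nat_lit 0), (nat_lit 0)⟩) (BT.leaf ⟨(nat_lit 4), (nat_lit 2978), (nat_lit 0), (nat_lit 0x1d0bb36937b0cd7235ffe0d9a7a7746), (nat_lit 0), (nat_lit 0)⟩))) (BT.node (nat_lit 6950)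 (BT.node (nat_lit 6949) (BT.leaf ⟨(nat_lit 4), (nat_lit 2035), (nat_lit 0), (nat_lit 0x554e89d546cf572c5a6ddedb2eaf21), (nat_lit 0), (nat_lit 0)⟩) (BT.leaf ⟨(nat_lit 4), (nat_lit 3588), (nat_lit 0), (nat_lit 0x1f1b3a41e1048e4404f3501ee8c0084), (nat_lit 0), (nat_lit 0)⟩)) (BT.node (nat_lit 6951) (BT.leaf ⟨(nat_lit 4), (nat_lit 2125), (nat_lit 0), (nat_lit 0x180a077a32a12219840881378b7af9), (nat_lit 0), (nat_lit 0)⟩) (BT.leaf ⟨(nat_lit 4), (nat_lit 2003), (nat_lit 0), (nat_lit 0x100200d2fd73042404208818019d5d5), (nat_lit 0), (nat_lit 0)⟩)))) (BT.node (nat_lit 6956) (BT.node (nat_lit 6954) (BT.node (nat_lit 6953) (BT.leaf ⟨(nat_lit 4), (nat_lit 2002), (nat_lit 0), (nat_lit 0x1bd255a8789bad37b6f039d9d3727db), (nat_lit 0), (nat_lit 0)⟩) (BT.leaf ⟨(nat_lit 4), (nat_lit 1276), (nat_lit 0), (nat_lit 0x15cc8463a5c7400a06469d1678c0101), (nat_lit 0), (nat_lit 0)⟩)) (BT.node (nat_lit 6955) (BT.leaf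 ⟨(nat_lit 4), (nat_lit 1086), (nat_lit 0), (nat_lit 0x754e8b8a32b756d36ef1ab960ebd4b), (nat_lit 0), (nat_lit 0)⟩) (BT.leaf ⟨(nat_lit 4), (nat_lit 1323), (nat_lit 0), (nat_lit 0x41083f30a04400c01102518e0824f), (nat_lit 0), (nat_lit 0)⟩))) (BT.node (nat_lit 6958) (BT.node (nat_lit 6957) (BT.leaf ⟨(nat_lit 5), (nat_lit 7), (nat_lit 0), (nat_lit 0x1100000000000000000000000000000800000000001000000000000800000000010000000000000000000004000000000000000000000000000000000000000000000004000001000000000000400000000000000000010000008000000000000004000000001000000000000000000000000000000000000001000000000000800000000000000000000000000000000000000000000000000000000000000000000000000000000000000000100000000000000000000000000000000000000000000000000000000000000000000000000000000000081000000400002000000000000000000008000000000400000040000000000000000000000000000000000000000000000000000000000000800000000000000000000000000000000000000000000000000000000000002008000000000010000000000100000400000000000000000000000100000008000000000000000000000000000000000000000000001000000000000000000000000000000000000000000000004000000000000000000000000000000000000000000000000000000000200080000000000000000000000000000000000008000000000000008000200000000000000000000000000000000000000000000000000000400000),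 (nat_lit 0), (nat_lit 0)⟩) (BT.leaf ⟨(nat_lit 4), (nat_lit 209), (nat_lit 0), (nat_lit 0x821ead3ac008134f0b94819cd404f4), (nat_lit 0), (nat_lit 0)⟩)) (BT.node (nat_lit 6959) (BT.leaf ⟨(nat_lit 4), (nat_lit 148), (nat_lit 0), (nat_lit 0xfae52d17fc6d8fc846e7cef0dd1ae3), (nat_lit 0), (nat_lit 0)⟩) (BT.leaf ⟨(nat_lit 4), (nat_lit 833), (nat_lit 0), (nat_lit 0xbe713aa9a68af7a8b96563b295cd83), (nat_lit 0), (nat_lit 0)⟩))))) (BT.node (nat_lit 6968) (BT.node (nat_lit 6964) (BT.node (nat_lit 6962) (BT.node (nat_lit 6961) (BT.leaf ⟨(nat_lit 4), (nat_lit 663), (nat_lit 0), (nat_lit 0x10480f47f1802401a010037a402811), (nat_lit 0), (nat_lit 0)⟩) (BT.leaf ⟨(nat_lit 4), (nat_lit 561), (nat_lit 0), (nat_lit 0xe5ad8ea22de43c9393f25f4bf34cc7), (nat_lit 0), (nat_lit 0)⟩)) (BT.node (nat_lit 6963) (BT.leaf ⟨(nat_lit 4), (nat_lit 560), (nat_lit 0), (nat_lit 0x1137fa1ced69bd37b517365bf36a179), (nat_lit 0),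 (nat_lit 0)⟩) (BT.leaf ⟨(nat_lit 4), (nat_lit 3542), (nat_lit 0), (nat_lit 0x127df112ebd22077aab84bc75020811), (nat_lit 0), (nat_lit 0)⟩))) (BT.node (nat_lit 6966) (BT.node (nat_lit 6965) (BT.leaf ⟨(nat_lit 4), (nat_lit 3543), (nat_lit 0), (nat_lit 0x27a044103d1102eab8d9010832fb3a), (nat_lit 0), (nat_lit 0)⟩) (BT.leaf ⟨(nat_lit 4), (nat_lit 1145), (nat_lit 0), (nat_lit 0x1200d7cf36c6a00c00a0100213e3239), (nat_lit 0), (nat_lit 0)⟩)) (BT.node (nat_lit 6967) (BT.leaf ⟨(nat_lit 4), (nat_lit 1423), (nat_lit 0), (nat_lit 0x1020eeab17d7d38065e041002804785), (nat_lit 0), (nat_lit 0)⟩) (BT.leaf ⟨(nat_lit 4), (nat_lit 2148), (nat_lit 0), (nat_lit 0x1782f62aeb50994bb4e8b917a0f45f8), (nat_lit 0), (nat_lit 0)⟩)))) (BT.node (nat_lit 6972) (BT.node (nat_lit 6970) (BT.node (nat_lit 6969) (BT.leaf ⟨(nat_lit 4), (nat_lit 3249), (nat_lit 0), (nat_lit 0x12ad3fa4fd83edd0fa5eba597dafa5d), (nat_lit 0), (nat_lit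 0)⟩) (BT.leaf ⟨(nat_lit 4), (nat_lit 3463), (nat_lit 0), (nat_lit 0x1bf00473292de14eec7b210122f0018), (nat_lit 0), (nat_lit 0)⟩)) (BT.node (nat_lit 6971) (BT.leaf ⟨(nat_lit 4), (nat_lit 2422), (nat_lit 0), (nat_lit 0xee4882e32098e8904e8204d7e8059e), (nat_lit 0), (nat_lit 0)⟩) (BT.leaf ⟨(nat_lit 4), (nat_lit 2809), (nat_lit 0), (nat_lit 0x11cef46f4800f8c0092f4be0424f020), (nat_lit 0), (nat_lit 0)⟩))) (BT.node (nat_lit 6974) (BT.node (nat_lit 6973) (BT.leaf ⟨(nat_lit 4), (nat_lit 3042), (nat_lit 0), (nat_lit 0x11c9a4c53336a1e3d8738e75cc76c63), (nat_lit 0), (nat_lit 0)⟩) (BT.leaf ⟨(nat_lit 4), (nat_lit 416), (nat_lit 0), (nat_lit 0x197eeac005e980208408d72d1a97c80), (nat_lit 0), (nat_lit 0)⟩)) (BT.node (nat_lit 6975) (BT.leaf ⟨(nat_lit 4), (nat_lit 309), (nat_lit 0), (nat_lit 0xac57cb96472a66c18e6d734d15cc4d), (nat_lit 0), (nat_lit 0)⟩) (BT.leaf ⟨(nat_lit 4), (nat_lit 308), (nat_lit 0),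 (nat_lit 0x288101210500a4e471005ce01112d), (nat_lit 0), (nat_lit 0)⟩)))))))
noncomputable def cP6912 : BT Pf := (BT.node (nat_lit 6944) (BT.node (nat_lit 6928) (BT.node (nat_lit 6920) (BT.node (nat_lit 6916) (BT.node (nat_lit 6914) (BT.node (nat_lit 6913) (BT.leaf (.pt (nat_lit 6911) (nat_lit 1))) (BT.leaf (.pt (nat_lit 6905) (nat_lit 3)))) (BT.node (nat_lit 6915) (BT.leaf (.pt (nat_lit 5160) (nat_lit 3))) (BT.leaf (.pt (nat_lit 5603) (nat_lit 4))))) (BT.node (nat_lit 6918) (BT.node (nat_lit 6917) (BT.leaf (.pt (nat_lit 6915) (nat_lit 1))) (BT.leaf (.pt (nat_lit 6916) (nat_lit 3)))) (BT.node (nat_lit 6919) (BT.leaf (.pt (nat_lit 6917) (nat_lit 1))) (BT.leaf (.pt (nat_lit 6918) (nat_lit 4)))))) (BT.node (nat_lit 6924) (BT.node (nat_lit 6922) (BT.node (nat_lit 6921) (BT.leaf (.cov [] [⟨(nat_lit 2674), (nat_lit 4836), [(nat_lit 300), (nat_lit 398)]⟩, ⟨(nat_lit 2677), (nat_lit 4952), [(nat_lit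 569), (nat_lit 439)]⟩, ⟨(nat_lit 2679), (nat_lit 6884), [(nat_lit 832), (nat_lit 596)]⟩, ⟨(nat_lit 2682), (nat_lit 6885), [(nat_lit 387), (nat_lit 294)]⟩, ⟨(nat_lit 2684), (nat_lit 5657), [(nat_lit 695), (nat_lit 289)]⟩, ⟨(nat_lit 2686), (nat_lit 4661), [(nat_lit 468), (nat_lit 171)]⟩, ⟨(nat_lit 2690), (nat_lit 4796), [(nat_lit 474), (nat_lit 294)]⟩, ⟨(nat_lit 2694), (nat_lit 6886), [(nat_lit 508), (nat_lit 593)]⟩, ⟨(nat_lit 2698), (nat_lit 6700), [(nat_lit 266), (nat_lit 372)]⟩, ⟨(nat_lit 2700), (nat_lit 6220), [(nat_lit 1012), (nat_lit 821)]⟩, ⟨(nat_lit 2702), (nat_lit 6097), [(nat_lit 260), (nat_lit 293)]⟩, ⟨(nat_lit 2704), (nat_lit 6891), [(nat_lit 522), (nat_lit 475)]⟩, ⟨(nat_lit 2713), (nat_lit 6892), [(nat_lit 488), (nat_lit 573)]⟩, ⟨(nat_lit 2714), (nat_lit 6893), [(nat_lit 470)]⟩, ⟨(nat_lit 2717), (nat_lit 6898), [(nat_lit 690), (nat_lit 279)]⟩, ⟨(nat_lit 2719), (nat_lit 6497),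 [(nat_lit 226), (nat_lit 821)]⟩, ⟨(nat_lit 2726), (nat_lit 4512), [(nat_lit 299), (nat_lit 1256)]⟩, ⟨(nat_lit 2729), (nat_lit 6900), [(nat_lit 827), (nat_lit 499)]⟩, ⟨(nat_lit 2731), (nat_lit 4851), [(nat_lit 781), (nat_lit 265)]⟩, ⟨(nat_lit 2739), (nat_lit 6894), [(nat_lit 1189), (nat_lit 142)]⟩, ⟨(nat_lit 2740), (nat_lit 6903), [(nat_lit 226), (nat_lit 777)]⟩, ⟨(nat_lit 2743), (nat_lit 6905), [(nat_lit 492), (nat_lit 1211)]⟩, ⟨(nat_lit 2747), (nat_lit 6907), [(nat_lit 461), (nat_lit 222)]⟩, ⟨(nat_lit 2750), (nat_lit 5550), [(nat_lit 335), (nat_lit 432)]⟩, ⟨(nat_lit 2753), (nat_lit 4830), [(nat_lit 883), (nat_lit 1123)]⟩, ⟨(nat_lit 2764), (nat_lit 5418), [(nat_lit 653), (nat_lit 736)]⟩, ⟨(nat_lit 2766), (nat_lit 4731), [(nat_lit 192), (nat_lit 556)]⟩, ⟨(nat_lit 2779), (nat_lit 4940), [(nat_lit 281), (nat_lit 694)]⟩, ⟨(nat_lit 2783), (nat_lit 5622), [(nat_lit 250), (nat_lit 249)]⟩,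 ⟨(nat_lit 2785), (nat_lit 6909), [(nat_lit 167), (nat_lit 1376)]⟩, ⟨(nat_lit 2787), (nat_lit 6910), [(nat_lit 360), (nat_lit 206)]⟩, ⟨(nat_lit 2796), (nat_lit 6126), [(nat_lit 520), (nat_lit 593)]⟩, ⟨(nat_lit 2797), (nat_lit 6912), [(nat_lit 503), (nat_lit 711)]⟩, ⟨(nat_lit 2806), (nat_lit 5367), [(nat_lit 827), (nat_lit 581)]⟩, ⟨(nat_lit 2808), (nat_lit 6913), [(nat_lit 957), (nat_lit 864)]⟩, ⟨(nat_lit 2810), (nat_lit 6244), [(nat_lit 915), (nat_lit 651)]⟩, ⟨(nat_lit 2812), (nat_lit 5419), [(nat_lit 462), (nat_lit 676)]⟩, ⟨(nat_lit 2814), (nat_lit 6914), [(nat_lit 394), (nat_lit 1021)]⟩, ⟨(nat_lit 2817), (nat_lit 6919), [(nat_lit 350), (nat_lit 367)]⟩, ⟨(nat_lit 2819), (nat_lit 6901), [(nat_lit 335), (nat_lit 191)]⟩])) (BT.leaf (.pt (nat_lit 4700) (nat_lit 4)))) (BT.node (nat_lit 6923) (BT.leaf (.pt (nat_lit 5940) (nat_lit 4))) (BT.leaf (.pt (nat_lit 6922) (nat_lit 1))))) (BT.node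 (nat_lit 6926) (BT.node (nat_lit 6925) (BT.leaf (.pt (nat_lit 6923) (nat_lit 4))) (BT.leaf (.pt (nat_lit 6924) (nat_lit 1)))) (BT.node (nat_lit 6927) (BT.leaf (.pt (nat_lit 5922) (nat_lit 4))) (BT.leaf (.pt (nat_lit 6926) (nat_lit 1))))))) (BT.node (nat_lit 6936) (BT.node (nat_lit 6932) (BT.node (nat_lit 6930) (BT.node (nat_lit 6929) (BT.leaf (.pt (nat_lit 5796) (nat_lit 3))) (BT.leaf (.pt (nat_lit 5971) (nat_lit 4)))) (BT.node (nat_lit 6931) (BT.leaf (.pt (nat_lit 6929) (nat_lit 1))) (BT.leaf (.pt (nat_lit 6930) (nat_lit 3))))) (BT.node (nat_lit 6934) (BT.node (nat_lit 6933) (BT.leaf (.pt (nat_lit 6931) (nat_lit 1))) (BT.leaf (.pt (nat_lit 6932) (nat_lit 3)))) (BT.node (nat_lit 6935) (BT.leaf (.pt (nat_lit 5225) (nat_lit 4))) (BT.leaf (.pt (nat_lit 6629) (nat_lit 3)))))) (BT.node (nat_lit 6940) (BT.node (nat_lit 6938) (BT.node (nat_lit 6937) (BT.leaf (.pt (nat_lit 5115) (nat_lit 3)))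 (BT.leaf (.pt (nat_lit 6936) (nat_lit 1)))) (BT.node (nat_lit 6939) (BT.leaf (.pt (nat_lit 6455) (nat_lit 4))) (BT.leaf (.pt (nat_lit 6938) (nat_lit 1))))) (BT.node (nat_lit 6942) (BT.node (nat_lit 6941) (BT.leaf (.pt (nat_lit 6939) (nat_lit 3))) (BT.leaf (.pt (nat_lit 6032) (nat_lit 3)))) (BT.node (nat_lit 6943) (BT.leaf (.pt (nat_lit 5468) (nat_lit 3))) (BT.leaf (.pt (nat_lit 6676) (nat_lit 4)))))))) (BT.node (nat_lit 6960) (BT.node (nat_lit 6952) (BT.node (nat_lit 6948) (BT.node (nat_lit 6946) (BT.node (nat_lit 6945) (BT.leaf (.pt (nat_lit 6943) (nat_lit 1))) (BT.leaf (.pt (nat_lit 6944) (nat_lit 4)))) (BT.node (nat_lit 6947) (BT.leaf (.pt (nat_lit 5516) (nat_lit 4))) (BT.leaf (.pt (nat_lit 6492) (nat_lit 3))))) (BT.node (nat_lit 6950) (BT.node (nat_lit 6949) (BT.leaf (.pt (nat_lit 6467) (nat_lit 3))) (BT.leaf (.pt (nat_lit 6357) (nat_lit 4)))) (BT.node (nat_lit 6951) (BT.leaf (.pt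 (nat_lit 6042) (nat_lit 3))) (BT.leaf (.pt (nat_lit 6950) (nat_lit 1)))))) (BT.node (nat_lit 6956) (BT.node (nat_lit 6954) (BT.node (nat_lit 6953) (BT.leaf (.pt (nat_lit 6951) (nat_lit 4))) (BT.leaf (.pt (nat_lit 5389) (nat_lit 4)))) (BT.node (nat_lit 6955) (BT.leaf (.pt (nat_lit 6900) (nat_lit 1))) (BT.leaf (.pt (nat_lit 6954) (nat_lit 4))))) (BT.node (nat_lit 6958) (BT.node (nat_lit 6957) (BT.leaf (.cov [] [⟨(nat_lit 2820), (nat_lit 6921), [(nat_lit 829), (nat_lit 506)]⟩, ⟨(nat_lit 2824), (nat_lit 4904), [(nat_lit 1218), (nat_lit 580)]⟩, ⟨(nat_lit 2826), (nat_lit 6925), [(nat_lit 394), (nat_lit 1091)]⟩, ⟨(nat_lit 2828), (nat_lit 6927), [(nat_lit 550), (nat_lit 1043)]⟩, ⟨(nat_lit 2830), (nat_lit 4815), [(nat_lit 741), (nat_lit 605)]⟩, ⟨(nat_lit 2833), (nat_lit 6616), [(nat_lit 582), (nat_lit 682)]⟩, ⟨(nat_lit 2838), (nat_lit 6928), [(nat_lit 943), (nat_lit 432)]⟩, ⟨(nat_lit 2840),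 (nat_lit 6933), [(nat_lit 272), (nat_lit 762)]⟩, ⟨(nat_lit 2844), (nat_lit 6934), [(nat_lit 673), (nat_lit 681)]⟩, ⟨(nat_lit 2846), (nat_lit 4751), [(nat_lit 544), (nat_lit 627)]⟩, ⟨(nat_lit 2850), (nat_lit 6028), [(nat_lit 434), (nat_lit 1279)]⟩, ⟨(nat_lit 2856), (nat_lit 6935), [(nat_lit 538), (nat_lit 530)]⟩, ⟨(nat_lit 2857), (nat_lit 6937), [(nat_lit 261), (nat_lit 870)]⟩, ⟨(nat_lit 2860), (nat_lit 4922), [(nat_lit 826), (nat_lit 717)]⟩, ⟨(nat_lit 2862), (nat_lit 4784), [(nat_lit 689), (nat_lit 203)]⟩, ⟨(nat_lit 2864), (nat_lit 6940), [(nat_lit 19), (nat_lit 762)]⟩, ⟨(nat_lit 2866), (nat_lit 4730), [(nat_lit 1013), (nat_lit 625)]⟩, ⟨(nat_lit 2875), (nat_lit 6941), [(nat_lit 705), (nat_lit 1043)]⟩, ⟨(nat_lit 2879), (nat_lit 4491), [(nat_lit 463), (nat_lit 566)]⟩, ⟨(nat_lit 2888), (nat_lit 5079), [(nat_lit 403), (nat_lit 1537)]⟩, ⟨(nat_lit 2889), (nat_lit 6942), [(nat_lit 298), (nat_lit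 737)]⟩, ⟨(nat_lit 2895), (nat_lit 6945), [(nat_lit 871), (nat_lit 431)]⟩, ⟨(nat_lit 2899), (nat_lit 6704), [(nat_lit 391), (nat_lit 530)]⟩, ⟨(nat_lit 2907), (nat_lit 6285), [(nat_lit 575), (nat_lit 891)]⟩, ⟨(nat_lit 2908), (nat_lit 6946), [(nat_lit 355), (nat_lit 1376)]⟩, ⟨(nat_lit 2910), (nat_lit 4629), [(nat_lit 764), (nat_lit 369)]⟩, ⟨(nat_lit 2918), (nat_lit 6947), [(nat_lit 356), (nat_lit 751)]⟩, ⟨(nat_lit 2919), (nat_lit 6948), [(nat_lit 178), (nat_lit 162)]⟩, ⟨(nat_lit 2934), (nat_lit 5015), [(nat_lit 1092), (nat_lit 420)]⟩, ⟨(nat_lit 2937), (nat_lit 6949), [(nat_lit 629), (nat_lit 363)]⟩, ⟨(nat_lit 2939), (nat_lit 6952), [(nat_lit 488), (nat_lit 432)]⟩, ⟨(nat_lit 2943), (nat_lit 6953), [(nat_lit 1308), (nat_lit 652)]⟩, ⟨(nat_lit 2945), (nat_lit 5101), [(nat_lit 473), (nat_lit 203)]⟩, ⟨(nat_lit 2947), (nat_lit 5142), [(nat_lit 299), (nat_lit 347)]⟩, ⟨(nat_lit 2950), (nat_lit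 5750), [(nat_lit 815), (nat_lit 108)]⟩, ⟨(nat_lit 2951), (nat_lit 6955), [(nat_lit 787), (nat_lit 0)]⟩, ⟨(nat_lit 2955), (nat_lit 6525), [(nat_lit 321), (nat_lit 124)]⟩, ⟨(nat_lit 2962), (nat_lit 4877), [(nat_lit 129), (nat_lit 778)]⟩, ⟨(nat_lit 2969), (nat_lit 5130), [(nat_lit 1092), (nat_lit 676)]⟩, ⟨(nat_lit 2971), (nat_lit 5032), [(nat_lit 783), (nat_lit 1101)]⟩])) (BT.leaf (.pt (nat_lit 5863) (nat_lit 1)))) (BT.node (nat_lit 6959) (BT.leaf (.pt (nat_lit 6957) (nat_lit 3))) (BT.leaf (.pt (nat_lit 6756) (nat_lit 1))))))) (BT.node (nat_lit 6968) (BT.node (nat_lit 6964) (BT.node (nat_lit 6962) (BT.node (nat_lit 6961) (BT.leaf (.pt (nat_lit 6959) (nat_lit 4))) (BT.leaf (.pt (nat_lit 6484) (nat_lit 1)))) (BT.node (nat_lit 6963) (BT.leaf (.pt (nat_lit 6961) (nat_lit 4))) (BT.leaf (.pt (nat_lit 6844) (nat_lit 1))))) (BT.node (nat_lit 6966) (BT.node (nat_lit 6965) (BT.leaf (.pt (nat_lit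 6963) (nat_lit 3))) (BT.leaf (.pt (nat_lit 6609) (nat_lit 1)))) (BT.node (nat_lit 6967) (BT.leaf (.pt (nat_lit 6965) (nat_lit 3))) (BT.leaf (.pt (nat_lit 6760) (nat_lit 3)))))) (BT.node (nat_lit 6972) (BT.node (nat_lit 6970) (BT.node (nat_lit 6969) (BT.leaf (.pt (nat_lit 6809) (nat_lit 1))) (BT.leaf (.pt (nat_lit 6968) (nat_lit 4)))) (BT.node (nat_lit 6971) (BT.leaf (.pt (nat_lit 4705) (nat_lit 4))) (BT.leaf (.pt (nat_lit 6435) (nat_lit 3))))) (BT.node (nat_lit 6974) (BT.node (nat_lit 6973) (BT.leaf (.pt (nat_lit 5990) (nat_lit 3))) (BT.leaf (.pt (nat_lit 5936) (nat_lit 4)))) (BT.node (nat_lit 6975) (BT.leaf (.pt (nat_lit 6973) (nat_lit 1))) (BT.leaf (.pt (nat_lit 6974) (nat_lit 4)))))))))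
noncomputable def cF6976 : BT Fc := (BT.node (nat_lit 7008) (BT.node (nat_lit 6992) (BT.node (nat_lit 6984) (BT.node (nat_lit 6980) (BT.node (nat_lit 6978) (BT.node (nat_lit 6977) (BT.leaf ⟨(nat_lit 4), (nat_lit 415), (nat_lit 0), (nat_lit 0x11cd5c82025e97f7a008005d1808080), (nat_lit 0), (nat_lit 0)⟩) (BT.leaf ⟨(nat_lit 4), (nat_lit 533), (nat_lit 0), (nat_lit 0x15ce7418005e443235006be4048159e), (nat_lit 0), (nat_lit 0)⟩)) (BT.node (nat_lit 6979) (BT.leaf ⟨(nat_lit 4), (nat_lit 588), (nat_lit 0), (nat_lit 0x145d1b46e7c4b8cf1fe3f20f8cde3a3), (nat_lit 0), (nat_lit 0)⟩) (BT.leaf ⟨(nat_lit 4), (nat_lit 743), (nat_lit 0), (nat_lit 0x1ce38e2c86714eae287f21b29ff472), (nat_lit 0), (nat_lit 0)⟩))) (BT.node (nat_lit 6982) (BT.node (nat_lit 6981) (BT.leaf ⟨(nat_lit 4), (nat_lit 978), (nat_lit 0), (nat_lit 0x7a2f67e8b5182d572d24cb31ee47b7), (nat_lit 0), (nat_lit 0)⟩) (BT.leaf ⟨(nat_lit 4), (nat_lit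 1213), (nat_lit 0), (nat_lit 0x2ddff7adba45e7c638d4cbe36c6fcd), (nat_lit 0), (nat_lit 0)⟩)) (BT.node (nat_lit 6983) (BT.leaf ⟨(nat_lit 4), (nat_lit 732), (nat_lit 0), (nat_lit 0x15979973b675cea6cd8339dee969738), (nat_lit 0), (nat_lit 0)⟩) (BT.leaf ⟨(nat_lit 4), (nat_lit 576), (nat_lit 0), (nat_lit 0x1134d931cdec5e7fa4ab39df6f7aaf4), (nat_lit 0), (nat_lit 0)⟩)))) (BT.node (nat_lit 6988) (BT.node (nat_lit 6986) (BT.node (nat_lit 6985) (BT.leaf ⟨(nat_lit 4), (nat_lit 1220), (nat_lit 0), (nat_lit 0x894c920ecdb501071a140182105c8), (nat_lit 0), (nat_lit 0)⟩) (BT.leaf ⟨(nat_lit 4), (nat_lit 985), (nat_lit 0), (nat_lit 0x1ee844480ad13cd40082140b7cc07c6), (nat_lit 0), (nat_lit 0)⟩)) (BT.node (nat_lit 6987) (BT.leaf ⟨(nat_lit 5), (nat_lit 7), (nat_lit 0), (nat_lit 0x200000000000000000000000000000000000000000000000000800000000000000000008000000000000000000000000000000000000400000000000000000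0000000000000100000000000000000000000000000000000040000000000000000000000000000000000000000000000000000000002020000000000000000000000000000000000010000000000000000000000000000000000000000000000000000000000400000000000000000000000000008000000000000000000000200000000000100001000002000000000000000000000000000000000000000000000000000000000000000000000000080004800000000000000000000000000000000000000000000200100000000000000000000000000000000000000000000000080000000008000000000000000000020000800000000000004002000000000000000000000000000000000002000000000000000000002000000000000000000000000000000000000000000000000000000000000000000000000000000008000000800000000000001000100000020000000000000000000000020000000000000000000002000000002000000000800000000000000008000000000000010200000000000000000000000000000000000), (nat_lit 0), (nat_lit 0)⟩) (BT.leaf ⟨(nat_lit 4), (nat_lit 2825), (nat_lit 0), (nat_lit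 0x815c802f1b7a0080014bf1cc8073a), (nat_lit 0), (nat_lit 0)⟩))) (BT.node (nat_lit 6990) (BT.node (nat_lit 6989) (BT.leaf ⟨(nat_lit 4), (nat_lit 2910), (nat_lit 0), (nat_lit 0x1801a365f9010004f6b9803f8e97c08), (nat_lit 0), (nat_lit 0)⟩) (BT.leaf ⟨(nat_lit 4), (nat_lit 3145), (nat_lit 0), (nat_lit 0x169a394778a6a1ccdb49ce78b2b9cf3), (nat_lit 0), (nat_lit 0)⟩)) (BT.node (nat_lit 6991) (BT.leaf ⟨(nat_lit 4), (nat_lit 3287), (nat_lit 0), (nat_lit 0xa0110200dce12ef44024aec01822), (nat_lit 0), (nat_lit 0)⟩) (BT.leaf ⟨(nat_lit 4), (nat_lit 3206), (nat_lit 0), (nat_lit 0x1e3e373fed1b6345bea2197e36e9658), (nat_lit 0), (nat_lit 0)⟩))))) (BT.node (nat_lit 7000) (BT.node (nat_lit 6996) (BT.node (nat_lit 6994) (BT.node (nat_lit 6993) (BT.leaf ⟨(nat_lit 4), (nat_lit 2823), (nat_lit 0), (nat_lit 0x19a7a7519d266cba1744196d199ae46), (nat_lit 0), (nat_lit 0)⟩) (BT.leaf ⟨(nat_lit 4), (nat_lit 2705), (nat_lit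 0), (nat_lit 0x140082300200440c01025c7679afe8d), (nat_lit 0), (nat_lit 0)⟩)) (BT.node (nat_lit 6995) (BT.leaf ⟨(nat_lit 4), (nat_lit 2324), (nat_lit 0), (nat_lit 0xf85661bc8dcfadf17e35c6568f1be3), (nat_lit 0), (nat_lit 0)⟩) (BT.leaf ⟨(nat_lit 4), (nat_lit 1880), (nat_lit 0), (nat_lit 0x1822004f128115e814019d0882084), (nat_lit 0), (nat_lit 0)⟩))) (BT.node (nat_lit 6998) (BT.node (nat_lit 6997) (BT.leaf ⟨(nat_lit 4), (nat_lit 1546), (nat_lit 0), (nat_lit 0x623d9081100a12b80a01925804785), (nat_lit 0), (nat_lit 0)⟩) (BT.leaf ⟨(nat_lit 4), (nat_lit 1221), (nat_lit 0), (nat_lit 0x140b7fcd1801026f2400c1ad0222f9), (nat_lit 0), (nat_lit 0)⟩)) (BT.node (nat_lit 6999) (BT.leaf ⟨(nat_lit 4), (nat_lit 2845), (nat_lit 0), (nat_lit 0x10219d600cbf002024018412017a440), (nat_lit 0), (nat_lit 0)⟩) (BT.leaf ⟨(nat_lit 4), (nat_lit 1261), (nat_lit 0), (nat_lit 0x3014127014ac64b009e9d02399018), (nat_lit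 0), (nat_lit 0)⟩)))) (BT.node (nat_lit 7004) (BT.node (nat_lit 7002) (BT.node (nat_lit 7001) (BT.leaf ⟨(nat_lit 4), (nat_lit 1052), (nat_lit 0), (nat_lit 0x2dfc7fcda69e33cec6eba5634bcb13), (nat_lit 0), (nat_lit 0)⟩) (BT.leaf ⟨(nat_lit 4), (nat_lit 842), (nat_lit 0), (nat_lit 0x6f3dbcabd838b12bd65ba4e290f8e6), (nat_lit 0), (nat_lit 0)⟩)) (BT.node (nat_lit 7003) (BT.leaf ⟨(nat_lit 4), (nat_lit 1711), (nat_lit 0), (nat_lit 0x304225b209cfba102425601402044), (nat_lit 0), (nat_lit 0)⟩) (BT.leaf ⟨(nat_lit 4), (nat_lit 1347), (nat_lit 0), (nat_lit 0x43eae12f2de3ea97927257f6db802f), (nat_lit 0), (nat_lit 0)⟩))) (BT.node (nat_lit 7006) (BT.node (nat_lit 7005) (BT.leaf ⟨(nat_lit 4), (nat_lit 1207), (nat_lit 0), (nat_lit 0x882c6d46480810f1a020bf801eaa00), (nat_lit 0), (nat_lit 0)⟩) (BT.leaf ⟨(nat_lit 4), (nat_lit 1730), (nat_lit 0), (nat_lit 0x1bd95dc710457a821012f1e75e01744), (nat_lit 0), (nat_lit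 0)⟩)) (BT.node (nat_lit 7007) (BT.leaf ⟨(nat_lit 4), (nat_lit 2089), (nat_lit 0), (nat_lit 0x1f6d97e6921f4bc7d12f98e0bf51615), (nat_lit 0), (nat_lit 0)⟩) (BT.leaf ⟨(nat_lit 4), (nat_lit 3239), (nat_lit 0), (nat_lit 0x14d3d68b7e1ac4dc6f8db1a5e7e6f8f), (nat_lit 0), (nat_lit 0)⟩)))))) (BT.node (nat_lit 7024) (BT.node (nat_lit 7016) (BT.node (nat_lit 7012) (BT.node (nat_lit 7010) (BT.node (nat_lit 7009) (BT.leaf ⟨(nat_lit 4), (nat_lit 2893), (nat_lit 0), (nat_lit 0x80100a404059cc2f8b9b1a8229d280), (nat_lit 0), (nat_lit 0)⟩) (BT.leaf ⟨(nat_lit 5), (nat_lit 7), (nat_lit 0), (nat_lit 0x8000080000000000000000000000000000020200000000000000000000000000000000000000000000000000000000400020000000000020000280000000200000000000000000000000000000000000000004000000000000000000000000000000000000000000002000000000000010000000000000000000000000000000000000000000000000000000000000000000000000020000000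00000002000000000000000000000000000000000000004000040000000000010080000000000000000000010010000000000000080000000800000000000001000000000000000000000000000000810000004000000000000000000000000000000002000000000200080000000000000000000000000000000000000000000000000000000008000000000000000000000000000008004000000000000000000000000000000000040000000000000000400000000000000000000000000000000000000000800000000000000000040000000000000000000000000000000000000001000200000000000000000000000000000000000000000010000000000), (nat_lit 0), (nat_lit 0)⟩)) (BT.node (nat_lit 7011) (BT.leaf ⟨(nat_lit 4), (nat_lit 3294), (nat_lit 0), (nat_lit 0x2000273a3aaae404002080f8f7a5e8), (nat_lit 0), (nat_lit 0)⟩) (BT.leaf ⟨(nat_lit 4), (nat_lit 3356), (nat_lit 0), (nat_lit 0x2409fdf8029d5b9501082004a47011), (nat_lit 0), (nat_lit 0)⟩))) (BT.node (nat_lit 7014) (BT.node (nat_lit 7013) (BT.leaf ⟨(nat_lit 4), (nat_lit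 2633), (nat_lit 0), (nat_lit 0x1d3b832aef8cf62ff87ce8fa4fb3546), (nat_lit 0), (nat_lit 0)⟩) (BT.leaf ⟨(nat_lit 4), (nat_lit 3022), (nat_lit 0), (nat_lit 0xfadf39e36c6f0d1b3e3efb45df11bc), (nat_lit 0), (nat_lit 0)⟩)) (BT.node (nat_lit 7015) (BT.leaf ⟨(nat_lit 4), (nat_lit 1176), (nat_lit 0), (nat_lit 0x7d4ea54b3ae35749c3d1f5960e8b8a), (nat_lit 0), (nat_lit 0)⟩) (BT.leaf ⟨(nat_lit 4), (nat_lit 936), (nat_lit 0), (nat_lit 0x131fed92b6e14beae10f1f44fed892d), (nat_lit 0), (nat_lit 0)⟩)))) (BT.node (nat_lit 7020) (BT.node (nat_lit 7018) (BT.node (nat_lit 7017) (BT.leaf ⟨(nat_lit 4), (nat_lit 1868), (nat_lit 0), (nat_lit 0xf62a31b2bfe1f3e3346c8dd5ba2766), (nat_lit 0), (nat_lit 0)⟩) (BT.leaf ⟨(nat_lit 4), (nat_lit 1208), (nat_lit 0), (nat_lit 0x1e33c6b134cba345bc6ef9be77c7f85), (nat_lit 0), (nat_lit 0)⟩)) (BT.node (nat_lit 7019) (BT.leaf ⟨(nat_lit 4), (nat_lit 3244), (nat_lit 0), (nat_lit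 0x75fa22bbf1e0084149c025008115ea), (nat_lit 0), (nat_lit 0)⟩) (BT.leaf ⟨(nat_lit 4), (nat_lit 979), (nat_lit 0), (nat_lit 0x1595b862c1cd4652f25ff6e6f12ea7f), (nat_lit 0), (nat_lit 0)⟩))) (BT.node (nat_lit 7022) (BT.node (nat_lit 7021) (BT.leaf ⟨(nat_lit 4), (nat_lit 1921), (nat_lit 0), (nat_lit 0xab98e5e9bd9782d47e8c1666ef4751), (nat_lit 0), (nat_lit 0)⟩) (BT.leaf ⟨(nat_lit 4), (nat_lit 545), (nat_lit 0), (nat_lit 0x63a700a410ac4ee80892dcc92b80c), (nat_lit 0), (nat_lit 0)⟩)) (BT.node (nat_lit 7023) (BT.leaf ⟨(nat_lit 4), (nat_lit 611), (nat_lit 0), (nat_lit 0x127a5f6c193567989c8e92c27a4e69e), (nat_lit 0), (nat_lit 0)⟩) (BT.leaf ⟨(nat_lit 4), (nat_lit 610), (nat_lit 0), (nat_lit 0x17a2f4c3dbd9780cde0bbd4996747b7), (nat_lit 0), (nat_lit 0)⟩))))) (BT.node (nat_lit 7032) (BT.node (nat_lit 7028) (BT.node (nat_lit 7026) (BT.node (nat_lit 7025) (BT.leaf ⟨(nat_lit 4), (nat_lit 1454), (nat_lit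 0), (nat_lit 0x1fa2fc5c8c177a61ede055d31d8e568), (nat_lit 0), (nat_lit 0)⟩) (BT.leaf ⟨(nat_lit 4), (nat_lit 1038), (nat_lit 0), (nat_lit 0x24008df802806154bf30a004a3193f), (nat_lit 0), (nat_lit 0)⟩)) (BT.node (nat_lit 7027) (BT.leaf ⟨(nat_lit 4), (nat_lit 1264), (nat_lit 0), (nat_lit 0xe8d0fc332de657bd0c00a1ad2d4044), (nat_lit 0), (nat_lit 0)⟩) (BT.leaf ⟨(nat_lit 4), (nat_lit 1620), (nat_lit 0), (nat_lit 0x11bbd6d34d45e76c68cb4ca2df2c3fe), (nat_lit 0), (nat_lit 0)⟩))) (BT.node (nat_lit 7030) (BT.node (nat_lit 7029) (BT.leaf ⟨(nat_lit 4), (nat_lit 1943), (nat_lit 0), (nat_lit 0xabad443d3375a2f660b4cb7aba8cc7), (nat_lit 0), (nat_lit 0)⟩) (BT.leaf ⟨(nat_lit 4), (nat_lit 733), (nat_lit 0), (nat_lit 0x12020438d804bd20233a68d1004f401), (nat_lit 0), (nat_lit 0)⟩)) (BT.node (nat_lit 7031) (BT.leaf ⟨(nat_lit 5), (nat_lit 7), (nat_lit 0), (nat_lit 0x80000000000400000000000000000000000000000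0000000000000000000000000000000002000000000001000000000000100000000000000040000000000030000000000000000000000100000000000000000000000000000000400000000000000000000000000000000000000000000000000000000000000000000000000000040000000000000000000000000000000000000000000000000000000000000000000000000000000001000000000000000000001000000000000000000000000000000000000000008000000000000000000000400000800000000000000000801002800000000000100000000000000000000000000000000000000000000010000000002000040000000000000000008000000000000000000000004000000000000000040000000000000000000000000000000000000000000100000000000000000000000000000100000000000000000000000000080000000001000000000000000000000000000000000000000000010000002000000000000000000000100000000400000000000000000000000000020000000000000000000400000000000000000000000000000000000000000000010000000000000000000000120000000000000000000000000000000000),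 (nat_lit 0), (nat_lit 0)⟩) (BT.leaf ⟨(nat_lit 4), (nat_lit 2275), (nat_lit 0), (nat_lit 0x6c99af56f8dd13b32aec8c32e8cbd8), (nat_lit 0), (nat_lit 0)⟩)))) (BT.node (nat_lit 7036) (BT.node (nat_lit 7034) (BT.node (nat_lit 7033) (BT.leaf ⟨(nat_lit 4), (nat_lit 2274), (nat_lit 0), (nat_lit 0xbd35cd2f90140202401cbf08201410), (nat_lit 0), (nat_lit 0)⟩) (BT.leaf ⟨(nat_lit 4), (nat_lit 3087), (nat_lit 0), (nat_lit 0x1b2bc80ed8c75ce38c7b0e71cda4da6), (nat_lit 0), (nat_lit 0)⟩)) (BT.node (nat_lit 7035) (BT.leaf ⟨(nat_lit 4), (nat_lit 2531), (nat_lit 0), (nat_lit 0x82e40a0045c68144be8a7d9bd6c20), (nat_lit 0), (nat_lit 0)⟩) (BT.leaf ⟨(nat_lit 4), (nat_lit 2077), (nat_lit 0), (nat_lit 0x3b631bfe0e75ce19c738a6a1e79c71), (nat_lit 0), (nat_lit 0)⟩))) (BT.node (nat_lit 7038) (BT.node (nat_lit 7037) (BT.leaf ⟨(nat_lit 4), (nat_lit 2078), (nat_lit 0), (nat_lit 0x5daf4dea3d15a18e2d29d10f6e45e0), (nat_lit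 0), (nat_lit 0)⟩) (BT.leaf ⟨(nat_lit 4), (nat_lit 2687), (nat_lit 0), (nat_lit 0x11b9ff265ba5e27c28b7cb1f35898cb), (nat_lit 0), (nat_lit 0)⟩)) (BT.node (nat_lit 7039) (BT.leaf ⟨(nat_lit 4), (nat_lit 2299), (nat_lit 0), (nat_lit 0x1bbcfad4bd26db0eba36cb03561eb8a), (nat_lit 0), (nat_lit 0)⟩) (BT.leaf ⟨(nat_lit 4), (nat_lit 2298), (nat_lit 0), (nat_lit 0x14e900208a8d63508600fd08085ce9e), (nat_lit 0), (nat_lit 0)⟩)))))))
noncomputable def cP6976 : BT Pf := (BT.node (nat_lit 7008) (BT.node (nat_lit 6992) (BT.node (nat_lit 6984) (BT.node (nat_lit 6980) (BT.node (nat_lit 6978) (BT.node (nat_lit 6977) (BT.leaf (.pt (nat_lit 6975) (nat_lit 1))) (BT.leaf (.pt (nat_lit 6976) (nat_lit 3)))) (BT.node (nat_lit 6979) (BT.leaf (.pt (nat_lit 6819) (nat_lit 3))) (BT.leaf (.pt (nat_lit 6978) (nat_lit 1))))) (BT.node (nat_lit 6982) (BT.node (nat_lit 6981) (BT.leaf (.pt (nat_lit 6979) (nat_lit 4))) (BT.leaf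 (.pt (nat_lit 6980) (nat_lit 1)))) (BT.node (nat_lit 6983) (BT.leaf (.pt (nat_lit 6916) (nat_lit 4))) (BT.leaf (.pt (nat_lit 6982) (nat_lit 1)))))) (BT.node (nat_lit 6988) (BT.node (nat_lit 6986) (BT.node (nat_lit 6985) (BT.leaf (.pt (nat_lit 5105) (nat_lit 3))) (BT.leaf (.pt (nat_lit 6984) (nat_lit 1)))) (BT.node (nat_lit 6987) (BT.leaf (.cov [] [⟨(nat_lit 2975), (nat_lit 6958), [(nat_lit 352), (nat_lit 439)]⟩, ⟨(nat_lit 2977), (nat_lit 6960), [(nat_lit 213), (nat_lit 431)]⟩, ⟨(nat_lit 2985), (nat_lit 6962), [(nat_lit 416), (nat_lit 252)]⟩, ⟨(nat_lit 2991), (nat_lit 6964), [(nat_lit 1126), (nat_lit 586)]⟩, ⟨(nat_lit 2993), (nat_lit 5826), [(nat_lit 619), (nat_lit 1)]⟩, ⟨(nat_lit 2996), (nat_lit 5925), [(nat_lit 1026), (nat_lit 108)]⟩, ⟨(nat_lit 2998), (nat_lit 6966), [(nat_lit 1106), (nat_lit 1018)]⟩, ⟨(nat_lit 3006), (nat_lit 6967), [(nat_lit 241), (nat_lit 557)]⟩, ⟨(nat_lit 3009),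 (nat_lit 4718), [(nat_lit 296), (nat_lit 1279)]⟩, ⟨(nat_lit 3012), (nat_lit 4558), [(nat_lit 630), (nat_lit 109)]⟩, ⟨(nat_lit 3016), (nat_lit 4756), [(nat_lit 19), (nat_lit 472)]⟩, ⟨(nat_lit 3018), (nat_lit 5214), [(nat_lit 283), (nat_lit 525)]⟩, ⟨(nat_lit 3019), (nat_lit 5640), [(nat_lit 1014), (nat_lit 901)]⟩, ⟨(nat_lit 3022), (nat_lit 6491), [(nat_lit 19), (nat_lit 307)]⟩, ⟨(nat_lit 3028), (nat_lit 5589), [(nat_lit 259), (nat_lit 253)]⟩, ⟨(nat_lit 3034), (nat_lit 4950), [(nat_lit 690), (nat_lit 491)]⟩, ⟨(nat_lit 3041), (nat_lit 5500), [(nat_lit 256), (nat_lit 1091)]⟩, ⟨(nat_lit 3043), (nat_lit 6606), [(nat_lit 1004), (nat_lit 1017)]⟩, ⟨(nat_lit 3047), (nat_lit 6969), [(nat_lit 1600), (nat_lit 1605)]⟩, ⟨(nat_lit 3051), (nat_lit 4986), [(nat_lit 422), (nat_lit 795)]⟩, ⟨(nat_lit 3053), (nat_lit 6970), [(nat_lit 521), (nat_lit 1136)]⟩, ⟨(nat_lit 3058), (nat_lit 5152), [(nat_lit 445),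 (nat_lit 822)]⟩, ⟨(nat_lit 3059), (nat_lit 6971), [(nat_lit 350), (nat_lit 596)]⟩, ⟨(nat_lit 3064), (nat_lit 5172), [(nat_lit 631), (nat_lit 627)]⟩, ⟨(nat_lit 3073), (nat_lit 6950), [(nat_lit 94), (nat_lit 1939)]⟩, ⟨(nat_lit 3075), (nat_lit 6122), [(nat_lit 271), (nat_lit 625)]⟩, ⟨(nat_lit 3076), (nat_lit 6972), [(nat_lit 373), (nat_lit 1101)]⟩, ⟨(nat_lit 3079), (nat_lit 5361), [(nat_lit 97), (nat_lit 969)]⟩, ⟨(nat_lit 3081), (nat_lit 4838), [(nat_lit 422), (nat_lit 162)]⟩, ⟨(nat_lit 3082), (nat_lit 6392), [(nat_lit 357), (nat_lit 88)]⟩, ⟨(nat_lit 3087), (nat_lit 6644), [(nat_lit 575), (nat_lit 877)]⟩, ⟨(nat_lit 3088), (nat_lit 5480), [(nat_lit 195), (nat_lit 525)]⟩, ⟨(nat_lit 3091), (nat_lit 6977), [(nat_lit 865), (nat_lit 694)]⟩, ⟨(nat_lit 3092), (nat_lit 5076), [(nat_lit 761), (nat_lit 1088)]⟩, ⟨(nat_lit 3094), (nat_lit 4617), [(nat_lit 911), (nat_lit 512)]⟩, ⟨(nat_lit 3099), (nat_lit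 6981), [(nat_lit 784), (nat_lit 813)]⟩, ⟨(nat_lit 3103), (nat_lit 4804), [(nat_lit 1032), (nat_lit 385)]⟩, ⟨(nat_lit 3109), (nat_lit 6983), [(nat_lit 195), (nat_lit 822)]⟩, ⟨(nat_lit 3112), (nat_lit 6985), [(nat_lit 193), (nat_lit 486)]⟩, ⟨(nat_lit 3114), (nat_lit 5025), [(nat_lit 447), (nat_lit 478)]⟩])) (BT.leaf (.pt (nat_lit 6806) (nat_lit 1))))) (BT.node (nat_lit 6990) (BT.node (nat_lit 6989) (BT.leaf (.pt (nat_lit 5407) (nat_lit 4))) (BT.leaf (.pt (nat_lit 6314) (nat_lit 3)))) (BT.node (nat_lit 6991) (BT.leaf (.pt (nat_lit 6472) (nat_lit 3))) (BT.leaf (.pt (nat_lit 5657) (nat_lit 3))))))) (BT.node (nat_lit 7000) (BT.node (nat_lit 6996) (BT.node (nat_lit 6994) (BT.node (nat_lit 6993) (BT.leaf (.pt (nat_lit 6991) (nat_lit 1))) (BT.leaf (.pt (nat_lit 6066) (nat_lit 4)))) (BT.node (nat_lit 6995) (BT.leaf (.pt (nat_lit 6993) (nat_lit 1))) (BT.leaf (.pt (nat_lit 6994) (nat_lit 3)))))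 (BT.node (nat_lit 6998) (BT.node (nat_lit 6997) (BT.leaf (.pt (nat_lit 6995) (nat_lit 1))) (BT.leaf (.pt (nat_lit 6996) (nat_lit 3)))) (BT.node (nat_lit 6999) (BT.leaf (.pt (nat_lit 6575) (nat_lit 3))) (BT.leaf (.pt (nat_lit 6301) (nat_lit 3)))))) (BT.node (nat_lit 7004) (BT.node (nat_lit 7002) (BT.node (nat_lit 7001) (BT.leaf (.pt (nat_lit 4939) (nat_lit 3))) (BT.leaf (.pt (nat_lit 7000) (nat_lit 1)))) (BT.node (nat_lit 7003) (BT.leaf (.pt (nat_lit 5231) (nat_lit 3))) (BT.leaf (.pt (nat_lit 7002) (nat_lit 1))))) (BT.node (nat_lit 7006) (BT.node (nat_lit 7005) (BT.leaf (.pt (nat_lit 7003) (nat_lit 4))) (BT.leaf (.pt (nat_lit 6788) (nat_lit 1)))) (BT.node (nat_lit 7007) (BT.leaf (.pt (nat_lit 7005) (nat_lit 3))) (BT.leaf (.pt (nat_lit 6198) (nat_lit 3)))))))) (BT.node (nat_lit 7024) (BT.node (nat_lit 7016) (BT.node (nat_lit 7012) (BT.node (nat_lit 7010) (BT.node (nat_lit 7009) (BT.leaf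 (.pt (nat_lit 7007) (nat_lit 1))) (BT.leaf (.cov [] [⟨(nat_lit 3116), (nat_lit 6987), [(nat_lit 470), (nat_lit 109)]⟩, ⟨(nat_lit 3141), (nat_lit 4755), [(nat_lit 393), (nat_lit 500)]⟩, ⟨(nat_lit 3149), (nat_lit 6988), [(nat_lit 1173), (nat_lit 290)]⟩, ⟨(nat_lit 3163), (nat_lit 5389), [(nat_lit 507), (nat_lit 736)]⟩, ⟨(nat_lit 3181), (nat_lit 5963), [(nat_lit 774), (nat_lit 681)]⟩, ⟨(nat_lit 3185), (nat_lit 4810), [(nat_lit 508), (nat_lit 202)]⟩, ⟨(nat_lit 3186), (nat_lit 5691), [(nat_lit 211), (nat_lit 222)]⟩, ⟨(nat_lit 3219), (nat_lit 6989), [(nat_lit 285), (nat_lit 795)]⟩, ⟨(nat_lit 3232), (nat_lit 5556), [(nat_lit 1012), (nat_lit 495)]⟩, ⟨(nat_lit 3239), (nat_lit 4787), [(nat_lit 587), (nat_lit 870)]⟩, ⟨(nat_lit 3247), (nat_lit 4648), [(nat_lit 283), (nat_lit 596)]⟩, ⟨(nat_lit 3248), (nat_lit 6880), [(nat_lit 825), (nat_lit 306)]⟩, ⟨(nat_lit 3251), (nat_lit 5325), [(nat_lit 466),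 (nat_lit 624)]⟩, ⟨(nat_lit 3253), (nat_lit 6990), [(nat_lit 94), (nat_lit 504)]⟩, ⟨(nat_lit 3255), (nat_lit 6992), [(nat_lit 240), (nat_lit 559)]⟩, ⟨(nat_lit 3259), (nat_lit 5515), [(nat_lit 95), (nat_lit 1329)]⟩, ⟨(nat_lit 3260), (nat_lit 6997), [(nat_lit 1126), (nat_lit 162)]⟩, ⟨(nat_lit 3268), (nat_lit 6666), [(nat_lit 690), (nat_lit 1849)]⟩, ⟨(nat_lit 3285), (nat_lit 5083), [(nat_lit 267), (nat_lit 580)]⟩, ⟨(nat_lit 3286), (nat_lit 5339), [(nat_lit 734), (nat_lit 1472)]⟩, ⟨(nat_lit 3291), (nat_lit 6998), [(nat_lit 167), (nat_lit 421)]⟩, ⟨(nat_lit 3294), (nat_lit 5161), [(nat_lit 942), (nat_lit 372)]⟩, ⟨(nat_lit 3299), (nat_lit 5720), [(nat_lit 551), (nat_lit 110)]⟩, ⟨(nat_lit 3302), (nat_lit 6999), [(nat_lit 197), (nat_lit 1101)]⟩, ⟨(nat_lit 3304), (nat_lit 4739), [(nat_lit 95), (nat_lit 1123)]⟩, ⟨(nat_lit 3307), (nat_lit 6574), [(nat_lit 1014), (nat_lit 490)]⟩, ⟨(nat_lit 3311),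 (nat_lit 6556), [(nat_lit 942), (nat_lit 169)]⟩, ⟨(nat_lit 3312), (nat_lit 7001), [(nat_lit 781), (nat_lit 363)]⟩, ⟨(nat_lit 3314), (nat_lit 4659), [(nat_lit 1087), (nat_lit 700)]⟩, ⟨(nat_lit 3318), (nat_lit 6753), [(nat_lit 260), (nat_lit 472)]⟩, ⟨(nat_lit 3320), (nat_lit 5042), [(nat_lit 943), (nat_lit 1376)]⟩, ⟨(nat_lit 3322), (nat_lit 4792), [(nat_lit 574), (nat_lit 1133)]⟩, ⟨(nat_lit 3325), (nat_lit 5805), [(nat_lit 1106), (nat_lit 455)]⟩, ⟨(nat_lit 3332), (nat_lit 7004), [(nat_lit 207), (nat_lit 497)]⟩, ⟨(nat_lit 3336), (nat_lit 4549), [(nat_lit 376), (nat_lit 333)]⟩, ⟨(nat_lit 3339), (nat_lit 6936), [(nat_lit 394), (nat_lit 169)]⟩, ⟨(nat_lit 3340), (nat_lit 7006), [(nat_lit 1308), (nat_lit 1369)]⟩, ⟨(nat_lit 3342), (nat_lit 7008), [(nat_lit 296), (nat_lit 1329)]⟩, ⟨(nat_lit 3344), (nat_lit 4578), [(nat_lit 447), (nat_lit 559)]⟩, ⟨(nat_lit 3347), (nat_lit 6468), [(nat_lit 1174),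 (nat_lit 606)]⟩]))) (BT.node (nat_lit 7011) (BT.leaf (.pt (nat_lit 6817) (nat_lit 4))) (BT.leaf (.pt (nat_lit 6422) (nat_lit 1))))) (BT.node (nat_lit 7014) (BT.node (nat_lit 7013) (BT.leaf (.pt (nat_lit 5173) (nat_lit 1))) (BT.leaf (.pt (nat_lit 7012) (nat_lit 3)))) (BT.node (nat_lit 7015) (BT.leaf (.pt (nat_lit 5477) (nat_lit 4))) (BT.leaf (.pt (nat_lit 7014) (nat_lit 1)))))) (BT.node (nat_lit 7020) (BT.node (nat_lit 7018) (BT.node (nat_lit 7017) (BT.leaf (.pt (nat_lit 5192) (nat_lit 4))) (BT.leaf (.pt (nat_lit 6887) (nat_lit 3)))) (BT.node (nat_lit 7019) (BT.leaf (.pt (nat_lit 5019) (nat_lit 4))) (BT.leaf (.pt (nat_lit 5426) (nat_lit 3))))) (BT.node (nat_lit 7022) (BT.node (nat_lit 7021) (BT.leaf (.pt (nat_lit 6558) (nat_lit 3))) (BT.leaf (.pt (nat_lit 6930) (nat_lit 4)))) (BT.node (nat_lit 7023) (BT.leaf (.pt (nat_lit 7021) (nat_lit 1))) (BT.leaf (.pt (nat_lit 7022) (nat_lit 4)))))))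 (BT.node (nat_lit 7032) (BT.node (nat_lit 7028) (BT.node (nat_lit 7026) (BT.node (nat_lit 7025) (BT.leaf (.pt (nat_lit 5354) (nat_lit 4))) (BT.leaf (.pt (nat_lit 6263) (nat_lit 3)))) (BT.node (nat_lit 7027) (BT.leaf (.pt (nat_lit 7025) (nat_lit 1))) (BT.leaf (.pt (nat_lit 7026) (nat_lit 4))))) (BT.node (nat_lit 7030) (BT.node (nat_lit 7029) (BT.leaf (.pt (nat_lit 7027) (nat_lit 1))) (BT.leaf (.pt (nat_lit 4568) (nat_lit 3)))) (BT.node (nat_lit 7031) (BT.leaf (.cov [] [⟨(nat_lit 3348), (nat_lit 4819), [(nat_lit 151), (nat_lit 162)]⟩, ⟨(nat_lit 3350), (nat_lit 6600), [(nat_lit 759), (nat_lit 420)]⟩, ⟨(nat_lit 3353), (nat_lit 7010), [(nat_lit 1600), (nat_lit 222)]⟩, ⟨(nat_lit 3354), (nat_lit 5856), [(nat_lit 707), (nat_lit 968)]⟩, ⟨(nat_lit 3357), (nat_lit 7011), [(nat_lit 351), (nat_lit 263)]⟩, ⟨(nat_lit 3361), (nat_lit 5343), [(nat_lit 513), (nat_lit 875)]⟩, ⟨(nat_lit 3363), (nat_lit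 5755), [(nat_lit 403), (nat_lit 439)]⟩, ⟨(nat_lit 3364), (nat_lit 6661), [(nat_lit 941), (nat_lit 204)]⟩, ⟨(nat_lit 3369), (nat_lit 7013), [(nat_lit 259), (nat_lit 269)]⟩, ⟨(nat_lit 3373), (nat_lit 4888), [(nat_lit 281), (nat_lit 293)]⟩, ⟨(nat_lit 3377), (nat_lit 4880), [(nat_lit 1012), (nat_lit 162)]⟩, ⟨(nat_lit 3384), (nat_lit 7015), [(nat_lit 1195), (nat_lit 898)]⟩, ⟨(nat_lit 3385), (nat_lit 5282), [(nat_lit 212), (nat_lit 222)]⟩, ⟨(nat_lit 3387), (nat_lit 5132), [(nat_lit 207), (nat_lit 555)]⟩, ⟨(nat_lit 3394), (nat_lit 5858), [(nat_lit 130), (nat_lit 190)]⟩, ⟨(nat_lit 3401), (nat_lit 4794), [(nat_lit 492), (nat_lit 431)]⟩, ⟨(nat_lit 3406), (nat_lit 4639), [(nat_lit 403), (nat_lit 234)]⟩, ⟨(nat_lit 3410), (nat_lit 7016), [(nat_lit 280), (nat_lit 398)]⟩, ⟨(nat_lit 3414), (nat_lit 7017), [(nat_lit 488), (nat_lit 202)]⟩, ⟨(nat_lit 3425), (nat_lit 5530), [(nat_lit 364), (nat_lit 814)]⟩,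 ⟨(nat_lit 3430), (nat_lit 5283), [(nat_lit 178), (nat_lit 1211)]⟩, ⟨(nat_lit 3432), (nat_lit 7018), [(nat_lit 151), (nat_lit 821)]⟩, ⟨(nat_lit 3439), (nat_lit 5952), [(nat_lit 673), (nat_lit 1256)]⟩, ⟨(nat_lit 3442), (nat_lit 5538), [(nat_lit 441), (nat_lit 628)]⟩, ⟨(nat_lit 3445), (nat_lit 7019), [(nat_lit 194), (nat_lit 0)]⟩, ⟨(nat_lit 3446), (nat_lit 7020), [(nat_lit 260), (nat_lit 172)]⟩, ⟨(nat_lit 3460), (nat_lit 6790), [(nat_lit 211), (nat_lit 985)]⟩, ⟨(nat_lit 3463), (nat_lit 7023), [(nat_lit 673), (nat_lit 878)]⟩, ⟨(nat_lit 3464), (nat_lit 7024), [(nat_lit 284), (nat_lit 1478)]⟩, ⟨(nat_lit 3467), (nat_lit 7028), [(nat_lit 618), (nat_lit 556)]⟩, ⟨(nat_lit 3468), (nat_lit 5510), [(nat_lit 789), (nat_lit 813)]⟩, ⟨(nat_lit 3470), (nat_lit 5295), [(nat_lit 520), (nat_lit 490)]⟩, ⟨(nat_lit 3476), (nat_lit 4865), [(nat_lit 1102)]⟩, ⟨(nat_lit 3481), (nat_lit 4818), [(nat_lit 462),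 (nat_lit 306)]⟩, ⟨(nat_lit 3483), (nat_lit 4805), [(nat_lit 271), (nat_lit 475)]⟩, ⟨(nat_lit 3484), (nat_lit 4778), [(nat_lit 197), (nat_lit 874)]⟩, ⟨(nat_lit 3489), (nat_lit 6531), [(nat_lit 783), (nat_lit 573)]⟩, ⟨(nat_lit 3491), (nat_lit 5834), [(nat_lit 825), (nat_lit 205)]⟩, ⟨(nat_lit 3494), (nat_lit 6611), [(nat_lit 941), (nat_lit 878)]⟩, ⟨(nat_lit 3501), (nat_lit 7029), [(nat_lit 292), (nat_lit 1745)]⟩])) (BT.leaf (.pt (nat_lit 6578) (nat_lit 1)))))) (BT.node (nat_lit 7036) (BT.node (nat_lit 7034) (BT.node (nat_lit 7033) (BT.leaf (.pt (nat_lit 7031) (nat_lit 4))) (BT.leaf (.pt (nat_lit 5251) (nat_lit 1)))) (BT.node (nat_lit 7035) (BT.leaf (.pt (nat_lit 7008) (nat_lit 3))) (BT.leaf (.pt (nat_lit 7034) (nat_lit 1))))) (BT.node (nat_lit 7038) (BT.node (nat_lit 7037) (BT.leaf (.pt (nat_lit 7035) (nat_lit 3))) (BT.leaf (.pt (nat_lit 6532) (nat_lit 3)))) (BT.node (nat_lit 7039) (BT.leaf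 (.pt (nat_lit 7037) (nat_lit 1))) (BT.leaf (.pt (nat_lit 7038) (nat_lit 4)))))))))
noncomputable def cF7040 : BT Fc := (BT.node (nat_lit 7072) (BT.node (nat_lit 7056) (BT.node (nat_lit 7048) (BT.node (nat_lit 7044) (BT.node (nat_lit 7042) (BT.node (nat_lit 7041) (BT.leaf ⟨(nat_lit 4), (nat_lit 2032), (nat_lit 0), (nat_lit 0xcebbd73839ce93990b79b3eeb8d73a), (nat_lit 0), (nat_lit 0)⟩) (BT.leaf ⟨(nat_lit 4), (nat_lit 2033), (nat_lit 0), (nat_lit 0x1cccdc7350f14e79d5c1db69bc862c), (nat_lit 0), (nat_lit 0)⟩)) (BT.node (nat_lit 7043) (BT.leaf ⟨(nat_lit 4), (nat_lit 3271), (nat_lit 0), (nat_lit 0x151a7a7e840417d0858d3c680502280), (nat_lit 0), (nat_lit 0)⟩) (BT.leaf ⟨(nat_lit 4), (nat_lit 2946), (nat_lit 0), (nat_lit 0x11bbbebe76c7e40ad4a53c6e8f05be1), (nat_lit 0), (nat_lit 0)⟩))) (BT.node (nat_lit 7046) (BT.node (nat_lit 7045) (BT.leaf ⟨(nat_lit 4), (nat_lit 2574), (nat_lit 0), (nat_lit 0x1a3484110300c006a82f9d0ee6b9904),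 (nat_lit 0), (nat_lit 0)⟩) (BT.leaf ⟨(nat_lit 4), (nat_lit 2133), (nat_lit 0), (nat_lit 0x131f0599bbd8abaf52659d17a6fc568), (nat_lit 0), (nat_lit 0)⟩)) (BT.node (nat_lit 7047) (BT.leaf ⟨(nat_lit 4), (nat_lit 2598), (nat_lit 0), (nat_lit 0x81000043aa4be00010080ae77a008), (nat_lit 0), (nat_lit 0)⟩) (BT.leaf ⟨(nat_lit 4), (nat_lit 302), (nat_lit 0), (nat_lit 0x12acd92f4dc9c87ede74debfd0e76fc), (nat_lit 0), (nat_lit 0)⟩)))) (BT.node (nat_lit 7052) (BT.node (nat_lit 7050) (BT.node (nat_lit 7049) (BT.leaf ⟨(nat_lit 4), (nat_lit 3773), (nat_lit 0), (nat_lit 0x1bc37aed44d4bd3fa6f4df8a1fede74), (nat_lit 0), (nat_lit 0)⟩) (BT.leaf ⟨(nat_lit 4), (nat_lit 1575), (nat_lit 0), (nat_lit 0x1e3fc2ea2d1be2589d8d16effb86e58), (nat_lit 0), (nat_lit 0)⟩)) (BT.node (nat_lit 7051) (BT.leaf ⟨(nat_lit 4), (nat_lit 1904), (nat_lit 0), (nat_lit 0x14eb8d7baddf3679d73816fcab0ae3a), (nat_lit 0), (nat_lit 0)⟩) (BT.leaf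 ⟨(nat_lit 4), (nat_lit 670), (nat_lit 0), (nat_lit 0xc008df8420aa79513f029e7647010), (nat_lit 0), (nat_lit 0)⟩))) (BT.node (nat_lit 7054) (BT.node (nat_lit 7053) (BT.leaf ⟨(nat_lit 4), (nat_lit 1883), (nat_lit 0), (nat_lit 0x1bd8ebf8f9380092ec021057a9012bb), (nat_lit 0), (nat_lit 0)⟩) (BT.leaf ⟨(nat_lit 4), (nat_lit 2369), (nat_lit 0), (nat_lit 0x11ce31d73c59570cdb49f20a1e393fe), (nat_lit 0), (nat_lit 0)⟩)) (BT.node (nat_lit 7055) (BT.leaf ⟨(nat_lit 4), (nat_lit 2370), (nat_lit 0), (nat_lit 0x8014058d0be8067a54665ef54f1a40), (nat_lit 0), (nat_lit 0)⟩) (BT.leaf ⟨(nat_lit 4), (nat_lit 1578), (nat_lit 0), (nat_lit 0x1de8a00608676a0200c09bdad120042), (nat_lit 0), (nat_lit 0)⟩))))) (BT.node (nat_lit 7064) (BT.node (nat_lit 7060) (BT.node (nat_lit 7058) (BT.node (nat_lit 7057) (BT.leaf ⟨(nat_lit 4), (nat_lit 1241), (nat_lit 0), (nat_lit 0x1cc89380a8f68237e1ddbc00264b785), (nat_lit 0), (nat_lit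 0)⟩) (BT.leaf ⟨(nat_lit 5), (nat_lit 7), (nat_lit 0), (nat_lit 0xa0000000000000040000000000000040000000000000002000000000000000000000000000000000000000000000000000000008000100000000000000000000000001000000020000000000000000000000000000008000000000000000000000000000008000000000000000000000000000000000000000100000000000000000000000000000000000000000002000000040000000000000800000000000000000000000000000000000080000040000000000000000040000040000000000000000000000000000000000200000000000004000000000020000000000000000000000000000000100000800000000000008000000000000000000000000000000000000000000000000000000000000000000000000000000000000000000000000000000000000000000000000000080000000000000000000020000000000000000000000800000000000010010000000000000000000000000000000100000000000000040000000000000000000000000001000000000000010000000000000400000000000000000000000000000000000000002000000000000000000000200000000000000000000000000004000000000000000000004000000000000004000000000000000000000000000000000000000),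 (nat_lit 0), (nat_lit 0)⟩)) (BT.node (nat_lit 7059) (BT.leaf ⟨(nat_lit 4), (nat_lit 2309), (nat_lit 0), (nat_lit 0x15709712f21f31c95acc27e4b75116f), (nat_lit 0), (nat_lit 0)⟩) (BT.leaf ⟨(nat_lit 4), (nat_lit 2694), (nat_lit 0), (nat_lit 0xfcf7279d0a093fab46327e71408030), (nat_lit 0), (nat_lit 0)⟩))) (BT.node (nat_lit 7062) (BT.node (nat_lit 7061) (BT.leaf ⟨(nat_lit 4), (nat_lit 580), (nat_lit 0), (nat_lit 0x1082e4022f5a0c36a0213ea2814cf1a), (nat_lit 0), (nat_lit 0)⟩) (BT.leaf ⟨(nat_lit 4), (nat_lit 693), (nat_lit 0), (nat_lit 0x197d2da5dd826f13fe2c6bf5956fb70), (nat_lit 0), (nat_lit 0)⟩)) (BT.node (nat_lit 7063) (BT.leaf ⟨(nat_lit 4), (nat_lit 888), (nat_lit 0), (nat_lit 0x7a3a8cc72ed5a1695f8c16996742ae), (nat_lit 0), (nat_lit 0)⟩) (BT.leaf ⟨(nat_lit 4), (nat_lit 1136), (nat_lit 0), (nat_lit 0xfcd1b2e394a78df0fe3c16f896677d), (nat_lit 0), (nat_lit 0)⟩)))) (BT.node (nat_lit 7068) (BT.node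 (nat_lit 7066) (BT.node (nat_lit 7065) (BT.leaf ⟨(nat_lit 4), (nat_lit 3030), (nat_lit 0), (nat_lit 0x1ce201042e8800c8149c02480b7b471), (nat_lit 0), (nat_lit 0)⟩) (BT.leaf ⟨(nat_lit 4), (nat_lit 2806), (nat_lit 0), (nat_lit 0x1238e2ee48c6fcefc72a02406028756), (nat_lit 0), (nat_lit 0)⟩)) (BT.node (nat_lit 7067) (BT.leaf ⟨(nat_lit 4), (nat_lit 2470), (nat_lit 0), (nat_lit 0x16c5cb02fab84b4d792b2df31d667db), (nat_lit 0), (nat_lit 0)⟩) (BT.leaf ⟨(nat_lit 4), (nat_lit 1991), (nat_lit 0), (nat_lit 0x110283a3d69deb834de2de900a0433), (nat_lit 0), (nat_lit 0)⟩))) (BT.node (nat_lit 7070) (BT.node (nat_lit 7069) (BT.leaf ⟨(nat_lit 4), (nat_lit 1990), (nat_lit 0), (nat_lit 0x10ea880de84bd2ff8d201d1b9d3e3), (nat_lit 0), (nat_lit 0)⟩) (BT.leaf ⟨(nat_lit 4), (nat_lit 101), (nat_lit 0), (nat_lit 0x1ceb9dfbaacbdeb1d2d20f873b0ad83), (nat_lit 0), (nat_lit 0)⟩)) (BT.node (nat_lit 7071) (BT.leaf ⟨(nat_lit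 4), (nat_lit 136), (nat_lit 0), (nat_lit 0xab9ec669bffd11a37460f832fe3519), (nat_lit 0), (nat_lit 0)⟩) (BT.leaf ⟨(nat_lit 4), (nat_lit 2469), (nat_lit 0), (nat_lit 0x1c857a6f4ce9bc36a6f6df8a1cd96f5), (nat_lit 0), (nat_lit 0)⟩)))))) (BT.node (nat_lit 7088) (BT.node (nat_lit 7080) (BT.node (nat_lit 7076) (BT.node (nat_lit 7074) (BT.node (nat_lit 7073) (BT.leaf ⟨(nat_lit 4), (nat_lit 2359), (nat_lit 0), (nat_lit 0x87c60048080be7836b4b50104a0044), (nat_lit 0), (nat_lit 0)⟩) (BT.leaf ⟨(nat_lit 4), (nat_lit 1905), (nat_lit 0), (nat_lit 0x6f3bebe77c6b8df12362b536705fe3), (nat_lit 0), (nat_lit 0)⟩)) (BT.node (nat_lit 7075) (BT.leaf ⟨(nat_lit 4), (nat_lit 3080), (nat_lit 0), (nat_lit 0xf9cad2cc94af0d1b363f20fcdd1cd9), (nat_lit 0), (nat_lit 0)⟩) (BT.leaf ⟨(nat_lit 4), (nat_lit 2713), (nat_lit 0), (nat_lit 0x1c36b4155300220602809e620bdd2df), (nat_lit 0), (nat_lit 0)⟩))) (BT.node (nat_lit 7078)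 (BT.node (nat_lit 7077) (BT.leaf ⟨(nat_lit 4), (nat_lit 2338), (nat_lit 0), (nat_lit 0x19ce39349c5957239bfe9e6a1ed3573), (nat_lit 0), (nat_lit 0)⟩) (BT.leaf ⟨(nat_lit 4), (nat_lit 1889), (nat_lit 0), (nat_lit 0x1fa2e44e8f6f0f58e5e098f7e2b45a8), (nat_lit 0), (nat_lit 0)⟩)) (BT.node (nat_lit 7079) (BT.leaf ⟨(nat_lit 5), (nat_lit 7), (nat_lit 0), (nat_lit 0x10000000000000000000000000000000000000000000000000000000000000002000000000000000000000000000000000000000000000000000000400000000000000000000000100000000000000000000000000000000100000000000000000000000000000000000000000002000000000000000000000000000000000000000000000000000040000000000000000000000000000000000000000000800000000000200000000000000000000000000000000400000000000000000000000800000100000000000000000000010000000000000000000002000000002000400000000000000000000200020000000000000000000000000000000000000800008000000000040000000200000000000100000000000000000000000000000000000000000000000000000000000401000000000000000000400000000000000000000000200000000100000000000080000000000001000000000020000000000000000000000000000000000000000200000000000000000000000000000000000000000000000000000000000010100000000000000000000000000200000000000000000000000000000000000000000000008000000000000000100000000000000000010000000001000000000000000400000000),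 (nat_lit 0), (nat_lit 0)⟩) (BT.leaf ⟨(nat_lit 4), (nat_lit 1842), (nat_lit 0), (nat_lit 0x1df64f49cd829ab4f4bea965da47627), (nat_lit 0), (nat_lit 0)⟩)))) (BT.node (nat_lit 7084) (BT.node (nat_lit 7082) (BT.node (nat_lit 7081) (BT.leaf ⟨(nat_lit 4), (nat_lit 2318), (nat_lit 0), (nat_lit 0x18e8e7732c2a1f29d33aacbcaa6cba4), (nat_lit 0), (nat_lit 0)⟩) (BT.leaf ⟨(nat_lit 4), (nat_lit 2702), (nat_lit 0), (nat_lit 0x197d2f9bcd83749c535facab7d2bb70), (nat_lit 0), (nat_lit 0)⟩)) (BT.node (nat_lit 7083) (BT.leaf ⟨(nat_lit 4), (nat_lit 603), (nat_lit 0), (nat_lit 0x1757f1b3a0e7102106b9810279c6c01), (nat_lit 0), (nat_lit 0)⟩) (BT.leaf ⟨(nat_lit 4), (nat_lit 3099), (nat_lit 0), (nat_lit 0x1ccb952d2ef5cef8d63ab062dc3e7ba), (nat_lit 0), (nat_lit 0)⟩))) (BT.node (nat_lit 7086) (BT.node (nat_lit 7085) (BT.leaf ⟨(nat_lit 4), (nat_lit 677), (nat_lit 0), (nat_lit 0x1ad0bca6afb6c70e72f4e43b9255c4d), (nat_lit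 0), (nat_lit 0)⟩) (BT.leaf ⟨(nat_lit 4), (nat_lit 2486), (nat_lit 0), (nat_lit 0x7d51b0facb0e2aeabd51aa7161e9d7), (nat_lit 0), (nat_lit 0)⟩)) (BT.node (nat_lit 7087) (BT.leaf ⟨(nat_lit 4), (nat_lit 2011), (nat_lit 0), (nat_lit 0xc00804e82044071d1201ab91817e8d), (nat_lit 0), (nat_lit 0)⟩) (BT.leaf ⟨(nat_lit 4), (nat_lit 2012), (nat_lit 0), (nat_lit 0x78dd1c6e7c2b32529bc7c545d1b7e3), (nat_lit 0), (nat_lit 0)⟩))))) (BT.node (nat_lit 7096) (BT.node (nat_lit 7092) (BT.node (nat_lit 7090) (BT.node (nat_lit 7089) (BT.leaf ⟨(nat_lit 4), (nat_lit 2139), (nat_lit 0), (nat_lit 0x978049d4802206f4a017c4047c6003), (nat_lit 0), (nat_lit 0)⟩) (BT.leaf ⟨(nat_lit 4), (nat_lit 2305), (nat_lit 0), (nat_lit 0x5dad45e9ea33a305decbd55a16931c), (nat_lit 0), (nat_lit 0)⟩)) (BT.node (nat_lit 7091) (BT.leaf ⟨(nat_lit 4), (nat_lit 2834), (nat_lit 0), (nat_lit 0x56a6cca58dde41f5d17c16d8d1b3e3), (nat_lit 0), (nat_lit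 0)⟩) (BT.leaf ⟨(nat_lit 4), (nat_lit 1836), (nat_lit 0), (nat_lit 0x131cf45ec4cb7aae45e887b5a2d460b), (nat_lit 0), (nat_lit 0)⟩))) (BT.node (nat_lit 7094) (BT.node (nat_lit 7093) (BT.leaf ⟨(nat_lit 4), (nat_lit 2259), (nat_lit 0), (nat_lit 0x16c5ec59e62752e4749f9bd2fa4e49a), (nat_lit 0), (nat_lit 0)⟩) (BT.leaf ⟨(nat_lit 4), (nat_lit 479), (nat_lit 0), (nat_lit 0x20009d50057a0026f48e7e3480200), (nat_lit 0), (nat_lit 0)⟩)) (BT.node (nat_lit 7095) (BT.leaf ⟨(nat_lit 4), (nat_lit 646), (nat_lit 0), (nat_lit 0xa1eae573ce63b59ac7b8e7e42d3471), (nat_lit 0), (nat_lit 0)⟩) (BT.leaf ⟨(nat_lit 4), (nat_lit 800), (nat_lit 0), (nat_lit 0x1bd408803402751f15e993fcec00805), (nat_lit 0), (nat_lit 0)⟩)))) (BT.node (nat_lit 7100) (BT.node (nat_lit 7098) (BT.node (nat_lit 7097) (BT.leaf ⟨(nat_lit 4), (nat_lit 1070), (nat_lit 0), (nat_lit 0x5da6f49e93427acf26a93ec4e4e69e), (nat_lit 0), (nat_lit 0)⟩) (BT.leaf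 ⟨(nat_lit 4), (nat_lit 2671), (nat_lit 0), (nat_lit 0xf8a00805dea4baf48033a897a4fab8), (nat_lit 0), (nat_lit 0)⟩)) (BT.node (nat_lit 7099) (BT.leaf ⟨(nat_lit 4), (nat_lit 2279), (nat_lit 0), (nat_lit 0x75ccad4b6d996377a363a8554e8f21), (nat_lit 0), (nat_lit 0)⟩) (BT.leaf ⟨(nat_lit 4), (nat_lit 2278), (nat_lit 0), (nat_lit 0xa39de857200408200009cebc6c9e), (nat_lit 0), (nat_lit 0)⟩))) (BT.node (nat_lit 7102) (BT.node (nat_lit 7101) (BT.leaf ⟨(nat_lit 4), (nat_lit 3002), (nat_lit 0), (nat_lit 0x12398989eb3d89e4e1761dae934f54b), (nat_lit 0), (nat_lit 0)⟩) (BT.leaf ⟨(nat_lit 4), (nat_lit 2829), (nat_lit 0), (nat_lit 0x1008f433a881756087e3808e360465f), (nat_lit 0), (nat_lit 0)⟩)) (BT.node (nat_lit 7103) (BT.leaf ⟨(nat_lit 4), (nat_lit 1446), (nat_lit 0), (nat_lit 0xfac2447b92d780ee808e648200c088), (nat_lit 0), (nat_lit 0)⟩) (BT.leaf ⟨(nat_lit 4), (nat_lit 1588), (nat_lit 0), (nat_lit 0x6c8bcb1c39d13778287e43f6f7ad17),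 (nat_lit 0), (nat_lit 0)⟩)))))))
noncomputable def cP7040 : BT Pf := (BT.node (nat_lit 7072) (BT.node (nat_lit 7056) (BT.node (nat_lit 7048) (BT.node (nat_lit 7044) (BT.node (nat_lit 7042) (BT.node (nat_lit 7041) (BT.leaf (.pt (nat_lit 5904) (nat_lit 1))) (BT.leaf (.pt (nat_lit 7040) (nat_lit 3)))) (BT.node (nat_lit 7043) (BT.leaf (.pt (nat_lit 4996) (nat_lit 3))) (BT.leaf (.pt (nat_lit 7042) (nat_lit 1))))) (BT.node (nat_lit 7046) (BT.node (nat_lit 7045) (BT.leaf (.pt (nat_lit 7043) (nat_lit 4))) (BT.leaf (.pt (nat_lit 7044) (nat_lit 1)))) (BT.node (nat_lit 7047) (BT.leaf (.pt (nat_lit 5089) (nat_lit 4))) (BT.leaf (.pt (nat_lit 5747) (nat_lit 3)))))) (BT.node (nat_lit 7052) (BT.node (nat_lit 7050) (BT.node (nat_lit 7049) (BT.leaf (.pt (nat_lit 5448) (nat_lit 4))) (BT.leaf (.pt (nat_lit 6640) (nat_lit 3)))) (BT.node (nat_lit 7051) (BT.leaf (.pt (nat_lit 7049) (nat_lit 1))) (BT.leaf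 (.pt (nat_lit 6776) (nat_lit 4))))) (BT.node (nat_lit 7054) (BT.node (nat_lit 7053) (BT.leaf (.pt (nat_lit 6404) (nat_lit 4))) (BT.leaf (.pt (nat_lit 6683) (nat_lit 1)))) (BT.node (nat_lit 7055) (BT.leaf (.pt (nat_lit 7053) (nat_lit 3))) (BT.leaf (.pt (nat_lit 6739) (nat_lit 1))))))) (BT.node (nat_lit 7064) (BT.node (nat_lit 7060) (BT.node (nat_lit 7058) (BT.node (nat_lit 7057) (BT.leaf (.pt (nat_lit 7055) (nat_lit 3))) (BT.leaf (.cov [] [⟨(nat_lit 3502), (nat_lit 7032), [(nat_lit 746), (nat_lit 627)]⟩, ⟨(nat_lit 3505), (nat_lit 7033), [(nat_lit 356), (nat_lit 252)]⟩, ⟨(nat_lit 3507), (nat_lit 6184), [(nat_lit 734), (nat_lit 498)]⟩, ⟨(nat_lit 3509), (nat_lit 7036), [(nat_lit 551), (nat_lit 141)]⟩, ⟨(nat_lit 3512), (nat_lit 4980), [(nat_lit 826), (nat_lit 369)]⟩, ⟨(nat_lit 3517), (nat_lit 5754), [(nat_lit 258), (nat_lit 126)]⟩, ⟨(nat_lit 3524), (nat_lit 6459), [(nat_lit 1174), (nat_lit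 252)]⟩, ⟨(nat_lit 3529), (nat_lit 6263), [(nat_lit 258), (nat_lit 813)]⟩, ⟨(nat_lit 3532), (nat_lit 5967), [(nat_lit 381), (nat_lit 288)]⟩, ⟨(nat_lit 3545), (nat_lit 4870), [(nat_lit 151), (nat_lit 1036)]⟩, ⟨(nat_lit 3555), (nat_lit 5309), [(nat_lit 575), (nat_lit 290)]⟩, ⟨(nat_lit 3557), (nat_lit 5048), [(nat_lit 353), (nat_lit 585)]⟩, ⟨(nat_lit 3581), (nat_lit 6426), [(nat_lit 783), (nat_lit 868)]⟩, ⟨(nat_lit 3597), (nat_lit 6672), [(nat_lit 376), (nat_lit 125)]⟩, ⟨(nat_lit 3601), (nat_lit 7039), [(nat_lit 254), (nat_lit 108)]⟩, ⟨(nat_lit 3607), (nat_lit 4709), [(nat_lit 422), (nat_lit 818)]⟩, ⟨(nat_lit 3621), (nat_lit 7041), [(nat_lit 177), (nat_lit 874)]⟩, ⟨(nat_lit 3628), (nat_lit 4674), [(nat_lit 196), (nat_lit 1849)]⟩, ⟨(nat_lit 3642), (nat_lit 6313), [(nat_lit 355), (nat_lit 870)]⟩, ⟨(nat_lit 3643), (nat_lit 6874), [(nat_lit 392), (nat_lit 651)]⟩, ⟨(nat_lit 3647), (nat_lit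 7045), [(nat_lit 445), (nat_lit 1745)]⟩, ⟨(nat_lit 3652), (nat_lit 7046), [(nat_lit 726), (nat_lit 652)]⟩, ⟨(nat_lit 3655), (nat_lit 4757), [(nat_lit 911), (nat_lit 740)]⟩, ⟨(nat_lit 3667), (nat_lit 4853), [(nat_lit 295), (nat_lit 449)]⟩, ⟨(nat_lit 3671), (nat_lit 7047), [(nat_lit 483), (nat_lit 491)]⟩, ⟨(nat_lit 3676), (nat_lit 5348), [(nat_lit 502), (nat_lit 270)]⟩, ⟨(nat_lit 3688), (nat_lit 7048), [(nat_lit 2124), (nat_lit 1256)]⟩, ⟨(nat_lit 3689), (nat_lit 7050), [(nat_lit 953), (nat_lit 985)]⟩, ⟨(nat_lit 3696), (nat_lit 6393), [(nat_lit 295), (nat_lit 140)]⟩, ⟨(nat_lit 3707), (nat_lit 7051), [(nat_lit 789), (nat_lit 694)]⟩, ⟨(nat_lit 3709), (nat_lit 6125), [(nat_lit 353), (nat_lit 818)]⟩, ⟨(nat_lit 3712), (nat_lit 6320), [(nat_lit 255), (nat_lit 740)]⟩, ⟨(nat_lit 3716), (nat_lit 6721), [(nat_lit 255), (nat_lit 375)]⟩, ⟨(nat_lit 3721), (nat_lit 7052), [(nat_lit 196), (nat_lit 864)]⟩,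 ⟨(nat_lit 3726), (nat_lit 7054), [(nat_lit 215), (nat_lit 306)]⟩, ⟨(nat_lit 3736), (nat_lit 5207), [(nat_lit 282), (nat_lit 142)]⟩, ⟨(nat_lit 3745), (nat_lit 7056), [(nat_lit 359), (nat_lit 581)]⟩, ⟨(nat_lit 3747), (nat_lit 4864), [(nat_lit 675), (nat_lit 225)]⟩, ⟨(nat_lit 3757), (nat_lit 5240), [(nat_lit 283), (nat_lit 426)]⟩, ⟨(nat_lit 3760), (nat_lit 4966), [(nat_lit 467), (nat_lit 530)]⟩]))) (BT.node (nat_lit 7059) (BT.leaf (.pt (nat_lit 6236) (nat_lit 4))) (BT.leaf (.pt (nat_lit 7058) (nat_lit 1))))) (BT.node (nat_lit 7062) (BT.node (nat_lit 7061) (BT.leaf (.pt (nat_lit 6734) (nat_lit 4))) (BT.leaf (.pt (nat_lit 6977) (nat_lit 1)))) (BT.node (nat_lit 7063) (BT.leaf (.pt (nat_lit 7061) (nat_lit 3))) (BT.leaf (.pt (nat_lit 7062) (nat_lit 1)))))) (BT.node (nat_lit 7068) (BT.node (nat_lit 7066) (BT.node (nat_lit 7065) (BT.leaf (.pt (nat_lit 5983) (nat_lit 4))) (BT.leaf (.pt (nat_lit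 7064) (nat_lit 1)))) (BT.node (nat_lit 7067) (BT.leaf (.pt (nat_lit 7065) (nat_lit 4))) (BT.leaf (.pt (nat_lit 7066) (nat_lit 1))))) (BT.node (nat_lit 7070) (BT.node (nat_lit 7069) (BT.leaf (.pt (nat_lit 7067) (nat_lit 4))) (BT.leaf (.pt (nat_lit 6009) (nat_lit 4)))) (BT.node (nat_lit 7071) (BT.leaf (.pt (nat_lit 7069) (nat_lit 1))) (BT.leaf (.pt (nat_lit 4965) (nat_lit 3)))))))) (BT.node (nat_lit 7088) (BT.node (nat_lit 7080) (BT.node (nat_lit 7076) (BT.node (nat_lit 7074) (BT.node (nat_lit 7073) (BT.leaf (.pt (nat_lit 5660) (nat_lit 1))) (BT.leaf (.pt (nat_lit 7072) (nat_lit 3)))) (BT.node (nat_lit 7075) (BT.leaf (.pt (nat_lit 6823) (nat_lit 1))) (BT.leaf (.pt (nat_lit 6587) (nat_lit 4))))) (BT.node (nat_lit 7078) (BT.node (nat_lit 7077) (BT.leaf (.pt (nat_lit 7075) (nat_lit 1))) (BT.leaf (.pt (nat_lit 7076) (nat_lit 3)))) (BT.node (nat_lit 7079) (BT.leaf (.cov [] [⟨(nat_lit 3761),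 (nat_lit 6481), [(nat_lit 152), (nat_lit 584)]⟩, ⟨(nat_lit 3772), (nat_lit 5230), [(nat_lit 239), (nat_lit 1100)]⟩, ⟨(nat_lit 3775), (nat_lit 5110), [(nat_lit 468), (nat_lit 222)]⟩, ⟨(nat_lit 3780), (nat_lit 6923), [(nat_lit 511), (nat_lit 814)]⟩, ⟨(nat_lit 3782), (nat_lit 7059), [(nat_lit 567), (nat_lit 1348)]⟩, ⟨(nat_lit 3785), (nat_lit 5610), [(nat_lit 569), (nat_lit 700)]⟩, ⟨(nat_lit 3787), (nat_lit 6131), [(nat_lit 520), (nat_lit 875)]⟩, ⟨(nat_lit 3792), (nat_lit 5335), [(nat_lit 176), (nat_lit 438)]⟩, ⟨(nat_lit 3794), (nat_lit 6360), [(nat_lit 467), (nat_lit 898)]⟩, ⟨(nat_lit 3799), (nat_lit 7060), [(nat_lit 484), (nat_lit 821)]⟩, ⟨(nat_lit 3801), (nat_lit 6713), [(nat_lit 466), (nat_lit 204)]⟩, ⟨(nat_lit 3806), (nat_lit 4694), [(nat_lit 825), (nat_lit 751)]⟩, ⟨(nat_lit 3819), (nat_lit 5644), [(nat_lit 1099), (nat_lit 270)]⟩, ⟨(nat_lit 3824), (nat_lit 7063), [(nat_lit 1013),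 (nat_lit 399)]⟩, ⟨(nat_lit 3827), (nat_lit 4951), [(nat_lit 463), (nat_lit 1375)]⟩, ⟨(nat_lit 3829), (nat_lit 6828), [(nat_lit 394), (nat_lit 1216)]⟩, ⟨(nat_lit 3833), (nat_lit 4875), [(nat_lit 734), (nat_lit 290)]⟩, ⟨(nat_lit 3835), (nat_lit 6094), [(nat_lit 254), (nat_lit 142)]⟩, ⟨(nat_lit 3844), (nat_lit 5939), [(nat_lit 381), (nat_lit 190)]⟩, ⟨(nat_lit 3845), (nat_lit 6826), [(nat_lit 1056), (nat_lit 497)]⟩, ⟨(nat_lit 3851), (nat_lit 7068), [(nat_lit 787), (nat_lit 91)]⟩, ⟨(nat_lit 3853), (nat_lit 5133), [(nat_lit 239), (nat_lit 247)]⟩, ⟨(nat_lit 3855), (nat_lit 7070), [(nat_lit 832), (nat_lit 835)]⟩, ⟨(nat_lit 3857), (nat_lit 4545), [(nat_lit 1162), (nat_lit 585)]⟩, ⟨(nat_lit 3861), (nat_lit 6139), [(nat_lit 284), (nat_lit 891)]⟩, ⟨(nat_lit 3863), (nat_lit 7071), [(nat_lit 1013), (nat_lit 1226)]⟩, ⟨(nat_lit 3864), (nat_lit 5875), [(nat_lit 416), (nat_lit 1009)]⟩, ⟨(nat_lit 3867),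 (nat_lit 5557), [(nat_lit 462), (nat_lit 1053)]⟩, ⟨(nat_lit 3869), (nat_lit 4605), [(nat_lit 380), (nat_lit 235)]⟩, ⟨(nat_lit 3875), (nat_lit 7073), [(nat_lit 503), (nat_lit 190)]⟩, ⟨(nat_lit 3877), (nat_lit 4552), [(nat_lit 538), (nat_lit 875)]⟩, ⟨(nat_lit 3883), (nat_lit 5427), [(nat_lit 178), (nat_lit 420)]⟩, ⟨(nat_lit 3885), (nat_lit 7074), [(nat_lit 215), (nat_lit 265)]⟩, ⟨(nat_lit 3887), (nat_lit 7077), [(nat_lit 826), (nat_lit 530)]⟩, ⟨(nat_lit 3892), (nat_lit 5317), [(nat_lit 281), (nat_lit 712)]⟩, ⟨(nat_lit 3894), (nat_lit 7076), [(nat_lit 94), (nat_lit 751)]⟩, ⟨(nat_lit 3897), (nat_lit 5758), [(nat_lit 815), (nat_lit 91)]⟩, ⟨(nat_lit 3907), (nat_lit 5026), [(nat_lit 177), (nat_lit 203)]⟩, ⟨(nat_lit 3918), (nat_lit 5184), [(nat_lit 913), (nat_lit 818)]⟩, ⟨(nat_lit 3926), (nat_lit 5822), [(nat_lit 215), (nat_lit 818)]⟩])) (BT.leaf (.pt (nat_lit 6453) (nat_lit 3)))))) (BT.node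 (nat_lit 7084) (BT.node (nat_lit 7082) (BT.node (nat_lit 7081) (BT.leaf (.pt (nat_lit 6652) (nat_lit 3))) (BT.leaf (.pt (nat_lit 7080) (nat_lit 1)))) (BT.node (nat_lit 7083) (BT.leaf (.pt (nat_lit 4633) (nat_lit 3))) (BT.leaf (.pt (nat_lit 5932) (nat_lit 3))))) (BT.node (nat_lit 7086) (BT.node (nat_lit 7085) (BT.leaf (.pt (nat_lit 4770) (nat_lit 4))) (BT.leaf (.pt (nat_lit 6987) (nat_lit 4)))) (BT.node (nat_lit 7087) (BT.leaf (.pt (nat_lit 7085) (nat_lit 1))) (BT.leaf (.pt (nat_lit 7086) (nat_lit 3))))))) (BT.node (nat_lit 7096) (BT.node (nat_lit 7092) (BT.node (nat_lit 7090) (BT.node (nat_lit 7089) (BT.leaf (.pt (nat_lit 7087) (nat_lit 1))) (BT.leaf (.pt (nat_lit 5192) (nat_lit 3)))) (BT.node (nat_lit 7091) (BT.leaf (.pt (nat_lit 6414) (nat_lit 4))) (BT.leaf (.pt (nat_lit 6250) (nat_lit 1))))) (BT.node (nat_lit 7094) (BT.node (nat_lit 7093) (BT.leaf (.pt (nat_lit 7091) (nat_lit 4)))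 (BT.leaf (.pt (nat_lit 4618) (nat_lit 3)))) (BT.node (nat_lit 7095) (BT.leaf (.pt (nat_lit 7093) (nat_lit 1))) (BT.leaf (.pt (nat_lit 7094) (nat_lit 3)))))) (BT.node (nat_lit 7100) (BT.node (nat_lit 7098) (BT.node (nat_lit 7097) (BT.leaf (.pt (nat_lit 7095) (nat_lit 1))) (BT.leaf (.pt (nat_lit 5453) (nat_lit 3)))) (BT.node (nat_lit 7099) (BT.leaf (.pt (nat_lit 7097) (nat_lit 1))) (BT.leaf (.pt (nat_lit 7098) (nat_lit 4))))) (BT.node (nat_lit 7102) (BT.node (nat_lit 7101) (BT.leaf (.pt (nat_lit 6223) (nat_lit 1))) (BT.leaf (.pt (nat_lit 5280) (nat_lit 3)))) (BT.node (nat_lit 7103) (BT.leaf (.pt (nat_lit 5973) (nat_lit 4))) (BT.leaf (.pt (nat_lit 6256) (nat_lit 1)))))))))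
noncomputable def cF7104 : BT Fc := (BT.node (nat_lit 7136) (BT.node (nat_lit 7120) (BT.node (nat_lit 7112) (BT.node (nat_lit 7108) (BT.node (nat_lit 7106) (BT.node (nat_lit 7105) (BT.leaf ⟨(nat_lit 4), (nat_lit 887), (nat_lit 0), (nat_lit 0x19a5ec0cbe8df1a5287c364abbab766), (nat_lit 0), (nat_lit 0)⟩) (BT.leaf ⟨(nat_lit 4), (nat_lit 351), (nat_lit 0), (nat_lit 0x1c18601959bd6a3e696f0901097ceb4), (nat_lit 0), (nat_lit 0)⟩)) (BT.node (nat_lit 7107) (BT.leaf ⟨(nat_lit 4), (nat_lit 453), (nat_lit 0), (nat_lit 0x49d2bab1df80639974e090020eec96), (nat_lit 0), (nat_lit 0)⟩) (BT.leaf ⟨(nat_lit 4), (nat_lit 81), (nat_lit 0), (nat_lit 0x196065b8dd445e45bbfea69e3237789), (nat_lit 0), (nat_lit 0)⟩))) (BT.node (nat_lit 7110) (BT.node (nat_lit 7109) (BT.leaf ⟨(nat_lit 4), (nat_lit 114), (nat_lit 0), (nat_lit 0x10f6fc5ec98f82ef4fe86393a3a8dc8), (nat_lit 0), (nat_lit 0)⟩) (BT.leaf ⟨(nat_lit 4), (nat_lit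 629), (nat_lit 0), (nat_lit 0x15a04808235f3cdb1fc6500204c00a0), (nat_lit 0), (nat_lit 0)⟩)) (BT.node (nat_lit 7111) (BT.leaf ⟨(nat_lit 5), (nat_lit 7), (nat_lit 0), (nat_lit 0x100000000000010000000000000000000000000000000000000000000000000000000000000080000000000000000000000000000000000002000000000000000000800000000000000000000000480000000000000000000000000000000000000000420000000000000000000000005000000400000000000000000000000000000000000000000000000000002000000000000000000000000000000000020000000000200400040000800000000000000000000000080000a000000000000000000000000000000000000000000000000000000000000000000000000040000000000000000000000000000000000000000000000000000000000000010000000000000000000000000000000000040000000000000000000000000000000000000000004000000000000000000000000000000000000000000000000004000000000000000040000000000000000000000000001800000000000000000000000000000000000000000000000000020000000000020000008000000000000000000000000000000000000200000000000000000000000000000010000000000000000000000000000000000000000000000000000040000000000000000000000000000),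 (nat_lit 0), (nat_lit 0)⟩) (BT.leaf ⟨(nat_lit 5), (nat_lit 7), (nat_lit 0), (nat_lit 0x1b119b40439620800c64d4100c012d108816940380110202295340a355202c0a982006e322924140a058e160966a31067069225540018d0192c10ea4d688272c4870800343d7a0d14d380c59a0024419f024a1502e6831a0581451d1100068a33501415882447088a284155e6e39e6e88642540c44620212ca2c0423a902f060459d11102ed8c714d40d018102a0380804424008154cda2e489044988c2206286050803961538828c60842ac920288819abd455087d0470a4808a0475ca45429bc8282a849f74681c6904a708a2b28b21b0080101022154ca0d4002feb8488664206070888006489c16928c1b98522844321c401404c801cc3819444e382e000889a90284300361522e0e0e882b80b48540a027d0c010d200994142850ba401401691e457e3ca212a9800810465ad94c806a31433893000340249d4c878060adf8522278800948039414a89a31d42417509119ab66ea9260d250a100944432a49800832070d2427003015559102cbc0b22408069582d08012572c1510b5226b735040421a012c408821944e64c256280aa8b19b056b0053a308e0436264706ece8c72022231160d895246382082832440a5140a03da980b899043882071900e3081409000004b545e33dd62640085a31146c080a003842844b301),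 (nat_lit 0), (nat_lit 0)⟩)))) (BT.node (nat_lit 7116) (BT.node (nat_lit 7114) (BT.node (nat_lit 7113) (BT.leaf ⟨(nat_lit 4), (nat_lit 1410), (nat_lit 0), (nat_lit 0x15729792e98e4adcb66965e43f51615), (nat_lit 0), (nat_lit 0)⟩) (BT.leaf ⟨(nat_lit 4), (nat_lit 1409), (nat_lit 0), (nat_lit 0x11cc0849ebd0800406f4f1aae402001), (nat_lit 0), (nat_lit 0)⟩)) (BT.node (nat_lit 7115) (BT.leaf ⟨(nat_lit 4), (nat_lit 1012), (nat_lit 0), (nat_lit 0x10f6f61764caabae42d2bc07a2f519b), (nat_lit 0), (nat_lit 0)⟩) (BT.leaf ⟨(nat_lit 4), (nat_lit 1013), (nat_lit 0), (nat_lit 0x3e817d5cd444b697b2fcd2e5893fdb), (nat_lit 0), (nat_lit 0)⟩))) (BT.node (nat_lit 7118) (BT.node (nat_lit 7117) (BT.leaf ⟨(nat_lit 4), (nat_lit 199), (nat_lit 0), (nat_lit 0x48017e3a2093a3468d5ae6408c0300), (nat_lit 0), (nat_lit 0)⟩) (BT.leaf ⟨(nat_lit 4), (nat_lit 1748), (nat_lit 0), (nat_lit 0x3035a4402de100284dee0c655d1860), (nat_lit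 0), (nat_lit 0)⟩)) (BT.node (nat_lit 7119) (BT.leaf ⟨(nat_lit 4), (nat_lit 339), (nat_lit 0), (nat_lit 0x5694caa9576ae2c1eb9d94e595ed34), (nat_lit 0), (nat_lit 0)⟩) (BT.leaf ⟨(nat_lit 5), (nat_lit 8), (nat_lit 0), (nat_lit 0xa00000000000000000018000002008001000000000000000000000000000000000000000000000000000000000000000000000020000000000000000000000000000400082008000400000800000000000000000000000000000000000000000000000000800080000000002000000000000000000000000000000000000010000000000000000000000000010004000008000000000000000000000000000000000000000000000000000000004400000000000000000000080000000000000000000000000000000000000000800000000000000000000000004000002020000000000000000000000000000000000000000000000004100000000000000000000000000000000000000000000000000000000000000000000000000000000000020000008000000000000000000000000000000000000000000000000000000000000000000000000000000000000000000020000000000000000000000000000000000000000000000000000000000000000000000000000000000000000000080000000000000000000000000000000000000000000000000000000000100000000000000008000000000000000000000000000110000080000000000000000000000000000000000000000000000001),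 (nat_lit 0), (nat_lit 0)⟩))))) (BT.node (nat_lit 7128) (BT.node (nat_lit 7124) (BT.node (nat_lit 7122) (BT.node (nat_lit 7121) (BT.leaf ⟨(nat_lit 4), (nat_lit 3497), (nat_lit 0), (nat_lit 0x1bd401de9403cee4f811003d1df178c), (nat_lit 0), (nat_lit 0)⟩) (BT.leaf ⟨(nat_lit 4), (nat_lit 3503), (nat_lit 0), (nat_lit 0x412fbe3f1a010046f4003002f4200), (nat_lit 0), (nat_lit 0)⟩)) (BT.node (nat_lit 7123) (BT.leaf ⟨(nat_lit 4), (nat_lit 3688), (nat_lit 0), (nat_lit 0x6561eb8a2abc84fae581ab6991b3d5), (nat_lit 0), (nat_lit 0)⟩) (BT.leaf ⟨(nat_lit 4), (nat_lit 2001), (nat_lit 0), (nat_lit 0xee7a8b6cb06ae554a99172ae29a2bd), (nat_lit 0), (nat_lit 0)⟩))) (BT.node (nat_lit 7126) (BT.node (nat_lit 7125) (BT.leaf ⟨(nat_lit 4), (nat_lit 2868), (nat_lit 0), (nat_lit 0x9750fe2ca326f1b827faca97c2f8e6), (nat_lit 0), (nat_lit 0)⟩) (BT.leaf ⟨(nat_lit 4), (nat_lit 2698), (nat_lit 0), (nat_lit 0x1ee860480ce822040568f8cd8c40884),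 (nat_lit 0), (nat_lit 0)⟩)) (BT.node (nat_lit 7127) (BT.leaf ⟨(nat_lit 4), (nat_lit 205), (nat_lit 0), (nat_lit 0xa01801e3410801020b94819cf003d5), (nat_lit 0), (nat_lit 0)⟩) (BT.leaf ⟨(nat_lit 4), (nat_lit 1553), (nat_lit 0), (nat_lit 0x1294f1ba38dc569f3e0b46cb8d661bc), (nat_lit 0), (nat_lit 0)⟩)))) (BT.node (nat_lit 7132) (BT.node (nat_lit 7130) (BT.node (nat_lit 7129) (BT.leaf ⟨(nat_lit 4), (nat_lit 3533), (nat_lit 0), (nat_lit 0x145fedf213652af5a6e450fbf0e76d4), (nat_lit 0), (nat_lit 0)⟩) (BT.leaf ⟨(nat_lit 4), (nat_lit 2839), (nat_lit 0), (nat_lit 0x17b0121041084ace8ef0019011f3804), (nat_lit 0), (nat_lit 0)⟩)) (BT.node (nat_lit 7131) (BT.leaf ⟨(nat_lit 5), (nat_lit 8), (nat_lit 0), (nat_lit 0x1000000000000000000000000000000000000002200040480000000000000000000000000000000000000000000000000000000000000002100000000000000000000000000000000000000000000000000000000000000000000000020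000000000000000000100000008000000000000000000000000000004000040000200000000000000000000000000080000000000000000000000000000000000000000000000800000000000000400000000000000000040000000000000000000000000000a000000000000000000000000000000200000000000000000000000000000000000000000000000000000000000000008000400080000000000020000000000000000000000000020000000400001000000000100000000002080000000000000000040000000000040000000000000010000000000000000000000000000001000000000000000000000000000200000000000000000000000000000000000000000000000000400000000000000000000000000000000000000000000000000000000000000000400000000000000000000000000000000000000000000000000000000000000000000000000000002004000000000000000000000000000000000000000000000000), (nat_lit 0), (nat_lit 0)⟩) (BT.leaf ⟨(nat_lit 4), (nat_lit 2284), (nat_lit 0), (nat_lit 0x1919a34a50f9d0affd46e88cd465aae), (nat_lit 0), (nat_lit 0)⟩))) (BT.node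 (nat_lit 7134) (BT.node (nat_lit 7133) (BT.leaf ⟨(nat_lit 4), (nat_lit 2745), (nat_lit 0), (nat_lit 0x1137eded4dc8bd37a97939dbdbfa26a), (nat_lit 0), (nat_lit 0)⟩) (BT.leaf ⟨(nat_lit 4), (nat_lit 2390), (nat_lit 0), (nat_lit 0x2dda4e3a749ccb77d8339dcfb8d72a), (nat_lit 0), (nat_lit 0)⟩)) (BT.node (nat_lit 7135) (BT.leaf ⟨(nat_lit 4), (nat_lit 1928), (nat_lit 0), (nat_lit 0x32e52f477b06cbe32aeecda4fa7646), (nat_lit 0), (nat_lit 0)⟩) (BT.leaf ⟨(nat_lit 4), (nat_lit 1603), (nat_lit 0), (nat_lit 0x17238d028240a64187adecc08810cbe), (nat_lit 0), (nat_lit 0)⟩)))))) (BT.node (nat_lit 7152) (BT.node (nat_lit 7144) (BT.node (nat_lit 7140) (BT.node (nat_lit 7138) (BT.node (nat_lit 7137) (BT.leaf ⟨(nat_lit 4), (nat_lit 1604), (nat_lit 0), (nat_lit 0x182cde77d5c6f89f0d172b4f8e52b63), (nat_lit 0), (nat_lit 0)⟩) (BT.leaf ⟨(nat_lit 4), (nat_lit 2541), (nat_lit 0), (nat_lit 0x18566392f21e0bf34b2fab85bc95b70),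 (nat_lit 0), (nat_lit 0)⟩)) (BT.node (nat_lit 7139) (BT.leaf ⟨(nat_lit 5), (nat_lit 8), (nat_lit 0), (nat_lit 0x20000000000000000000000000000000000000001000000000000000000000000000000000201000000001088000000000000000000040000000000000000000001100000000000000000000000000000400000000000000000000000000000000000400000000000000000000000000000000200000200000000000000000000000000000000000000000000000000000000030000000000000000000000000000000000000000000000000000000010000000000000000000000000000102000100000000000104000000000000000000000000000000000000000000000000000000000000000100000000000000000000000000000000000000000000000000000000000000000000000000000000000000000000800000000000000000000000000000020000000100000000000000008000000000000000000100000000000000000000000000000000000000000000000000000000000000000000000000000000000000000000040000000010000000000000000880000000000000000000000800280000000000000000000401000000000000000000000000000000000001000000004000000100000000000),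 (nat_lit 0), (nat_lit 0)⟩) (BT.leaf ⟨(nat_lit 4), (nat_lit 3109), (nat_lit 0), (nat_lit 0x8d8ad3e759945df177dc16f0cde3e1), (nat_lit 0), (nat_lit 0)⟩))) (BT.node (nat_lit 7142) (BT.node (nat_lit 7141) (BT.leaf ⟨(nat_lit 4), (nat_lit 3331), (nat_lit 0), (nat_lit 0x12780173abd097c10746081bd04012f), (nat_lit 0), (nat_lit 0)⟩) (BT.leaf ⟨(nat_lit 4), (nat_lit 3058), (nat_lit 0), (nat_lit 0x1c18208c02debe4284de080903bd5a8), (nat_lit 0), (nat_lit 0)⟩)) (BT.node (nat_lit 7143) (BT.leaf ⟨(nat_lit 4), (nat_lit 3057), (nat_lit 0), (nat_lit 0xcd7c8453ab91ceb9c7769318f654f3), (nat_lit 0), (nat_lit 0)⟩) (BT.leaf ⟨(nat_lit 4), (nat_lit 3549), (nat_lit 0), (nat_lit 0x60081101b3c423fa6465c75ce7468d), (nat_lit 0), (nat_lit 0)⟩)))) (BT.node (nat_lit 7148) (BT.node (nat_lit 7146) (BT.node (nat_lit 7145) (BT.leaf ⟨(nat_lit 4), (nat_lit 258), (nat_lit 0), (nat_lit 0x16999acf3ce7b2a39453ae7e41a4c77), (nat_lit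 0), (nat_lit 0)⟩) (BT.leaf ⟨(nat_lit 4), (nat_lit 355), (nat_lit 0), (nat_lit 0x3e89f92b65f855664c772df6c17ea2), (nat_lit 0), (nat_lit 0)⟩)) (BT.node (nat_lit 7147) (BT.leaf ⟨(nat_lit 4), (nat_lit 3255), (nat_lit 0), (nat_lit 0x14bdcb12f1f443ed8e1525731db832f), (nat_lit 0), (nat_lit 0)⟩) (BT.leaf ⟨(nat_lit 4), (nat_lit 2561), (nat_lit 0), (nat_lit 0x209f0f38085d120178f0457ab7b006), (nat_lit 0), (nat_lit 0)⟩))) (BT.node (nat_lit 7150) (BT.node (nat_lit 7149) (BT.leaf ⟨(nat_lit 4), (nat_lit 1201), (nat_lit 0), (nat_lit 0x82399048562025f5818f0b1ec841dd), (nat_lit 0), (nat_lit 0)⟩) (BT.leaf ⟨(nat_lit 4), (nat_lit 3285), (nat_lit 0), (nat_lit 0x4896a02f1f7aa0173800c08801c9c), (nat_lit 0), (nat_lit 0)⟩)) (BT.node (nat_lit 7151) (BT.leaf ⟨(nat_lit 4), (nat_lit 248), (nat_lit 0), (nat_lit 0x400c0500ae6420812e3fe8480a03b9), (nat_lit 0), (nat_lit 0)⟩) (BT.leaf ⟨(nat_lit 4), (nat_lit 3205), (nat_lit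 0), (nat_lit 0x17c7362c6be9752f2576e14652da1f), (nat_lit 0), (nat_lit 0)⟩))))) (BT.node (nat_lit 7160) (BT.node (nat_lit 7156) (BT.node (nat_lit 7154) (BT.node (nat_lit 7153) (BT.leaf ⟨(nat_lit 4), (nat_lit 3201), (nat_lit 0), (nat_lit 0x56b05f903c6f8a6cf7d7c2f8db1bc3), (nat_lit 0), (nat_lit 0)⟩) (BT.leaf ⟨(nat_lit 5), (nat_lit 8), (nat_lit 0), (nat_lit 0x200000000000000000200000000000000000000000080000000004000000000000000000000100000004200000008000000000002200000000000000000000002080000000000200000000000000000000000808000000000000000000000000000000000000000000000000000000000000000000000000000001000000000400000000020000000000000000000000080000000000000000100000000000400000000000000000000000000000000000000000000000000040000000000000010008000000000000000000000000000000040200000000000000000000000000100000000000000002000000000000000000000000000000000000000000000000000000000000000000000000000000000000000000000000000000000000000000000000000000000000000002000000000000800000002000000000000000000000000000000000000000000000000000000200000000000000000000000000000000000000000000000000000000000000000000040000000000000000000001000000000000000000000000000000000010000000080000000000000000000000008100000000000000000000080000000000000000000000000000000000000040),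 (nat_lit 0), (nat_lit 0)⟩)) (BT.node (nat_lit 7155) (BT.leaf ⟨(nat_lit 4), (nat_lit 112), (nat_lit 0), (nat_lit 0x93c090147e7ca808f9d38a44008050), (nat_lit 0), (nat_lit 0)⟩) (BT.leaf ⟨(nat_lit 4), (nat_lit 1161), (nat_lit 0), (nat_lit 0xb4bdbf51bd466ef65e82ed3a1577e8), (nat_lit 0), (nat_lit 0)⟩))) (BT.node (nat_lit 7158) (BT.node (nat_lit 7157) (BT.leaf ⟨(nat_lit 4), (nat_lit 684), (nat_lit 0), (nat_lit 0xdb1c51d1dde3e91b0d57aa714ea9f5), (nat_lit 0), (nat_lit 0)⟩) (BT.leaf ⟨(nat_lit 4), (nat_lit 3262), (nat_lit 0), (nat_lit 0x1eeb9d07cef42df77d6539cb4ac1f3e), (nat_lit 0), (nat_lit 0)⟩)) (BT.node (nat_lit 7159) (BT.leaf ⟨(nat_lit 4), (nat_lit 2428), (nat_lit 0), (nat_lit 0x93d6f9bc4bbb06e93704b74672fe2c), (nat_lit 0), (nat_lit 0)⟩) (BT.leaf ⟨(nat_lit 4), (nat_lit 2771), (nat_lit 0), (nat_lit 0x4ac824048ef7b39f0144b6811f3806), (nat_lit 0), (nat_lit 0)⟩)))) (BT.node (nat_lit 7164) (BT.node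 (nat_lit 7162) (BT.node (nat_lit 7161) (BT.leaf ⟨(nat_lit 4), (nat_lit 3168), (nat_lit 0), (nat_lit 0x6bc400829e6d8d4041ead02056ff0d), (nat_lit 0), (nat_lit 0)⟩) (BT.leaf ⟨(nat_lit 4), (nat_lit 1175), (nat_lit 0), (nat_lit 0x7521eb6c38a756a58fa46c7746ab8a), (nat_lit 0), (nat_lit 0)⟩)) (BT.node (nat_lit 7163) (BT.leaf ⟨(nat_lit 4), (nat_lit 2528), (nat_lit 0), (nat_lit 0x27a103460e710204401fc720201500), (nat_lit 0), (nat_lit 0)⟩) (BT.leaf ⟨(nat_lit 5), (nat_lit 8), (nat_lit 0), (nat_lit 0x2000000000000000000000000000000000000000000000000100000000000000010110000000000000000000000000000000000000040000000000000000000000100000000000000000000000000000000000000000000000000000000000000000000400000002000010000000000000000000000000000000001000000000000000000000000000000000000000000010000000000000000000000000000000200000000000000000000000000000000000000000000000000000000000200000000000000000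0000000000000000000000000000000000000000000000000000040000000000008000000000000000000000000808000000000000000000202000000000000000000000040000000000000000000008000000000000000000000000000010000000000000000020000000000000000000008800200000000000000400000000000000000000000000000002000000000000000020000000000000000000000000000000000000000000000000000001010000000000000000000000000000000002000000000000000000000000000000010000000000000008000000000100080000000000001000000000000000000000000000000010000000000000000040000000000), (nat_lit 0), (nat_lit 0)⟩))) (BT.node (nat_lit 7166) (BT.node (nat_lit 7165) (BT.leaf ⟨(nat_lit 4), (nat_lit 3381), (nat_lit 0), (nat_lit 0xe3746fad4caffbc6f8ccb0c4ec6d34), (nat_lit 0), (nat_lit 0)⟩) (BT.leaf ⟨(nat_lit 4), (nat_lit 2154), (nat_lit 0), (nat_lit 0x1e77c28b7f5be3f86e58f13f35ff78d), (nat_lit 0), (nat_lit 0)⟩)) (BT.node (nat_lit 7167) (BT.leaf ⟨(nat_lit 4),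 (nat_lit 314), (nat_lit 0), (nat_lit 0x97eb2a5d49e6f1b862c4bce2bdba57), (nat_lit 0), (nat_lit 0)⟩) (BT.leaf ⟨(nat_lit 4), (nat_lit 929), (nat_lit 0), (nat_lit 0x51f3f894b77b002abd209bc3a1004), (nat_lit 0), (nat_lit 0)⟩)))))))
noncomputable def cP7104 : BT Pf := (BT.node (nat_lit 7136) (BT.node (nat_lit 7120) (BT.node (nat_lit 7112) (BT.node (nat_lit 7108) (BT.node (nat_lit 7106) (BT.node (nat_lit 7105) (BT.leaf (.pt (nat_lit 4892) (nat_lit 4))) (BT.leaf (.pt (nat_lit 6629) (nat_lit 4)))) (BT.node (nat_lit 7107) (BT.leaf (.pt (nat_lit 7105) (nat_lit 1))) (BT.leaf (.pt (nat_lit 6120) (nat_lit 1))))) (BT.node (nat_lit 7110) (BT.node (nat_lit 7109) (BT.leaf (.pt (nat_lit 7107) (nat_lit 3))) (BT.leaf (.pt (nat_lit 4503) (nat_lit 4)))) (BT.node (nat_lit 7111) (BT.leaf (.cov [] [⟨(nat_lit 3939), (nat_lit 4861), [(nat_lit 272), (nat_lit 426)]⟩, ⟨(nat_lit 3944), (nat_lit 7079), [(nat_lit 1173),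 (nat_lit 253)]⟩, ⟨(nat_lit 3951), (nat_lit 7081), [(nat_lit 153), (nat_lit 1088)]⟩, ⟨(nat_lit 3955), (nat_lit 7082), [(nat_lit 111), (nat_lit 1133)]⟩, ⟨(nat_lit 3957), (nat_lit 7083), [(nat_lit 1235), (nat_lit 681)]⟩, ⟨(nat_lit 3967), (nat_lit 6512), [(nat_lit 300), (nat_lit 252)]⟩, ⟨(nat_lit 3976), (nat_lit 6189), [(nat_lit 353), (nat_lit 974)]⟩, ⟨(nat_lit 4029), (nat_lit 7084), [(nat_lit 1174), (nat_lit 1017)]⟩, ⟨(nat_lit 4038), (nat_lit 7088), [(nat_lit 569), (nat_lit 375)]⟩, ⟨(nat_lit 4050), (nat_lit 6890), [(nat_lit 19), (nat_lit 1410)]⟩, ⟨(nat_lit 4052), (nat_lit 4514), [(nat_lit 567), (nat_lit 1745)]⟩, ⟨(nat_lit 4056), (nat_lit 5600), [(nat_lit 815), (nat_lit 384)]⟩, ⟨(nat_lit 4071), (nat_lit 5321), [(nat_lit 256), (nat_lit 1605)]⟩, ⟨(nat_lit 4080), (nat_lit 7089), [(nat_lit 911), (nat_lit 892)]⟩, ⟨(nat_lit 4082), (nat_lit 7090), [(nat_lit 446), (nat_lit 646)]⟩, ⟨(nat_lit 4085),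 (nat_lit 7092), [(nat_lit 111), (nat_lit 438)]⟩, ⟨(nat_lit 4087), (nat_lit 7096), [(nat_lit 93), (nat_lit 270)]⟩, ⟨(nat_lit 4090), (nat_lit 7099), [(nat_lit 240), (nat_lit 740)]⟩, ⟨(nat_lit 4094), (nat_lit 5346), [(nat_lit 905), (nat_lit 530)]⟩, ⟨(nat_lit 4097), (nat_lit 6702), [(nat_lit 174), (nat_lit 682)]⟩, ⟨(nat_lit 4114), (nat_lit 7100), [(nat_lit 166), (nat_lit 125)]⟩, ⟨(nat_lit 4116), (nat_lit 7062), [(nat_lit 618), (nat_lit 1021)]⟩, ⟨(nat_lit 4119), (nat_lit 5440), [(nat_lit 356), (nat_lit 426)]⟩, ⟨(nat_lit 4123), (nat_lit 5248), [(nat_lit 1092), (nat_lit 269)]⟩, ⟨(nat_lit 4137), (nat_lit 7101), [(nat_lit 783), (nat_lit 1009)]⟩, ⟨(nat_lit 4142), (nat_lit 5385), [(nat_lit 945), (nat_lit 1043)]⟩, ⟨(nat_lit 4156), (nat_lit 7102), [(nat_lit 152), (nat_lit 581)]⟩, ⟨(nat_lit 4246), (nat_lit 7103), [(nat_lit 1106), (nat_lit 205)]⟩, ⟨(nat_lit 4248), (nat_lit 6039), [(nat_lit 902),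 (nat_lit 486)]⟩, ⟨(nat_lit 4249), (nat_lit 7104), [(nat_lit 726), (nat_lit 90)]⟩, ⟨(nat_lit 4255), (nat_lit 7106), [(nat_lit 1242), (nat_lit 1)]⟩, ⟨(nat_lit 4259), (nat_lit 6084), [(nat_lit 900), (nat_lit 1017)]⟩, ⟨(nat_lit 4262), (nat_lit 7108), [(nat_lit 1027), (nat_lit 647)]⟩, ⟨(nat_lit 4266), (nat_lit 6696), [(nat_lit 865), (nat_lit 1203)]⟩, ⟨(nat_lit 4268), (nat_lit 7109), [(nat_lit 1189), (nat_lit 390)]⟩])) (BT.leaf (.cov [(nat_lit 5762), (nat_lit 5883), (nat_lit 5959), (nat_lit 6082), (nat_lit 6151), (nat_lit 6201), (nat_lit 6277), (nat_lit 6338), (nat_lit 6395), (nat_lit 6439), (nat_lit 6475), (nat_lit 6507), (nat_lit 6550), (nat_lit 6585), (nat_lit 6625), (nat_lit 6664), (nat_lit 6687), (nat_lit 6727), (nat_lit 6750), (nat_lit 6767), (nat_lit 6798), (nat_lit 6824), (nat_lit 6863), (nat_lit 6883), (nat_lit 6920), (nat_lit 6956), (nat_lit 6986), (nat_lit 7009), (nat_lit 7030),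 (nat_lit 7057), (nat_lit 7078), (nat_lit 7110)] []))))) (BT.node (nat_lit 7116) (BT.node (nat_lit 7114) (BT.node (nat_lit 7113) (BT.leaf (.pt (nat_lit 6524) (nat_lit 1))) (BT.leaf (.pt (nat_lit 7112) (nat_lit 4)))) (BT.node (nat_lit 7115) (BT.leaf (.pt (nat_lit 7056) (nat_lit 1))) (BT.leaf (.pt (nat_lit 7114) (nat_lit 3))))) (BT.node (nat_lit 7118) (BT.node (nat_lit 7117) (BT.leaf (.pt (nat_lit 4610) (nat_lit 4))) (BT.leaf (.pt (nat_lit 5063) (nat_lit 1)))) (BT.node (nat_lit 7119) (BT.leaf (.pt (nat_lit 6735) (nat_lit 1))) (BT.leaf (.cov [] [⟨(nat_lit 1823), (nat_lit 4484), []⟩, ⟨(nat_lit 1827), (nat_lit 7113), [(nat_lit 1004), (nat_lit 982)]⟩, ⟨(nat_lit 1828), (nat_lit 4602), [(nat_lit 1056), (nat_lit 396)]⟩, ⟨(nat_lit 1830), (nat_lit 6793), [(nat_lit 282), (nat_lit 814)]⟩, ⟨(nat_lit 1833), (nat_lit 5137), [(nat_lit 282), (nat_lit 712)]⟩, ⟨(nat_lit 1836), (nat_lit 5694), [(nat_lit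 1292), (nat_lit 270)]⟩, ⟨(nat_lit 1848), (nat_lit 5326), [(nat_lit 1173), (nat_lit 1088)]⟩, ⟨(nat_lit 1850), (nat_lit 5796), [(nat_lit 520), (nat_lit 307)]⟩, ⟨(nat_lit 1853), (nat_lit 5065), [(nat_lit 690), (nat_lit 140)]⟩, ⟨(nat_lit 1855), (nat_lit 4725), [(nat_lit 129), (nat_lit 762)]⟩, ⟨(nat_lit 1857), (nat_lit 5494), [(nat_lit 1004), (nat_lit 1025)]⟩, ⟨(nat_lit 1858), (nat_lit 7115), [(nat_lit 254), (nat_lit 624)]⟩, ⟨(nat_lit 1861), (nat_lit 5813), [(nat_lit 197), (nat_lit 559)]⟩, ⟨(nat_lit 1863), (nat_lit 5376), [(nat_lit 321), (nat_lit 581)]⟩, ⟨(nat_lit 1864), (nat_lit 5211), [(nat_lit 815), (nat_lit 1140)]⟩, ⟨(nat_lit 1867), (nat_lit 6610), [(nat_lit 826), (nat_lit 972)]⟩, ⟨(nat_lit 1873), (nat_lit 4670), [(nat_lit 174), (nat_lit 555)]⟩, ⟨(nat_lit 1874), (nat_lit 5407), [(nat_lit 764), (nat_lit 361)]⟩, ⟨(nat_lit 1877), (nat_lit 5716), [(nat_lit 357), (nat_lit 1410)]⟩, ⟨(nat_lit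 1880), (nat_lit 5511), [(nat_lit 2061), (nat_lit 752)]⟩, ⟨(nat_lit 1884), (nat_lit 4866), [(nat_lit 1027), (nat_lit 586)]⟩, ⟨(nat_lit 1886), (nat_lit 4994), [(nat_lit 1102), (nat_lit 1583)]⟩, ⟨(nat_lit 1888), (nat_lit 6090), [(nat_lit 434), (nat_lit 1472)]⟩, ⟨(nat_lit 1890), (nat_lit 7116), [(nat_lit 95), (nat_lit 1279)]⟩, ⟨(nat_lit 1893), (nat_lit 5582), [(nat_lit 463), (nat_lit 1247)]⟩, ⟨(nat_lit 1895), (nat_lit 5447), [(nat_lit 618), (nat_lit 504)]⟩, ⟨(nat_lit 1897), (nat_lit 6675), [(nat_lit 511), (nat_lit 627)]⟩, ⟨(nat_lit 1899), (nat_lit 7117), [(nat_lit 111), (nat_lit 1223)]⟩, ⟨(nat_lit 1902), (nat_lit 4992), [(nat_lit 902), (nat_lit 572)]⟩, ⟨(nat_lit 1904), (nat_lit 5920), [(nat_lit 261), (nat_lit 109)]⟩, ⟨(nat_lit 1905), (nat_lit 7118), [(nat_lit 1103), (nat_lit 512)]⟩, ⟨(nat_lit 1908), (nat_lit 6523), [(nat_lit 461), (nat_lit 877)]⟩, ⟨(nat_lit 1909), (nat_lit 7076), [(nat_lit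 840), (nat_lit 141)]⟩, ⟨(nat_lit 1912), (nat_lit 6552), [(nat_lit 254), (nat_lit 253)]⟩, ⟨(nat_lit 1913), (nat_lit 4559), [(nat_lit 676)]⟩, ⟨(nat_lit 1916), (nat_lit 4823), [(nat_lit 208), (nat_lit 898)]⟩, ⟨(nat_lit 1918), (nat_lit 5675), [(nat_lit 675), (nat_lit 647)]⟩, ⟨(nat_lit 1920), (nat_lit 6122), [(nat_lit 250), (nat_lit 202)]⟩, ⟨(nat_lit 1924), (nat_lit 5829), [(nat_lit 259), (nat_lit 1226)]⟩, ⟨(nat_lit 1926), (nat_lit 4762), [(nat_lit 1162), (nat_lit 555)]⟩])))))) (BT.node (nat_lit 7128) (BT.node (nat_lit 7124) (BT.node (nat_lit 7122) (BT.node (nat_lit 7121) (BT.leaf (.pt (nat_lit 6925) (nat_lit 3))) (BT.leaf (.pt (nat_lit 7120) (nat_lit 1)))) (BT.node (nat_lit 7123) (BT.leaf (.pt (nat_lit 6724) (nat_lit 3))) (BT.leaf (.pt (nat_lit 6897) (nat_lit 3))))) (BT.node (nat_lit 7126) (BT.node (nat_lit 7125) (BT.leaf (.pt (nat_lit 5912) (nat_lit 4))) (BT.leaf (.pt (nat_lit 6673) (nat_lit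 4)))) (BT.node (nat_lit 7127) (BT.leaf (.pt (nat_lit 6169) (nat_lit 4))) (BT.leaf (.pt (nat_lit 5869) (nat_lit 1)))))) (BT.node (nat_lit 7132) (BT.node (nat_lit 7130) (BT.node (nat_lit 7129) (BT.leaf (.pt (nat_lit 4843) (nat_lit 4))) (BT.leaf (.pt (nat_lit 6780) (nat_lit 4)))) (BT.node (nat_lit 7131) (BT.leaf (.cov [] [⟨(nat_lit 1928), (nat_lit 6598), [(nat_lit 299), (nat_lit 202)]⟩, ⟨(nat_lit 1929), (nat_lit 6531), [(nat_lit 764), (nat_lit 898)]⟩, ⟨(nat_lit 1932), (nat_lit 7121), [(nat_lit 1102), (nat_lit 795)]⟩, ⟨(nat_lit 1934), (nat_lit 6352), [(nat_lit 295), (nat_lit 877)]⟩, ⟨(nat_lit 1935), (nat_lit 5985), [(nat_lit 900), (nat_lit 459)]⟩, ⟨(nat_lit 1937), (nat_lit 5100), [(nat_lit 175), (nat_lit 390)]⟩, ⟨(nat_lit 1940), (nat_lit 4672), [(nat_lit 428), (nat_lit 449)]⟩, ⟨(nat_lit 1942), (nat_lit 7122), [(nat_lit 284), (nat_lit 203)]⟩, ⟨(nat_lit 1945), (nat_lit 7123), [(nat_lit 511),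 (nat_lit 498)]⟩, ⟨(nat_lit 1946), (nat_lit 6386), [(nat_lit 523), (nat_lit 432)]⟩, ⟨(nat_lit 1948), (nat_lit 6699), [(nat_lit 298), (nat_lit 396)]⟩, ⟨(nat_lit 1951), (nat_lit 5504), [(nat_lit 93), (nat_lit 109)]⟩, ⟨(nat_lit 1953), (nat_lit 5522), [(nat_lit 422), (nat_lit 162)]⟩, ⟨(nat_lit 1954), (nat_lit 6073), [(nat_lit 445), (nat_lit 439)]⟩, ⟨(nat_lit 1957), (nat_lit 7124), [(nat_lit 429), (nat_lit 190)]⟩, ⟨(nat_lit 1958), (nat_lit 7125), [(nat_lit 707), (nat_lit 287)]⟩, ⟨(nat_lit 1960), (nat_lit 6874), [(nat_lit 1103), (nat_lit 191)]⟩, ⟨(nat_lit 1962), (nat_lit 7126), [(nat_lit 266), (nat_lit 265)]⟩, ⟨(nat_lit 1964), (nat_lit 6472), [(nat_lit 237), (nat_lit 91)]⟩, ⟨(nat_lit 1967), (nat_lit 5131), [(nat_lit 905), (nat_lit 89)]⟩, ⟨(nat_lit 1969), (nat_lit 5842), [(nat_lit 945), (nat_lit 597)]⟩, ⟨(nat_lit 1972), (nat_lit 5610), [(nat_lit 527), (nat_lit 490)]⟩, ⟨(nat_lit 1974), (nat_lit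 6831), [(nat_lit 402), (nat_lit 205)]⟩, ⟨(nat_lit 1975), (nat_lit 6538), [(nat_lit 826), (nat_lit 1849)]⟩, ⟨(nat_lit 1977), (nat_lit 4819), [(nat_lit 883), (nat_lit 584)]⟩, ⟨(nat_lit 1980), (nat_lit 5824), [(nat_lit 128), (nat_lit 891)]⟩, ⟨(nat_lit 1981), (nat_lit 5153), [(nat_lit 1337), (nat_lit 711)]⟩, ⟨(nat_lit 1984), (nat_lit 6398), [(nat_lit 991), (nat_lit 0)]⟩, ⟨(nat_lit 1986), (nat_lit 6950), [(nat_lit 351), (nat_lit 191)]⟩, ⟨(nat_lit 1988), (nat_lit 5049), [(nat_lit 446), (nat_lit 1583)]⟩, ⟨(nat_lit 1990), (nat_lit 7080), [(nat_lit 402), (nat_lit 737)]⟩, ⟨(nat_lit 1992), (nat_lit 7002), [(nat_lit 653), (nat_lit 363)]⟩, ⟨(nat_lit 1993), (nat_lit 6801), [(nat_lit 256), (nat_lit 1369)]⟩, ⟨(nat_lit 1994), (nat_lit 4988), [(nat_lit 273), (nat_lit 330)]⟩, ⟨(nat_lit 1996), (nat_lit 6488), [(nat_lit 355), (nat_lit 236)]⟩, ⟨(nat_lit 1999), (nat_lit 5648), [(nat_lit 630), (nat_lit 529)]⟩,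 ⟨(nat_lit 2000), (nat_lit 6284), [(nat_lit 355), (nat_lit 821)]⟩, ⟨(nat_lit 2005), (nat_lit 7127), [(nat_lit 256), (nat_lit 877)]⟩, ⟨(nat_lit 2006), (nat_lit 7128), [(nat_lit 357), (nat_lit 1871)]⟩, ⟨(nat_lit 2008), (nat_lit 7129), [(nat_lit 829), (nat_lit 738)]⟩])) (BT.leaf (.pt (nat_lit 5713) (nat_lit 3))))) (BT.node (nat_lit 7134) (BT.node (nat_lit 7133) (BT.leaf (.pt (nat_lit 7033) (nat_lit 4))) (BT.leaf (.pt (nat_lit 7132) (nat_lit 1)))) (BT.node (nat_lit 7135) (BT.leaf (.pt (nat_lit 7133) (nat_lit 4))) (BT.leaf (.pt (nat_lit 7134) (nat_lit 1)))))))) (BT.node (nat_lit 7152) (BT.node (nat_lit 7144) (BT.node (nat_lit 7140) (BT.node (nat_lit 7138) (BT.node (nat_lit 7137) (BT.leaf (.pt (nat_lit 7135) (nat_lit 3))) (BT.leaf (.pt (nat_lit 6827) (nat_lit 4)))) (BT.node (nat_lit 7139) (BT.leaf (.cov [] [⟨(nat_lit 2011), (nat_lit 6009), [(nat_lit 521), (nat_lit 500)]⟩, ⟨(nat_lit 2015),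 (nat_lit 6589), [(nat_lit 237), (nat_lit 190)]⟩, ⟨(nat_lit 2016), (nat_lit 4877), [(nat_lit 284), (nat_lit 1375)]⟩, ⟨(nat_lit 2017), (nat_lit 5323), [(nat_lit 394), (nat_lit 778)]⟩, ⟨(nat_lit 2019), (nat_lit 5501), [(nat_lit 865), (nat_lit 878)]⟩, ⟨(nat_lit 2021), (nat_lit 6444), [(nat_lit 1032), (nat_lit 223)]⟩, ⟨(nat_lit 2024), (nat_lit 6280), [(nat_lit 928), (nat_lit 1472)]⟩, ⟨(nat_lit 2025), (nat_lit 5422), [(nat_lit 393), (nat_lit 530)]⟩, ⟨(nat_lit 2028), (nat_lit 6830), [(nat_lit 507), (nat_lit 581)]⟩, ⟨(nat_lit 2030), (nat_lit 7064), [(nat_lit 582), (nat_lit 248)]⟩, ⟨(nat_lit 2031), (nat_lit 5275), [(nat_lit 392), (nat_lit 1211)]⟩, ⟨(nat_lit 2034), (nat_lit 6742), [(nat_lit 487), (nat_lit 738)]⟩, ⟨(nat_lit 2036), (nat_lit 4575), [(nat_lit 351), (nat_lit 449)]⟩, ⟨(nat_lit 2038), (nat_lit 5338), [(nat_lit 240), (nat_lit 777)]⟩, ⟨(nat_lit 2040), (nat_lit 7016), [(nat_lit 257),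 (nat_lit 1329)]⟩, ⟨(nat_lit 2043), (nat_lit 5712), [(nat_lit 462), (nat_lit 386)]⟩, ⟨(nat_lit 2044), (nat_lit 6539), [(nat_lit 832), (nat_lit 206)]⟩, ⟨(nat_lit 2046), (nat_lit 6764), [(nat_lit 705), (nat_lit 1247)]⟩, ⟨(nat_lit 2048), (nat_lit 6682), [(nat_lit 630), (nat_lit 566)]⟩, ⟨(nat_lit 2049), (nat_lit 5310), [(nat_lit 2061), (nat_lit 1017)]⟩, ⟨(nat_lit 2052), (nat_lit 4774), [(nat_lit 258), (nat_lit 498)]⟩, ⟨(nat_lit 2054), (nat_lit 6190), [(nat_lit 1218), (nat_lit 868)]⟩, ⟨(nat_lit 2055), (nat_lit 5661), [(nat_lit 2061), (nat_lit 778)]⟩, ⟨(nat_lit 2056), (nat_lit 7131), [(nat_lit 630), (nat_lit 1083)]⟩, ⟨(nat_lit 2059), (nat_lit 6424), [(nat_lit 774), (nat_lit 140)]⟩, ⟨(nat_lit 2063), (nat_lit 6132), [(nat_lit 208), (nat_lit 439)]⟩, ⟨(nat_lit 2065), (nat_lit 4636), [(nat_lit 746), (nat_lit 333)]⟩, ⟨(nat_lit 2066), (nat_lit 6889), [(nat_lit 618), (nat_lit 127)]⟩, ⟨(nat_lit 2067),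 (nat_lit 6814), [(nat_lit 428), (nat_lit 334)]⟩, ⟨(nat_lit 2069), (nat_lit 7136), [(nat_lit 393), (nat_lit 1133)]⟩, ⟨(nat_lit 2071), (nat_lit 5938), [(nat_lit 152), (nat_lit 90)]⟩, ⟨(nat_lit 2074), (nat_lit 5423), [(nat_lit 226), (nat_lit 235)]⟩, ⟨(nat_lit 2076), (nat_lit 6677), [(nat_lit 227), (nat_lit 1165)]⟩, ⟨(nat_lit 2078), (nat_lit 4609), [(nat_lit 441), (nat_lit 693)]⟩, ⟨(nat_lit 2080), (nat_lit 4597), [(nat_lit 153), (nat_lit 581)]⟩, ⟨(nat_lit 2082), (nat_lit 6821), [(nat_lit 445), (nat_lit 330)]⟩, ⟨(nat_lit 2084), (nat_lit 7137), [(nat_lit 96), (nat_lit 500)]⟩, ⟨(nat_lit 2086), (nat_lit 5051), [(nat_lit 943), (nat_lit 126)]⟩, ⟨(nat_lit 2089), (nat_lit 4646), [(nat_lit 150), (nat_lit 171)]⟩, ⟨(nat_lit 2091), (nat_lit 6506), [(nat_lit 387), (nat_lit 1605)]⟩])) (BT.leaf (.pt (nat_lit 5219) (nat_lit 3))))) (BT.node (nat_lit 7142) (BT.node (nat_lit 7141) (BT.leaf (.pt (nat_lit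 6963) (nat_lit 4))) (BT.leaf (.pt (nat_lit 7140) (nat_lit 1)))) (BT.node (nat_lit 7143) (BT.leaf (.pt (nat_lit 7141) (nat_lit 4))) (BT.leaf (.pt (nat_lit 5831) (nat_lit 4)))))) (BT.node (nat_lit 7148) (BT.node (nat_lit 7146) (BT.node (nat_lit 7145) (BT.leaf (.pt (nat_lit 7116) (nat_lit 1))) (BT.leaf (.pt (nat_lit 7144) (nat_lit 3)))) (BT.node (nat_lit 7147) (BT.leaf (.pt (nat_lit 5617) (nat_lit 3))) (BT.leaf (.pt (nat_lit 6332) (nat_lit 4))))) (BT.node (nat_lit 7150) (BT.node (nat_lit 7149) (BT.leaf (.pt (nat_lit 6376) (nat_lit 3))) (BT.leaf (.pt (nat_lit 7121) (nat_lit 3)))) (BT.node (nat_lit 7151) (BT.leaf (.pt (nat_lit 6584) (nat_lit 1))) (BT.leaf (.pt (nat_lit 6227) (nat_lit 3))))))) (BT.node (nat_lit 7160) (BT.node (nat_lit 7156) (BT.node (nat_lit 7154) (BT.node (nat_lit 7153) (BT.leaf (.pt (nat_lit 6154) (nat_lit 3))) (BT.leaf (.cov [] [⟨(nat_lit 2093), (nat_lit 6088), [(nat_lit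 298), (nat_lit 651)]⟩, ⟨(nat_lit 2094), (nat_lit 6330), [(nat_lit 508), (nat_lit 898)]⟩, ⟨(nat_lit 2097), (nat_lit 5994), [(nat_lit 829), (nat_lit 822)]⟩, ⟨(nat_lit 2099), (nat_lit 6426), [(nat_lit 1056), (nat_lit 386)]⟩, ⟨(nat_lit 2100), (nat_lit 6300), [(nat_lit 282), (nat_lit 596)]⟩, ⟨(nat_lit 2103), (nat_lit 4629), [(nat_lit 865), (nat_lit 289)]⟩, ⟨(nat_lit 2104), (nat_lit 6527), [(nat_lit 840), (nat_lit 236)]⟩, ⟨(nat_lit 2105), (nat_lit 5059), [(nat_lit 673), (nat_lit 573)]⟩, ⟨(nat_lit 2106), (nat_lit 7139), [(nat_lit 364), (nat_lit 126)]⟩, ⟨(nat_lit 2108), (nat_lit 5587), [(nat_lit 690), (nat_lit 401)]⟩, ⟨(nat_lit 2109), (nat_lit 5714), [(nat_lit 526), (nat_lit 500)]⟩, ⟨(nat_lit 2111), (nat_lit 7142), [(nat_lit 254), (nat_lit 628)]⟩, ⟨(nat_lit 2112), (nat_lit 6939), [(nat_lit 299), (nat_lit 512)]⟩, ⟨(nat_lit 2113), (nat_lit 6220), [(nat_lit 2124), (nat_lit 333)]⟩, ⟨(nat_lit 2114),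 (nat_lit 7143), [(nat_lit 544), (nat_lit 593)]⟩, ⟨(nat_lit 2116), (nat_lit 7145), [(nat_lit 424), (nat_lit 1018)]⟩, ⟨(nat_lit 2118), (nat_lit 6214), [(nat_lit 631), (nat_lit 375)]⟩, ⟨(nat_lit 2119), (nat_lit 4744), [(nat_lit 250), (nat_lit 1133)]⟩, ⟨(nat_lit 2120), (nat_lit 7146), [(nat_lit 1092), (nat_lit 307)]⟩, ⟨(nat_lit 2121), (nat_lit 6608), [(nat_lit 488), (nat_lit 740)]⟩, ⟨(nat_lit 2122), (nat_lit 5320), [(nat_lit 763), (nat_lit 291)]⟩, ⟨(nat_lit 2125), (nat_lit 4820), [(nat_lit 619), (nat_lit 559)]⟩, ⟨(nat_lit 2126), (nat_lit 7147), [(nat_lit 1195), (nat_lit 495)]⟩, ⟨(nat_lit 2129), (nat_lit 7148), [(nat_lit 1013), (nat_lit 625)]⟩, ⟨(nat_lit 2132), (nat_lit 4655), [(nat_lit 357), (nat_lit 1605)]⟩, ⟨(nat_lit 2133), (nat_lit 4772), [(nat_lit 1099), (nat_lit 1247)]⟩, ⟨(nat_lit 2134), (nat_lit 7149), [(nat_lit 266), (nat_lit 170)]⟩, ⟨(nat_lit 2136), (nat_lit 6935), [(nat_lit 130),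 (nat_lit 264)]⟩, ⟨(nat_lit 2137), (nat_lit 6002), [(nat_lit 1189), (nat_lit 438)]⟩, ⟨(nat_lit 2139), (nat_lit 5013), [(nat_lit 178), (nat_lit 253)]⟩, ⟨(nat_lit 2140), (nat_lit 7150), [(nat_lit 283), (nat_lit 580)]⟩, ⟨(nat_lit 2142), (nat_lit 6865), [(nat_lit 2124), (nat_lit 420)]⟩, ⟨(nat_lit 2143), (nat_lit 5111), [(nat_lit 1292), (nat_lit 1025)]⟩, ⟨(nat_lit 2144), (nat_lit 5894), [(nat_lit 94), (nat_lit 389)]⟩, ⟨(nat_lit 2146), (nat_lit 7151), [(nat_lit 467), (nat_lit 874)]⟩, ⟨(nat_lit 2147), (nat_lit 6770), [(nat_lit 871), (nat_lit 206)]⟩, ⟨(nat_lit 2148), (nat_lit 6597), [(nat_lit 544), (nat_lit 127)]⟩, ⟨(nat_lit 2149), (nat_lit 4844), [(nat_lit 825), (nat_lit 108)]⟩, ⟨(nat_lit 2150), (nat_lit 5890), [(nat_lit 1056), (nat_lit 264)]⟩, ⟨(nat_lit 2151), (nat_lit 7152), [(nat_lit 487), (nat_lit 497)]⟩]))) (BT.node (nat_lit 7155) (BT.leaf (.pt (nat_lit 5073) (nat_lit 3))) (BT.leaf (.pt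 (nat_lit 4912) (nat_lit 3))))) (BT.node (nat_lit 7158) (BT.node (nat_lit 7157) (BT.leaf (.pt (nat_lit 6036) (nat_lit 3))) (BT.leaf (.pt (nat_lit 6648) (nat_lit 4)))) (BT.node (nat_lit 7159) (BT.leaf (.pt (nat_lit 5595) (nat_lit 4))) (BT.leaf (.pt (nat_lit 7158) (nat_lit 1)))))) (BT.node (nat_lit 7164) (BT.node (nat_lit 7162) (BT.node (nat_lit 7161) (BT.leaf (.pt (nat_lit 7159) (nat_lit 3))) (BT.leaf (.pt (nat_lit 6060) (nat_lit 3)))) (BT.node (nat_lit 7163) (BT.leaf (.pt (nat_lit 7065) (nat_lit 3))) (BT.leaf (.cov [] [⟨(nat_lit 2153), (nat_lit 5398), [(nat_lit 508), (nat_lit 449)]⟩, ⟨(nat_lit 2155), (nat_lit 7154), [(nat_lit 2061), (nat_lit 491)]⟩, ⟨(nat_lit 2156), (nat_lit 5108), [(nat_lit 292), (nat_lit 307)]⟩, ⟨(nat_lit 2157), (nat_lit 7155), [(nat_lit 631), (nat_lit 712)]⟩, ⟨(nat_lit 2158), (nat_lit 4749), [(nat_lit 175), (nat_lit 287)]⟩, ⟨(nat_lit 2159), (nat_lit 5472), [(nat_lit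 865)]⟩, ⟨(nat_lit 2160), (nat_lit 6139), [(nat_lit 211), (nat_lit 420)]⟩, ⟨(nat_lit 2161), (nat_lit 4972), [(nat_lit 450), (nat_lit 1009)]⟩, ⟨(nat_lit 2162), (nat_lit 7156), [(nat_lit 1026), (nat_lit 222)]⟩, ⟨(nat_lit 2163), (nat_lit 5233), [(nat_lit 357), (nat_lit 440)]⟩, ⟨(nat_lit 2174), (nat_lit 4788), [(nat_lit 1056), (nat_lit 308)]⟩, ⟨(nat_lit 2175), (nat_lit 5445), [(nat_lit 2124), (nat_lit 420)]⟩, ⟨(nat_lit 2176), (nat_lit 6875), [(nat_lit 2061), (nat_lit 225)]⟩, ⟨(nat_lit 2245), (nat_lit 7105), [(nat_lit 111), (nat_lit 385)]⟩, ⟨(nat_lit 2271), (nat_lit 5594), [(nat_lit 350), (nat_lit 982)]⟩, ⟨(nat_lit 2288), (nat_lit 5458), [(nat_lit 406), (nat_lit 334)]⟩, ⟨(nat_lit 2290), (nat_lit 5369), [(nat_lit 216), (nat_lit 681)]⟩, ⟨(nat_lit 2302), (nat_lit 5913), [(nat_lit 211), (nat_lit 203)]⟩, ⟨(nat_lit 2318), (nat_lit 4812), [(nat_lit 522), (nat_lit 814)]⟩, ⟨(nat_lit 2320), (nat_lit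 6388), [(nat_lit 764), (nat_lit 874)]⟩, ⟨(nat_lit 2349), (nat_lit 7157), [(nat_lit 1106), (nat_lit 500)]⟩, ⟨(nat_lit 2361), (nat_lit 5174), [(nat_lit 130), (nat_lit 386)]⟩, ⟨(nat_lit 2365), (nat_lit 6320), [(nat_lit 376), (nat_lit 737)]⟩, ⟨(nat_lit 2404), (nat_lit 7160), [(nat_lit 488), (nat_lit 279)]⟩, ⟨(nat_lit 2409), (nat_lit 6417), [(nat_lit 487), (nat_lit 1101)]⟩, ⟨(nat_lit 2501), (nat_lit 5427), [(nat_lit 1337), (nat_lit 580)]⟩, ⟨(nat_lit 2512), (nat_lit 6615), [(nat_lit 900), (nat_lit 1256)]⟩, ⟨(nat_lit 2526), (nat_lit 5054), [(nat_lit 468), (nat_lit 736)]⟩, ⟨(nat_lit 2538), (nat_lit 7161), [(nat_lit 1437), (nat_lit 506)]⟩, ⟨(nat_lit 2556), (nat_lit 5872), [(nat_lit 336), (nat_lit 420)]⟩, ⟨(nat_lit 2569), (nat_lit 5349), [(nat_lit 167), (nat_lit 563)]⟩, ⟨(nat_lit 2581), (nat_lit 6654), [(nat_lit 176), (nat_lit 263)]⟩, ⟨(nat_lit 2595), (nat_lit 7162), [(nat_lit 207), (nat_lit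 982)]⟩, ⟨(nat_lit 2637), (nat_lit 5879), [(nat_lit 630), (nat_lit 898)]⟩, ⟨(nat_lit 2639), (nat_lit 5224), [(nat_lit 257), (nat_lit 822)]⟩, ⟨(nat_lit 2664), (nat_lit 6975), [(nat_lit 402), (nat_lit 624)]⟩, ⟨(nat_lit 2666), (nat_lit 5969), [(nat_lit 832), (nat_lit 557)]⟩, ⟨(nat_lit 2669), (nat_lit 6318), [(nat_lit 953), (nat_lit 498)]⟩, ⟨(nat_lit 2696), (nat_lit 6265), [(nat_lit 942), (nat_lit 835)]⟩, ⟨(nat_lit 2705), (nat_lit 4746), [(nat_lit 2061), (nat_lit 880)]⟩])))) (BT.node (nat_lit 7166) (BT.node (nat_lit 7165) (BT.leaf (.pt (nat_lit 5578) (nat_lit 4))) (BT.leaf (.pt (nat_lit 5306) (nat_lit 3)))) (BT.node (nat_lit 7167) (BT.leaf (.pt (nat_lit 4783) (nat_lit 3))) (BT.leaf (.pt (nat_lit 6135) (nat_lit 4)))))))))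
noncomputable def cF7168 : BT Fc := (BT.node (nat_lit 7200) (BT.node (nat_lit 7184) (BT.node (nat_lit 7176) (BT.node (nat_lit 7172) (BT.node (nat_lit 7170) (BT.node (nat_lit 7169) (BT.leaf ⟨(nat_lit 4), (nat_lit 2044), (nat_lit 0), (nat_lit 0x1cf80610410896fc484457a813a15ec), (nat_lit 0), (nat_lit 0)⟩) (BT.leaf ⟨(nat_lit 4), (nat_lit 2507), (nat_lit 0), (nat_lit 0xbe713dffea2a676558357aae5dca39), (nat_lit 0), (nat_lit 0)⟩)) (BT.node (nat_lit 7171) (BT.leaf ⟨(nat_lit 4), (nat_lit 2856), (nat_lit 0), (nat_lit 0x654e2e5887a747909d41ab698fae93), (nat_lit 0), (nat_lit 0)⟩) (BT.leaf ⟨(nat_lit 4), (nat_lit 3634), (nat_lit 0), (nat_lit 0x3b7bee9ed83269d262793f25a4e41e), (nat_lit 0), (nat_lit 0)⟩))) (BT.node (nat_lit 7174) (BT.node (nat_lit 7173) (BT.leaf ⟨(nat_lit 4), (nat_lit 247), (nat_lit 0), (nat_lit 0x1a4d6f057b013c48041081112d805), (nat_lit 0), (nat_lit 0)⟩) (BT.leaf ⟨(nat_lit 4), (nat_lit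 409), (nat_lit 0), (nat_lit 0x206f4f3b0131c95c25edea08600811), (nat_lit 0), (nat_lit 0)⟩)) (BT.node (nat_lit 7175) (BT.leaf ⟨(nat_lit 4), (nat_lit 2928), (nat_lit 0), (nat_lit 0x12af7e44dde1f6f7b67439ca1cd96b4), (nat_lit 0), (nat_lit 0)⟩) (BT.leaf ⟨(nat_lit 4), (nat_lit 907), (nat_lit 0), (nat_lit 0x18ebef6e88f84010424bbe3f9c49c), (nat_lit 0), (nat_lit 0)⟩)))) (BT.node (nat_lit 7180) (BT.node (nat_lit 7178) (BT.node (nat_lit 7177) (BT.leaf ⟨(nat_lit 5), (nat_lit 8), (nat_lit 0), (nat_lit 0x40000000000000000000000000000800000000000000000000000000000000020000000000000000000000000000000000000000000000000000000000040000000000000000000800000000000000000000000000000000100000000000000000100001000000000000000000000000000000002000000000000000000000000000000000000000000000000000000000000080000000000100000000008000000000004000000000000000000000000200000000000000404000000000000000000000008000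0000000800000000000000000000080000000000000000000000000000000000200000000000000000000000000000000080400000000080000000000000000001000000000000000000010000000000000000000000000000000000000000000000000000000000000000000000000000000020000000000000000000000000000000000000000001400020000080000000000000000000000000040000000000000000000000000000200000000000000000000000000000000000000000000000000000000000000000002800000000000000000000004000000000000000080000000000000000000000000000000000000000000004000002800000100), (nat_lit 0), (nat_lit 0)⟩) (BT.leaf ⟨(nat_lit 4), (nat_lit 3335), (nat_lit 0), (nat_lit 0x2039d200041bd1f1900bd100004001), (nat_lit 0), (nat_lit 0)⟩)) (BT.node (nat_lit 7179) (BT.leaf ⟨(nat_lit 4), (nat_lit 3071), (nat_lit 0), (nat_lit 0x13a2f55e0bd29961ed68bd131ff45c8), (nat_lit 0), (nat_lit 0)⟩) (BT.leaf ⟨(nat_lit 4), (nat_lit 1334), (nat_lit 0), (nat_lit 0x123bab79d060fcc4811002118ce2812),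 (nat_lit 0), (nat_lit 0)⟩))) (BT.node (nat_lit 7182) (BT.node (nat_lit 7181) (BT.leaf ⟨(nat_lit 4), (nat_lit 3720), (nat_lit 0), (nat_lit 0xdc3ed93f98eb32d8e151f44aeae12d), (nat_lit 0), (nat_lit 0)⟩) (BT.leaf ⟨(nat_lit 4), (nat_lit 3767), (nat_lit 0), (nat_lit 0x1bbcea5a63ae354eeb8a1f5960e2c3d), (nat_lit 0), (nat_lit 0)⟩)) (BT.node (nat_lit 7183) (BT.leaf ⟨(nat_lit 4), (nat_lit 3685), (nat_lit 0), (nat_lit 0x1c68304be04443c104200600a090453), (nat_lit 0), (nat_lit 0)⟩) (BT.leaf ⟨(nat_lit 4), (nat_lit 3554), (nat_lit 0), (nat_lit 0x1040e29108c693efc72a06005247012), (nat_lit 0), (nat_lit 0)⟩))))) (BT.node (nat_lit 7192) (BT.node (nat_lit 7188) (BT.node (nat_lit 7186) (BT.node (nat_lit 7185) (BT.leaf ⟨(nat_lit 4), (nat_lit 3345), (nat_lit 0), (nat_lit 0x1ae55c2b9d94a651c8b9c4fd44733b9), (nat_lit 0), (nat_lit 0)⟩) (BT.leaf ⟨(nat_lit 4), (nat_lit 1691), (nat_lit 0), (nat_lit 0xcebc024bbce24e0020244b5f0842),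 (nat_lit 0), (nat_lit 0)⟩)) (BT.node (nat_lit 7187) (BT.leaf ⟨(nat_lit 4), (nat_lit 2025), (nat_lit 0), (nat_lit 0x806a32400be78d97b00a753d108208), (nat_lit 0), (nat_lit 0)⟩) (BT.leaf ⟨(nat_lit 4), (nat_lit 2316), (nat_lit 0), (nat_lit 0x18eac1f2ae65c699d73ba74d27bd565), (nat_lit 0), (nat_lit 0)⟩))) (BT.node (nat_lit 7190) (BT.node (nat_lit 7189) (BT.leaf ⟨(nat_lit 4), (nat_lit 2317), (nat_lit 0), (nat_lit 0x191b49d19e9dc199aca5ecc32ea3669), (nat_lit 0), (nat_lit 0)⟩) (BT.leaf ⟨(nat_lit 4), (nat_lit 1302), (nat_lit 0), (nat_lit 0xf8c402008e6020ea900de81000273a), (nat_lit 0), (nat_lit 0)⟩)) (BT.node (nat_lit 7191) (BT.leaf ⟨(nat_lit 4), (nat_lit 830), (nat_lit 0), (nat_lit 0x96d0249ae8401802824208012f6477), (nat_lit 0), (nat_lit 0)⟩) (BT.leaf ⟨(nat_lit 4), (nat_lit 1387), (nat_lit 0), (nat_lit 0x114e3199b0e7b2a3bd73866ff876d5c), (nat_lit 0), (nat_lit 0)⟩)))) (BT.node (nat_lit 7196)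 (BT.node (nat_lit 7194) (BT.node (nat_lit 7193) (BT.leaf ⟨(nat_lit 4), (nat_lit 1742), (nat_lit 0), (nat_lit 0x501d1cde2de10060060866656d4440), (nat_lit 0), (nat_lit 0)⟩) (BT.leaf ⟨(nat_lit 4), (nat_lit 2109), (nat_lit 0), (nat_lit 0x44127c1027f7e0e2aa9021b9231814), (nat_lit 0), (nat_lit 0)⟩)) (BT.node (nat_lit 7195) (BT.leaf ⟨(nat_lit 4), (nat_lit 683), (nat_lit 0), (nat_lit 0x1ce0215ea20480801c7100c008092bb), (nat_lit 0), (nat_lit 0)⟩) (BT.leaf ⟨(nat_lit 4), (nat_lit 554), (nat_lit 0), (nat_lit 0x1d392b80c3bb78158c08e640624b009), (nat_lit 0), (nat_lit 0)⟩))) (BT.node (nat_lit 7198) (BT.node (nat_lit 7197) (BT.leaf ⟨(nat_lit 5), (nat_lit 8), (nat_lit 0), (nat_lit 0x80000000000000000000000000000000000000000000000200000000000000000000000800000080000000000000000200000000200000000000000000000000000000000000000000000000000000000000900002000000000000000000000000400000000000000000000000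000000000000000000000000000000000000000000000000000000000000080000000000000000000000000000000000000000000000000000010000000000000000002000000000000000000020000000000010000000000000000000200000000000000000000000000000802000000000000000000000040100002000000000000000000000004000000000000000000000000000000000800000000000000000000000000000000000000100000000000000000000000000000000004000000040001000800000000000000000000000000000000000000000000000000000000000000000000000000000008100000000000000000000000008024000000000000000000000000000000000800800000000000000000000000000000004000000000000000000000000000000000000000000000000000440000000000010000000000000000000000000000000000000000000000000000000020000000000000000), (nat_lit 0), (nat_lit 0)⟩) (BT.leaf ⟨(nat_lit 5), (nat_lit 8), (nat_lit 0), (nat_lit 0x400000000000000000000000000000000000000000000000000000200000000000000000000000000000000000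00040000000000000000000000000000000000000000000000000000000000000000000000000000000000000000000000000000000000000000000000000000000000000000000000000000000000000000000000000000000000000000000000000000000000000000000000000000000000000000000000000000000000000000400000000080000000000000000000000000000000000000000000000000000000000000000000000000000000000000000000000000000000000000000000000000000000000000000000000000000000000000000000000000000000000000000000000100000000000000000000000000000000000000000000000000000000000000000000000000000000000000000000000000000000000000000000000000000000000000000000000000000000000000000000000000000000000000000000000000000000000000000000002), (nat_lit 0), (nat_lit 0)⟩)) (BT.node (nat_lit 7199) (BT.leaf ⟨(nat_lit 5), (nat_lit 8), (nat_lit 0), (nat_lit 0xa80000000030000000018000402208001000000000000200222008404801000000020080800101184000000200000000200000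12020100420000040802100000000260008200920140040080108a08000000094820200004000000000000000080860110180008000400000302102019000040000000000000000000000005003044000240000000100000009040400000882000020010020000000000008080000000000100211000808000040440004600000003000000008042000200000001000000604004000a000200000810008090000000000800200806000002020142280100000040140106000000008100000000200004006108000c080800000000004200806028800001800000000000200400014000010000001001080100000020a00000080000000000540000000400410008200000008100000020000088002008000000220214000001000000000000000280002000020000095001200000a0200000000100008024000000040400000000000000000000000801a100000000800000400000000000000440020014100000000000000008800000000129000100000008886c8000004100090000000409181000110002084000000080000000000011000000004024000142800000143), (nat_lit 0), (nat_lit 0)⟩) (BT.leaf ⟨(nat_lit 4), (nat_lit 1549),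 (nat_lit 0), (nat_lit 0x120040a804722206067410421386c1e), (nat_lit 0), (nat_lit 0)⟩)))))) (BT.node (nat_lit 7216) (BT.node (nat_lit 7208) (BT.node (nat_lit 7204) (BT.node (nat_lit 7202) (BT.node (nat_lit 7201) (BT.leaf ⟨(nat_lit 4), (nat_lit 320), (nat_lit 0), (nat_lit 0x10012ff3a8e6100026f4f1a008042b9), (nat_lit 0), (nat_lit 0)⟩) (BT.leaf ⟨(nat_lit 4), (nat_lit 425), (nat_lit 0), (nat_lit 0x5e6c6f85a68c4c65b8df1b9605bbfe), (nat_lit 0), (nat_lit 0)⟩)) (BT.node (nat_lit 7203) (BT.leaf ⟨(nat_lit 4), (nat_lit 549), (nat_lit 0), (nat_lit 0x12ad2f62c1cd595c521fd826f12fa5b), (nat_lit 0), (nat_lit 0)⟩) (BT.leaf ⟨(nat_lit 4), (nat_lit 509), (nat_lit 0), (nat_lit 0xae29a3b95725687375157b7fd54c4d), (nat_lit 0), (nat_lit 0)⟩))) (BT.node (nat_lit 7206) (BT.node (nat_lit 7205) (BT.leaf ⟨(nat_lit 4), (nat_lit 3385), (nat_lit 0), (nat_lit 0x1e2412742e7d268064041080123babd), (nat_lit 0), (nat_lit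 0)⟩) (BT.leaf ⟨(nat_lit 4), (nat_lit 310), (nat_lit 0), (nat_lit 0x8414024040278e7a673400f542fa04), (nat_lit 0), (nat_lit 0)⟩)) (BT.node (nat_lit 7207) (BT.leaf ⟨(nat_lit 4), (nat_lit 2354), (nat_lit 0), (nat_lit 0x10097a500d72cea00440802d1b2fc08), (nat_lit 0), (nat_lit 0)⟩) (BT.leaf ⟨(nat_lit 4), (nat_lit 2320), (nat_lit 0), (nat_lit 0x118c0a050420061f9c8ebf04409f890), (nat_lit 0), (nat_lit 0)⟩)))) (BT.node (nat_lit 7212) (BT.node (nat_lit 7210) (BT.node (nat_lit 7209) (BT.leaf ⟨(nat_lit 5), (nat_lit 9), (nat_lit 0), (nat_lit 0x8000000100000000000800000000000000000000004000000000000000000000200000000000000000000000000000000000000000000000000000000000000020000000000000000000000000000400000000000000000000000000004000080000000000000000000000000000000000000000000000000040000000000000000000008400000000000000000000000000000000000000000000000000000000400000021002000000000002000000000000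0000000000000000000000000000000000000000001000000000000004008000000000000000002000000000000000000000000000000000000000000000000010000000000000000000010000000000000022000000000010000000000000000000000000000000000000002000000000000000000002000000000000000000000000000000000000000000000000000000000000000000000000000004000000000000000400000000000000000000000000000000000000000000000000000008000000002000000000000000040200000000020000000000000000000000000100000000000000000000000400800000010000000000000000000000000000000000000000000000000000000000000000001), (nat_lit 0), (nat_lit 0)⟩) (BT.leaf ⟨(nat_lit 4), (nat_lit 765), (nat_lit 0), (nat_lit 0xf864e1024ba04901002bd5ce0eb806), (nat_lit 0), (nat_lit 0)⟩)) (BT.node (nat_lit 7211) (BT.leaf ⟨(nat_lit 4), (nat_lit 1017), (nat_lit 0), (nat_lit 0xe8c3043343f6a35a0c032a90028140), (nat_lit 0), (nat_lit 0)⟩) (BT.leaf ⟨(nat_lit 4), (nat_lit 183), (nat_lit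 0), (nat_lit 0xf0df12366c678df5bf3fc656b05ba3), (nat_lit 0), (nat_lit 0)⟩))) (BT.node (nat_lit 7214) (BT.node (nat_lit 7213) (BT.leaf ⟨(nat_lit 5), (nat_lit 9), (nat_lit 0), (nat_lit 0x4000000800000000000100000000000400000100000000000000000000000000080000400000000000000000000000000000000000000000000000000000000000000000000000000000000000000000000000000000000000008000004002000000000002000000000000000000000000200000000000000000000000000000000000002000000000000000000000000000000000000000000000000000000000000000000000000000000010000000000000000000000000050000002000000001000000000000000000000000000000000000000000080000000c00000400000000000000001000000000400000000000000000000000000000000000000000000000000000000000000000000000000000000000000000000000000000000000000008000000000000000000000000000000000000000000000000000000000000000000800000000000000000000000001001000000200000000000000000000000000000000000000000000000080000000020000008000000000000000000000000000000080000000000000000000000000000000000000002002000000000000000000000000080000000000200000000000000000010000000000008000000000000000000000000000004000000000000000),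 (nat_lit 0), (nat_lit 0)⟩) (BT.leaf ⟨(nat_lit 4), (nat_lit 1995), (nat_lit 0), (nat_lit 0x18b0de4ab6e1edd6f85fd82e290fb5f), (nat_lit 0), (nat_lit 0)⟩)) (BT.node (nat_lit 7215) (BT.leaf ⟨(nat_lit 4), (nat_lit 1679), (nat_lit 0), (nat_lit 0x16c64d09ea9727f4f4be2edb07be8ed), (nat_lit 0), (nat_lit 0)⟩) (BT.leaf ⟨(nat_lit 4), (nat_lit 2670), (nat_lit 0), (nat_lit 0x810e8f89934f9f7800600896ef62bd), (nat_lit 0), (nat_lit 0)⟩))))) (BT.node (nat_lit 7224) (BT.node (nat_lit 7220) (BT.node (nat_lit 7218) (BT.node (nat_lit 7217) (BT.leaf ⟨(nat_lit 4), (nat_lit 3585), (nat_lit 0), (nat_lit 0x140481c506093c0a012f3aaa508011), (nat_lit 0), (nat_lit 0)⟩) (BT.leaf ⟨(nat_lit 4), (nat_lit 2386), (nat_lit 0), (nat_lit 0x1c34d7c1e1095a16f88114024041280), (nat_lit 0), (nat_lit 0)⟩)) (BT.node (nat_lit 7219) (BT.leaf ⟨(nat_lit 4), (nat_lit 1518), (nat_lit 0), (nat_lit 0x127c10a0101200402de93a8f8a39401), (nat_lit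 0), (nat_lit 0)⟩) (BT.leaf ⟨(nat_lit 4), (nat_lit 1517), (nat_lit 0), (nat_lit 0x9abfa6f6df9c873a7db50fbc37a4f4), (nat_lit 0), (nat_lit 0)⟩))) (BT.node (nat_lit 7222) (BT.node (nat_lit 7221) (BT.leaf ⟨(nat_lit 4), (nat_lit 2969), (nat_lit 0), (nat_lit 0x1cf95e805934111f381400dd0902789), (nat_lit 0), (nat_lit 0)⟩) (BT.leaf ⟨(nat_lit 4), (nat_lit 2106), (nat_lit 0), (nat_lit 0x2e5006009e8f56a305fd3ca0102673), (nat_lit 0), (nat_lit 0)⟩)) (BT.node (nat_lit 7223) (BT.leaf ⟨(nat_lit 4), (nat_lit 1974), (nat_lit 0), (nat_lit 0x160f9c0b739ce938d2d2e7c1f377b3a), (nat_lit 0), (nat_lit 0)⟩) (BT.leaf ⟨(nat_lit 5), (nat_lit 9), (nat_lit 0), (nat_lit 0x400000000000000000000000000200000000000800000000000000000000000010000000000000000000000000000000002000000000080000100100000000000000000000000000000000000000010000000000000000000000020000000000000000000000004000000000000000008080000000000000000000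000000000040000000010000102000000000000000000000020000000000000000000000000000000400000008000000000000000000000010000400080000000008000000000000000000000000000000000000000000000008000040000000000000000001000000000000000000000000000000000000000000000000000000800000000000000000000000000000000000000020000000000000000000001000000000000000000000000000000000000000000000000000000000000000000000000000000010000000000000000000000000000000000000000000080000000000000800000004000000000000080000000000000400000000020000000000000000000000000000000000000000000000000000000000000000000000000000000000000000000000000000200000000000000000000000000000000000000800000000000800000000000000000000), (nat_lit 0), (nat_lit 0)⟩)))) (BT.node (nat_lit 7228) (BT.node (nat_lit 7226) (BT.node (nat_lit 7225) (BT.leaf ⟨(nat_lit 4), (nat_lit 2043), (nat_lit 0), (nat_lit 0x7561e9d7b4cdb0e29ddcb1bbdc50fa), (nat_lit 0), (nat_lit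 0)⟩) (BT.leaf ⟨(nat_lit 4), (nat_lit 511), (nat_lit 0), (nat_lit 0x4b79c6f64ba80ba2006084409f0f8f), (nat_lit 0), (nat_lit 0)⟩)) (BT.node (nat_lit 7227) (BT.leaf ⟨(nat_lit 4), (nat_lit 2620), (nat_lit 0), (nat_lit 0x1780066fc210ac42400892dccba7257), (nat_lit 0), (nat_lit 0)⟩) (BT.leaf ⟨(nat_lit 4), (nat_lit 2199), (nat_lit 0), (nat_lit 0x127a4fbd8d836c65f17692c2793559e), (nat_lit 0), (nat_lit 0)⟩))) (BT.node (nat_lit 7230) (BT.node (nat_lit 7229) (BT.leaf ⟨(nat_lit 4), (nat_lit 831), (nat_lit 0), (nat_lit 0x50281107e77e0e2f2a8c60c247010), (nat_lit 0), (nat_lit 0)⟩) (BT.leaf ⟨(nat_lit 4), (nat_lit 366), (nat_lit 0), (nat_lit 0x11355d8b96d8ee5cb2391ccae2ffe27), (nat_lit 0), (nat_lit 0)⟩)) (BT.node (nat_lit 7231) (BT.leaf ⟨(nat_lit 4), (nat_lit 2042), (nat_lit 0), (nat_lit 0x80121208a7eb410bc34fe0c14c822), (nat_lit 0), (nat_lit 0)⟩) (BT.leaf ⟨(nat_lit 4), (nat_lit 1251), (nat_lit 0), (nat_lit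 0x1b9226b1cda99d37e6f439d3d143cab), (nat_lit 0), (nat_lit 0)⟩)))))))
noncomputable def cP7168 : BT Pf := (BT.node (nat_lit 7200) (BT.node (nat_lit 7184) (BT.node (nat_lit 7176) (BT.node (nat_lit 7172) (BT.node (nat_lit 7170) (BT.node (nat_lit 7169) (BT.leaf (.pt (nat_lit 5870) (nat_lit 4))) (BT.leaf (.pt (nat_lit 7168) (nat_lit 1)))) (BT.node (nat_lit 7171) (BT.leaf (.pt (nat_lit 7169) (nat_lit 4))) (BT.leaf (.pt (nat_lit 6641) (nat_lit 1))))) (BT.node (nat_lit 7174) (BT.node (nat_lit 7173) (BT.leaf (.pt (nat_lit 4948) (nat_lit 3))) (BT.leaf (.pt (nat_lit 7047) (nat_lit 1)))) (BT.node (nat_lit 7175) (BT.leaf (.pt (nat_lit 7157) (nat_lit 1))) (BT.leaf (.pt (nat_lit 6884) (nat_lit 4)))))) (BT.node (nat_lit 7180) (BT.node (nat_lit 7178) (BT.node (nat_lit 7177) (BT.leaf (.cov [] [⟨(nat_lit 2708), (nat_lit 6867), [(nat_lit 93), (nat_lit 249)]⟩, ⟨(nat_lit 2735), (nat_lit 7164), [(nat_lit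 618), (nat_lit 1329)]⟩, ⟨(nat_lit 2745), (nat_lit 6655), [(nat_lit 281), (nat_lit 334)]⟩, ⟨(nat_lit 2751), (nat_lit 5168), [(nat_lit 902), (nat_lit 190)]⟩, ⟨(nat_lit 2755), (nat_lit 5070), [(nat_lit 569), (nat_lit 874)]⟩, ⟨(nat_lit 2760), (nat_lit 4822), [(nat_lit 441), (nat_lit 369)]⟩, ⟨(nat_lit 2763), (nat_lit 7165), [(nat_lit 521), (nat_lit 472)]⟩, ⟨(nat_lit 2770), (nat_lit 6887), [(nat_lit 1218), (nat_lit 1503)]⟩, ⟨(nat_lit 2782), (nat_lit 5282), [(nat_lit 815), (nat_lit 532)]⟩, ⟨(nat_lit 2790), (nat_lit 7166), [(nat_lit 696), (nat_lit 1100)]⟩, ⟨(nat_lit 2794), (nat_lit 6946), [(nat_lit 569), (nat_lit 1192)]⟩, ⟨(nat_lit 2802), (nat_lit 6599), [(nat_lit 544), (nat_lit 898)]⟩, ⟨(nat_lit 2803), (nat_lit 5882), [(nat_lit 507), (nat_lit 306)]⟩, ⟨(nat_lit 2822), (nat_lit 7167), [(nat_lit 423)]⟩, ⟨(nat_lit 2847), (nat_lit 7170), [(nat_lit 273), (nat_lit 1133)]⟩, ⟨(nat_lit 2868), (nat_lit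 7171), [(nat_lit 508), (nat_lit 291)]⟩, ⟨(nat_lit 2870), (nat_lit 5931), [(nat_lit 92)]⟩, ⟨(nat_lit 2871), (nat_lit 5956), [(nat_lit 373), (nat_lit 593)]⟩, ⟨(nat_lit 2882), (nat_lit 6786), [(nat_lit 466), (nat_lit 710)]⟩, ⟨(nat_lit 2883), (nat_lit 6993), [(nat_lit 707), (nat_lit 652)]⟩, ⟨(nat_lit 2892), (nat_lit 6712), [(nat_lit 211), (nat_lit 293)]⟩, ⟨(nat_lit 2922), (nat_lit 7135), [(nat_lit 357), (nat_lit 596)]⟩, ⟨(nat_lit 2929), (nat_lit 6244), [(nat_lit 705), (nat_lit 438)]⟩, ⟨(nat_lit 2953), (nat_lit 4827), [(nat_lit 406), (nat_lit 290)]⟩, ⟨(nat_lit 2957), (nat_lit 7172), [(nat_lit 991), (nat_lit 736)]⟩, ⟨(nat_lit 2960), (nat_lit 5072), [(nat_lit 508), (nat_lit 798)]⟩, ⟨(nat_lit 2967), (nat_lit 5031), [(nat_lit 254), (nat_lit 384)]⟩, ⟨(nat_lit 2981), (nat_lit 7173), [(nat_lit 422), (nat_lit 170)]⟩, ⟨(nat_lit 3010), (nat_lit 7174), [(nat_lit 689), (nat_lit 490)]⟩, ⟨(nat_lit 3035),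 (nat_lit 7175), [(nat_lit 915), (nat_lit 291)]⟩, ⟨(nat_lit 3040), (nat_lit 5541), [(nat_lit 840), (nat_lit 870)]⟩, ⟨(nat_lit 3105), (nat_lit 6703), [(nat_lit 195), (nat_lit 898)]⟩, ⟨(nat_lit 3125), (nat_lit 4942), [(nat_lit 237), (nat_lit 868)]⟩, ⟨(nat_lit 3128), (nat_lit 6129), [(nat_lit 359), (nat_lit 472)]⟩, ⟨(nat_lit 3131), (nat_lit 5393), [(nat_lit 1041), (nat_lit 140)]⟩, ⟨(nat_lit 3150), (nat_lit 6124), [(nat_lit 427), (nat_lit 563)]⟩, ⟨(nat_lit 3157), (nat_lit 4576), [(nat_lit 941), (nat_lit 385)]⟩, ⟨(nat_lit 3198), (nat_lit 4535), [(nat_lit 1102), (nat_lit 249)]⟩, ⟨(nat_lit 3202), (nat_lit 6299), [(nat_lit 321), (nat_lit 440)]⟩, ⟨(nat_lit 3212), (nat_lit 4571), [(nat_lit 1600), (nat_lit 712)]⟩])) (BT.leaf (.pt (nat_lit 6252) (nat_lit 3)))) (BT.node (nat_lit 7179) (BT.leaf (.pt (nat_lit 7177) (nat_lit 1))) (BT.leaf (.pt (nat_lit 4692) (nat_lit 4))))) (BT.node (nat_lit 7182)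 (BT.node (nat_lit 7181) (BT.leaf (.pt (nat_lit 5621) (nat_lit 4))) (BT.leaf (.pt (nat_lit 7180) (nat_lit 1)))) (BT.node (nat_lit 7183) (BT.leaf (.pt (nat_lit 7181) (nat_lit 4))) (BT.leaf (.pt (nat_lit 7182) (nat_lit 1))))))) (BT.node (nat_lit 7192) (BT.node (nat_lit 7188) (BT.node (nat_lit 7186) (BT.node (nat_lit 7185) (BT.leaf (.pt (nat_lit 7183) (nat_lit 4))) (BT.leaf (.pt (nat_lit 6955) (nat_lit 1)))) (BT.node (nat_lit 7187) (BT.leaf (.pt (nat_lit 7185) (nat_lit 3))) (BT.leaf (.pt (nat_lit 7186) (nat_lit 1))))) (BT.node (nat_lit 7190) (BT.node (nat_lit 7189) (BT.leaf (.pt (nat_lit 7187) (nat_lit 3))) (BT.leaf (.pt (nat_lit 6898) (nat_lit 1)))) (BT.node (nat_lit 7191) (BT.leaf (.pt (nat_lit 5415) (nat_lit 4))) (BT.leaf (.pt (nat_lit 5951) (nat_lit 4)))))) (BT.node (nat_lit 7196) (BT.node (nat_lit 7194) (BT.node (nat_lit 7193) (BT.leaf (.pt (nat_lit 7191) (nat_lit 1))) (BT.leaf (.pt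 (nat_lit 7192) (nat_lit 3)))) (BT.node (nat_lit 7195) (BT.leaf (.pt (nat_lit 6743) (nat_lit 1))) (BT.leaf (.pt (nat_lit 5400) (nat_lit 4))))) (BT.node (nat_lit 7198) (BT.node (nat_lit 7197) (BT.leaf (.cov [] [⟨(nat_lit 3235), (nat_lit 4881), [(nat_lit 900), (nat_lit 1)]⟩, ⟨(nat_lit 3257), (nat_lit 7178), [(nat_lit 97), (nat_lit 320)]⟩, ⟨(nat_lit 3271), (nat_lit 7179), [(nat_lit 774), (nat_lit 808)]⟩, ⟨(nat_lit 3275), (nat_lit 6628), [(nat_lit 787), (nat_lit 398)]⟩, ⟨(nat_lit 3293), (nat_lit 7184), [(nat_lit 977), (nat_lit 141)]⟩, ⟨(nat_lit 3296), (nat_lit 5800), [(nat_lit 2124), (nat_lit 395)]⟩, ⟨(nat_lit 3309), (nat_lit 5303), [(nat_lit 526), (nat_lit 556)]⟩, ⟨(nat_lit 3370), (nat_lit 5478), [(nat_lit 111), (nat_lit 1376)]⟩, ⟨(nat_lit 3389), (nat_lit 6995), [(nat_lit 451), (nat_lit 1503)]⟩, ⟨(nat_lit 3398), (nat_lit 7188), [(nat_lit 1013), (nat_lit 440)]⟩, ⟨(nat_lit 3400), (nat_lit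 5270), [(nat_lit 1292), (nat_lit 308)]⟩, ⟨(nat_lit 3412), (nat_lit 6302), [(nat_lit 673), (nat_lit 1088)]⟩, ⟨(nat_lit 3422), (nat_lit 5101), [(nat_lit 364), (nat_lit 90)]⟩, ⟨(nat_lit 3458), (nat_lit 7189), [(nat_lit 178), (nat_lit 171)]⟩, ⟨(nat_lit 3486), (nat_lit 5271), [(nat_lit 911), (nat_lit 818)]⟩, ⟨(nat_lit 3537), (nat_lit 6808), [(nat_lit 1056), (nat_lit 369)]⟩, ⟨(nat_lit 3560), (nat_lit 7190), [(nat_lit 653), (nat_lit 172)]⟩, ⟨(nat_lit 3578), (nat_lit 4795), [(nat_lit 1308), (nat_lit 191)]⟩, ⟨(nat_lit 3586), (nat_lit 4732), [(nat_lit 209), (nat_lit 1001)]⟩, ⟨(nat_lit 3616), (nat_lit 6202), [(nat_lit 402), (nat_lit 1256)]⟩, ⟨(nat_lit 3620), (nat_lit 4691), [(nat_lit 764), (nat_lit 108)]⟩, ⟨(nat_lit 3629), (nat_lit 6365), [(nat_lit 902), (nat_lit 486)]⟩, ⟨(nat_lit 3658), (nat_lit 6071), [(nat_lit 250), (nat_lit 1223)]⟩, ⟨(nat_lit 3661), (nat_lit 5278), [(nat_lit 462), (nat_lit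 878)]⟩, ⟨(nat_lit 3666), (nat_lit 5986), [(nat_lit 267), (nat_lit 396)]⟩, ⟨(nat_lit 3714), (nat_lit 5935), [(nat_lit 521), (nat_lit 491)]⟩, ⟨(nat_lit 3729), (nat_lit 6032), [(nat_lit 445), (nat_lit 1256)]⟩, ⟨(nat_lit 3739), (nat_lit 6323), [(nat_lit 825), (nat_lit 170)]⟩, ⟨(nat_lit 3742), (nat_lit 4678), [(nat_lit 1242), (nat_lit 333)]⟩, ⟨(nat_lit 3749), (nat_lit 4541), [(nat_lit 1189), (nat_lit 751)]⟩, ⟨(nat_lit 3764), (nat_lit 7193), [(nat_lit 466), (nat_lit 892)]⟩, ⟨(nat_lit 3797), (nat_lit 7194), [(nat_lit 352), (nat_lit 490)]⟩, ⟨(nat_lit 3826), (nat_lit 6810), [(nat_lit 355), (nat_lit 269)]⟩, ⟨(nat_lit 3882), (nat_lit 7067), [(nat_lit 208), (nat_lit 1256)]⟩, ⟨(nat_lit 3960), (nat_lit 6272), [(nat_lit 335), (nat_lit 1192)]⟩, ⟨(nat_lit 3994), (nat_lit 5053), [(nat_lit 579), (nat_lit 738)]⟩, ⟨(nat_lit 4042), (nat_lit 7195), [(nat_lit 349), (nat_lit 171)]⟩, ⟨(nat_lit 4068), (nat_lit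 6959), [(nat_lit 227), (nat_lit 91)]⟩, ⟨(nat_lit 4100), (nat_lit 6462), [(nat_lit 195), (nat_lit 368)]⟩, ⟨(nat_lit 4104), (nat_lit 6705), [(nat_lit 2061), (nat_lit 347)]⟩])) (BT.leaf (.cov [] [⟨(nat_lit 4109), (nat_lit 7059), [(nat_lit 474), (nat_lit 581)]⟩, ⟨(nat_lit 4150), (nat_lit 5491), [(nat_lit 257), (nat_lit 234)]⟩, ⟨(nat_lit 4178), (nat_lit 6222), [(nat_lit 96), (nat_lit 1017)]⟩, ⟨(nat_lit 4183), (nat_lit 5533), [(nat_lit 240), (nat_lit 711)]⟩, ⟨(nat_lit 4224), (nat_lit 6092), [(nat_lit 473), (nat_lit 498)]⟩, ⟨(nat_lit 4281), (nat_lit 4486), [(nat_lit 1292), (nat_lit 306)]⟩, ⟨(nat_lit 4286), (nat_lit 4508), [(nat_lit 1189), (nat_lit 390)]⟩]))) (BT.node (nat_lit 7199) (BT.leaf (.cov [(nat_lit 7119), (nat_lit 7130), (nat_lit 7138), (nat_lit 7153), (nat_lit 7163), (nat_lit 7176), (nat_lit 7196), (nat_lit 7197)] [])) (BT.leaf (.pt (nat_lit 7052) (nat_lit 1)))))))) (BT.node (nat_lit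 7216) (BT.node (nat_lit 7208) (BT.node (nat_lit 7204) (BT.node (nat_lit 7202) (BT.node (nat_lit 7201) (BT.leaf (.pt (nat_lit 4622) (nat_lit 4))) (BT.leaf (.pt (nat_lit 7200) (nat_lit 1)))) (BT.node (nat_lit 7203) (BT.leaf (.pt (nat_lit 7201) (nat_lit 3))) (BT.leaf (.pt (nat_lit 6429) (nat_lit 4))))) (BT.node (nat_lit 7206) (BT.node (nat_lit 7205) (BT.leaf (.pt (nat_lit 5903) (nat_lit 3))) (BT.leaf (.pt (nat_lit 5238) (nat_lit 3)))) (BT.node (nat_lit 7207) (BT.leaf (.pt (nat_lit 6175) (nat_lit 3))) (BT.leaf (.pt (nat_lit 5913) (nat_lit 4)))))) (BT.node (nat_lit 7212) (BT.node (nat_lit 7210) (BT.node (nat_lit 7209) (BT.leaf (.cov [] [⟨(nat_lit 2165), (nat_lit 4484), []⟩, ⟨(nat_lit 2168), (nat_lit 4555), [(nat_lit 705), (nat_lit 1109)]⟩, ⟨(nat_lit 2169), (nat_lit 5163), [(nat_lit 167), (nat_lit 375)]⟩, ⟨(nat_lit 2171), (nat_lit 5601), [(nat_lit 492), (nat_lit 700)]⟩, ⟨(nat_lit 2173),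 (nat_lit 5597), [(nat_lit 1201), (nat_lit 974)]⟩, ⟨(nat_lit 2177), (nat_lit 7199), [(nat_lit 335), (nat_lit 1583)]⟩, ⟨(nat_lit 2179), (nat_lit 5494), [(nat_lit 259), (nat_lit 556)]⟩, ⟨(nat_lit 2182), (nat_lit 7202), [(nat_lit 488), (nat_lit 293)]⟩, ⟨(nat_lit 2185), (nat_lit 4893), [(nat_lit 503), (nat_lit 432)]⟩, ⟨(nat_lit 2187), (nat_lit 5957), [(nat_lit 726), (nat_lit 279)]⟩, ⟨(nat_lit 2188), (nat_lit 5092), [(nat_lit 1162), (nat_lit 506)]⟩, ⟨(nat_lit 2191), (nat_lit 5863), [(nat_lit 510), (nat_lit 1043)]⟩, ⟨(nat_lit 2192), (nat_lit 6633), [(nat_lit 373), (nat_lit 204)]⟩, ⟨(nat_lit 2194), (nat_lit 7203), [(nat_lit 539), (nat_lit 506)]⟩, ⟨(nat_lit 2196), (nat_lit 5136), [(nat_lit 523), (nat_lit 647)]⟩, ⟨(nat_lit 2198), (nat_lit 6960), [(nat_lit 207), (nat_lit 684)]⟩, ⟨(nat_lit 2200), (nat_lit 7058), [(nat_lit 493), (nat_lit 235)]⟩, ⟨(nat_lit 2203), (nat_lit 7127), [(nat_lit 272),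 (nat_lit 875)]⟩, ⟨(nat_lit 2205), (nat_lit 5829), [(nat_lit 441), (nat_lit 1100)]⟩, ⟨(nat_lit 2207), (nat_lit 6468), [(nat_lit 433), (nat_lit 248)]⟩, ⟨(nat_lit 2209), (nat_lit 5692), [(nat_lit 176), (nat_lit 363)]⟩, ⟨(nat_lit 2212), (nat_lit 5604), [(nat_lit 174), (nat_lit 236)]⟩, ⟨(nat_lit 2214), (nat_lit 4758), [(nat_lit 267), (nat_lit 478)]⟩, ⟨(nat_lit 2216), (nat_lit 6742), [(nat_lit 574), (nat_lit 555)]⟩, ⟨(nat_lit 2218), (nat_lit 5312), [(nat_lit 761), (nat_lit 529)]⟩, ⟨(nat_lit 2220), (nat_lit 6999), [(nat_lit 832), (nat_lit 584)]⟩, ⟨(nat_lit 2221), (nat_lit 5989), [(nat_lit 619), (nat_lit 525)]⟩, ⟨(nat_lit 2224), (nat_lit 5712), [(nat_lit 493), (nat_lit 822)]⟩, ⟨(nat_lit 2227), (nat_lit 7204), [(nat_lit 470), (nat_lit 386)]⟩, ⟨(nat_lit 2228), (nat_lit 7205), [(nat_lit 404), (nat_lit 440)]⟩, ⟨(nat_lit 2230), (nat_lit 5876), [(nat_lit 271), (nat_lit 386)]⟩, ⟨(nat_lit 2232), (nat_lit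 5736), [(nat_lit 404), (nat_lit 500)]⟩, ⟨(nat_lit 2239), (nat_lit 7206), [(nat_lit 620), (nat_lit 420)]⟩, ⟨(nat_lit 2240), (nat_lit 5629), [(nat_lit 272), (nat_lit 1140)]⟩, ⟨(nat_lit 2243), (nat_lit 5623), [(nat_lit 705), (nat_lit 556)]⟩, ⟨(nat_lit 2244), (nat_lit 7207), [(nat_lit 1600), (nat_lit 627)]⟩, ⟨(nat_lit 2247), (nat_lit 5212), [(nat_lit 507), (nat_lit 985)]⟩, ⟨(nat_lit 2248), (nat_lit 5574), [(nat_lit 461), (nat_lit 584)]⟩, ⟨(nat_lit 2250), (nat_lit 5124), [(nat_lit 392), (nat_lit 1211)]⟩, ⟨(nat_lit 2253), (nat_lit 5853), [(nat_lit 911), (nat_lit 432)]⟩])) (BT.leaf (.pt (nat_lit 7023) (nat_lit 1)))) (BT.node (nat_lit 7211) (BT.leaf (.pt (nat_lit 7209) (nat_lit 4))) (BT.leaf (.pt (nat_lit 6011) (nat_lit 4))))) (BT.node (nat_lit 7214) (BT.node (nat_lit 7213) (BT.leaf (.cov [] [⟨(nat_lit 2254), (nat_lit 4637), [(nat_lit 1292), (nat_lit 968)]⟩, ⟨(nat_lit 2256), (nat_lit 7210),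 [(nat_lit 272), (nat_lit 1211)]⟩, ⟨(nat_lit 2261), (nat_lit 6068), [(nat_lit 428), (nat_lit 627)]⟩, ⟨(nat_lit 2262), (nat_lit 6171), [(nat_lit 406), (nat_lit 1503)]⟩, ⟨(nat_lit 2265), (nat_lit 5282), [(nat_lit 381), (nat_lit 974)]⟩, ⟨(nat_lit 2266), (nat_lit 5735), [(nat_lit 468), (nat_lit 880)]⟩, ⟨(nat_lit 2268), (nat_lit 4563), [(nat_lit 913), (nat_lit 248)]⟩, ⟨(nat_lit 2270), (nat_lit 6647), [(nat_lit 523), (nat_lit 1376)]⟩, ⟨(nat_lit 2272), (nat_lit 5072), [(nat_lit 349), (nat_lit 864)]⟩, ⟨(nat_lit 2274), (nat_lit 7211), [(nat_lit 1004), (nat_lit 1745)]⟩, ⟨(nat_lit 2277), (nat_lit 5261), [(nat_lit 832), (nat_lit 289)]⟩, ⟨(nat_lit 2279), (nat_lit 5698), [(nat_lit 150), (nat_lit 808)]⟩, ⟨(nat_lit 2281), (nat_lit 7075), [(nat_lit 1041), (nat_lit 368)]⟩, ⟨(nat_lit 2283), (nat_lit 6725), [(nat_lit 673), (nat_lit 969)]⟩, ⟨(nat_lit 2285), (nat_lit 4512), [(nat_lit 468), (nat_lit 172)]⟩,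 ⟨(nat_lit 2287), (nat_lit 5195), [(nat_lit 1242), (nat_lit 1136)]⟩, ⟨(nat_lit 2289), (nat_lit 7068), [(nat_lit 539), (nat_lit 529)]⟩, ⟨(nat_lit 2291), (nat_lit 5908), [(nat_lit 470), (nat_lit 555)]⟩, ⟨(nat_lit 2292), (nat_lit 6251), [(nat_lit 292), (nat_lit 495)]⟩, ⟨(nat_lit 2294), (nat_lit 6922), [(nat_lit 1600), (nat_lit 1101)]⟩, ⟨(nat_lit 2296), (nat_lit 5050), [(nat_lit 579), (nat_lit 294)]⟩, ⟨(nat_lit 2298), (nat_lit 5700), [(nat_lit 653), (nat_lit 389)]⟩, ⟨(nat_lit 2301), (nat_lit 5575), [(nat_lit 1337), (nat_lit 778)]⟩, ⟨(nat_lit 2303), (nat_lit 6233), [(nat_lit 295), (nat_lit 1503)]⟩, ⟨(nat_lit 2305), (nat_lit 7145), [(nat_lit 1004), (nat_lit 431)]⟩, ⟨(nat_lit 2308), (nat_lit 5854), [(nat_lit 128), (nat_lit 368)]⟩, ⟨(nat_lit 2309), (nat_lit 5162), [(nat_lit 487), (nat_lit 320)]⟩, ⟨(nat_lit 2312), (nat_lit 5739), [(nat_lit 941), (nat_lit 1141)]⟩, ⟨(nat_lit 2315), (nat_lit 7131),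 [(nat_lit 468), (nat_lit 172)]⟩, ⟨(nat_lit 2317), (nat_lit 5616), [(nat_lit 213), (nat_lit 375)]⟩, ⟨(nat_lit 2319), (nat_lit 4888), [(nat_lit 1218), (nat_lit 676)]⟩, ⟨(nat_lit 2321), (nat_lit 4795), [(nat_lit 521), (nat_lit 740)]⟩, ⟨(nat_lit 2323), (nat_lit 4503), [(nat_lit 695), (nat_lit 247)]⟩, ⟨(nat_lit 2325), (nat_lit 5622), [(nat_lit 469), (nat_lit 798)]⟩, ⟨(nat_lit 2326), (nat_lit 6974), [(nat_lit 914), (nat_lit 1192)]⟩, ⟨(nat_lit 2329), (nat_lit 5620), [(nat_lit 707), (nat_lit 1123)]⟩, ⟨(nat_lit 2330), (nat_lit 5183), [(nat_lit 473), (nat_lit 420)]⟩, ⟨(nat_lit 2332), (nat_lit 4511), [(nat_lit 587), (nat_lit 874)]⟩, ⟨(nat_lit 2334), (nat_lit 5368), [(nat_lit 176), (nat_lit 1001)]⟩, ⟨(nat_lit 2337), (nat_lit 5904), [(nat_lit 1235), (nat_lit 529)]⟩])) (BT.leaf (.pt (nat_lit 6783) (nat_lit 1)))) (BT.node (nat_lit 7215) (BT.leaf (.pt (nat_lit 6939) (nat_lit 4))) (BT.leaf (.pt (nat_lit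 7099) (nat_lit 1))))))) (BT.node (nat_lit 7224) (BT.node (nat_lit 7220) (BT.node (nat_lit 7218) (BT.node (nat_lit 7217) (BT.leaf (.pt (nat_lit 6634) (nat_lit 4))) (BT.leaf (.pt (nat_lit 5948) (nat_lit 4)))) (BT.node (nat_lit 7219) (BT.leaf (.pt (nat_lit 6934) (nat_lit 1))) (BT.leaf (.pt (nat_lit 7218) (nat_lit 4))))) (BT.node (nat_lit 7222) (BT.node (nat_lit 7221) (BT.leaf (.pt (nat_lit 7149) (nat_lit 1))) (BT.leaf (.pt (nat_lit 5029) (nat_lit 1)))) (BT.node (nat_lit 7223) (BT.leaf (.pt (nat_lit 7221) (nat_lit 4))) (BT.leaf (.cov [] [⟨(nat_lit 2339), (nat_lit 5950), [(nat_lit 451), (nat_lit 1247)]⟩, ⟨(nat_lit 2341), (nat_lit 4939), [(nat_lit 164), (nat_lit 173)]⟩, ⟨(nat_lit 2344), (nat_lit 5946), [(nat_lit 2124), (nat_lit 974)]⟩, ⟨(nat_lit 2345), (nat_lit 5909), [(nat_lit 865), (nat_lit 269)]⟩, ⟨(nat_lit 2347), (nat_lit 5293), [(nat_lit 292), (nat_lit 420)]⟩, ⟨(nat_lit 2350), (nat_lit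 6337), [(nat_lit 111), (nat_lit 795)]⟩, ⟨(nat_lit 2351), (nat_lit 5842), [(nat_lit 93), (nat_lit 1375)]⟩, ⟨(nat_lit 2354), (nat_lit 6381), [(nat_lit 348), (nat_lit 1165)]⟩, ⟨(nat_lit 2355), (nat_lit 6614), [(nat_lit 463), (nat_lit 532)]⟩, ⟨(nat_lit 2359), (nat_lit 6030), [(nat_lit 166), (nat_lit 604)]⟩, ⟨(nat_lit 2360), (nat_lit 5167), [(nat_lit 129), (nat_lit 891)]⟩, ⟨(nat_lit 2362), (nat_lit 6176), [(nat_lit 582), (nat_lit 682)]⟩, ⟨(nat_lit 2363), (nat_lit 6778), [(nat_lit 1292), (nat_lit 224)]⟩, ⟨(nat_lit 2364), (nat_lit 5360), [(nat_lit 695), (nat_lit 711)]⟩, ⟨(nat_lit 2367), (nat_lit 6904), [(nat_lit 273), (nat_lit 308)]⟩, ⟨(nat_lit 2369), (nat_lit 5667), [(nat_lit 575), (nat_lit 386)]⟩, ⟨(nat_lit 2370), (nat_lit 6355), [(nat_lit 487), (nat_lit 1410)]⟩, ⟨(nat_lit 2373), (nat_lit 4587), [(nat_lit 299), (nat_lit 891)]⟩, ⟨(nat_lit 2374), (nat_lit 6000), [(nat_lit 43), (nat_lit 109)]⟩,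 ⟨(nat_lit 2377), (nat_lit 7213), [(nat_lit 1174), (nat_lit 460)]⟩, ⟨(nat_lit 2379), (nat_lit 5634), [(nat_lit 1308), (nat_lit 1211)]⟩, ⟨(nat_lit 2382), (nat_lit 4730), [(nat_lit 239), (nat_lit 901)]⟩, ⟨(nat_lit 2384), (nat_lit 6361), [(nat_lit 296), (nat_lit 459)]⟩, ⟨(nat_lit 2385), (nat_lit 5506), [(nat_lit 467), (nat_lit 396)]⟩, ⟨(nat_lit 2388), (nat_lit 7214), [(nat_lit 358), (nat_lit 969)]⟩, ⟨(nat_lit 2389), (nat_lit 6101), [(nat_lit 695), (nat_lit 140)]⟩, ⟨(nat_lit 2391), (nat_lit 5032), [(nat_lit 1437), (nat_lit 738)]⟩, ⟨(nat_lit 2393), (nat_lit 7215), [(nat_lit 741), (nat_lit 1376)]⟩, ⟨(nat_lit 2394), (nat_lit 4920), [(nat_lit 153), (nat_lit 712)]⟩, ⟨(nat_lit 2395), (nat_lit 7001), [(nat_lit 211), (nat_lit 606)]⟩, ⟨(nat_lit 2397), (nat_lit 6765), [(nat_lit 364), (nat_lit 89)]⟩, ⟨(nat_lit 2399), (nat_lit 7216), [(nat_lit 194), (nat_lit 395)]⟩, ⟨(nat_lit 2402), (nat_lit 4542),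 [(nat_lit 784), (nat_lit 1091)]⟩, ⟨(nat_lit 2403), (nat_lit 7217), [(nat_lit 582), (nat_lit 287)]⟩, ⟨(nat_lit 2405), (nat_lit 7219), [(nat_lit 94), (nat_lit 901)]⟩, ⟨(nat_lit 2408), (nat_lit 7220), [(nat_lit 483), (nat_lit 684)]⟩, ⟨(nat_lit 2410), (nat_lit 4862), [(nat_lit 403), (nat_lit 1329)]⟩, ⟨(nat_lit 2411), (nat_lit 7222), [(nat_lit 351), (nat_lit 385)]⟩, ⟨(nat_lit 2414), (nat_lit 4837), [(nat_lit 482), (nat_lit 328)]⟩, ⟨(nat_lit 2417), (nat_lit 5907), [(nat_lit 991), (nat_lit 319)]⟩]))))) (BT.node (nat_lit 7228) (BT.node (nat_lit 7226) (BT.node (nat_lit 7225) (BT.leaf (.pt (nat_lit 6832) (nat_lit 1))) (BT.leaf (.pt (nat_lit 6742) (nat_lit 1)))) (BT.node (nat_lit 7227) (BT.leaf (.pt (nat_lit 5009) (nat_lit 4))) (BT.leaf (.pt (nat_lit 7226) (nat_lit 1))))) (BT.node (nat_lit 7230) (BT.node (nat_lit 7229) (BT.leaf (.pt (nat_lit 6686) (nat_lit 1))) (BT.leaf (.pt (nat_lit 5077) (nat_lit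 3)))) (BT.node (nat_lit 7231) (BT.leaf (.pt (nat_lit 7224) (nat_lit 4))) (BT.leaf (.pt (nat_lit 5082) (nat_lit 1)))))))))
noncomputable def cF7232 : BT Fc := (BT.node (nat_lit 7264) (BT.node (nat_lit 7248) (BT.node (nat_lit 7240) (BT.node (nat_lit 7236) (BT.node (nat_lit 7234) (BT.node (nat_lit 7233) (BT.leaf ⟨(nat_lit 4), (nat_lit 1596), (nat_lit 0), (nat_lit 0x1042207e3840cea023460e7022401e8), (nat_lit 0), (nat_lit 0)⟩) (BT.leaf ⟨(nat_lit 4), (nat_lit 282), (nat_lit 0), (nat_lit 0xceb957baaca1f39df3a16f8e96977a), (nat_lit 0), (nat_lit 0)⟩)) (BT.node (nat_lit 7235) (BT.leaf ⟨(nat_lit 4), (nat_lit 391), (nat_lit 0), (nat_lit 0x1e3589a65f9be163738d16effb86dd2), (nat_lit 0), (nat_lit 0)⟩) (BT.leaf ⟨(nat_lit 5), (nat_lit 9), (nat_lit 0), (nat_lit 0x20000004000000000000000000000000000000000000000000880000000000000000000000000000000000000000000000000000000000000000000000000000020040000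00000000000000000000000000000000400000000000000000000000000000020000000000000000000000000040000000000000000000000000000010000000000000000000000000000000000000000000000000000000000000010000000800000000000010000000001000000000000000000000000000000000000800000000000000000000000000000000000000c0000000000100000000000000001000000000000000000000000000000000000000120000000000000000000000000000000000000000010000000000000000000000000000000000280000200000000000000000000000000000000000000000000000000000200000000000000000008000000002000000000000000000000000000000000000000000000000000c0000000000040008008000000000000000000000040000000000000000000000000000000000000000000000000000080000001000000000000000000000080000040000000000000000000000000000000000000000000000000000000000000000000100000000000000100000000), (nat_lit 0), (nat_lit 0)⟩))) (BT.node (nat_lit 7238) (BT.node (nat_lit 7237) (BT.leaf ⟨(nat_lit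 4), (nat_lit 119), (nat_lit 0), (nat_lit 0x1cebc6820e8c80000de84be0437a49e), (nat_lit 0), (nat_lit 0)⟩) (BT.leaf ⟨(nat_lit 4), (nat_lit 151), (nat_lit 0), (nat_lit 0x1edd2dcabd8295f2fd654be87d3fd19), (nat_lit 0), (nat_lit 0)⟩)) (BT.node (nat_lit 7239) (BT.leaf ⟨(nat_lit 4), (nat_lit 2573), (nat_lit 0), (nat_lit 0xae400802bd01024f00480075500473), (nat_lit 0), (nat_lit 0)⟩) (BT.leaf ⟨(nat_lit 4), (nat_lit 3351), (nat_lit 0), (nat_lit 0x1d1b23742e89d1effb46eac1f065b35), (nat_lit 0), (nat_lit 0)⟩)))) (BT.node (nat_lit 7244) (BT.node (nat_lit 7242) (BT.node (nat_lit 7241) (BT.leaf ⟨(nat_lit 4), (nat_lit 1356), (nat_lit 0), (nat_lit 0x501afff4c744108168d211919dc901), (nat_lit 0), (nat_lit 0)⟩) (BT.leaf ⟨(nat_lit 5), (nat_lit 9), (nat_lit 0), (nat_lit 0x1080000000000000000000000000000000000010000000000000000000002800000000000000000000000000000080000000000010002000000000000008000000008000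00000000000000000200000000000000000000001000000040000000000000000000000000000000000000000000000000000000000000008000000000000000000000000000000000000020000000000000004040000000000000000000000000000000000000000000100000000000000800000100000000000000004000000880000000000000000000000000000000000000000000000000000000000000000000000000000000200000000000000000000000000010000010000000000000000000000000000000000000000000000000000000000000000000000000000000001000000000000000000200000000000000000000000000000200000000000000400000000000000000000000002000000000002000000000800000000000000000000000000000000000000000000000000000000000000000000000000000000000000000000000000002000000000008000000400002000000000000000000000000000000000000000000000000000000000000000080000000040000000000000000000000000008), (nat_lit 0), (nat_lit 0)⟩)) (BT.node (nat_lit 7243) (BT.leaf ⟨(nat_lit 4), (nat_lit 2563), (nat_lit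 0), (nat_lit 0x746020140097b24d6f0f1203012204), (nat_lit 0), (nat_lit 0)⟩) (BT.leaf ⟨(nat_lit 4), (nat_lit 3360), (nat_lit 0), (nat_lit 0x809eacf465ffa100a08421519001e3), (nat_lit 0), (nat_lit 0)⟩))) (BT.node (nat_lit 7246) (BT.node (nat_lit 7245) (BT.leaf ⟨(nat_lit 4), (nat_lit 3125), (nat_lit 0), (nat_lit 0x60280107e693e470124202437213f), (nat_lit 0), (nat_lit 0)⟩) (BT.leaf ⟨(nat_lit 4), (nat_lit 3126), (nat_lit 0), (nat_lit 0x776ea8fa46dc84aac3d714745ea9d4), (nat_lit 0), (nat_lit 0)⟩)) (BT.node (nat_lit 7247) (BT.leaf ⟨(nat_lit 4), (nat_lit 3383), (nat_lit 0), (nat_lit 0x7149f81006118c0c756220fcc282a9), (nat_lit 0), (nat_lit 0)⟩) (BT.leaf ⟨(nat_lit 4), (nat_lit 802), (nat_lit 0), (nat_lit 0x1780f45e9bd5d46d47e8b915a1577b7), (nat_lit 0), (nat_lit 0)⟩))))) (BT.node (nat_lit 7256) (BT.node (nat_lit 7252) (BT.node (nat_lit 7250) (BT.node (nat_lit 7249) (BT.leaf ⟨(nat_lit 4), (nat_lit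 1072), (nat_lit 0), (nat_lit 0x880187664ff14fd6828b9048010822), (nat_lit 0), (nat_lit 0)⟩) (BT.leaf ⟨(nat_lit 4), (nat_lit 1296), (nat_lit 0), (nat_lit 0x180200402cbf006806b90e7f8cf4440), (nat_lit 0), (nat_lit 0)⟩)) (BT.node (nat_lit 7251) (BT.leaf ⟨(nat_lit 4), (nat_lit 3642), (nat_lit 0), (nat_lit 0x15cdafce8220404817f421191b1d59e), (nat_lit 0), (nat_lit 0)⟩) (BT.leaf ⟨(nat_lit 4), (nat_lit 3741), (nat_lit 0), (nat_lit 0x19cd103d5420821020b9a7480900fe8), (nat_lit 0), (nat_lit 0)⟩))) (BT.node (nat_lit 7254) (BT.node (nat_lit 7253) (BT.leaf ⟨(nat_lit 4), (nat_lit 298), (nat_lit 0), (nat_lit 0x87f5a7cd480500cada80825bfbd048), (nat_lit 0), (nat_lit 0)⟩) (BT.leaf ⟨(nat_lit 4), (nat_lit 369), (nat_lit 0), (nat_lit 0x17a402f3b012ae001a5e083007c6201), (nat_lit 0), (nat_lit 0)⟩)) (BT.node (nat_lit 7255) (BT.leaf ⟨(nat_lit 4), (nat_lit 368), (nat_lit 0), (nat_lit 0xabbe3693e9dc19ec4a5197d12ff87c),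 (nat_lit 0), (nat_lit 0)⟩) (BT.leaf ⟨(nat_lit 4), (nat_lit 977), (nat_lit 0), (nat_lit 0x1754ee9d432b961b60d53eba4d1b3d5), (nat_lit 0), (nat_lit 0)⟩)))) (BT.node (nat_lit 7260) (BT.node (nat_lit 7258) (BT.node (nat_lit 7257) (BT.leaf ⟨(nat_lit 4), (nat_lit 3677), (nat_lit 0), (nat_lit 0x108a07cd2de87c20a409bd10028044), (nat_lit 0), (nat_lit 0)⟩) (BT.leaf ⟨(nat_lit 4), (nat_lit 243), (nat_lit 0), (nat_lit 0x1a7a4b49cefb27d3549aa96e92d8cde), (nat_lit 0), (nat_lit 0)⟩)) (BT.node (nat_lit 7259) (BT.leaf ⟨(nat_lit 4), (nat_lit 2932), (nat_lit 0), (nat_lit 0x1e348025fe7410008200572010041d5), (nat_lit 0), (nat_lit 0)⟩) (BT.leaf ⟨(nat_lit 5), (nat_lit 9), (nat_lit 0), (nat_lit 0x800000000200000000000000020000000000000000000000000000000000000010000000000000000000000000000000000800000000000100000000000000000000000000000000000000000100000000040000000000000000000000000000000000000000000000010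0000000000020000000000c0000000000000000000000000000000000000000000000000000000000000000000080000000008000000000000000000000000200000000010000000000000000000000000000000000000000000000000000000000000000000000000080000000000000000000800000000000000000000000000000000002000000000000000000000000000200000000000000000000000000000002000000000000000000000000000000000001000000000000000000000000010000000000000000001008000000000000000000002000000000000000000000000000000000002000000000000000800020000000000000000000000000000000000000000000000000000000000000000400000000000000000000000000000000004000000000000000040000200000000000000000001000000000100000000000021000001000000000008000000000000000000000000000000000000000000000000008000000000), (nat_lit 0), (nat_lit 0)⟩))) (BT.node (nat_lit 7262) (BT.node (nat_lit 7261) (BT.leaf ⟨(nat_lit 4), (nat_lit 1125), (nat_lit 0), (nat_lit 0x10f4eabd538a8db90da6bab52ccae93),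 (nat_lit 0), (nat_lit 0)⟩) (BT.leaf ⟨(nat_lit 4), (nat_lit 841), (nat_lit 0), (nat_lit 0xf8c0201093de344074608002239ef4), (nat_lit 0), (nat_lit 0)⟩)) (BT.node (nat_lit 7263) (BT.leaf ⟨(nat_lit 4), (nat_lit 3216), (nat_lit 0), (nat_lit 0x1ce001c9c02401901402e88009f0882), (nat_lit 0), (nat_lit 0)⟩) (BT.leaf ⟨(nat_lit 4), (nat_lit 1644), (nat_lit 0), (nat_lit 0xd18d9747e85297b3519f8da4fa707c), (nat_lit 0), (nat_lit 0)⟩)))))) (BT.node (nat_lit 7280) (BT.node (nat_lit 7272) (BT.node (nat_lit 7268) (BT.node (nat_lit 7266) (BT.node (nat_lit 7265) (BT.leaf ⟨(nat_lit 4), (nat_lit 937), (nat_lit 0), (nat_lit 0x123acf4de2ecc4f4f4bed8352ed8c96), (nat_lit 0), (nat_lit 0)⟩) (BT.leaf ⟨(nat_lit 4), (nat_lit 197), (nat_lit 0), (nat_lit 0x145df5a36fc6f8db1ca57c278fc82cc), (nat_lit 0), (nat_lit 0)⟩)) (BT.node (nat_lit 7267) (BT.leaf ⟨(nat_lit 4), (nat_lit 142), (nat_lit 0), (nat_lit 0xc72744c73d066ff42d2bd17b2f57b7),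 (nat_lit 0), (nat_lit 0)⟩) (BT.leaf ⟨(nat_lit 4), (nat_lit 3174), (nat_lit 0), (nat_lit 0x997c2d34cb05e589f8d8dce37d6ea2), (nat_lit 0), (nat_lit 0)⟩))) (BT.node (nat_lit 7270) (BT.node (nat_lit 7269) (BT.leaf ⟨(nat_lit 4), (nat_lit 840), (nat_lit 0), (nat_lit 0x1a4f34b3594bf19a37420f9d5a8cf06), (nat_lit 0), (nat_lit 0)⟩) (BT.leaf ⟨(nat_lit 4), (nat_lit 839), (nat_lit 0), (nat_lit 0x10f6f05eac16b4af44e8f6e7a2b419b), (nat_lit 0), (nat_lit 0)⟩)) (BT.node (nat_lit 7271) (BT.leaf ⟨(nat_lit 4), (nat_lit 3295), (nat_lit 0), (nat_lit 0xc971d420300420ef593e0879da01), (nat_lit 0), (nat_lit 0)⟩) (BT.leaf ⟨(nat_lit 5), (nat_lit 9), (nat_lit 0), (nat_lit 0x8000000000000400000000400001000000000000000000000000000002200000000000000000000000000000000000000000000000800000000000000000010000000000400000000040000000000000000000000000000000000008000000000000000000000000000000000000000000000000000000000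00000000000000000000000000000000002000000000000040000000000000000000000000000000000000000000000002400000400000000000000000000000000000000000000000000000000000000040000800000000000000040000000000000000000000000000000000000000000000000000000000000000000000000000000000000000000801000000000000000002000000000000000000000000000000000000000000000000000000000000000000000000000000400000000000000000000000000000000200000000000104000000000000000000000000008000002000000000000000000000002800000000000000050000000000000000000200000000000000000000000000400080000000000000000020000000000000000000000000000000000040000000000000000000080000000000000000000000000000000400000000000000000000000000000008000), (nat_lit 0), (nat_lit 0)⟩)))) (BT.node (nat_lit 7276) (BT.node (nat_lit 7274) (BT.node (nat_lit 7273) (BT.leaf ⟨(nat_lit 4), (nat_lit 3702), (nat_lit 0), (nat_lit 0x5035a5a809010be6c3348010020844), (nat_lit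 0), (nat_lit 0)⟩) (BT.leaf ⟨(nat_lit 4), (nat_lit 1812), (nat_lit 0), (nat_lit 0x11c64e0424ba20b9c40200640896812), (nat_lit 0), (nat_lit 0)⟩)) (BT.node (nat_lit 7275) (BT.leaf ⟨(nat_lit 4), (nat_lit 2224), (nat_lit 0), (nat_lit 0xcd557756a339a72374ef8d297a38cb), (nat_lit 0), (nat_lit 0)⟩) (BT.leaf ⟨(nat_lit 4), (nat_lit 2007), (nat_lit 0), (nat_lit 0x2211c881e1a200604f3f8c280482df), (nat_lit 0), (nat_lit 0)⟩))) (BT.node (nat_lit 7278) (BT.node (nat_lit 7277) (BT.leaf ⟨(nat_lit 4), (nat_lit 1680), (nat_lit 0), (nat_lit 0x777908d5cb1a4ce8bd538a654ea9d4), (nat_lit 0), (nat_lit 0)⟩) (BT.leaf ⟨(nat_lit 4), (nat_lit 3299), (nat_lit 0), (nat_lit 0x10064f9d40071cb7a84157097ba3881), (nat_lit 0), (nat_lit 0)⟩)) (BT.node (nat_lit 7279) (BT.leaf ⟨(nat_lit 4), (nat_lit 334), (nat_lit 0), (nat_lit 0x17fe52f46a339a465b35c8dd1c3e742), (nat_lit 0), (nat_lit 0)⟩) (BT.leaf ⟨(nat_lit 4), (nat_lit 1335),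 (nat_lit 0), (nat_lit 0x1bd372179de1b533a7dbdf8a1ce76f5), (nat_lit 0), (nat_lit 0)⟩))))) (BT.node (nat_lit 7288) (BT.node (nat_lit 7284) (BT.node (nat_lit 7282) (BT.node (nat_lit 7281) (BT.leaf ⟨(nat_lit 5), (nat_lit 9), (nat_lit 0), (nat_lit 0x400000000040010040000000000000000000000000000000000000000020000800000000000020000000000000000000000000000100000000000800000000000000000000000000000000000000000000000000000000000000000000000000000000000000000000000000000000000020000000000800000000020000000000000000000000000000000000000000000000000000000000000000000000000000000000000000000000000000000000000000000000000000000000000000000000000000000000080000000000000000000000000000000000000000000000800000000000000000000004000000000000000000002000000000000000000000000001000000000000000000000000000000000000000000000000000002400000000080000010000080000000008000000000000000000000000000000000000000000000000000400800000000000000000000000000000000000000000000020000000010800000000000000000000010000000000000000000000000000200000000000000000000000000000000000200000000008000000000000000040000000000000000000000400000000000000800000000000000040020000000000000000000100000480000000000000000000000),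 (nat_lit 0), (nat_lit 0)⟩) (BT.leaf ⟨(nat_lit 4), (nat_lit 3462), (nat_lit 0), (nat_lit 0x19d0d788283c60240363ad055786fba), (nat_lit 0), (nat_lit 0)⟩)) (BT.node (nat_lit 7283) (BT.leaf ⟨(nat_lit 4), (nat_lit 2855), (nat_lit 0), (nat_lit 0x12005088bc042004257051bf006785), (nat_lit 0), (nat_lit 0)⟩) (BT.leaf ⟨(nat_lit 4), (nat_lit 1135), (nat_lit 0), (nat_lit 0x73b786e4da8bd226fdb365bf0bcef4), (nat_lit 0), (nat_lit 0)⟩))) (BT.node (nat_lit 7286) (BT.node (nat_lit 7285) (BT.leaf ⟨(nat_lit 4), (nat_lit 2645), (nat_lit 0), (nat_lit 0x20a4e7443ae80801c71024aec01006), (nat_lit 0), (nat_lit 0)⟩) (BT.leaf ⟨(nat_lit 4), (nat_lit 2250), (nat_lit 0), (nat_lit 0x118efc01002844127890024143ab1c5), (nat_lit 0), (nat_lit 0)⟩)) (BT.node (nat_lit 7287) (BT.leaf ⟨(nat_lit 4), (nat_lit 2249), (nat_lit 0), (nat_lit 0x1ce97c0180900a0438d68d97e80400), (nat_lit 0), (nat_lit 0)⟩) (BT.leaf ⟨(nat_lit 4), (nat_lit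 1223), (nat_lit 0), (nat_lit 0xceb0ad65b07ce38d63a16fdeb9953a), (nat_lit 0), (nat_lit 0)⟩)))) (BT.node (nat_lit 7292) (BT.node (nat_lit 7290) (BT.node (nat_lit 7289) (BT.leaf ⟨(nat_lit 4), (nat_lit 3053), (nat_lit 0), (nat_lit 0xc72fc43dbd17a663f51c173a157265), (nat_lit 0), (nat_lit 0)⟩) (BT.leaf ⟨(nat_lit 4), (nat_lit 3054), (nat_lit 0), (nat_lit 0x73a9d0b7e741f31d349e775966cf32), (nat_lit 0), (nat_lit 0)⟩)) (BT.node (nat_lit 7291) (BT.leaf ⟨(nat_lit 4), (nat_lit 3281), (nat_lit 0), (nat_lit 0x879dc720121064f92e102f8bc6003), (nat_lit 0), (nat_lit 0)⟩) (BT.leaf ⟨(nat_lit 4), (nat_lit 3480), (nat_lit 0), (nat_lit 0x7d5c57213ba554eae93cb152ccada6), (nat_lit 0), (nat_lit 0)⟩))) (BT.node (nat_lit 7294) (BT.node (nat_lit 7293) (BT.leaf ⟨(nat_lit 4), (nat_lit 3441), (nat_lit 0), (nat_lit 0x11c63bf906939ce395a6d955ce3dc53), (nat_lit 0), (nat_lit 0)⟩) (BT.leaf ⟨(nat_lit 4), (nat_lit 3590),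 (nat_lit 0), (nat_lit 0x1043f1c0081027a4052f805ae600d00), (nat_lit 0), (nat_lit 0)⟩)) (BT.node (nat_lit 7295) (BT.leaf ⟨(nat_lit 4), (nat_lit 3574), (nat_lit 0), (nat_lit 0x4b79c0032051c5010128057a80100a), (nat_lit 0), (nat_lit 0)⟩) (BT.leaf ⟨(nat_lit 4), (nat_lit 3575), (nat_lit 0), (nat_lit 0xb31e1beb5c6f8f05f7df2145ff1b63), (nat_lit 0), (nat_lit 0)⟩)))))))
noncomputable def cP7232 : BT Pf := (BT.node (nat_lit 7264) (BT.node (nat_lit 7248) (BT.node (nat_lit 7240) (BT.node (nat_lit 7236) (BT.node (nat_lit 7234) (BT.node (nat_lit 7233) (BT.leaf (.pt (nat_lit 7231) (nat_lit 4))) (BT.leaf (.pt (nat_lit 5693) (nat_lit 4)))) (BT.node (nat_lit 7235) (BT.leaf (.pt (nat_lit 7233) (nat_lit 1))) (BT.leaf (.cov [] [⟨(nat_lit 2419), (nat_lit 7224), [(nat_lit 1195), (nat_lit 455)]⟩, ⟨(nat_lit 2421), (nat_lit 4885), [(nat_lit 352), (nat_lit 278)]⟩, ⟨(nat_lit 2422), (nat_lit 5757), [(nat_lit 510),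 (nat_lit 142)]⟩, ⟨(nat_lit 2425), (nat_lit 7225), [(nat_lit 355), (nat_lit 525)]⟩, ⟨(nat_lit 2426), (nat_lit 7227), [(nat_lit 423), (nat_lit 625)]⟩, ⟨(nat_lit 2429), (nat_lit 5903), [(nat_lit 93), (nat_lit 1279)]⟩, ⟨(nat_lit 2431), (nat_lit 4687), [(nat_lit 784), (nat_lit 530)]⟩, ⟨(nat_lit 2432), (nat_lit 5528), [(nat_lit 953), (nat_lit 875)]⟩, ⟨(nat_lit 2434), (nat_lit 7228), [(nat_lit 550), (nat_lit 89)]⟩, ⟨(nat_lit 2436), (nat_lit 4589), [(nat_lit 450), (nat_lit 235)]⟩, ⟨(nat_lit 2437), (nat_lit 5535), [(nat_lit 356), (nat_lit 263)]⟩, ⟨(nat_lit 2439), (nat_lit 6834), [(nat_lit 883), (nat_lit 495)]⟩, ⟨(nat_lit 2441), (nat_lit 7229), [(nat_lit 746), (nat_lit 386)]⟩, ⟨(nat_lit 2443), (nat_lit 6772), [(nat_lit 1162), (nat_lit 308)]⟩, ⟨(nat_lit 2444), (nat_lit 7134), [(nat_lit 914), (nat_lit 533)]⟩, ⟨(nat_lit 2446), (nat_lit 4961), [(nat_lit 695), (nat_lit 431)]⟩, ⟨(nat_lit 2448), (nat_lit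 5872), [(nat_lit 1235), (nat_lit 969)]⟩, ⟨(nat_lit 2451), (nat_lit 6225), [(nat_lit 1012), (nat_lit 1192)]⟩, ⟨(nat_lit 2454), (nat_lit 7230), [(nat_lit 1292), (nat_lit 126)]⟩, ⟨(nat_lit 2456), (nat_lit 6006), [(nat_lit 381), (nat_lit 738)]⟩, ⟨(nat_lit 2458), (nat_lit 6534), [(nat_lit 164), (nat_lit 431)]⟩, ⟨(nat_lit 2459), (nat_lit 5985), [(nat_lit 423), (nat_lit 486)]⟩, ⟨(nat_lit 2461), (nat_lit 6143), [(nat_lit 827), (nat_lit 386)]⟩, ⟨(nat_lit 2462), (nat_lit 4671), [(nat_lit 943), (nat_lit 1472)]⟩, ⟨(nat_lit 2463), (nat_lit 4878), [(nat_lit 447), (nat_lit 1375)]⟩, ⟨(nat_lit 2466), (nat_lit 5466), [(nat_lit 151), (nat_lit 1871)]⟩, ⟨(nat_lit 2469), (nat_lit 4654), [(nat_lit 689), (nat_lit 449)]⟩, ⟨(nat_lit 2470), (nat_lit 6081), [(nat_lit 991), (nat_lit 500)]⟩, ⟨(nat_lit 2472), (nat_lit 6019), [(nat_lit 970), (nat_lit 1136)]⟩, ⟨(nat_lit 2474), (nat_lit 7232), [(nat_lit 544), (nat_lit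 878)]⟩, ⟨(nat_lit 2476), (nat_lit 4674), [(nat_lit 1235), (nat_lit 438)]⟩, ⟨(nat_lit 2477), (nat_lit 5979), [(nat_lit 95), (nat_lit 363)]⟩, ⟨(nat_lit 2479), (nat_lit 4847), [(nat_lit 353), (nat_lit 362)]⟩, ⟨(nat_lit 2482), (nat_lit 5523), [(nat_lit 241), (nat_lit 1745)]⟩, ⟨(nat_lit 2484), (nat_lit 4619), [(nat_lit 193), (nat_lit 1036)]⟩, ⟨(nat_lit 2486), (nat_lit 6547), [(nat_lit 360), (nat_lit 596)]⟩, ⟨(nat_lit 2487), (nat_lit 5022), [(nat_lit 299), (nat_lit 802)]⟩, ⟨(nat_lit 2489), (nat_lit 7234), [(nat_lit 299), (nat_lit 646)]⟩, ⟨(nat_lit 2491), (nat_lit 6278), [(nat_lit 285), (nat_lit 162)]⟩, ⟨(nat_lit 2493), (nat_lit 4997), [(nat_lit 43), (nat_lit 173)]⟩])))) (BT.node (nat_lit 7238) (BT.node (nat_lit 7237) (BT.leaf (.pt (nat_lit 4542) (nat_lit 4))) (BT.leaf (.pt (nat_lit 7236) (nat_lit 1)))) (BT.node (nat_lit 7239) (BT.leaf (.pt (nat_lit 6644) (nat_lit 4))) (BT.leaf (.pt (nat_lit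 4595) (nat_lit 3)))))) (BT.node (nat_lit 7244) (BT.node (nat_lit 7242) (BT.node (nat_lit 7241) (BT.leaf (.pt (nat_lit 6140) (nat_lit 3))) (BT.leaf (.cov [] [⟨(nat_lit 2495), (nat_lit 5672), [(nat_lit 356), (nat_lit 125)]⟩, ⟨(nat_lit 2496), (nat_lit 7237), [(nat_lit 673), (nat_lit 563)]⟩, ⟨(nat_lit 2497), (nat_lit 5660), [(nat_lit 826), (nat_lit 1025)]⟩, ⟨(nat_lit 2498), (nat_lit 6200), [(nat_lit 255), (nat_lit 982)]⟩, ⟨(nat_lit 2499), (nat_lit 7238), [(nat_lit 467), (nat_lit 398)]⟩, ⟨(nat_lit 2502), (nat_lit 5419), [(nat_lit 467), (nat_lit 431)]⟩, ⟨(nat_lit 2503), (nat_lit 6741), [(nat_lit 1201), (nat_lit 497)]⟩, ⟨(nat_lit 2504), (nat_lit 5210), [(nat_lit 299), (nat_lit 225)]⟩, ⟨(nat_lit 2505), (nat_lit 5891), [(nat_lit 1600), (nat_lit 333)]⟩, ⟨(nat_lit 2506), (nat_lit 5971), [(nat_lit 237), (nat_lit 320)]⟩, ⟨(nat_lit 2511), (nat_lit 4868), [(nat_lit 296), (nat_lit 1136)]⟩, ⟨(nat_lit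 2513), (nat_lit 5283), [(nat_lit 487), (nat_lit 647)]⟩, ⟨(nat_lit 2514), (nat_lit 4554), [(nat_lit 618), (nat_lit 751)]⟩, ⟨(nat_lit 2516), (nat_lit 6290), [(nat_lit 463), (nat_lit 798)]⟩, ⟨(nat_lit 2517), (nat_lit 7239), [(nat_lit 469), (nat_lit 712)]⟩, ⟨(nat_lit 2518), (nat_lit 6391), [(nat_lit 211), (nat_lit 140)]⟩, ⟨(nat_lit 2521), (nat_lit 6648), [(nat_lit 970), (nat_lit 580)]⟩, ⟨(nat_lit 2522), (nat_lit 4900), [(nat_lit 953), (nat_lit 1091)]⟩, ⟨(nat_lit 2525), (nat_lit 5556), [(nat_lit 1162), (nat_lit 372)]⟩, ⟨(nat_lit 2528), (nat_lit 6074), [(nat_lit 462), (nat_lit 578)]⟩, ⟨(nat_lit 2530), (nat_lit 5598), [(nat_lit 150), (nat_lit 89)]⟩, ⟨(nat_lit 2532), (nat_lit 6190), [(nat_lit 178), (nat_lit 1745)]⟩, ⟨(nat_lit 2533), (nat_lit 5654), [(nat_lit 349), (nat_lit 390)]⟩, ⟨(nat_lit 2535), (nat_lit 5879), [(nat_lit 1195), (nat_lit 389)]⟩, ⟨(nat_lit 2536), (nat_lit 6336), [(nat_lit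 364), (nat_lit 497)]⟩, ⟨(nat_lit 2537), (nat_lit 4918), [(nat_lit 261), (nat_lit 395)]⟩, ⟨(nat_lit 2540), (nat_lit 6466), [(nat_lit 653), (nat_lit 974)]⟩, ⟨(nat_lit 2541), (nat_lit 6067), [(nat_lit 447), (nat_lit 224)]⟩, ⟨(nat_lit 2543), (nat_lit 7108), [(nat_lit 1099), (nat_lit 91)]⟩, ⟨(nat_lit 2544), (nat_lit 6454), [(nat_lit 631), (nat_lit 822)]⟩, ⟨(nat_lit 2545), (nat_lit 6994), [(nat_lit 260), (nat_lit 108)]⟩, ⟨(nat_lit 2547), (nat_lit 7173), [(nat_lit 871), (nat_lit 1410)]⟩, ⟨(nat_lit 2550), (nat_lit 6029), [(nat_lit 827), (nat_lit 604)]⟩, ⟨(nat_lit 2553), (nat_lit 7155), [(nat_lit 1201), (nat_lit 1070)]⟩, ⟨(nat_lit 2555), (nat_lit 4487), [(nat_lit 403), (nat_lit 400)]⟩, ⟨(nat_lit 2557), (nat_lit 5941), [(nat_lit 483), (nat_lit 440)]⟩, ⟨(nat_lit 2559), (nat_lit 6459), [(nat_lit 434), (nat_lit 1348)]⟩, ⟨(nat_lit 2560), (nat_lit 7149), [(nat_lit 256), (nat_lit 1583)]⟩, ⟨(nat_lit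 2562), (nat_lit 7240), [(nat_lit 953), (nat_lit 347)]⟩, ⟨(nat_lit 2564), (nat_lit 4908), [(nat_lit 487), (nat_lit 291)]⟩]))) (BT.node (nat_lit 7243) (BT.leaf (.pt (nat_lit 4904) (nat_lit 3))) (BT.leaf (.pt (nat_lit 6907) (nat_lit 4))))) (BT.node (nat_lit 7246) (BT.node (nat_lit 7245) (BT.leaf (.pt (nat_lit 7243) (nat_lit 1))) (BT.leaf (.pt (nat_lit 7244) (nat_lit 3)))) (BT.node (nat_lit 7247) (BT.leaf (.pt (nat_lit 6101) (nat_lit 4))) (BT.leaf (.pt (nat_lit 6516) (nat_lit 4))))))) (BT.node (nat_lit 7256) (BT.node (nat_lit 7252) (BT.node (nat_lit 7250) (BT.node (nat_lit 7249) (BT.leaf (.pt (nat_lit 7247) (nat_lit 1))) (BT.leaf (.pt (nat_lit 7248) (nat_lit 3)))) (BT.node (nat_lit 7251) (BT.leaf (.pt (nat_lit 6969) (nat_lit 1))) (BT.leaf (.pt (nat_lit 7250) (nat_lit 4))))) (BT.node (nat_lit 7254) (BT.node (nat_lit 7253) (BT.leaf (.pt (nat_lit 5691) (nat_lit 3))) (BT.leaf (.pt (nat_lit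 7252) (nat_lit 1)))) (BT.node (nat_lit 7255) (BT.leaf (.pt (nat_lit 7253) (nat_lit 4))) (BT.leaf (.pt (nat_lit 6979) (nat_lit 3)))))) (BT.node (nat_lit 7260) (BT.node (nat_lit 7258) (BT.node (nat_lit 7257) (BT.leaf (.pt (nat_lit 6040) (nat_lit 1))) (BT.leaf (.pt (nat_lit 5439) (nat_lit 3)))) (BT.node (nat_lit 7259) (BT.leaf (.pt (nat_lit 5455) (nat_lit 4))) (BT.leaf (.cov [] [⟨(nat_lit 2566), (nat_lit 4833), [(nat_lit 510), (nat_lit 372)]⟩, ⟨(nat_lit 2568), (nat_lit 7242), [(nat_lit 351), (nat_lit 532)]⟩, ⟨(nat_lit 2570), (nat_lit 5542), [(nat_lit 250), (nat_lit 235)]⟩, ⟨(nat_lit 2572), (nat_lit 6266), [(nat_lit 422), (nat_lit 169)]⟩, ⟨(nat_lit 2574), (nat_lit 5771), [(nat_lit 433), (nat_lit 1091)]⟩, ⟨(nat_lit 2575), (nat_lit 7245), [(nat_lit 209), (nat_lit 651)]⟩, ⟨(nat_lit 2577), (nat_lit 6429), [(nat_lit 193), (nat_lit 499)]⟩, ⟨(nat_lit 2579), (nat_lit 6850), [(nat_lit 1242), (nat_lit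 891)]⟩, ⟨(nat_lit 2582), (nat_lit 7246), [(nat_lit 1056), (nat_lit 1216)]⟩, ⟨(nat_lit 2584), (nat_lit 6781), [(nat_lit 513), (nat_lit 191)]⟩, ⟨(nat_lit 2586), (nat_lit 6203), [(nat_lit 240), (nat_lit 693)]⟩, ⟨(nat_lit 2587), (nat_lit 5481), [(nat_lit 579), (nat_lit 822)]⟩, ⟨(nat_lit 2588), (nat_lit 4527), [(nat_lit 1092), (nat_lit 646)]⟩, ⟨(nat_lit 2590), (nat_lit 5040), [(nat_lit 2124), (nat_lit 91)]⟩, ⟨(nat_lit 2591), (nat_lit 5729), [(nat_lit 260), (nat_lit 224)]⟩, ⟨(nat_lit 2594), (nat_lit 6484), [(nat_lit 298), (nat_lit 127)]⟩, ⟨(nat_lit 2596), (nat_lit 6951), [(nat_lit 726), (nat_lit 265)]⟩, ⟨(nat_lit 2597), (nat_lit 5363), [(nat_lit 913), (nat_lit 248)]⟩, ⟨(nat_lit 2599), (nat_lit 6455), [(nat_lit 523), (nat_lit 140)]⟩, ⟨(nat_lit 2600), (nat_lit 7129), [(nat_lit 883), (nat_lit 1503)]⟩, ⟨(nat_lit 2601), (nat_lit 7249), [(nat_lit 446), (nat_lit 1203)]⟩, ⟨(nat_lit 2602), (nat_lit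 5922), [(nat_lit 815), (nat_lit 525)]⟩, ⟨(nat_lit 2604), (nat_lit 6056), [(nat_lit 450), (nat_lit 624)]⟩, ⟨(nat_lit 2607), (nat_lit 5964), [(nat_lit 19), (nat_lit 91)]⟩, ⟨(nat_lit 2609), (nat_lit 6932), [(nat_lit 618), (nat_lit 906)]⟩, ⟨(nat_lit 2610), (nat_lit 7251), [(nat_lit 166), (nat_lit 1223)]⟩, ⟨(nat_lit 2613), (nat_lit 4574), [(nat_lit 1013), (nat_lit 682)]⟩, ⟨(nat_lit 2614), (nat_lit 4706), [(nat_lit 631), (nat_lit 628)]⟩, ⟨(nat_lit 2615), (nat_lit 5021), [(nat_lit 705), (nat_lit 969)]⟩, ⟨(nat_lit 2616), (nat_lit 7254), [(nat_lit 1014), (nat_lit 1223)]⟩, ⟨(nat_lit 2619), (nat_lit 7255), [(nat_lit 521), (nat_lit 125)]⟩, ⟨(nat_lit 2621), (nat_lit 6228), [(nat_lit 1004), (nat_lit 777)]⟩, ⟨(nat_lit 2623), (nat_lit 7148), [(nat_lit 380), (nat_lit 711)]⟩, ⟨(nat_lit 2624), (nat_lit 4881), [(nat_lit 351), (nat_lit 818)]⟩, ⟨(nat_lit 2626), (nat_lit 7256), [(nat_lit 360), (nat_lit 605)]⟩,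 ⟨(nat_lit 2628), (nat_lit 4989), [(nat_lit 193), (nat_lit 0)]⟩, ⟨(nat_lit 2631), (nat_lit 7257), [(nat_lit 177), (nat_lit 287)]⟩, ⟨(nat_lit 2632), (nat_lit 7258), [(nat_lit 629), (nat_lit 477)]⟩, ⟨(nat_lit 2634), (nat_lit 5179), [(nat_lit 267), (nat_lit 223)]⟩, ⟨(nat_lit 2635), (nat_lit 5473), [(nat_lit 174), (nat_lit 956)]⟩])))) (BT.node (nat_lit 7262) (BT.node (nat_lit 7261) (BT.leaf (.pt (nat_lit 6350) (nat_lit 3))) (BT.leaf (.pt (nat_lit 7001) (nat_lit 4)))) (BT.node (nat_lit 7263) (BT.leaf (.pt (nat_lit 5775) (nat_lit 3))) (BT.leaf (.pt (nat_lit 5203) (nat_lit 4)))))))) (BT.node (nat_lit 7280) (BT.node (nat_lit 7272) (BT.node (nat_lit 7268) (BT.node (nat_lit 7266) (BT.node (nat_lit 7265) (BT.leaf (.pt (nat_lit 6457) (nat_lit 4))) (BT.leaf (.pt (nat_lit 5709) (nat_lit 1)))) (BT.node (nat_lit 7267) (BT.leaf (.pt (nat_lit 7265) (nat_lit 3))) (BT.leaf (.pt (nat_lit 6691) (nat_lit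 4))))) (BT.node (nat_lit 7270) (BT.node (nat_lit 7269) (BT.leaf (.pt (nat_lit 6598) (nat_lit 1))) (BT.leaf (.pt (nat_lit 7268) (nat_lit 4)))) (BT.node (nat_lit 7271) (BT.leaf (.pt (nat_lit 6831) (nat_lit 4))) (BT.leaf (.cov [] [⟨(nat_lit 2636), (nat_lit 7260), [(nat_lit 258), (nat_lit 1165)]⟩, ⟨(nat_lit 2638), (nat_lit 7261), [(nat_lit 1126), (nat_lit 1216)]⟩, ⟨(nat_lit 2640), (nat_lit 5413), [(nat_lit 1175), (nat_lit 1043)]⟩, ⟨(nat_lit 2642), (nat_lit 5727), [(nat_lit 19), (nat_lit 438)]⟩, ⟨(nat_lit 2643), (nat_lit 5326), [(nat_lit 1195), (nat_lit 163)]⟩, ⟨(nat_lit 2645), (nat_lit 4944), [(nat_lit 902), (nat_lit 89)]⟩, ⟨(nat_lit 2648), (nat_lit 7076), [(nat_lit 212), (nat_lit 384)]⟩, ⟨(nat_lit 2649), (nat_lit 5430), [(nat_lit 451), (nat_lit 877)]⟩, ⟨(nat_lit 2651), (nat_lit 7061), [(nat_lit 166), (nat_lit 459)]⟩, ⟨(nat_lit 2654), (nat_lit 4649), [(nat_lit 570), (nat_lit 762)]⟩, ⟨(nat_lit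 2657), (nat_lit 6213), [(nat_lit 696), (nat_lit 173)]⟩, ⟨(nat_lit 2659), (nat_lit 7221), [(nat_lit 1004), (nat_lit 1036)]⟩, ⟨(nat_lit 2660), (nat_lit 5540), [(nat_lit 227), (nat_lit 868)]⟩, ⟨(nat_lit 2662), (nat_lit 4689), [(nat_lit 273), (nat_lit 142)]⟩, ⟨(nat_lit 2665), (nat_lit 6383), [(nat_lit 129), (nat_lit 385)]⟩, ⟨(nat_lit 2667), (nat_lit 7096), [(nat_lit 538), (nat_lit 814)]⟩, ⟨(nat_lit 2668), (nat_lit 5662), [(nat_lit 364), (nat_lit 432)]⟩, ⟨(nat_lit 2671), (nat_lit 6150), [(nat_lit 267), (nat_lit 486)]⟩, ⟨(nat_lit 2673), (nat_lit 6339), [(nat_lit 619), (nat_lit 802)]⟩, ⟨(nat_lit 2675), (nat_lit 5372), [(nat_lit 759), (nat_lit 334)]⟩, ⟨(nat_lit 2676), (nat_lit 5642), [(nat_lit 176), (nat_lit 1583)]⟩, ⟨(nat_lit 2678), (nat_lit 7262), [(nat_lit 746), (nat_lit 279)]⟩, ⟨(nat_lit 2680), (nat_lit 7263), [(nat_lit 513), (nat_lit 91)]⟩, ⟨(nat_lit 2681), (nat_lit 4829), [(nat_lit 429),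 (nat_lit 1009)]⟩, ⟨(nat_lit 2683), (nat_lit 4722), [(nat_lit 441), (nat_lit 420)]⟩, ⟨(nat_lit 2685), (nat_lit 7264), [(nat_lit 434), (nat_lit 585)]⟩, ⟨(nat_lit 2687), (nat_lit 7266), [(nat_lit 1600), (nat_lit 1369)]⟩, ⟨(nat_lit 2688), (nat_lit 6677), [(nat_lit 150), (nat_lit 249)]⟩, ⟨(nat_lit 2689), (nat_lit 7267), [(nat_lit 781), (nat_lit 1216)]⟩, ⟨(nat_lit 2692), (nat_lit 5129), [(nat_lit 1292), (nat_lit 320)]⟩, ⟨(nat_lit 2693), (nat_lit 5329), [(nat_lit 364), (nat_lit 1021)]⟩, ⟨(nat_lit 2695), (nat_lit 5433), [(nat_lit 97), (nat_lit 711)]⟩, ⟨(nat_lit 2697), (nat_lit 5287), [(nat_lit 675), (nat_lit 1247)]⟩, ⟨(nat_lit 2699), (nat_lit 7269), [(nat_lit 292), (nat_lit 236)]⟩, ⟨(nat_lit 2701), (nat_lit 6418), [(nat_lit 1162), (nat_lit 306)]⟩, ⟨(nat_lit 2703), (nat_lit 7270), [(nat_lit 826), (nat_lit 778)]⟩, ⟨(nat_lit 2706), (nat_lit 5114), [(nat_lit 1600), (nat_lit 294)]⟩, ⟨(nat_lit 2707),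 (nat_lit 5016), [(nat_lit 462), (nat_lit 1503)]⟩, ⟨(nat_lit 2710), (nat_lit 5295), [(nat_lit 915), (nat_lit 478)]⟩, ⟨(nat_lit 2711), (nat_lit 4546), [(nat_lit 19), (nat_lit 490)]⟩]))))) (BT.node (nat_lit 7276) (BT.node (nat_lit 7274) (BT.node (nat_lit 7273) (BT.leaf (.pt (nat_lit 5619) (nat_lit 4))) (BT.leaf (.pt (nat_lit 6913) (nat_lit 1)))) (BT.node (nat_lit 7275) (BT.leaf (.pt (nat_lit 7273) (nat_lit 3))) (BT.leaf (.pt (nat_lit 7274) (nat_lit 1))))) (BT.node (nat_lit 7278) (BT.node (nat_lit 7277) (BT.leaf (.pt (nat_lit 7275) (nat_lit 4))) (BT.leaf (.pt (nat_lit 6136) (nat_lit 4)))) (BT.node (nat_lit 7279) (BT.leaf (.pt (nat_lit 6104) (nat_lit 3))) (BT.leaf (.pt (nat_lit 5223) (nat_lit 3))))))) (BT.node (nat_lit 7288) (BT.node (nat_lit 7284) (BT.node (nat_lit 7282) (BT.node (nat_lit 7281) (BT.leaf (.cov [] [⟨(nat_lit 2712), (nat_lit 6966), [(nat_lit 763), (nat_lit 585)]⟩, ⟨(nat_lit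 2715), (nat_lit 4978), [(nat_lit 272), (nat_lit 472)]⟩, ⟨(nat_lit 2716), (nat_lit 7104), [(nat_lit 747), (nat_lit 878)]⟩, ⟨(nat_lit 2718), (nat_lit 5819), [(nat_lit 292), (nat_lit 477)]⟩, ⟨(nat_lit 2720), (nat_lit 5108), [(nat_lit 1106), (nat_lit 1203)]⟩, ⟨(nat_lit 2722), (nat_lit 4976), [(nat_lit 207), (nat_lit 625)]⟩, ⟨(nat_lit 2723), (nat_lit 7272), [(nat_lit 359), (nat_lit 330)]⟩, ⟨(nat_lit 2725), (nat_lit 5798), [(nat_lit 176), (nat_lit 347)]⟩, ⟨(nat_lit 2727), (nat_lit 4498), [(nat_lit 689), (nat_lit 751)]⟩, ⟨(nat_lit 2728), (nat_lit 6691), [(nat_lit 902), (nat_lit 294)]⟩, ⟨(nat_lit 2730), (nat_lit 7276), [(nat_lit 1308), (nat_lit 264)]⟩, ⟨(nat_lit 2733), (nat_lit 4576), [(nat_lit 391), (nat_lit 0)]⟩, ⟨(nat_lit 2734), (nat_lit 5525), [(nat_lit 356), (nat_lit 676)]⟩, ⟨(nat_lit 2736), (nat_lit 7128), [(nat_lit 761), (nat_lit 235)]⟩, ⟨(nat_lit 2737), (nat_lit 7265), [(nat_lit 111),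 (nat_lit 835)]⟩, ⟨(nat_lit 2738), (nat_lit 4496), [(nat_lit 176), (nat_lit 362)]⟩, ⟨(nat_lit 2741), (nat_lit 4617), [(nat_lit 260), (nat_lit 646)]⟩, ⟨(nat_lit 2742), (nat_lit 5307), [(nat_lit 631), (nat_lit 431)]⟩, ⟨(nat_lit 2746), (nat_lit 6794), [(nat_lit 271), (nat_lit 1101)]⟩, ⟨(nat_lit 2748), (nat_lit 7277), [(nat_lit 351), (nat_lit 798)]⟩, ⟨(nat_lit 2749), (nat_lit 7278), [(nat_lit 95), (nat_lit 384)]⟩, ⟨(nat_lit 2752), (nat_lit 6749), [(nat_lit 451), (nat_lit 375)]⟩, ⟨(nat_lit 2754), (nat_lit 4806), [(nat_lit 575), (nat_lit 421)]⟩, ⟨(nat_lit 2756), (nat_lit 5744), [(nat_lit 1026), (nat_lit 1256)]⟩, ⟨(nat_lit 2757), (nat_lit 7167), [(nat_lit 336), (nat_lit 1036)]⟩, ⟨(nat_lit 2758), (nat_lit 5178), [(nat_lit 747), (nat_lit 0)]⟩, ⟨(nat_lit 2759), (nat_lit 5241), [(nat_lit 570), (nat_lit 597)]⟩, ⟨(nat_lit 2761), (nat_lit 6162), [(nat_lit 350), (nat_lit 172)]⟩, ⟨(nat_lit 2762), (nat_lit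 4652), [(nat_lit 151), (nat_lit 624)]⟩, ⟨(nat_lit 2765), (nat_lit 4621), [(nat_lit 1337), (nat_lit 818)]⟩, ⟨(nat_lit 2767), (nat_lit 5339), [(nat_lit 393), (nat_lit 529)]⟩, ⟨(nat_lit 2768), (nat_lit 6830), [(nat_lit 913), (nat_lit 127)]⟩, ⟨(nat_lit 2769), (nat_lit 6672), [(nat_lit 292), (nat_lit 628)]⟩, ⟨(nat_lit 2771), (nat_lit 4902), [(nat_lit 991), (nat_lit 532)]⟩, ⟨(nat_lit 2774), (nat_lit 6181), [(nat_lit 299), (nat_lit 1256)]⟩, ⟨(nat_lit 2776), (nat_lit 7279), [(nat_lit 840), (nat_lit 173)]⟩, ⟨(nat_lit 2777), (nat_lit 6744), [(nat_lit 487), (nat_lit 290)]⟩, ⟨(nat_lit 2778), (nat_lit 4656), [(nat_lit 213), (nat_lit 170)]⟩, ⟨(nat_lit 2780), (nat_lit 5041), [(nat_lit 629), (nat_lit 1211)]⟩, ⟨(nat_lit 2781), (nat_lit 6731), [(nat_lit 296), (nat_lit 162)]⟩])) (BT.leaf (.pt (nat_lit 6968) (nat_lit 3)))) (BT.node (nat_lit 7283) (BT.leaf (.pt (nat_lit 7169) (nat_lit 3))) (BT.leaf (.pt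 (nat_lit 7104) (nat_lit 1))))) (BT.node (nat_lit 7286) (BT.node (nat_lit 7285) (BT.leaf (.pt (nat_lit 6665) (nat_lit 3))) (BT.leaf (.pt (nat_lit 7284) (nat_lit 1)))) (BT.node (nat_lit 7287) (BT.leaf (.pt (nat_lit 7285) (nat_lit 4))) (BT.leaf (.pt (nat_lit 7199) (nat_lit 4)))))) (BT.node (nat_lit 7292) (BT.node (nat_lit 7290) (BT.node (nat_lit 7289) (BT.leaf (.pt (nat_lit 7090) (nat_lit 1))) (BT.leaf (.pt (nat_lit 7288) (nat_lit 3)))) (BT.node (nat_lit 7291) (BT.leaf (.pt (nat_lit 6597) (nat_lit 1))) (BT.leaf (.pt (nat_lit 7290) (nat_lit 4))))) (BT.node (nat_lit 7294) (BT.node (nat_lit 7293) (BT.leaf (.pt (nat_lit 5227) (nat_lit 3))) (BT.leaf (.pt (nat_lit 6719) (nat_lit 3)))) (BT.node (nat_lit 7295) (BT.leaf (.pt (nat_lit 7293) (nat_lit 1))) (BT.leaf (.pt (nat_lit 7294) (nat_lit 3)))))))))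
noncomputable def cF7296 : BT Fc := (BT.node (nat_lit 7328) (BT.node (nat_lit 7312) (BT.node (nat_lit 7304) (BT.node (nat_lit 7300) (BT.node (nat_lit 7298) (BT.node (nat_lit 7297) (BT.leaf ⟨(nat_lit 4), (nat_lit 1683), (nat_lit 0), (nat_lit 0x1e25f3abde8405095844e7c96c036f0), (nat_lit 0), (nat_lit 0)⟩) (BT.leaf ⟨(nat_lit 4), (nat_lit 1312), (nat_lit 0), (nat_lit 0x1deb9df3839dccb1d0b7e7dc6ac187c), (nat_lit 0), (nat_lit 0)⟩)) (BT.node (nat_lit 7299) (BT.leaf ⟨(nat_lit 4), (nat_lit 2691), (nat_lit 0), (nat_lit 0x120073ae8c1000849e041e3639a00), (nat_lit 0), (nat_lit 0)⟩) (BT.leaf ⟨(nat_lit 4), (nat_lit 389), (nat_lit 0), (nat_lit 0x127a5f49f93427876ec1b3d25989db1), (nat_lit 0), (nat_lit 0)⟩))) (BT.node (nat_lit 7302) (BT.node (nat_lit 7301) (BT.leaf ⟨(nat_lit 4), (nat_lit 910), (nat_lit 0), (nat_lit 0x10f47d6583a3c846a9d732b698eea36), (nat_lit 0), (nat_lit 0)⟩) (BT.leaf ⟨(nat_lit 5),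 (nat_lit 9), (nat_lit 0), (nat_lit 0x1000000000000000000000000000000000000000004000800000000000000000000001000040000200000000000000000000000000000000000000000000000000000000000000081000000400000000200000000000000040000000000000000400000000000000000000020400000000800000000000000000000000000000000000000008000000000000000000000000000000000000000010000000000000000000000000000000102000000000000000000000000000000000020000000000000040000000000000000000000000000000000000000000000000000800000000000000000000000000000000000000001000000000000000000800000000000000000000000000000000000000000000000000000000000000000000000000000000000000000000000000000000030000000000001000080000800000000000000000000080000000000000000000000000000000000000800000000000000000400000000000000000000000000000000000000000000000000000000000000400000000000000000000000000000000000000000000100000000000000000000020000000000000000000000000000040000000000000000000000000000000000400000000001000000000000000000084),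 (nat_lit 0), (nat_lit 0)⟩)) (BT.node (nat_lit 7303) (BT.leaf ⟨(nat_lit 4), (nat_lit 3136), (nat_lit 0), (nat_lit 0x9fd2ea5b4bcdc1c51bc0bf97d27ec1), (nat_lit 0), (nat_lit 0)⟩) (BT.leaf ⟨(nat_lit 4), (nat_lit 3369), (nat_lit 0), (nat_lit 0x78d80210d3d4e9042200be90102201), (nat_lit 0), (nat_lit 0)⟩)))) (BT.node (nat_lit 7308) (BT.node (nat_lit 7306) (BT.node (nat_lit 7305) (BT.leaf ⟨(nat_lit 4), (nat_lit 3234), (nat_lit 0), (nat_lit 0xd8f3a15583cb7e79f0d108223dd090), (nat_lit 0), (nat_lit 0)⟩) (BT.leaf ⟨(nat_lit 4), (nat_lit 2779), (nat_lit 0), (nat_lit 0x5695cdff532be5588e689adb15ed83), (nat_lit 0), (nat_lit 0)⟩)) (BT.node (nat_lit 7307) (BT.leaf ⟨(nat_lit 4), (nat_lit 708), (nat_lit 0), (nat_lit 0x137a0f49e93567a4b26ad8327076e27), (nat_lit 0), (nat_lit 0)⟩) (BT.leaf ⟨(nat_lit 4), (nat_lit 918), (nat_lit 0), (nat_lit 0x142fc1c502893c1813f8c606088010), (nat_lit 0), (nat_lit 0)⟩))) (BT.node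 (nat_lit 7310) (BT.node (nat_lit 7309) (BT.leaf ⟨(nat_lit 4), (nat_lit 1414), (nat_lit 0), (nat_lit 0x1ce0209ed7300a0840868cbd32ffe3), (nat_lit 0), (nat_lit 0)⟩) (BT.leaf ⟨(nat_lit 4), (nat_lit 1342), (nat_lit 0), (nat_lit 0x1d3be351994bd983e33568dd19ec5ff), (nat_lit 0), (nat_lit 0)⟩)) (BT.node (nat_lit 7311) (BT.leaf ⟨(nat_lit 4), (nat_lit 1341), (nat_lit 0), (nat_lit 0x421801105c74034682fb3d8e89035f), (nat_lit 0), (nat_lit 0)⟩) (BT.leaf ⟨(nat_lit 4), (nat_lit 2959), (nat_lit 0), (nat_lit 0x10011d5573000406f4bd1e352f92f), (nat_lit 0), (nat_lit 0)⟩))))) (BT.node (nat_lit 7320) (BT.node (nat_lit 7316) (BT.node (nat_lit 7314) (BT.node (nat_lit 7313) (BT.leaf ⟨(nat_lit 4), (nat_lit 662), (nat_lit 0), (nat_lit 0x1d0865f4794acd4d97447b1a4d57646), (nat_lit 0), (nat_lit 0)⟩) (BT.leaf ⟨(nat_lit 4), (nat_lit 916), (nat_lit 0), (nat_lit 0x127989bd8d3d23a5f3a42ec9ab13c9c), (nat_lit 0), (nat_lit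 0)⟩)) (BT.node (nat_lit 7315) (BT.leaf ⟨(nat_lit 4), (nat_lit 707), (nat_lit 0), (nat_lit 0x97cde25d0be39a55e2c49ee2bdba5b), (nat_lit 0), (nat_lit 0)⟩) (BT.leaf ⟨(nat_lit 5), (nat_lit 9), (nat_lit 0), (nat_lit 0x20000002000000000000000000000000000000000000000000004000000800001100000000200000020000000000000000000000000040000000000000020000000000000000000000000000000000000000000000000000080000000000000000000000000000000000000000010480000000000000000000000000000000000000000000000000000000000000000000000000000004000000000000000000000000000000000000000000000000000000000000000000000000000000000000000000000000000000000000000000000000000002000004000000000000000200000000000000000000000000000000000000000000000200000000000000000000000000000100000000000000000000000000000800000000000000000000000220000000000000000000020000000000000008000000000000000000000000000000000000000001000000000004001800000000040000000000000000000000000800000000000000000008000000800000000004000000000000000000000000000000000000000000000000000000000000010000000000000000000000000000010000000000000080000000000000080000000000000400000000000080000000000000000),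 (nat_lit 0), (nat_lit 0)⟩))) (BT.node (nat_lit 7318) (BT.node (nat_lit 7317) (BT.leaf ⟨(nat_lit 4), (nat_lit 2053), (nat_lit 0), (nat_lit 0xf8ba3811202978208818e5cec02ef5), (nat_lit 0), (nat_lit 0)⟩) (BT.leaf ⟨(nat_lit 4), (nat_lit 1926), (nat_lit 0), (nat_lit 0x87c20042881f342816f1810cdd1f06), (nat_lit 0), (nat_lit 0)⟩)) (BT.node (nat_lit 7319) (BT.leaf ⟨(nat_lit 4), (nat_lit 1362), (nat_lit 0), (nat_lit 0x11ba8bcd9efad8df5acc94bf8de1e0b), (nat_lit 0), (nat_lit 0)⟩) (BT.leaf ⟨(nat_lit 4), (nat_lit 1339), (nat_lit 0), (nat_lit 0x1570938fac2b6c75112d21e5bd97fdb), (nat_lit 0), (nat_lit 0)⟩)))) (BT.node (nat_lit 7324) (BT.node (nat_lit 7322) (BT.node (nat_lit 7321) (BT.leaf ⟨(nat_lit 4), (nat_lit 1090), (nat_lit 0), (nat_lit 0x12035cc1013c7a220600bab083f1b46), (nat_lit 0), (nat_lit 0)⟩) (BT.leaf ⟨(nat_lit 4), (nat_lit 822), (nat_lit 0), (nat_lit 0xf546aa36d263e8ea955baa750e2d4b), (nat_lit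 0), (nat_lit 0)⟩)) (BT.node (nat_lit 7323) (BT.leaf ⟨(nat_lit 4), (nat_lit 821), (nat_lit 0), (nat_lit 0x19cd43c3366a1cda4c7b8c71ceae790), (nat_lit 0), (nat_lit 0)⟩) (BT.leaf ⟨(nat_lit 4), (nat_lit 2600), (nat_lit 0), (nat_lit 0xbe6c18b9d72aef6515a472ee713b6c), (nat_lit 0), (nat_lit 0)⟩))) (BT.node (nat_lit 7326) (BT.node (nat_lit 7325) (BT.leaf ⟨(nat_lit 5), (nat_lit 9), (nat_lit 0), (nat_lit 0x200000000000000000000000000000000000002000000000000000000000000000000000000000000000000000400000040000000000000000000000000000080100000000008000000000000000000000000000008000000000000000000000000000000000000000000000000000020000008000000000000100000000000000000000000000000000000000000000000000000000000000000000000000000000008000000004000000000000000000020000000000000800000000002000000000000002000000000200002040000010000000000000000000020000000000000000000000000000000000000000000000000000002000000000000000000000000000000000000000000000000000000000040000080008000000000000000000000100000000000000800000000000000000000000000000000010800000000000000000000000000000000000000000080000000020000000000002000000000001000010000000020000000000000000000000000008000000000000000000000000000000000000000000000000000400000000001000000000000000000000000000000000000000000000000000000000000000800000000000),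 (nat_lit 0), (nat_lit 0)⟩) (BT.leaf ⟨(nat_lit 4), (nat_lit 3725), (nat_lit 0), (nat_lit 0x1fd255ef0ded45f7a979dc87398e287), (nat_lit 0), (nat_lit 0)⟩)) (BT.node (nat_lit 7327) (BT.leaf ⟨(nat_lit 4), (nat_lit 1601), (nat_lit 0), (nat_lit 0x6bc42363f8d078aaadf1819d041480), (nat_lit 0), (nat_lit 0)⟩) (BT.leaf ⟨(nat_lit 4), (nat_lit 2436), (nat_lit 0), (nat_lit 0x974051d7e704b40902240400fa2402), (nat_lit 0), (nat_lit 0)⟩)))))) (BT.node (nat_lit 7344) (BT.node (nat_lit 7336) (BT.node (nat_lit 7332) (BT.node (nat_lit 7330) (BT.node (nat_lit 7329) (BT.leaf ⟨(nat_lit 4), (nat_lit 1311), (nat_lit 0), (nat_lit 0x10cc39d5c50f1ded319bd955ce3dc71), (nat_lit 0), (nat_lit 0)⟩) (BT.leaf ⟨(nat_lit 4), (nat_lit 1558), (nat_lit 0), (nat_lit 0x49d661af2df9a70ab2f98e4b417b70), (nat_lit 0), (nat_lit 0)⟩)) (BT.node (nat_lit 7331) (BT.leaf ⟨(nat_lit 4), (nat_lit 2564), (nat_lit 0), (nat_lit 0xffac6e58ba5e145b979197e3fc6534),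 (nat_lit 0), (nat_lit 0)⟩) (BT.leaf ⟨(nat_lit 5), (nat_lit 9), (nat_lit 0), (nat_lit 0x8000000020000000000000000000001000000000000000000000000000000000000000000000000000000000000000000000000000000000000000000000000000000000000000000000000000000000000002000000000000000000000000000000000000000000000000000000000000000000000040000200002004000000000000000000000000000020000000000000000000100000000000000000000400000000001000000000000000000000000000000000000000000000000000000000000080000000000000000000000000000000000000000000000000000000000000000000000000000000000000000000000000000000000000000000008000002000000000000000000000020000000000400000000000000000000000000040000000000020000000000000000080008000000080000000000000400000000000000000004000000000000040000000400000000000000000000000010000000000000000000000010000000000004028000000000000000000000008000000000000000000000000000000000000000000000000000000000000002000000000000000008000000800000000000000000020000000800000000800000002400000000000000000000000000000000000000000),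 (nat_lit 0), (nat_lit 0)⟩))) (BT.node (nat_lit 7334) (BT.node (nat_lit 7333) (BT.leaf ⟨(nat_lit 4), (nat_lit 1835), (nat_lit 0), (nat_lit 0xe36405d580902039d2f13d0099d600), (nat_lit 0), (nat_lit 0)⟩) (BT.leaf ⟨(nat_lit 4), (nat_lit 1493), (nat_lit 0), (nat_lit 0x16c64f3a4d3db053531313d27ea5c9a), (nat_lit 0), (nat_lit 0)⟩)) (BT.node (nat_lit 7335) (BT.leaf ⟨(nat_lit 4), (nat_lit 329), (nat_lit 0), (nat_lit 0x1a35af82f2098eacf1012055cca0180), (nat_lit 0), (nat_lit 0)⟩) (BT.leaf ⟨(nat_lit 4), (nat_lit 1800), (nat_lit 0), (nat_lit 0x14e9043d54202e580204400807004f4), (nat_lit 0), (nat_lit 0)⟩)))) (BT.node (nat_lit 7340) (BT.node (nat_lit 7338) (BT.node (nat_lit 7337) (BT.leaf ⟨(nat_lit 4), (nat_lit 1452), (nat_lit 0), (nat_lit 0x1010400de927bc6f3a400100ea810), (nat_lit 0), (nat_lit 0)⟩) (BT.leaf ⟨(nat_lit 4), (nat_lit 1451), (nat_lit 0), (nat_lit 0x1d095764636551be3669d2632dec346), (nat_lit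 0), (nat_lit 0)⟩)) (BT.node (nat_lit 7339) (BT.leaf ⟨(nat_lit 4), (nat_lit 3555), (nat_lit 0), (nat_lit 0x1103830428673782216f43e30030040), (nat_lit 0), (nat_lit 0)⟩) (BT.leaf ⟨(nat_lit 4), (nat_lit 1625), (nat_lit 0), (nat_lit 0x923babd018f9e4d6f0009e244212b), (nat_lit 0), (nat_lit 0)⟩))) (BT.node (nat_lit 7342) (BT.node (nat_lit 7341) (BT.leaf ⟨(nat_lit 4), (nat_lit 54), (nat_lit 0), (nat_lit 0x1fa100d46440821401e34056369d300), (nat_lit 0), (nat_lit 0)⟩) (BT.leaf ⟨(nat_lit 5), (nat_lit 9), (nat_lit 0), (nat_lit 0x100000000000000000000000000000001000000800000008000000000000000000040000000000000000000000000000000000000000000000000000000000000000000000000000000000010000000004000000000000000000010000000000100200000000000000000000000000000000000000000000000000000000000000000020000000000000000000000000000000000000000000000000000000000000100000000000000000000000000000000000000000000000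04000000001000000000000000000000400000000000000000000000000000000000000000000000000000000000000000000000000000000000000000001000400000000000000000000200001000000000000000000000000000200000000008000000000000000000000000000000002040000000008100000000000000000000040000000000000000000000000000000000000000200000000000000000400000000000000000020000000800000004000000000000000000000000000000000000000000000000000000000000000000000000000000000000000000000000000000020000000000000200000000000c0000000000000000000000000200000000000000000001000000000040000000000a00), (nat_lit 0), (nat_lit 0)⟩)) (BT.node (nat_lit 7343) (BT.leaf ⟨(nat_lit 4), (nat_lit 264), (nat_lit 0), (nat_lit 0xbe420c4032bc1b5a0c048087dd1848), (nat_lit 0), (nat_lit 0)⟩) (BT.leaf ⟨(nat_lit 4), (nat_lit 363), (nat_lit 0), (nat_lit 0xe588792b1f4cbf0a92d599f6f34d2f), (nat_lit 0), (nat_lit 0)⟩))))) (BT.node (nat_lit 7352) (BT.node (nat_lit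 7348) (BT.node (nat_lit 7346) (BT.node (nat_lit 7345) (BT.leaf ⟨(nat_lit 4), (nat_lit 3435), (nat_lit 0), (nat_lit 0x20a40081140300c06746c66bc427ba), (nat_lit 0), (nat_lit 0)⟩) (BT.leaf ⟨(nat_lit 4), (nat_lit 3629), (nat_lit 0), (nat_lit 0x145fc83e79b2569f1be16c7295f13c3), (nat_lit 0), (nat_lit 0)⟩)) (BT.node (nat_lit 7347) (BT.leaf ⟨(nat_lit 4), (nat_lit 2179), (nat_lit 0), (nat_lit 0x1a3490100a0040ab9bb92118e8a0101), (nat_lit 0), (nat_lit 0)⟩) (BT.leaf ⟨(nat_lit 4), (nat_lit 2607), (nat_lit 0), (nat_lit 0xac50404801295c4478521178004408), (nat_lit 0), (nat_lit 0)⟩))) (BT.node (nat_lit 7350) (BT.node (nat_lit 7349) (BT.leaf ⟨(nat_lit 4), (nat_lit 2790), (nat_lit 0), (nat_lit 0x11368ba87debfd3721b2de99d255eb4), (nat_lit 0), (nat_lit 0)⟩) (BT.leaf ⟨(nat_lit 4), (nat_lit 3349), (nat_lit 0), (nat_lit 0x503e68c02de1057c860091dea6f040), (nat_lit 0), (nat_lit 0)⟩)) (BT.node (nat_lit 7351)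 (BT.leaf ⟨(nat_lit 4), (nat_lit 3558), (nat_lit 0), (nat_lit 0x356d31d51f552f77bd53a8714eef21), (nat_lit 0), (nat_lit 0)⟩) (BT.leaf ⟨(nat_lit 5), (nat_lit 9), (nat_lit 0), (nat_lit 0x20010000000000000044000400000000000000000000000000040000000000000001000000000001000000001000000000000000000000000000040000000000000010000000000000000000000000000000000000000000000000000000000000000000000000880040000008004000000000000000000000000000000000000000000000000000000000000000000000000000000010000000000000004000000000000000000000000000000000000000000000000000000000000000000000000000000000000000080000000000000000008000000000000000000000000000000000000000000000000000000000000000000000000000000000000000000000000000000000000000000020000000000000000000000000000001000000000000000000000000000000000000000000000000040000000400000000000000000000000000008000000000200000008080000000000000000000000000000000000000000000000000000000000000000000020400000000000800000000000000000000004400000000000000000000008000000008000000000000000000000000000000000000080100004000000000000000000004000000000000000001000000),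 (nat_lit 0), (nat_lit 0)⟩)))) (BT.node (nat_lit 7356) (BT.node (nat_lit 7354) (BT.node (nat_lit 7353) (BT.leaf ⟨(nat_lit 4), (nat_lit 703), (nat_lit 0), (nat_lit 0x81100b00a8c17d97e73a74800f1cf4), (nat_lit 0), (nat_lit 0)⟩) (BT.leaf ⟨(nat_lit 4), (nat_lit 543), (nat_lit 0), (nat_lit 0xd279c4d939dde9d273ea74ceb1d07c), (nat_lit 0), (nat_lit 0)⟩)) (BT.node (nat_lit 7355) (BT.leaf ⟨(nat_lit 4), (nat_lit 3674), (nat_lit 0), (nat_lit 0x4b56655cd458549702f25edc33496f), (nat_lit 0), (nat_lit 0)⟩) (BT.leaf ⟨(nat_lit 4), (nat_lit 1245), (nat_lit 0), (nat_lit 0x55cc9e00480008473f1bceaf41d5), (nat_lit 0), (nat_lit 0)⟩))) (BT.node (nat_lit 7358) (BT.node (nat_lit 7357) (BT.leaf ⟨(nat_lit 4), (nat_lit 1723), (nat_lit 0), (nat_lit 0x1df5663ebfc6f0d1b3e76c6e8d71c6e), (nat_lit 0), (nat_lit 0)⟩) (BT.leaf ⟨(nat_lit 4), (nat_lit 1670), (nat_lit 0), (nat_lit 0xaf54ceca89aee45cabbb06399cb239), (nat_lit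 0), (nat_lit 0)⟩)) (BT.node (nat_lit 7359) (BT.leaf ⟨(nat_lit 5), (nat_lit 9), (nat_lit 0), (nat_lit 0x4000800000000000000000000000000000000000000000000000000000002000000000000000000000000000000000002000000000000400000000000000000000000000000000000000000000000000000000000000000000000000400000000000001000000000000000000000000000002000000000000000210000000000000000000001000000000000000000000000010000000000000000000000000020000000000080000020000000000000000004000000000020000000000000040000000000000000000000000000000000000000000000000000000000000000000004400000000000200000000000000000010080000000000004000000000040000000000000000000000000000000000000000000400000000000000000000000010000020000000000000000000202004000000000000000000000000000000000000000000008000000000080000000000000000000000000000010008000000000000000000000000000000000000000000000000000000000000000800000000000000008000008000000000000000000000000000000000080000000000000000000000000000000000000000000000000000000000000008000000000000000000000000000000),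 (nat_lit 0), (nat_lit 0)⟩) (BT.leaf ⟨(nat_lit 4), (nat_lit 1720), (nat_lit 0), (nat_lit 0x1e15042b1013780040482100a37e732), (nat_lit 0), (nat_lit 0)⟩)))))))
noncomputable def cP7296 : BT Pf := (BT.node (nat_lit 7328) (BT.node (nat_lit 7312) (BT.node (nat_lit 7304) (BT.node (nat_lit 7300) (BT.node (nat_lit 7298) (BT.node (nat_lit 7297) (BT.leaf (.pt (nat_lit 5261) (nat_lit 3))) (BT.leaf (.pt (nat_lit 7296) (nat_lit 1)))) (BT.node (nat_lit 7299) (BT.leaf (.pt (nat_lit 7074) (nat_lit 3))) (BT.leaf (.pt (nat_lit 6178) (nat_lit 1))))) (BT.node (nat_lit 7302) (BT.node (nat_lit 7301) (BT.leaf (.pt (nat_lit 6219) (nat_lit 3))) (BT.leaf (.cov [] [⟨(nat_lit 2784), (nat_lit 7281), [(nat_lit 741), (nat_lit 646)]⟩, ⟨(nat_lit 2786), (nat_lit 6527), [(nat_lit 194), (nat_lit 139)]⟩, ⟨(nat_lit 2788), (nat_lit 6762), [(nat_lit 523), (nat_lit 694)]⟩, ⟨(nat_lit 2789), (nat_lit 7282), [(nat_lit 1235),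 (nat_lit 1088)]⟩, ⟨(nat_lit 2791), (nat_lit 4533), [(nat_lit 826), (nat_lit 497)]⟩, ⟨(nat_lit 2792), (nat_lit 4849), [(nat_lit 394), (nat_lit 762)]⟩, ⟨(nat_lit 2793), (nat_lit 6573), [(nat_lit 209), (nat_lit 90)]⟩, ⟨(nat_lit 2795), (nat_lit 5809), [(nat_lit 211), (nat_lit 972)]⟩, ⟨(nat_lit 2798), (nat_lit 7283), [(nat_lit 281), (nat_lit 593)]⟩, ⟨(nat_lit 2799), (nat_lit 4599), [(nat_lit 429), (nat_lit 139)]⟩, ⟨(nat_lit 2800), (nat_lit 7286), [(nat_lit 538), (nat_lit 91)]⟩, ⟨(nat_lit 2801), (nat_lit 7287), [(nat_lit 166), (nat_lit 593)]⟩, ⟨(nat_lit 2804), (nat_lit 7289), [(nat_lit 905), (nat_lit 1216)]⟩, ⟨(nat_lit 2805), (nat_lit 4501), [(nat_lit 911), (nat_lit 330)]⟩, ⟨(nat_lit 2807), (nat_lit 7291), [(nat_lit 526), (nat_lit 91)]⟩, ⟨(nat_lit 2809), (nat_lit 6927), [(nat_lit 487), (nat_lit 375)]⟩, ⟨(nat_lit 2811), (nat_lit 6498), [(nat_lit 434), (nat_lit 333)]⟩, ⟨(nat_lit 2813), (nat_lit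 6090), [(nat_lit 787), (nat_lit 694)]⟩, ⟨(nat_lit 2815), (nat_lit 6160), [(nat_lit 883), (nat_lit 386)]⟩, ⟨(nat_lit 2816), (nat_lit 7292), [(nat_lit 195), (nat_lit 170)]⟩, ⟨(nat_lit 2818), (nat_lit 5514), [(nat_lit 587), (nat_lit 1348)]⟩, ⟨(nat_lit 2821), (nat_lit 7295), [(nat_lit 192), (nat_lit 124)]⟩, ⟨(nat_lit 2823), (nat_lit 7293), [(nat_lit 513), (nat_lit 264)]⟩, ⟨(nat_lit 2825), (nat_lit 5768), [(nat_lit 212), (nat_lit 777)]⟩, ⟨(nat_lit 2827), (nat_lit 5930), [(nat_lit 970), (nat_lit 1375)]⟩, ⟨(nat_lit 2829), (nat_lit 7297), [(nat_lit 786), (nat_lit 738)]⟩, ⟨(nat_lit 2831), (nat_lit 4663), [(nat_lit 402), (nat_lit 1376)]⟩, ⟨(nat_lit 2832), (nat_lit 7298), [(nat_lit 111), (nat_lit 205)]⟩, ⟨(nat_lit 2834), (nat_lit 6819), [(nat_lit 208), (nat_lit 375)]⟩, ⟨(nat_lit 2835), (nat_lit 7273), [(nat_lit 391), (nat_lit 555)]⟩, ⟨(nat_lit 2836), (nat_lit 5284), [(nat_lit 358), (nat_lit 880)]⟩,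 ⟨(nat_lit 2837), (nat_lit 7299), [(nat_lit 1014), (nat_lit 1369)]⟩, ⟨(nat_lit 2839), (nat_lit 7300), [(nat_lit 128), (nat_lit 1503)]⟩, ⟨(nat_lit 2841), (nat_lit 5652), [(nat_lit 381), (nat_lit 1348)]⟩, ⟨(nat_lit 2842), (nat_lit 5123), [(nat_lit 445), (nat_lit 906)]⟩, ⟨(nat_lit 2843), (nat_lit 4698), [(nat_lit 466), (nat_lit 712)]⟩, ⟨(nat_lit 2845), (nat_lit 6675), [(nat_lit 463), (nat_lit 1018)]⟩, ⟨(nat_lit 2848), (nat_lit 6481), [(nat_lit 402), (nat_lit 785)]⟩, ⟨(nat_lit 2849), (nat_lit 4781), [(nat_lit 257), (nat_lit 1211)]⟩, ⟨(nat_lit 2851), (nat_lit 5008), [(nat_lit 215), (nat_lit 525)]⟩]))) (BT.node (nat_lit 7303) (BT.leaf (.pt (nat_lit 6556) (nat_lit 4))) (BT.leaf (.pt (nat_lit 7302) (nat_lit 1)))))) (BT.node (nat_lit 7308) (BT.node (nat_lit 7306) (BT.node (nat_lit 7305) (BT.leaf (.pt (nat_lit 7303) (nat_lit 4))) (BT.leaf (.pt (nat_lit 5823) (nat_lit 3)))) (BT.node (nat_lit 7307)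 (BT.leaf (.pt (nat_lit 7202) (nat_lit 1))) (BT.leaf (.pt (nat_lit 7306) (nat_lit 4))))) (BT.node (nat_lit 7310) (BT.node (nat_lit 7309) (BT.leaf (.pt (nat_lit 5526) (nat_lit 4))) (BT.leaf (.pt (nat_lit 7308) (nat_lit 1)))) (BT.node (nat_lit 7311) (BT.leaf (.pt (nat_lit 7309) (nat_lit 4))) (BT.leaf (.pt (nat_lit 6643) (nat_lit 4))))))) (BT.node (nat_lit 7320) (BT.node (nat_lit 7316) (BT.node (nat_lit 7314) (BT.node (nat_lit 7313) (BT.leaf (.pt (nat_lit 7228) (nat_lit 4))) (BT.leaf (.pt (nat_lit 7155) (nat_lit 1)))) (BT.node (nat_lit 7315) (BT.leaf (.pt (nat_lit 7313) (nat_lit 3))) (BT.leaf (.cov [] [⟨(nat_lit 2852), (nat_lit 6487), [(nat_lit 539), (nat_lit 985)]⟩, ⟨(nat_lit 2853), (nat_lit 5385), [(nat_lit 211), (nat_lit 533)]⟩, ⟨(nat_lit 2855), (nat_lit 5290), [(nat_lit 1292), (nat_lit 740)]⟩, ⟨(nat_lit 2858), (nat_lit 6628), [(nat_lit 467), (nat_lit 420)]⟩, ⟨(nat_lit 2859), (nat_lit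 4543), [(nat_lit 502), (nat_lit 821)]⟩, ⟨(nat_lit 2861), (nat_lit 5958), [(nat_lit 261), (nat_lit 0)]⟩, ⟨(nat_lit 2863), (nat_lit 7304), [(nat_lit 1103), (nat_lit 572)]⟩, ⟨(nat_lit 2865), (nat_lit 7305), [(nat_lit 488), (nat_lit 868)]⟩, ⟨(nat_lit 2867), (nat_lit 7307), [(nat_lit 250), (nat_lit 290)]⟩, ⟨(nat_lit 2869), (nat_lit 6346), [(nat_lit 273), (nat_lit 737)]⟩, ⟨(nat_lit 2872), (nat_lit 7303), [(nat_lit 336), (nat_lit 662)]⟩, ⟨(nat_lit 2873), (nat_lit 7310), [(nat_lit 1087), (nat_lit 1871)]⟩, ⟨(nat_lit 2874), (nat_lit 6207), [(nat_lit 216), (nat_lit 972)]⟩, ⟨(nat_lit 2876), (nat_lit 5510), [(nat_lit 883), (nat_lit 247)]⟩, ⟨(nat_lit 2877), (nat_lit 4670), [(nat_lit 1027), (nat_lit 320)]⟩, ⟨(nat_lit 2878), (nat_lit 6916), [(nat_lit 266), (nat_lit 1123)]⟩, ⟨(nat_lit 2880), (nat_lit 4529), [(nat_lit 111), (nat_lit 1083)]⟩, ⟨(nat_lit 2881), (nat_lit 6117), [(nat_lit 482), (nat_lit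 877)]⟩, ⟨(nat_lit 2884), (nat_lit 5200), [(nat_lit 786), (nat_lit 606)]⟩, ⟨(nat_lit 2885), (nat_lit 6848), [(nat_lit 911), (nat_lit 398)]⟩, ⟨(nat_lit 2886), (nat_lit 5857), [(nat_lit 826), (nat_lit 868)]⟩, ⟨(nat_lit 2887), (nat_lit 4516), [(nat_lit 567), (nat_lit 682)]⟩, ⟨(nat_lit 2890), (nat_lit 6420), [(nat_lit 977), (nat_lit 584)]⟩, ⟨(nat_lit 2891), (nat_lit 6211), [(nat_lit 450), (nat_lit 1247)]⟩, ⟨(nat_lit 2893), (nat_lit 4954), [(nat_lit 298), (nat_lit 1939)]⟩, ⟨(nat_lit 2894), (nat_lit 5475), [(nat_lit 380), (nat_lit 127)]⟩, ⟨(nat_lit 2896), (nat_lit 4972), [(nat_lit 427), (nat_lit 1021)]⟩, ⟨(nat_lit 2897), (nat_lit 6362), [(nat_lit 296), (nat_lit 555)]⟩, ⟨(nat_lit 2898), (nat_lit 7311), [(nat_lit 1201), (nat_lit 974)]⟩, ⟨(nat_lit 2900), (nat_lit 5245), [(nat_lit 466), (nat_lit 738)]⟩, ⟨(nat_lit 2901), (nat_lit 4803), [(nat_lit 503), (nat_lit 1211)]⟩, ⟨(nat_lit 2902), (nat_lit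 6105), [(nat_lit 527), (nat_lit 906)]⟩, ⟨(nat_lit 2903), (nat_lit 5832), [(nat_lit 695), (nat_lit 1088)]⟩, ⟨(nat_lit 2904), (nat_lit 5018), [(nat_lit 335), (nat_lit 1001)]⟩, ⟨(nat_lit 2905), (nat_lit 7312), [(nat_lit 192), (nat_lit 1021)]⟩, ⟨(nat_lit 2906), (nat_lit 7314), [(nat_lit 212), (nat_lit 460)]⟩, ⟨(nat_lit 2909), (nat_lit 5479), [(nat_lit 1308), (nat_lit 682)]⟩, ⟨(nat_lit 2911), (nat_lit 5366), [(nat_lit 254), (nat_lit 875)]⟩, ⟨(nat_lit 2912), (nat_lit 5970), [(nat_lit 424), (nat_lit 864)]⟩, ⟨(nat_lit 2913), (nat_lit 6732), [(nat_lit 348), (nat_lit 328)]⟩])))) (BT.node (nat_lit 7318) (BT.node (nat_lit 7317) (BT.leaf (.pt (nat_lit 5555) (nat_lit 4))) (BT.leaf (.pt (nat_lit 7088) (nat_lit 3)))) (BT.node (nat_lit 7319) (BT.leaf (.pt (nat_lit 6444) (nat_lit 4))) (BT.leaf (.pt (nat_lit 6721) (nat_lit 3)))))) (BT.node (nat_lit 7324) (BT.node (nat_lit 7322) (BT.node (nat_lit 7321)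 (BT.leaf (.pt (nat_lit 4718) (nat_lit 3))) (BT.leaf (.pt (nat_lit 7320) (nat_lit 1)))) (BT.node (nat_lit 7323) (BT.leaf (.pt (nat_lit 7321) (nat_lit 4))) (BT.leaf (.pt (nat_lit 4927) (nat_lit 1))))) (BT.node (nat_lit 7326) (BT.node (nat_lit 7325) (BT.leaf (.cov [] [⟨(nat_lit 2914), (nat_lit 7161), [(nat_lit 447), (nat_lit 559)]⟩, ⟨(nat_lit 2915), (nat_lit 6344), [(nat_lit 1103), (nat_lit 203)]⟩, ⟨(nat_lit 2916), (nat_lit 7316), [(nat_lit 484), (nat_lit 1537)]⟩, ⟨(nat_lit 2917), (nat_lit 6293), [(nat_lit 166), (nat_lit 581)]⟩, ⟨(nat_lit 2920), (nat_lit 5330), [(nat_lit 208), (nat_lit 460)]⟩, ⟨(nat_lit 2921), (nat_lit 6367), [(nat_lit 352), (nat_lit 225)]⟩, ⟨(nat_lit 2923), (nat_lit 6955), [(nat_lit 391), (nat_lit 499)]⟩, ⟨(nat_lit 2924), (nat_lit 6079), [(nat_lit 747), (nat_lit 252)]⟩, ⟨(nat_lit 2925), (nat_lit 5990), [(nat_lit 567), (nat_lit 652)]⟩, ⟨(nat_lit 2926), (nat_lit 5253),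 [(nat_lit 1201), (nat_lit 738)]⟩, ⟨(nat_lit 2928), (nat_lit 7317), [(nat_lit 1189), (nat_lit 431)]⟩, ⟨(nat_lit 2930), (nat_lit 6021), [(nat_lit 226), (nat_lit 563)]⟩, ⟨(nat_lit 2935), (nat_lit 5338), [(nat_lit 781), (nat_lit 525)]⟩, ⟨(nat_lit 2936), (nat_lit 7318), [(nat_lit 392), (nat_lit 898)]⟩, ⟨(nat_lit 2938), (nat_lit 5476), [(nat_lit 620), (nat_lit 1939)]⟩, ⟨(nat_lit 2940), (nat_lit 6177), [(nat_lit 352), (nat_lit 88)]⟩, ⟨(nat_lit 2941), (nat_lit 6434), [(nat_lit 1032), (nat_lit 162)]⟩, ⟨(nat_lit 2942), (nat_lit 4592), [(nat_lit 629), (nat_lit 125)]⟩, ⟨(nat_lit 2944), (nat_lit 6316), [(nat_lit 1195), (nat_lit 223)]⟩, ⟨(nat_lit 2946), (nat_lit 4679), [(nat_lit 267), (nat_lit 460)]⟩, ⟨(nat_lit 2948), (nat_lit 6577), [(nat_lit 284), (nat_lit 1605)]⟩, ⟨(nat_lit 2949), (nat_lit 5976), [(nat_lit 195), (nat_lit 225)]⟩, ⟨(nat_lit 2952), (nat_lit 6869), [(nat_lit 1201), (nat_lit 710)]⟩,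 ⟨(nat_lit 2954), (nat_lit 4540), [(nat_lit 507), (nat_lit 472)]⟩, ⟨(nat_lit 2956), (nat_lit 4727), [(nat_lit 567), (nat_lit 475)]⟩, ⟨(nat_lit 2958), (nat_lit 6942), [(nat_lit 957), (nat_lit 390)]⟩, ⟨(nat_lit 2959), (nat_lit 4734), [(nat_lit 747), (nat_lit 330)]⟩, ⟨(nat_lit 2961), (nat_lit 7319), [(nat_lit 507), (nat_lit 974)]⟩, ⟨(nat_lit 2963), (nat_lit 6202), [(nat_lit 764), (nat_lit 264)]⟩, ⟨(nat_lit 2964), (nat_lit 6845), [(nat_lit 241), (nat_lit 142)]⟩, ⟨(nat_lit 2966), (nat_lit 6714), [(nat_lit 424), (nat_lit 717)]⟩, ⟨(nat_lit 2968), (nat_lit 4771), [(nat_lit 902), (nat_lit 736)]⟩, ⟨(nat_lit 2970), (nat_lit 4572), [(nat_lit 406), (nat_lit 205)]⟩, ⟨(nat_lit 2972), (nat_lit 7322), [(nat_lit 422), (nat_lit 395)]⟩, ⟨(nat_lit 2973), (nat_lit 5628), [(nat_lit 470), (nat_lit 752)]⟩, ⟨(nat_lit 2974), (nat_lit 4767), [(nat_lit 487), (nat_lit 1478)]⟩, ⟨(nat_lit 2976), (nat_lit 7323), [(nat_lit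 349), (nat_lit 835)]⟩, ⟨(nat_lit 2978), (nat_lit 5905), [(nat_lit 943), (nat_lit 627)]⟩, ⟨(nat_lit 2979), (nat_lit 5923), [(nat_lit 296), (nat_lit 1017)]⟩, ⟨(nat_lit 2980), (nat_lit 6485), [(nat_lit 1056), (nat_lit 891)]⟩])) (BT.leaf (.pt (nat_lit 5248) (nat_lit 3)))) (BT.node (nat_lit 7327) (BT.leaf (.pt (nat_lit 7317) (nat_lit 1))) (BT.leaf (.pt (nat_lit 5391) (nat_lit 4)))))))) (BT.node (nat_lit 7344) (BT.node (nat_lit 7336) (BT.node (nat_lit 7332) (BT.node (nat_lit 7330) (BT.node (nat_lit 7329) (BT.leaf (.pt (nat_lit 7297) (nat_lit 4))) (BT.leaf (.pt (nat_lit 7077) (nat_lit 1)))) (BT.node (nat_lit 7331) (BT.leaf (.pt (nat_lit 5087) (nat_lit 4))) (BT.leaf (.cov [] [⟨(nat_lit 2982), (nat_lit 6187), [(nat_lit 629), (nat_lit 91)]⟩, ⟨(nat_lit 2983), (nat_lit 5754), [(nat_lit 349), (nat_lit 89)]⟩, ⟨(nat_lit 2984), (nat_lit 6954), [(nat_lit 774), (nat_lit 530)]⟩, ⟨(nat_lit 2986), (nat_lit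 5160), [(nat_lit 1004), (nat_lit 712)]⟩, ⟨(nat_lit 2987), (nat_lit 4657), [(nat_lit 267), (nat_lit 752)]⟩, ⟨(nat_lit 2988), (nat_lit 5196), [(nat_lit 281), (nat_lit 878)]⟩, ⟨(nat_lit 2989), (nat_lit 4623), [(nat_lit 832), (nat_lit 278)]⟩, ⟨(nat_lit 2990), (nat_lit 5463), [(nat_lit 620), (nat_lit 968)]⟩, ⟨(nat_lit 2992), (nat_lit 4551), [(nat_lit 359), (nat_lit 566)]⟩, ⟨(nat_lit 2994), (nat_lit 6510), [(nat_lit 280), (nat_lit 1136)]⟩, ⟨(nat_lit 2995), (nat_lit 4673), [(nat_lit 195), (nat_lit 455)]⟩, ⟨(nat_lit 2997), (nat_lit 5155), [(nat_lit 503), (nat_lit 870)]⟩, ⟨(nat_lit 3001), (nat_lit 4509), [(nat_lit 538), (nat_lit 1036)]⟩, ⟨(nat_lit 3002), (nat_lit 4517), [(nat_lit 195), (nat_lit 1136)]⟩, ⟨(nat_lit 3003), (nat_lit 7284), [(nat_lit 166), (nat_lit 141)]⟩, ⟨(nat_lit 3004), (nat_lit 5760), [(nat_lit 550), (nat_lit 191)]⟩, ⟨(nat_lit 3005), (nat_lit 4887), [(nat_lit 226), (nat_lit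 89)]⟩, ⟨(nat_lit 3007), (nat_lit 6847), [(nat_lit 733), (nat_lit 1036)]⟩, ⟨(nat_lit 3008), (nat_lit 5889), [(nat_lit 523), (nat_lit 1376)]⟩, ⟨(nat_lit 3011), (nat_lit 6571), [(nat_lit 957), (nat_lit 1871)]⟩, ⟨(nat_lit 3013), (nat_lit 7325), [(nat_lit 1175), (nat_lit 204)]⟩, ⟨(nat_lit 3014), (nat_lit 5886), [(nat_lit 482), (nat_lit 1036)]⟩, ⟨(nat_lit 3015), (nat_lit 5378), [(nat_lit 544), (nat_lit 253)]⟩, ⟨(nat_lit 3017), (nat_lit 7326), [(nat_lit 941), (nat_lit 712)]⟩, ⟨(nat_lit 3020), (nat_lit 5932), [(nat_lit 93), (nat_lit 173)]⟩, ⟨(nat_lit 3021), (nat_lit 5726), [(nat_lit 227), (nat_lit 163)]⟩, ⟨(nat_lit 3023), (nat_lit 7327), [(nat_lit 695), (nat_lit 647)]⟩, ⟨(nat_lit 3024), (nat_lit 5795), [(nat_lit 569), (nat_lit 465)]⟩, ⟨(nat_lit 3025), (nat_lit 6791), [(nat_lit 538), (nat_lit 290)]⟩, ⟨(nat_lit 3026), (nat_lit 7102), [(nat_lit 167), (nat_lit 1375)]⟩, ⟨(nat_lit 3027), (nat_lit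 6449), [(nat_lit 991), (nat_lit 395)]⟩, ⟨(nat_lit 3029), (nat_lit 5544), [(nat_lit 359), (nat_lit 802)]⟩, ⟨(nat_lit 3030), (nat_lit 6820), [(nat_lit 538), (nat_lit 398)]⟩, ⟨(nat_lit 3031), (nat_lit 7328), [(nat_lit 539), (nat_lit 652)]⟩, ⟨(nat_lit 3032), (nat_lit 7329), [(nat_lit 913), (nat_lit 982)]⟩, ⟨(nat_lit 3033), (nat_lit 7330), [(nat_lit 462), (nat_lit 891)]⟩, ⟨(nat_lit 3036), (nat_lit 5651), [(nat_lit 631), (nat_lit 421)]⟩, ⟨(nat_lit 3037), (nat_lit 6423), [(nat_lit 620), (nat_lit 1140)]⟩, ⟨(nat_lit 3038), (nat_lit 6678), [(nat_lit 376), (nat_lit 401)]⟩, ⟨(nat_lit 3039), (nat_lit 6139), [(nat_lit 178), (nat_lit 205)]⟩])))) (BT.node (nat_lit 7334) (BT.node (nat_lit 7333) (BT.leaf (.pt (nat_lit 5735) (nat_lit 4))) (BT.leaf (.pt (nat_lit 7332) (nat_lit 1)))) (BT.node (nat_lit 7335) (BT.leaf (.pt (nat_lit 5730) (nat_lit 4))) (BT.leaf (.pt (nat_lit 6881) (nat_lit 3)))))) (BT.node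 (nat_lit 7340) (BT.node (nat_lit 7338) (BT.node (nat_lit 7337) (BT.leaf (.pt (nat_lit 7335) (nat_lit 1))) (BT.leaf (.pt (nat_lit 7336) (nat_lit 4)))) (BT.node (nat_lit 7339) (BT.leaf (.pt (nat_lit 7183) (nat_lit 3))) (BT.leaf (.pt (nat_lit 6611) (nat_lit 4))))) (BT.node (nat_lit 7342) (BT.node (nat_lit 7341) (BT.leaf (.pt (nat_lit 6388) (nat_lit 3))) (BT.leaf (.cov [] [⟨(nat_lit 3042), (nat_lit 7333), [(nat_lit 474), (nat_lit 278)]⟩, ⟨(nat_lit 3044), (nat_lit 6360), [(nat_lit 357), (nat_lit 740)]⟩, ⟨(nat_lit 3045), (nat_lit 7334), [(nat_lit 1014), (nat_lit 596)]⟩, ⟨(nat_lit 3046), (nat_lit 5397), [(nat_lit 865), (nat_lit 163)]⟩, ⟨(nat_lit 3048), (nat_lit 5693), [(nat_lit 1201), (nat_lit 736)]⟩, ⟨(nat_lit 3050), (nat_lit 6331), [(nat_lit 1092), (nat_lit 646)]⟩, ⟨(nat_lit 3052), (nat_lit 7337), [(nat_lit 620), (nat_lit 372)]⟩, ⟨(nat_lit 3054), (nat_lit 5838), [(nat_lit 177), (nat_lit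 1203)]⟩, ⟨(nat_lit 3056), (nat_lit 7115), [(nat_lit 353), (nat_lit 596)]⟩, ⟨(nat_lit 3057), (nat_lit 5766), [(nat_lit 2124), (nat_lit 319)]⟩, ⟨(nat_lit 3060), (nat_lit 6332), [(nat_lit 284), (nat_lit 1083)]⟩, ⟨(nat_lit 3061), (nat_lit 4827), [(nat_lit 865), (nat_lit 778)]⟩, ⟨(nat_lit 3062), (nat_lit 6494), [(nat_lit 1032), (nat_lit 347)]⟩, ⟨(nat_lit 3063), (nat_lit 6569), [(nat_lit 195), (nat_lit 556)]⟩, ⟨(nat_lit 3065), (nat_lit 7338), [(nat_lit 321), (nat_lit 270)]⟩, ⟨(nat_lit 3066), (nat_lit 5577), [(nat_lit 523), (nat_lit 1009)]⟩, ⟨(nat_lit 3067), (nat_lit 5314), [(nat_lit 271), (nat_lit 495)]⟩, ⟨(nat_lit 3068), (nat_lit 4877), [(nat_lit 463), (nat_lit 204)]⟩, ⟨(nat_lit 3069), (nat_lit 7233), [(nat_lit 1126), (nat_lit 205)]⟩, ⟨(nat_lit 3070), (nat_lit 4600), [(nat_lit 915), (nat_lit 89)]⟩, ⟨(nat_lit 3071), (nat_lit 7247), [(nat_lit 394), (nat_lit 142)]⟩, ⟨(nat_lit 3072), (nat_lit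 5590), [(nat_lit 97), (nat_lit 1053)]⟩, ⟨(nat_lit 3074), (nat_lit 5270), [(nat_lit 207), (nat_lit 1329)]⟩, ⟨(nat_lit 3077), (nat_lit 5673), [(nat_lit 865), (nat_lit 974)]⟩, ⟨(nat_lit 3078), (nat_lit 7339), [(nat_lit 150), (nat_lit 525)]⟩, ⟨(nat_lit 3080), (nat_lit 6092), [(nat_lit 358), (nat_lit 1410)]⟩, ⟨(nat_lit 3083), (nat_lit 5588), [(nat_lit 92), (nat_lit 1247)]⟩, ⟨(nat_lit 3084), (nat_lit 4846), [(nat_lit 832), (nat_lit 367)]⟩, ⟨(nat_lit 3085), (nat_lit 4489), [(nat_lit 631), (nat_lit 385)]⟩, ⟨(nat_lit 3086), (nat_lit 5564), [(nat_lit 194), (nat_lit 652)]⟩, ⟨(nat_lit 3089), (nat_lit 5449), [(nat_lit 193), (nat_lit 936)]⟩, ⟨(nat_lit 3090), (nat_lit 6327), [(nat_lit 511), (nat_lit 1141)]⟩, ⟨(nat_lit 3093), (nat_lit 6864), [(nat_lit 226), (nat_lit 172)]⟩, ⟨(nat_lit 3095), (nat_lit 4840), [(nat_lit 295), (nat_lit 386)]⟩, ⟨(nat_lit 3096), (nat_lit 6456), [(nat_lit 827), (nat_lit 169)]⟩,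 ⟨(nat_lit 3097), (nat_lit 7136), [(nat_lit 1027), (nat_lit 1348)]⟩, ⟨(nat_lit 3098), (nat_lit 4577), [(nat_lit 815), (nat_lit 814)]⟩, ⟨(nat_lit 3100), (nat_lit 7340), [(nat_lit 1014), (nat_lit 191)]⟩, ⟨(nat_lit 3101), (nat_lit 5717), [(nat_lit 538), (nat_lit 1133)]⟩, ⟨(nat_lit 3102), (nat_lit 7026), [(nat_lit 129), (nat_lit 798)]⟩]))) (BT.node (nat_lit 7343) (BT.leaf (.pt (nat_lit 7126) (nat_lit 1))) (BT.leaf (.pt (nat_lit 7342) (nat_lit 4))))))) (BT.node (nat_lit 7352) (BT.node (nat_lit 7348) (BT.node (nat_lit 7346) (BT.node (nat_lit 7345) (BT.leaf (.pt (nat_lit 6553) (nat_lit 3))) (BT.leaf (.pt (nat_lit 7344) (nat_lit 1)))) (BT.node (nat_lit 7347) (BT.leaf (.pt (nat_lit 6707) (nat_lit 3))) (BT.leaf (.pt (nat_lit 7346) (nat_lit 1))))) (BT.node (nat_lit 7350) (BT.node (nat_lit 7349) (BT.leaf (.pt (nat_lit 7347) (nat_lit 4))) (BT.leaf (.pt (nat_lit 6791) (nat_lit 1)))) (BT.node (nat_lit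 7351) (BT.leaf (.pt (nat_lit 7349) (nat_lit 3))) (BT.leaf (.cov [] [⟨(nat_lit 3104), (nat_lit 6729), [(nat_lit 488), (nat_lit 1025)]⟩, ⟨(nat_lit 3106), (nat_lit 5517), [(nat_lit 957), (nat_lit 1140)]⟩, ⟨(nat_lit 3107), (nat_lit 4628), [(nat_lit 570), (nat_lit 1141)]⟩, ⟨(nat_lit 3108), (nat_lit 6054), [(nat_lit 1437), (nat_lit 395)]⟩, ⟨(nat_lit 3110), (nat_lit 4665), [(nat_lit 271), (nat_lit 624)]⟩, ⟨(nat_lit 3111), (nat_lit 4518), [(nat_lit 387), (nat_lit 578)]⟩, ⟨(nat_lit 3113), (nat_lit 7343), [(nat_lit 774), (nat_lit 236)]⟩, ⟨(nat_lit 3115), (nat_lit 5701), [(nat_lit 759), (nat_lit 431)]⟩, ⟨(nat_lit 3117), (nat_lit 7183), [(nat_lit 166), (nat_lit 478)]⟩, ⟨(nat_lit 3118), (nat_lit 5668), [(nat_lit 19), (nat_lit 108)]⟩, ⟨(nat_lit 3119), (nat_lit 6499), [(nat_lit 393), (nat_lit 288)]⟩, ⟨(nat_lit 3120), (nat_lit 6061), [(nat_lit 427), (nat_lit 362)]⟩, ⟨(nat_lit 3121), (nat_lit 4723),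 [(nat_lit 215), (nat_lit 586)]⟩, ⟨(nat_lit 3122), (nat_lit 4924), [(nat_lit 213), (nat_lit 89)]⟩, ⟨(nat_lit 3123), (nat_lit 6012), [(nat_lit 373), (nat_lit 1203)]⟩, ⟨(nat_lit 3124), (nat_lit 5862), [(nat_lit 434), (nat_lit 572)]⟩, ⟨(nat_lit 3126), (nat_lit 5044), [(nat_lit 746), (nat_lit 1472)]⟩, ⟨(nat_lit 3127), (nat_lit 6288), [(nat_lit 193), (nat_lit 279)]⟩, ⟨(nat_lit 3129), (nat_lit 7345), [(nat_lit 1014), (nat_lit 253)]⟩, ⟨(nat_lit 3130), (nat_lit 7243), [(nat_lit 381), (nat_lit 906)]⟩, ⟨(nat_lit 3132), (nat_lit 4962), [(nat_lit 195), (nat_lit 252)]⟩, ⟨(nat_lit 3133), (nat_lit 6854), [(nat_lit 335), (nat_lit 368)]⟩, ⟨(nat_lit 3134), (nat_lit 7086), [(nat_lit 1041), (nat_lit 972)]⟩, ⟨(nat_lit 3135), (nat_lit 6796), [(nat_lit 130), (nat_lit 647)]⟩, ⟨(nat_lit 3136), (nat_lit 4696), [(nat_lit 359), (nat_lit 892)]⟩, ⟨(nat_lit 3138), (nat_lit 5438), [(nat_lit 239), (nat_lit 1605)]⟩,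 ⟨(nat_lit 3139), (nat_lit 5145), [(nat_lit 260), (nat_lit 628)]⟩, ⟨(nat_lit 3140), (nat_lit 5113), [(nat_lit 196), (nat_lit 1410)]⟩, ⟨(nat_lit 3142), (nat_lit 4604), [(nat_lit 175), (nat_lit 1043)]⟩, ⟨(nat_lit 3143), (nat_lit 5557), [(nat_lit 335), (nat_lit 512)]⟩, ⟨(nat_lit 3144), (nat_lit 5571), [(nat_lit 1106), (nat_lit 386)]⟩, ⟨(nat_lit 3145), (nat_lit 4500), [(nat_lit 786), (nat_lit 1203)]⟩, ⟨(nat_lit 3146), (nat_lit 7348), [(nat_lit 451), (nat_lit 969)]⟩, ⟨(nat_lit 3147), (nat_lit 5775), [(nat_lit 582), (nat_lit 1375)]⟩, ⟨(nat_lit 3148), (nat_lit 4985), [(nat_lit 1242), (nat_lit 627)]⟩, ⟨(nat_lit 3151), (nat_lit 5906), [(nat_lit 167), (nat_lit 1376)]⟩, ⟨(nat_lit 3152), (nat_lit 7158), [(nat_lit 93), (nat_lit 1088)]⟩, ⟨(nat_lit 3153), (nat_lit 7350), [(nat_lit 197), (nat_lit 628)]⟩, ⟨(nat_lit 3154), (nat_lit 4549), [(nat_lit 450), (nat_lit 288)]⟩, ⟨(nat_lit 3155), (nat_lit 5403),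 [(nat_lit 373), (nat_lit 578)]⟩]))))) (BT.node (nat_lit 7356) (BT.node (nat_lit 7354) (BT.node (nat_lit 7353) (BT.leaf (.pt (nat_lit 6884) (nat_lit 3))) (BT.leaf (.pt (nat_lit 7352) (nat_lit 1)))) (BT.node (nat_lit 7355) (BT.leaf (.pt (nat_lit 5457) (nat_lit 3))) (BT.leaf (.pt (nat_lit 6944) (nat_lit 3))))) (BT.node (nat_lit 7358) (BT.node (nat_lit 7357) (BT.leaf (.pt (nat_lit 7035) (nat_lit 4))) (BT.leaf (.pt (nat_lit 7067) (nat_lit 3)))) (BT.node (nat_lit 7359) (BT.leaf (.cov [] [⟨(nat_lit 3156), (nat_lit 4912), [(nat_lit 482), (nat_lit 225)]⟩, ⟨(nat_lit 3158), (nat_lit 6934), [(nat_lit 618), (nat_lit 682)]⟩, ⟨(nat_lit 3159), (nat_lit 5480), [(nat_lit 258), (nat_lit 465)]⟩, ⟨(nat_lit 3160), (nat_lit 5143), [(nat_lit 482), (nat_lit 288)]⟩, ⟨(nat_lit 3161), (nat_lit 4580), [(nat_lit 423), (nat_lit 1939)]⟩, ⟨(nat_lit 3162), (nat_lit 5166), [(nat_lit 352), (nat_lit 651)]⟩, ⟨(nat_lit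 3164), (nat_lit 6296), [(nat_lit 357), (nat_lit 1348)]⟩, ⟨(nat_lit 3165), (nat_lit 5405), [(nat_lit 1600), (nat_lit 1871)]⟩, ⟨(nat_lit 3166), (nat_lit 5039), [(nat_lit 520), (nat_lit 682)]⟩, ⟨(nat_lit 3167), (nat_lit 6835), [(nat_lit 2061), (nat_lit 710)]⟩, ⟨(nat_lit 3168), (nat_lit 6575), [(nat_lit 195), (nat_lit 264)]⟩, ⟨(nat_lit 3169), (nat_lit 5719), [(nat_lit 461), (nat_lit 785)]⟩, ⟨(nat_lit 3170), (nat_lit 6173), [(nat_lit 350), (nat_lit 224)]⟩, ⟨(nat_lit 3171), (nat_lit 5103), [(nat_lit 733), (nat_lit 234)]⟩, ⟨(nat_lit 3172), (nat_lit 4584), [(nat_lit 840), (nat_lit 384)]⟩, ⟨(nat_lit 3173), (nat_lit 6594), [(nat_lit 840), (nat_lit 877)]⟩, ⟨(nat_lit 3174), (nat_lit 7353), [(nat_lit 783), (nat_lit 347)]⟩, ⟨(nat_lit 3182), (nat_lit 4917), [(nat_lit 1308), (nat_lit 389)]⟩, ⟨(nat_lit 3196), (nat_lit 4643), [(nat_lit 493), (nat_lit 89)]⟩, ⟨(nat_lit 3204), (nat_lit 6607), [(nat_lit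 111), (nat_lit 269)]⟩, ⟨(nat_lit 3217), (nat_lit 7022), [(nat_lit 488), (nat_lit 290)]⟩, ⟨(nat_lit 3222), (nat_lit 5592), [(nat_lit 250), (nat_lit 1043)]⟩, ⟨(nat_lit 3224), (nat_lit 6521), [(nat_lit 461), (nat_lit 1043)]⟩, ⟨(nat_lit 3227), (nat_lit 6541), [(nat_lit 746), (nat_lit 875)]⟩, ⟨(nat_lit 3228), (nat_lit 6245), [(nat_lit 402), (nat_lit 868)]⟩, ⟨(nat_lit 3231), (nat_lit 4826), [(nat_lit 92), (nat_lit 264)]⟩, ⟨(nat_lit 3237), (nat_lit 4531), [(nat_lit 111), (nat_lit 676)]⟩, ⟨(nat_lit 3241), (nat_lit 5981), [(nat_lit 164), (nat_lit 124)]⟩, ⟨(nat_lit 3243), (nat_lit 6611), [(nat_lit 726), (nat_lit 798)]⟩, ⟨(nat_lit 3244), (nat_lit 7354), [(nat_lit 551), (nat_lit 1472)]⟩, ⟨(nat_lit 3265), (nat_lit 5759), [(nat_lit 193), (nat_lit 717)]⟩, ⟨(nat_lit 3272), (nat_lit 7355), [(nat_lit 93), (nat_lit 1101)]⟩, ⟨(nat_lit 3277), (nat_lit 6843), [(nat_lit 1308), (nat_lit 969)]⟩, ⟨(nat_lit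 3279), (nat_lit 6045), [(nat_lit 943), (nat_lit 662)]⟩, ⟨(nat_lit 3280), (nat_lit 6186), [(nat_lit 587), (nat_lit 1226)]⟩, ⟨(nat_lit 3282), (nat_lit 5880), [(nat_lit 178), (nat_lit 173)]⟩, ⟨(nat_lit 3289), (nat_lit 5714), [(nat_lit 1218), (nat_lit 1)]⟩, ⟨(nat_lit 3301), (nat_lit 7356), [(nat_lit 482), (nat_lit 682)]⟩, ⟨(nat_lit 3328), (nat_lit 7357), [(nat_lit 177), (nat_lit 559)]⟩, ⟨(nat_lit 3330), (nat_lit 6889), [(nat_lit 150), (nat_lit 646)]⟩])) (BT.leaf (.pt (nat_lit 7240) (nat_lit 1)))))))))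
noncomputable def cF7360 : BT Fc := (BT.node (nat_lit 7392) (BT.node (nat_lit 7376) (BT.node (nat_lit 7368) (BT.node (nat_lit 7364) (BT.node (nat_lit 7362) (BT.node (nat_lit 7361) (BT.leaf ⟨(nat_lit 4), (nat_lit 2073), (nat_lit 0), (nat_lit 0x1c35b1882102600d7c80ce8202b4239), (nat_lit 0), (nat_lit 0)⟩) (BT.leaf ⟨(nat_lit 4), (nat_lit 2176), (nat_lit 0), (nat_lit 0x774aaf21714746d30fa1ab960fae93), (nat_lit 0), (nat_lit 0)⟩)) (BT.node (nat_lit 7363) (BT.leaf ⟨(nat_lit 4), (nat_lit 3392), (nat_lit 0), (nat_lit 0xd8fc815a7cff8dd1c6eefb36652e0b), (nat_lit 0), (nat_lit 0)⟩) (BT.leaf ⟨(nat_lit 4), (nat_lit 3175), (nat_lit 0), (nat_lit 0xc4e473d82ed27a4fc1eefa9ab13c9a), (nat_lit 0), (nat_lit 0)⟩))) (BT.node (nat_lit 7366) (BT.node (nat_lit 7365) (BT.leaf ⟨(nat_lit 4), (nat_lit 2780), (nat_lit 0), (nat_lit 0x1a34179409d0b8c9010877240480646), (nat_lit 0), (nat_lit 0)⟩) (BT.leaf ⟨(nat_lit 4),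 (nat_lit 2258), (nat_lit 0), (nat_lit 0x1855a4cd916fdebdd53ae71cab77e3a), (nat_lit 0), (nat_lit 0)⟩)) (BT.node (nat_lit 7367) (BT.leaf ⟨(nat_lit 4), (nat_lit 432), (nat_lit 0), (nat_lit 0x884101200d1c405003577271011d7), (nat_lit 0), (nat_lit 0)⟩) (BT.leaf ⟨(nat_lit 4), (nat_lit 1829), (nat_lit 0), (nat_lit 0x3b53554b934f626f69eb3d25a4e49f), (nat_lit 0), (nat_lit 0)⟩)))) (BT.node (nat_lit 7372) (BT.node (nat_lit 7370) (BT.node (nat_lit 7369) (BT.leaf ⟨(nat_lit 4), (nat_lit 434), (nat_lit 0), (nat_lit 0xc01042104809f0f8f20475c96806), (nat_lit 0), (nat_lit 0)⟩) (BT.leaf ⟨(nat_lit 4), (nat_lit 566), (nat_lit 0), (nat_lit 0x97bdba5b5bedc1c55650be93dafec1), (nat_lit 0), (nat_lit 0)⟩)) (BT.node (nat_lit 7371) (BT.leaf ⟨(nat_lit 5), (nat_lit 9), (nat_lit 0), (nat_lit 0x8000000000000000000000100100000000000000000000000000000000000000000000000000000000000080001000000000000000000000000000000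000100200000004000000000000000000000000000000000000000000000000000000000000000000000000000000000020010000000000000000000100000000040000000000000080000000000000000000000000000000000000000000000000000000000000000000000000000000000002000000000000000000004000000000000000120010000000000000000002000000200000000000000000000000000010000000000000000000000000000000820000000000000000000000000000000000000000008000200000000000000000010000000040000000000000000000000000000000000000008000000000000000000000000000000000000000000000000000000000002000000000000010000000000000000800000000000040020000000000000000000000000000000000000000000000000000000000000000000000000000000000000000000004200000000000000000000000000000001000000000000040000000000000000000000002000000000000000000000002001000000000000000000000000000000000000000000), (nat_lit 0), (nat_lit 0)⟩) (BT.leaf ⟨(nat_lit 4), (nat_lit 962), (nat_lit 0),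 (nat_lit 0x1ee840081ad1200500849e62091c9af), (nat_lit 0), (nat_lit 0)⟩))) (BT.node (nat_lit 7374) (BT.node (nat_lit 7373) (BT.leaf ⟨(nat_lit 5), (nat_lit 9), (nat_lit 0), (nat_lit 0x80000000000000000000020000000000000000000000000000010000000000008000000000100000000000000000000000000000000000000000000000000000000000000000000000000000000000000200000000000000000000000000000008000000000000002000000800000000000000000000000000000000000000000000000800000008000000000000000000000000000100000000000000000000400000000000000000000000000100000000000000000000000000000000000000000000000000000000000000100000000000000000000000000000000000000000080000000000000000002004000000000000000000000000000000000000000000000000000000000000000000000000000000000000000000000000000000002000000100001000000000000000000000000000080000000000000000000000000000000000000000000000000040000000004000801000010000008000000000000100000000000000000000000000000000200000000000000000000000000000000000000000000000000000000000000020000004000000000000000000000000000000000000001000000000000028002000100000800000000000060000000000000000000000000),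 (nat_lit 0), (nat_lit 0)⟩) (BT.leaf ⟨(nat_lit 4), (nat_lit 3418), (nat_lit 0), (nat_lit 0x19ceae7908c6d2638e2cd94ffa3d99b), (nat_lit 0), (nat_lit 0)⟩)) (BT.node (nat_lit 7375) (BT.leaf ⟨(nat_lit 5), (nat_lit 9), (nat_lit 0), (nat_lit 0x400000000000000000400000000000000000000000000000000000004000000000000000000000000000000000000000000000000000000000000000000000000000000000000000000000000000000000000000000000000000000000000000000000000000000000000000000000000000000000000000000000000000000000000000000000000000000000000000000000000000000000000000000000000000000000000000000000000000000000000000000000000000000000000000000000000000000000000000000000000000000000000000000000000000000000000000000000000000000000000000000020000000000000000000000000000000000000000000000000000000000000000000000020000000000000000000000000000000000000000000000000000000000000000000000008000000000000000000000000000000000000000000000000000000000000000000000000000000000000000000000000000000000000800000000000000000000000000000000000000000000000000000000000000000000000000000000000000000000000000000000000000000000),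 (nat_lit 0), (nat_lit 0)⟩) (BT.leaf ⟨(nat_lit 5), (nat_lit 9), (nat_lit 0), (nat_lit 0x804409028a00064919040580024060900583060111120004210a0904c880c200908800006312c006400061a8424011801038002010085201000010038822010000801007609414040048c10601404000042402003120000040d014820000400f000000d400220802014120080000684038242328004c08008408882d05a200e0040400081020002180a044020802081000210b1000840201c000000001802405010040010400000901020140013251000640c0924003300201000500088360245040814000281e81140000a08c000000004284088020000218d000040c8081a40484881220000e141000013000484206400000820221202006000012000200810188050012011a04008801200062010123000002010522000040020010020021022428c4082908000003000009a0410133a80a923c001008280813420282104c20082028004800a00044882600c106000401140034090108012208ca80082400da568630a80d0c080d8c1080a0900469880a88044380a0052008000008441400a1822020002c400020482000800000c040842482082000080e202c60110280a0220014440131080a20c81480c0c004200216018112c28f10000088900000e892200e383400880400c08540065581800084040808101008a8d),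 (nat_lit 0), (nat_lit 0)⟩))))) (BT.node (nat_lit 7384) (BT.node (nat_lit 7380) (BT.node (nat_lit 7378) (BT.node (nat_lit 7377) (BT.leaf ⟨(nat_lit 4), (nat_lit 1248), (nat_lit 0), (nat_lit 0x43c504beb900c0faa994fe08610453), (nat_lit 0), (nat_lit 0)⟩) (BT.leaf ⟨(nat_lit 5), (nat_lit 10), (nat_lit 0), (nat_lit 0x4000000000000000000000000000040000000000000200000000000000000000000000000000000000000000000000000010000000000000000200000000000000000000000000000000000000000000000000000000100000000000000004000000004000040800000000000000201000020000000000000000000001000000000000000000000000000000000010000000000000000000000000000000000000000040000000000000000000000000000000000000000000000000000000000000000000000000000002000000000000000000000000001000000000000000000000000000000000000800000000000000000000000000000010000000000000000000000000800000000000000000000000000000000000000000000000000000000000000000001000000000002000800000000000000000000000008000000000000000000000000000000000000000000000000000000000000000000000000000000000000000000000000000000000000000000000000000000040000000000000000000000000000000000000040000000002000000000000000000000000000000000000000000000000000000000000000000000000000000000000020000009),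 (nat_lit 0), (nat_lit 0)⟩)) (BT.node (nat_lit 7379) (BT.leaf ⟨(nat_lit 2), (nat_lit 10), (nat_lit 10), (nat_lit 0x11377e2f4d69b90bcef050f9d390cf4), (nat_lit 0), (nat_lit 0)⟩) (BT.leaf ⟨(nat_lit 2), (nat_lit 10), (nat_lit 10), (nat_lit 0x11efa7785030031f58880101237e5e0), (nat_lit 0), (nat_lit 0)⟩))) (BT.node (nat_lit 7382) (BT.node (nat_lit 7381) (BT.leaf ⟨(nat_lit 2), (nat_lit 10), (nat_lit 10), (nat_lit 0x8410220060090900a0ecc182e46d4), (nat_lit 0), (nat_lit 0)⟩) (BT.leaf ⟨(nat_lit 2), (nat_lit 10), (nat_lit 10), (nat_lit 0x10010010000804010040f1a20239801), (nat_lit 0), (nat_lit 0)⟩)) (BT.node (nat_lit 7383) (BT.leaf ⟨(nat_lit 2), (nat_lit 10), (nat_lit 10), (nat_lit 0x11345cf515f2aa54cabd6d88e7652b1), (nat_lit 0), (nat_lit 0)⟩) (BT.leaf ⟨(nat_lit 2), (nat_lit 10), (nat_lit 10), (nat_lit 0xc8147110401801012dec1095df44), (nat_lit 0), (nat_lit 0)⟩)))) (BT.node (nat_lit 7388) (BT.node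 (nat_lit 7386) (BT.node (nat_lit 7385) (BT.leaf ⟨(nat_lit 2), (nat_lit 10), (nat_lit 10), (nat_lit 0x1a4d574a5f8c1f2fff5666b9a723546), (nat_lit 0), (nat_lit 0)⟩) (BT.leaf ⟨(nat_lit 4), (nat_lit 2146), (nat_lit 0), (nat_lit 0x21003742f13cfa4d6f0018010e8805), (nat_lit 0), (nat_lit 0)⟩)) (BT.node (nat_lit 7387) (BT.leaf ⟨(nat_lit 4), (nat_lit 2182), (nat_lit 0), (nat_lit 0x1bf1041dd01295c84088018063a7785), (nat_lit 0), (nat_lit 0)⟩) (BT.leaf ⟨(nat_lit 4), (nat_lit 1568), (nat_lit 0), (nat_lit 0x182e52be746d45df177d598fcde1ba3), (nat_lit 0), (nat_lit 0)⟩))) (BT.node (nat_lit 7390) (BT.node (nat_lit 7389) (BT.leaf ⟨(nat_lit 4), (nat_lit 3376), (nat_lit 0), (nat_lit 0x14e920300501636a33d5ce684102220), (nat_lit 0), (nat_lit 0)⟩) (BT.leaf ⟨(nat_lit 4), (nat_lit 3468), (nat_lit 0), (nat_lit 0xe904f17683c3b713f7d934f6189d9e), (nat_lit 0), (nat_lit 0)⟩)) (BT.node (nat_lit 7391) (BT.leaf ⟨(nat_lit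 5), (nat_lit 11), (nat_lit 0), (nat_lit 0x400000000000000000040000000000000000000000000000000000000000801000000000000000000440000081002000000000000000000000000000000000000000000000000000000000000000000000000010000000000000002000000000000000000000821000000000000000000000000000000000000000000000000000000000000000000000000000000002000000000000000000000000000000000100000000000000000000000000000008000000000000000002000000000000400000040000000000000000000004000000000000000000000000000000000000040000000800000000000000000000000000080000000080000000000000000000000000000040000000000100000000000000000000000000000000000000000000000000000000400008000000008000000000000000000000000000000000000000000400000000000000000000000000000000000000000000000000000000000000000200000000000001000000000000000000008020000000000000000000000000000800000000000000000000000000000000000000000000000000000000000000000200000000000000000000000000000000000000200000000100000000000000000000000000000001),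 (nat_lit 0), (nat_lit 0)⟩) (BT.leaf ⟨(nat_lit 4), (nat_lit 902), (nat_lit 0), (nat_lit 0x6c9573d8197d3ba307cbff296a37c6), (nat_lit 0), (nat_lit 0)⟩)))))) (BT.node (nat_lit 7408) (BT.node (nat_lit 7400) (BT.node (nat_lit 7396) (BT.node (nat_lit 7394) (BT.node (nat_lit 7393) (BT.leaf ⟨(nat_lit 4), (nat_lit 2553), (nat_lit 0), (nat_lit 0x101002abd00821102044bd896c0a024), (nat_lit 0), (nat_lit 0)⟩) (BT.leaf ⟨(nat_lit 4), (nat_lit 2918), (nat_lit 0), (nat_lit 0x1403fa1022013a017d73220c00c03b9), (nat_lit 0), (nat_lit 0)⟩)) (BT.node (nat_lit 7395) (BT.leaf ⟨(nat_lit 4), (nat_lit 2121), (nat_lit 0), (nat_lit 0x602b992005eb8c6ab002013a323104), (nat_lit 0), (nat_lit 0)⟩) (BT.leaf ⟨(nat_lit 4), (nat_lit 3031), (nat_lit 0), (nat_lit 0x1d383e7c655da4e52b35e8dd1fb3742), (nat_lit 0), (nat_lit 0)⟩))) (BT.node (nat_lit 7398) (BT.node (nat_lit 7397) (BT.leaf ⟨(nat_lit 5), (nat_lit 11), (nat_lit 0),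 (nat_lit 0x800000000400000000000002000000000000000000000000000000000000000000000000000000000000800020000000000000000000400040001000000000000000000000000000000000080000000000000000000000000004010000000002000000000000400000000000000008000000000000000000000000000000000200000000080000004000000000000000000000000000000000000000000000000000000000000000000010080000800000000000000000000004000000200000000000000000000000000000000000000000000000000000000400000000000000800000000000000000000000000000000000000000000000000000000000000000000000000800000800000000000000000000000000000000000000000000000000000000000000000000000000000000000000000000000000040000000000000000000000000000040000200000000000000004000000000004000000000000000002000400000000000000000000000000000000000000000000000040000000000000000000000000880000000000000000000000080000000000008000000008100000000000000000000000000000000000000000000000000000000000000000000),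 (nat_lit 0), (nat_lit 0)⟩) (BT.leaf ⟨(nat_lit 4), (nat_lit 585), (nat_lit 0), (nat_lit 0xf9df5be2fc6f8de19bc94be42374d9), (nat_lit 0), (nat_lit 0)⟩)) (BT.node (nat_lit 7399) (BT.leaf ⟨(nat_lit 4), (nat_lit 3639), (nat_lit 0), (nat_lit 0x17b3dbad2bd3fa2745e8bd5d46fc31c), (nat_lit 0), (nat_lit 0)⟩) (BT.leaf ⟨(nat_lit 4), (nat_lit 3737), (nat_lit 0), (nat_lit 0x1e27e6979f19e769a46eb1ba8bc7b13), (nat_lit 0), (nat_lit 0)⟩)))) (BT.node (nat_lit 7404) (BT.node (nat_lit 7402) (BT.node (nat_lit 7401) (BT.leaf ⟨(nat_lit 4), (nat_lit 2560), (nat_lit 0), (nat_lit 0x97c80040009d1a39f8d25ef8f9d1d5), (nat_lit 0), (nat_lit 0)⟩) (BT.leaf ⟨(nat_lit 4), (nat_lit 2619), (nat_lit 0), (nat_lit 0xaf52d84400de240288420881095c9a), (nat_lit 0), (nat_lit 0)⟩)) (BT.node (nat_lit 7403) (BT.leaf ⟨(nat_lit 4), (nat_lit 1331), (nat_lit 0), (nat_lit 0x1ad3edff450f45f6a4abde99d3726f6), (nat_lit 0), (nat_lit 0)⟩) (BT.leaf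 ⟨(nat_lit 5), (nat_lit 11), (nat_lit 0), (nat_lit 0x20000000000000000000000000000000000000000000000000000000000000000000000101000000000000000000000000000000000000000200000000000400000000000000000000000000000000000000000000000000000000000000000000000000000008400000000020000000000000000000000000000000000000000000000000000000000000008000100000000010000000000000000000000000100000000000000000000000001000000000040000800020000000000000000000000040000000400000000000000000020000000000000000002000000000000000000000000000000000000000000000000000000000000000000000000000000000000000000000000100000000000000080000000000000000000000004000000100000000000000000000800040000080000000000000000000000000000000000000000000000000000004000000000000000000000000000000800000000400000000000000000000000000000001000000000000000000000000000000000000800000000000200000000000000000000000000000001000000000000000008000000000000000100000000200000000000040000000000008000000000000040000000000000000000000000000000),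 (nat_lit 0), (nat_lit 0)⟩))) (BT.node (nat_lit 7406) (BT.node (nat_lit 7405) (BT.leaf ⟨(nat_lit 4), (nat_lit 1508), (nat_lit 0), (nat_lit 0x1ce85bfba692b48e773eddf60f8d738), (nat_lit 0), (nat_lit 0)⟩) (BT.leaf ⟨(nat_lit 4), (nat_lit 2358), (nat_lit 0), (nat_lit 0x174bceb8df1a9945bea2d1a32e9a785), (nat_lit 0), (nat_lit 0)⟩)) (BT.node (nat_lit 7407) (BT.leaf ⟨(nat_lit 4), (nat_lit 3151), (nat_lit 0), (nat_lit 0x1df5354de74927a4f8ed939b06d8cbe), (nat_lit 0), (nat_lit 0)⟩) (BT.leaf ⟨(nat_lit 4), (nat_lit 838), (nat_lit 0), (nat_lit 0x1bd04078d3aaf8d2f8082004bfa3002), (nat_lit 0), (nat_lit 0)⟩))))) (BT.node (nat_lit 7416) (BT.node (nat_lit 7412) (BT.node (nat_lit 7410) (BT.node (nat_lit 7409) (BT.leaf ⟨(nat_lit 4), (nat_lit 810), (nat_lit 0), (nat_lit 0x1f1ba3f42d2791a52aaea8d465ec766), (nat_lit 0), (nat_lit 0)⟩) (BT.leaf ⟨(nat_lit 4), (nat_lit 318), (nat_lit 0), (nat_lit 0x1e16f06fc81002a3da08210030049dd),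 (nat_lit 0), (nat_lit 0)⟩)) (BT.node (nat_lit 7411) (BT.leaf ⟨(nat_lit 4), (nat_lit 2172), (nat_lit 0), (nat_lit 0x17e2b44c7bd1d453299bfd10f6f4976), (nat_lit 0), (nat_lit 0)⟩) (BT.leaf ⟨(nat_lit 5), (nat_lit 11), (nat_lit 0), (nat_lit 0x4000000000000000000000000000000000002000000000000000000000000000010000000004000000000000004000000000200000000000000000080000000000000000000000000000000080000000004000000000000000040000000000000000000000000000000000000000000000000000000000000000000000000800000000000000000000000008000000002000010000000000000000000000000000000000001000000000000000000040000000000000000000000000000040000000000000001020000000000000000000000000000000000001000400002000000000000040000000000000000000000000000000000000000000000000000400000000000000000080000000020000000004000000000000100002000000000000000000000000000000000000000000000000000000000000000000000000000000000000000000000000000000000000000000010000000080000000000000040000000000000000000000400800040000000000000000000000000000000000000000000000100000000000000000000000000000000000000000000000000000000000000000000400000040000000000000000000000000020000000000000000000000000080000000000000000000000000),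 (nat_lit 0), (nat_lit 0)⟩))) (BT.node (nat_lit 7414) (BT.node (nat_lit 7413) (BT.leaf ⟨(nat_lit 4), (nat_lit 1182), (nat_lit 0), (nat_lit 0x2af00188f61224b009e65d3a041dd), (nat_lit 0), (nat_lit 0)⟩) (BT.leaf ⟨(nat_lit 4), (nat_lit 2886), (nat_lit 0), (nat_lit 0x1204400a3bbd39040287d602004c08), (nat_lit 0), (nat_lit 0)⟩)) (BT.node (nat_lit 7415) (BT.leaf ⟨(nat_lit 4), (nat_lit 2185), (nat_lit 0), (nat_lit 0x17812bc961100a00c048df80250447b), (nat_lit 0), (nat_lit 0)⟩) (BT.leaf ⟨(nat_lit 4), (nat_lit 1242), (nat_lit 0), (nat_lit 0x151a8cf4e365295ec693cd3d1d9a8cb), (nat_lit 0), (nat_lit 0)⟩)))) (BT.node (nat_lit 7420) (BT.node (nat_lit 7418) (BT.node (nat_lit 7417) (BT.leaf ⟨(nat_lit 4), (nat_lit 1505), (nat_lit 0), (nat_lit 0x746a5dd53a83547d7216d8f54e29f5), (nat_lit 0), (nat_lit 0)⟩) (BT.leaf ⟨(nat_lit 4), (nat_lit 1913), (nat_lit 0), (nat_lit 0xfad71be3efbf8fc836394b365f3e0b), (nat_lit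 0), (nat_lit 0)⟩)) (BT.node (nat_lit 7419) (BT.leaf ⟨(nat_lit 5), (nat_lit 11), (nat_lit 0), (nat_lit 0x80000000800000000400000000000800000000000000000000000000000008000000000000000000000000000000000000000000080000480000000000000000000000000000000000000000000000400000000000000000000000000000000000000000000000008000000000000800000000000000000000000000000000000000000000001000000000000000000000000000000000000020000002000000000000000000020000000000000000000000000000000000000000000000000000400000000000000200000000000000000000000000000000000000001000000000000120000000010000000080000000000000000000000000000210000040000000000000000000000000000000000000000000000001000000000400000000000000c0000000000000000000000000000004000000000000000000000000040000010200000000000000000000000000000000000400000000000000000000000000000000000000000000080000000000000000000000000000000000000000000000000000000040000000000000000000000000000000000040000000004000000000000000000000000000000000002040000000),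 (nat_lit 0), (nat_lit 0)⟩) (BT.leaf ⟨(nat_lit 4), (nat_lit 2167), (nat_lit 0), (nat_lit 0x14020eb40910cd0f860081de822195), (nat_lit 0), (nat_lit 0)⟩))) (BT.node (nat_lit 7422) (BT.node (nat_lit 7421) (BT.leaf ⟨(nat_lit 4), (nat_lit 2505), (nat_lit 0), (nat_lit 0x6f1c50e64ba95db825f4ffb05afe2c), (nat_lit 0), (nat_lit 0)⟩) (BT.leaf ⟨(nat_lit 5), (nat_lit 11), (nat_lit 0), (nat_lit 0x400000000800000000000000000000000000000000000000000000000000000000000000000000000000004000000000000000000000000000000000008000000000000000000000000000000000000000000000000000000000000000000000000020000000000000000000000000000000000000000000000000000000000000000000000000000000000000002000000000000000000000000000000000200000020000000008000800040000400000000000000000000000000000000000000000000000000000080000000000000000000000000000000000000001000000000000100000000000000000000000000000000000000000000000000000000000000000000000000000000000000000000000000000000000000000000000000000000000000000000080000000000000000000000000000000000000000000000000000000000000000000000004000000000000000000000000000000000000000000000000000000000000000000000000000000000000000000000000000000000000000000000000000000000000000000000000000000000000000000000000000000000000000000000400000000000000000000000000000000000000000000000000000000000000000000000000000000000),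 (nat_lit 0), (nat_lit 0)⟩)) (BT.node (nat_lit 7423) (BT.leaf ⟨(nat_lit 5), (nat_lit 11), (nat_lit 0), (nat_lit 0x4000040008200004000000000000000000408000020004000000000000020000080000100808010041410040000000844400000812020000000000008082a080000000040000000040004000100008000000000400800004800001004008000000002200000000000000000c41082104002200000000000040000000000000000880000000000000080000000000a0800082021000100820100040000000002000000200001001091008000400004000000410000000000480028000302800008420000000000024410a00444000002000000000000240000000000010014020020400001000000400600004008000000000008000000000000000800001000800004000120000000010000800080401200000001040000808000009210020040000000040000001000000800000000004008080400000881000000000400000000000000c00000000000000004400040000040040000000100000000c0000200040800050200404000000000004200400800040001003400400000000000008020000000000000000800100000080a000400000000000000000000000008810000000000000000080000c000040040034800000020810000000004004002000000c000200000000140000080000000000000002040000001),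 (nat_lit 0), (nat_lit 0)⟩) (BT.leaf ⟨(nat_lit 4), (nat_lit 2183), (nat_lit 0), (nat_lit 0x1bda0178f007d10097384baaec0349c), (nat_lit 0), (nat_lit 0)⟩)))))))
noncomputable def cP7360 : BT Pf := (BT.node (nat_lit 7392) (BT.node (nat_lit 7376) (BT.node (nat_lit 7368) (BT.node (nat_lit 7364) (BT.node (nat_lit 7362) (BT.node (nat_lit 7361) (BT.leaf (.pt (nat_lit 7359) (nat_lit 4))) (BT.leaf (.pt (nat_lit 6438) (nat_lit 1)))) (BT.node (nat_lit 7363) (BT.leaf (.pt (nat_lit 7011) (nat_lit 4))) (BT.leaf (.pt (nat_lit 7362) (nat_lit 1))))) (BT.node (nat_lit 7366) (BT.node (nat_lit 7365) (BT.leaf (.pt (nat_lit 7363) (nat_lit 4))) (BT.leaf (.pt (nat_lit 7091) (nat_lit 3)))) (BT.node (nat_lit 7367) (BT.leaf (.pt (nat_lit 4768) (nat_lit 3))) (BT.leaf (.pt (nat_lit 7285) (nat_lit 3)))))) (BT.node (nat_lit 7372) (BT.node (nat_lit 7370) (BT.node (nat_lit 7369) (BT.leaf (.pt (nat_lit 7334) (nat_lit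 1))) (BT.leaf (.pt (nat_lit 7368) (nat_lit 3)))) (BT.node (nat_lit 7371) (BT.leaf (.cov [] [⟨(nat_lit 3334), (nat_lit 6991), [(nat_lit 741), (nat_lit 1101)]⟩, ⟨(nat_lit 3366), (nat_lit 7360), [(nat_lit 256), (nat_lit 169)]⟩, ⟨(nat_lit 3376), (nat_lit 6281), [(nat_lit 1004), (nat_lit 90)]⟩, ⟨(nat_lit 3382), (nat_lit 7361), [(nat_lit 239), (nat_lit 191)]⟩, ⟨(nat_lit 3392), (nat_lit 5388), [(nat_lit 544), (nat_lit 712)]⟩, ⟨(nat_lit 3403), (nat_lit 7364), [(nat_lit 321), (nat_lit 835)]⟩, ⟨(nat_lit 3416), (nat_lit 5929), [(nat_lit 321), (nat_lit 498)]⟩, ⟨(nat_lit 3420), (nat_lit 6593), [(nat_lit 92), (nat_lit 891)]⟩, ⟨(nat_lit 3428), (nat_lit 7365), [(nat_lit 97), (nat_lit 624)]⟩, ⟨(nat_lit 3435), (nat_lit 7366), [(nat_lit 271), (nat_lit 870)]⟩, ⟨(nat_lit 3440), (nat_lit 6567), [(nat_lit 255), (nat_lit 140)]⟩, ⟨(nat_lit 3449), (nat_lit 5213), [(nat_lit 538), (nat_lit 173)]⟩, ⟨(nat_lit 3450),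 (nat_lit 4895), [(nat_lit 237), (nat_lit 421)]⟩, ⟨(nat_lit 3452), (nat_lit 6341), [(nat_lit 358), (nat_lit 506)]⟩, ⟨(nat_lit 3455), (nat_lit 5808), [(nat_lit 900), (nat_lit 163)]⟩, ⟨(nat_lit 3472), (nat_lit 5351), [(nat_lit 207), (nat_lit 752)]⟩, ⟨(nat_lit 3479), (nat_lit 7248), [(nat_lit 1056), (nat_lit 1141)]⟩, ⟨(nat_lit 3497), (nat_lit 6829), [(nat_lit 239), (nat_lit 290)]⟩, ⟨(nat_lit 3499), (nat_lit 6961), [(nat_lit 357), (nat_lit 972)]⟩, ⟨(nat_lit 3514), (nat_lit 6497), [(nat_lit 582), (nat_lit 822)]⟩, ⟨(nat_lit 3516), (nat_lit 6384), [(nat_lit 380), (nat_lit 162)]⟩, ⟨(nat_lit 3520), (nat_lit 5095), [(nat_lit 1242), (nat_lit 870)]⟩, ⟨(nat_lit 3522), (nat_lit 7367), [(nat_lit 1257), (nat_lit 110)]⟩, ⟨(nat_lit 3544), (nat_lit 4953), [(nat_lit 629), (nat_lit 1101)]⟩, ⟨(nat_lit 3549), (nat_lit 5732), [(nat_lit 1099), (nat_lit 172)]⟩, ⟨(nat_lit 3551), (nat_lit 6348), [(nat_lit 487),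 (nat_lit 1256)]⟩, ⟨(nat_lit 3553), (nat_lit 6182), [(nat_lit 593)]⟩, ⟨(nat_lit 3576), (nat_lit 7369), [(nat_lit 789), (nat_lit 320)]⟩, ⟨(nat_lit 3584), (nat_lit 5947), [(nat_lit 620), (nat_lit 319)]⟩, ⟨(nat_lit 3589), (nat_lit 4969), [(nat_lit 381), (nat_lit 1871)]⟩, ⟨(nat_lit 3608), (nat_lit 5045), [(nat_lit 1013), (nat_lit 234)]⟩, ⟨(nat_lit 3618), (nat_lit 6066), [(nat_lit 359), (nat_lit 604)]⟩, ⟨(nat_lit 3623), (nat_lit 6813), [(nat_lit 212), (nat_lit 362)]⟩, ⟨(nat_lit 3625), (nat_lit 5837), [(nat_lit 579), (nat_lit 465)]⟩, ⟨(nat_lit 3631), (nat_lit 7332), [(nat_lit 19), (nat_lit 586)]⟩, ⟨(nat_lit 3634), (nat_lit 4627), [(nat_lit 482), (nat_lit 1001)]⟩, ⟨(nat_lit 3635), (nat_lit 6172), [(nat_lit 111), (nat_lit 778)]⟩, ⟨(nat_lit 3637), (nat_lit 6544), [(nat_lit 359), (nat_lit 247)]⟩, ⟨(nat_lit 3645), (nat_lit 5468), [(nat_lit 469), (nat_lit 559)]⟩, ⟨(nat_lit 3653), (nat_lit 5427),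 [(nat_lit 176), (nat_lit 1109)]⟩])) (BT.leaf (.pt (nat_lit 6851) (nat_lit 3))))) (BT.node (nat_lit 7374) (BT.node (nat_lit 7373) (BT.leaf (.cov [] [⟨(nat_lit 3664), (nat_lit 6069), [(nat_lit 349), (nat_lit 288)]⟩, ⟨(nat_lit 3679), (nat_lit 6722), [(nat_lit 782), (nat_lit 936)]⟩, ⟨(nat_lit 3680), (nat_lit 6689), [(nat_lit 1026), (nat_lit 578)]⟩, ⟨(nat_lit 3685), (nat_lit 5104), [(nat_lit 567), (nat_lit 431)]⟩, ⟨(nat_lit 3692), (nat_lit 5960), [(nat_lit 1103), (nat_lit 795)]⟩, ⟨(nat_lit 3700), (nat_lit 5524), [(nat_lit 406), (nat_lit 269)]⟩, ⟨(nat_lit 3719), (nat_lit 5156), [(nat_lit 43), (nat_lit 968)]⟩, ⟨(nat_lit 3754), (nat_lit 6385), [(nat_lit 282), (nat_lit 1036)]⟩, ⟨(nat_lit 3771), (nat_lit 7015), [(nat_lit 551), (nat_lit 512)]⟩, ⟨(nat_lit 3779), (nat_lit 7371), [(nat_lit 376), (nat_lit 287)]⟩, ⟨(nat_lit 3789), (nat_lit 5450), [(nat_lit 587), (nat_lit 684)]⟩, ⟨(nat_lit 3790), (nat_lit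 5655), [(nat_lit 488), (nat_lit 1001)]⟩, ⟨(nat_lit 3804), (nat_lit 5120), [(nat_lit 350), (nat_lit 395)]⟩, ⟨(nat_lit 3810), (nat_lit 6089), [(nat_lit 493), (nat_lit 1)]⟩, ⟨(nat_lit 3812), (nat_lit 5076), [(nat_lit 43), (nat_lit 169)]⟩, ⟨(nat_lit 3813), (nat_lit 7069), [(nat_lit 355), (nat_lit 399)]⟩, ⟨(nat_lit 3821), (nat_lit 6185), [(nat_lit 787), (nat_lit 1211)]⟩, ⟨(nat_lit 3831), (nat_lit 5058), [(nat_lit 483), (nat_lit 1136)]⟩, ⟨(nat_lit 3841), (nat_lit 5421), [(nat_lit 257), (nat_lit 652)]⟩, ⟨(nat_lit 3849), (nat_lit 7313), [(nat_lit 911), (nat_lit 253)]⟩, ⟨(nat_lit 3871), (nat_lit 5396), [(nat_lit 928), (nat_lit 974)]⟩, ⟨(nat_lit 3890), (nat_lit 6931), [(nat_lit 953), (nat_lit 126)]⟩, ⟨(nat_lit 3901), (nat_lit 6401), [(nat_lit 266), (nat_lit 504)]⟩, ⟨(nat_lit 3905), (nat_lit 6414), [(nat_lit 462), (nat_lit 1939)]⟩, ⟨(nat_lit 3911), (nat_lit 5328), [(nat_lit 1026), (nat_lit 1165)]⟩,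 ⟨(nat_lit 3920), (nat_lit 5878), [(nat_lit 690), (nat_lit 401)]⟩, ⟨(nat_lit 3925), (nat_lit 6559), [(nat_lit 832), (nat_lit 1165)]⟩, ⟨(nat_lit 3937), (nat_lit 5356), [(nat_lit 825), (nat_lit 974)]⟩, ⟨(nat_lit 3948), (nat_lit 7344), [(nat_lit 695), (nat_lit 1100)]⟩, ⟨(nat_lit 3964), (nat_lit 5344), [(nat_lit 832), (nat_lit 379)]⟩, ⟨(nat_lit 3988), (nat_lit 6747), [(nat_lit 281), (nat_lit 506)]⟩, ⟨(nat_lit 3992), (nat_lit 6957), [(nat_lit 111), (nat_lit 432)]⟩, ⟨(nat_lit 4041), (nat_lit 6512), [(nat_lit 619), (nat_lit 1203)]⟩, ⟨(nat_lit 4059), (nat_lit 7342), [(nat_lit 43), (nat_lit 525)]⟩, ⟨(nat_lit 4092), (nat_lit 7347), [(nat_lit 570), (nat_lit 372)]⟩, ⟨(nat_lit 4107), (nat_lit 6929), [(nat_lit 502), (nat_lit 307)]⟩, ⟨(nat_lit 4125), (nat_lit 6268), [(nat_lit 462), (nat_lit 581)]⟩, ⟨(nat_lit 4132), (nat_lit 7004), [(nat_lit 1012), (nat_lit 1083)]⟩, ⟨(nat_lit 4139), (nat_lit 6511),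 [(nat_lit 507), (nat_lit 306)]⟩, ⟨(nat_lit 4158), (nat_lit 7362), [(nat_lit 292), (nat_lit 109)]⟩])) (BT.leaf (.pt (nat_lit 5622) (nat_lit 1)))) (BT.node (nat_lit 7375) (BT.leaf (.cov [] [⟨(nat_lit 4172), (nat_lit 4659), [(nat_lit 526), (nat_lit 956)]⟩, ⟨(nat_lit 4184), (nat_lit 5176), [(nat_lit 487), (nat_lit 308)]⟩, ⟨(nat_lit 4229), (nat_lit 5804), [(nat_lit 281), (nat_lit 291)]⟩, ⟨(nat_lit 4238), (nat_lit 6811), [(nat_lit 508), (nat_lit 126)]⟩, ⟨(nat_lit 4240), (nat_lit 6911), [(nat_lit 761), (nat_lit 1165)]⟩, ⟨(nat_lit 4264), (nat_lit 7373), [(nat_lit 416), (nat_lit 498)]⟩, ⟨(nat_lit 4296), (nat_lit 4979), [(nat_lit 284), (nat_lit 171)]⟩])) (BT.leaf (.cov [(nat_lit 7208), (nat_lit 7212), (nat_lit 7223), (nat_lit 7235), (nat_lit 7241), (nat_lit 7259), (nat_lit 7271), (nat_lit 7280), (nat_lit 7301), (nat_lit 7315), (nat_lit 7324), (nat_lit 7331), (nat_lit 7341), (nat_lit 7351), (nat_lit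 7358), (nat_lit 7370), (nat_lit 7372), (nat_lit 7374)] [])))))) (BT.node (nat_lit 7384) (BT.node (nat_lit 7380) (BT.node (nat_lit 7378) (BT.node (nat_lit 7377) (BT.leaf (.pt (nat_lit 6680) (nat_lit 3))) (BT.leaf (.cov [] [⟨(nat_lit 3178), (nat_lit 4484), []⟩, ⟨(nat_lit 3180), (nat_lit 5750), [(nat_lit 473), (nat_lit 785)]⟩, ⟨(nat_lit 3183), (nat_lit 6655), [(nat_lit 1106), (nat_lit 802)]⟩, ⟨(nat_lit 3184), (nat_lit 6684), [(nat_lit 551), (nat_lit 880)]⟩, ⟨(nat_lit 3187), (nat_lit 5822), [(nat_lit 428), (nat_lit 1)]⟩, ⟨(nat_lit 3197), (nat_lit 5940), [(nat_lit 1012), (nat_lit 586)]⟩, ⟨(nat_lit 3199), (nat_lit 4930), [(nat_lit 695), (nat_lit 431)]⟩, ⟨(nat_lit 3200), (nat_lit 4688), [(nat_lit 433), (nat_lit 125)]⟩, ⟨(nat_lit 3203), (nat_lit 5289), [(nat_lit 865), (nat_lit 875)]⟩, ⟨(nat_lit 3205), (nat_lit 6888), [(nat_lit 503), (nat_lit 711)]⟩, ⟨(nat_lit 3207), (nat_lit 5773), [(nat_lit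 630), (nat_lit 1133)]⟩, ⟨(nat_lit 3208), (nat_lit 4738), [(nat_lit 211), (nat_lit 431)]⟩, ⟨(nat_lit 3209), (nat_lit 7132), [(nat_lit 433), (nat_lit 818)]⟩, ⟨(nat_lit 3213), (nat_lit 5651), [(nat_lit 913), (nat_lit 398)]⟩, ⟨(nat_lit 3269), (nat_lit 4556), [(nat_lit 970), (nat_lit 455)]⟩, ⟨(nat_lit 3564), (nat_lit 6726), [(nat_lit 93), (nat_lit 936)]⟩, ⟨(nat_lit 3572), (nat_lit 4487), [(nat_lit 441), (nat_lit 1165)]⟩, ⟨(nat_lit 3579), (nat_lit 4561), [(nat_lit 466), (nat_lit 330)]⟩, ⟨(nat_lit 3807), (nat_lit 6620), [(nat_lit 462), (nat_lit 1503)]⟩, ⟨(nat_lit 3935), (nat_lit 7090), [(nat_lit 213), (nat_lit 1053)]⟩, ⟨(nat_lit 3963), (nat_lit 5379), [(nat_lit 373), (nat_lit 206)]⟩, ⟨(nat_lit 3990), (nat_lit 6054), [(nat_lit 827), (nat_lit 109)]⟩, ⟨(nat_lit 4039), (nat_lit 7148), [(nat_lit 915), (nat_lit 891)]⟩, ⟨(nat_lit 4045), (nat_lit 4587), [(nat_lit 441), (nat_lit 363)]⟩, ⟨(nat_lit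 4124), (nat_lit 5275), [(nat_lit 284), (nat_lit 818)]⟩, ⟨(nat_lit 4135), (nat_lit 6337), [(nat_lit 129), (nat_lit 0)]⟩, ⟨(nat_lit 4170), (nat_lit 7376), [(nat_lit 95), (nat_lit 247)]⟩, ⟨(nat_lit 4191), (nat_lit 5281), [(nat_lit 241), (nat_lit 140)]⟩, ⟨(nat_lit 4204), (nat_lit 4646), [(nat_lit 376), (nat_lit 712)]⟩, ⟨(nat_lit 4314), (nat_lit 6260), [(nat_lit 1189), (nat_lit 390)]⟩, ⟨(nat_lit 4339), (nat_lit 4890), []⟩]))) (BT.node (nat_lit 7379) (BT.leaf (.emul [(nat_lit 3179), (nat_lit 3567)])) (BT.leaf (.emul [(nat_lit 3191), (nat_lit 7378)])))) (BT.node (nat_lit 7382) (BT.node (nat_lit 7381) (BT.leaf (.emul [(nat_lit 3179), (nat_lit 7379)])) (BT.leaf (.emul [(nat_lit 4303), (nat_lit 7380)]))) (BT.node (nat_lit 7383) (BT.leaf (.emul [(nat_lit 3191), (nat_lit 4177)])) (BT.leaf (.emul [(nat_lit 4303), (nat_lit 7382)]))))) (BT.node (nat_lit 7388) (BT.node (nat_lit 7386) (BT.node (nat_lit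 7385) (BT.leaf (.emul [(nat_lit 4304), (nat_lit 4175)])) (BT.leaf (.pt (nat_lit 4908) (nat_lit 4)))) (BT.node (nat_lit 7387) (BT.leaf (.pt (nat_lit 7385) (nat_lit 1))) (BT.leaf (.pt (nat_lit 5737) (nat_lit 3))))) (BT.node (nat_lit 7390) (BT.node (nat_lit 7389) (BT.leaf (.pt (nat_lit 6989) (nat_lit 1))) (BT.leaf (.pt (nat_lit 7388) (nat_lit 4)))) (BT.node (nat_lit 7391) (BT.leaf (.cov [] [⟨(nat_lit 3216), (nat_lit 4484), []⟩, ⟨(nat_lit 3218), (nat_lit 4886), [(nat_lit 150), (nat_lit 795)]⟩, ⟨(nat_lit 3220), (nat_lit 4956), [(nat_lit 1242), (nat_lit 1376)]⟩, ⟨(nat_lit 3221), (nat_lit 6227), [(nat_lit 900), (nat_lit 334)]⟩, ⟨(nat_lit 3225), (nat_lit 7386), [(nat_lit 150), (nat_lit 785)]⟩, ⟨(nat_lit 3226), (nat_lit 5175), [(nat_lit 522), (nat_lit 124)]⟩, ⟨(nat_lit 3229), (nat_lit 6636), [(nat_lit 193), (nat_lit 1247)]⟩, ⟨(nat_lit 3230), (nat_lit 5769), [(nat_lit 469), (nat_lit 1247)]⟩,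 ⟨(nat_lit 3233), (nat_lit 5113), [(nat_lit 97), (nat_lit 379)]⟩, ⟨(nat_lit 3234), (nat_lit 5384), [(nat_lit 539), (nat_lit 1223)]⟩, ⟨(nat_lit 3236), (nat_lit 6301), [(nat_lit 522), (nat_lit 347)]⟩, ⟨(nat_lit 3238), (nat_lit 5402), [(nat_lit 166), (nat_lit 662)]⟩, ⟨(nat_lit 3240), (nat_lit 4811), [(nat_lit 733), (nat_lit 506)]⟩, ⟨(nat_lit 3242), (nat_lit 7052), [(nat_lit 175), (nat_lit 875)]⟩, ⟨(nat_lit 3245), (nat_lit 5690), [(nat_lit 447), (nat_lit 401)]⟩, ⟨(nat_lit 3246), (nat_lit 7387), [(nat_lit 582), (nat_lit 307)]⟩, ⟨(nat_lit 3249), (nat_lit 5068), [(nat_lit 900), (nat_lit 1605)]⟩, ⟨(nat_lit 3250), (nat_lit 6065), [(nat_lit 696), (nat_lit 556)]⟩, ⟨(nat_lit 3252), (nat_lit 6447), [(nat_lit 355), (nat_lit 1025)]⟩, ⟨(nat_lit 3254), (nat_lit 7349), [(nat_lit 726), (nat_lit 1091)]⟩, ⟨(nat_lit 3256), (nat_lit 7243), [(nat_lit 433), (nat_lit 204)]⟩, ⟨(nat_lit 3258), (nat_lit 5044),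 [(nat_lit 568), (nat_lit 1849)]⟩, ⟨(nat_lit 3261), (nat_lit 6520), [(nat_lit 237), (nat_lit 252)]⟩, ⟨(nat_lit 3266), (nat_lit 5139), [(nat_lit 675), (nat_lit 90)]⟩, ⟨(nat_lit 3267), (nat_lit 6606), [(nat_lit 175), (nat_lit 432)]⟩, ⟨(nat_lit 3270), (nat_lit 6955), [(nat_lit 321), (nat_lit 169)]⟩, ⟨(nat_lit 3273), (nat_lit 5123), [(nat_lit 567), (nat_lit 1083)]⟩, ⟨(nat_lit 3274), (nat_lit 4833), [(nat_lit 690), (nat_lit 751)]⟩, ⟨(nat_lit 3276), (nat_lit 5921), [(nat_lit 781), (nat_lit 982)]⟩, ⟨(nat_lit 3278), (nat_lit 7165), [(nat_lit 261), (nat_lit 1091)]⟩, ⟨(nat_lit 3281), (nat_lit 7389), [(nat_lit 283), (nat_lit 1123)]⟩, ⟨(nat_lit 3283), (nat_lit 7309), [(nat_lit 503), (nat_lit 459)]⟩, ⟨(nat_lit 3284), (nat_lit 4716), [(nat_lit 351), (nat_lit 248)]⟩, ⟨(nat_lit 3287), (nat_lit 6044), [(nat_lit 1437), (nat_lit 906)]⟩, ⟨(nat_lit 3288), (nat_lit 6443), [(nat_lit 928), (nat_lit 808)]⟩,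 ⟨(nat_lit 3290), (nat_lit 7250), [(nat_lit 239), (nat_lit 1216)]⟩, ⟨(nat_lit 3292), (nat_lit 5608), [(nat_lit 620), (nat_lit 1204)]⟩, ⟨(nat_lit 3295), (nat_lit 5128), [(nat_lit 434), (nat_lit 797)]⟩, ⟨(nat_lit 3297), (nat_lit 6479), [(nat_lit 526), (nat_lit 798)]⟩, ⟨(nat_lit 3298), (nat_lit 4622), [(nat_lit 257), (nat_lit 596)]⟩])) (BT.leaf (.pt (nat_lit 6367) (nat_lit 4)))))))) (BT.node (nat_lit 7408) (BT.node (nat_lit 7400) (BT.node (nat_lit 7396) (BT.node (nat_lit 7394) (BT.node (nat_lit 7393) (BT.leaf (.pt (nat_lit 5003) (nat_lit 1))) (BT.leaf (.pt (nat_lit 7392) (nat_lit 4)))) (BT.node (nat_lit 7395) (BT.leaf (.pt (nat_lit 7117) (nat_lit 3))) (BT.leaf (.pt (nat_lit 6813) (nat_lit 3))))) (BT.node (nat_lit 7398) (BT.node (nat_lit 7397) (BT.leaf (.cov [] [⟨(nat_lit 3300), (nat_lit 5256), [(nat_lit 336), (nat_lit 368)]⟩, ⟨(nat_lit 3303), (nat_lit 6194), [(nat_lit 474), (nat_lit 557)]⟩,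 ⟨(nat_lit 3305), (nat_lit 4521), [(nat_lit 422), (nat_lit 264)]⟩, ⟨(nat_lit 3306), (nat_lit 4659), [(nat_lit 255), (nat_lit 681)]⟩, ⟨(nat_lit 3308), (nat_lit 6402), [(nat_lit 905), (nat_lit 288)]⟩, ⟨(nat_lit 3310), (nat_lit 5628), [(nat_lit 734), (nat_lit 1279)]⟩, ⟨(nat_lit 3313), (nat_lit 7391), [(nat_lit 227), (nat_lit 289)]⟩, ⟨(nat_lit 3315), (nat_lit 6814), [(nat_lit 300), (nat_lit 693)]⟩, ⟨(nat_lit 3319), (nat_lit 5511), [(nat_lit 177), (nat_lit 400)]⟩, ⟨(nat_lit 3321), (nat_lit 6031), [(nat_lit 356), (nat_lit 439)]⟩, ⟨(nat_lit 3323), (nat_lit 7332), [(nat_lit 226), (nat_lit 460)]⟩, ⟨(nat_lit 3324), (nat_lit 5408), [(nat_lit 441), (nat_lit 751)]⟩, ⟨(nat_lit 3326), (nat_lit 5043), [(nat_lit 96), (nat_lit 1279)]⟩, ⟨(nat_lit 3329), (nat_lit 7393), [(nat_lit 1437), (nat_lit 495)]⟩, ⟨(nat_lit 3331), (nat_lit 6096), [(nat_lit 194), (nat_lit 248)]⟩, ⟨(nat_lit 3333), (nat_lit 4688), [(nat_lit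 510), (nat_lit 1537)]⟩, ⟨(nat_lit 3335), (nat_lit 4553), [(nat_lit 1026), (nat_lit 140)]⟩, ⟨(nat_lit 3337), (nat_lit 6325), [(nat_lit 260), (nat_lit 170)]⟩, ⟨(nat_lit 3338), (nat_lit 4579), [(nat_lit 941), (nat_lit 1375)]⟩, ⟨(nat_lit 3341), (nat_lit 5529), [(nat_lit 241), (nat_lit 1025)]⟩, ⟨(nat_lit 3343), (nat_lit 6885), [(nat_lit 507), (nat_lit 573)]⟩, ⟨(nat_lit 3345), (nat_lit 7277), [(nat_lit 696), (nat_lit 171)]⟩, ⟨(nat_lit 3346), (nat_lit 5110), [(nat_lit 527)]⟩, ⟨(nat_lit 3349), (nat_lit 7394), [(nat_lit 1162), (nat_lit 225)]⟩, ⟨(nat_lit 3351), (nat_lit 4873), [(nat_lit 510), (nat_lit 1001)]⟩, ⟨(nat_lit 3352), (nat_lit 5079), [(nat_lit 970), (nat_lit 330)]⟩, ⟨(nat_lit 3355), (nat_lit 7395), [(nat_lit 237), (nat_lit 525)]⟩, ⟨(nat_lit 3356), (nat_lit 6047), [(nat_lit 786), (nat_lit 204)]⟩, ⟨(nat_lit 3359), (nat_lit 6826), [(nat_lit 551), (nat_lit 647)]⟩, ⟨(nat_lit 3360), (nat_lit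 7290), [(nat_lit 746), (nat_lit 171)]⟩, ⟨(nat_lit 3362), (nat_lit 6552), [(nat_lit 164), (nat_lit 288)]⟩, ⟨(nat_lit 3365), (nat_lit 6238), [(nat_lit 450), (nat_lit 1745)]⟩, ⟨(nat_lit 3367), (nat_lit 5078), [(nat_lit 19), (nat_lit 694)]⟩, ⟨(nat_lit 3368), (nat_lit 4784), [(nat_lit 267), (nat_lit 401)]⟩, ⟨(nat_lit 3371), (nat_lit 5015), [(nat_lit 991), (nat_lit 91)]⟩, ⟨(nat_lit 3372), (nat_lit 5606), [(nat_lit 511), (nat_lit 936)]⟩, ⟨(nat_lit 3374), (nat_lit 6757), [(nat_lit 734), (nat_lit 868)]⟩, ⟨(nat_lit 3375), (nat_lit 5467), [(nat_lit 492), (nat_lit 813)]⟩, ⟨(nat_lit 3378), (nat_lit 7160), [(nat_lit 953), (nat_lit 555)]⟩, ⟨(nat_lit 3379), (nat_lit 6253), [(nat_lit 151), (nat_lit 573)]⟩])) (BT.leaf (.pt (nat_lit 6554) (nat_lit 1)))) (BT.node (nat_lit 7399) (BT.leaf (.pt (nat_lit 5857) (nat_lit 1))) (BT.leaf (.pt (nat_lit 7398) (nat_lit 3)))))) (BT.node (nat_lit 7404) (BT.node (nat_lit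 7402) (BT.node (nat_lit 7401) (BT.leaf (.pt (nat_lit 7174) (nat_lit 3))) (BT.leaf (.pt (nat_lit 5299) (nat_lit 4)))) (BT.node (nat_lit 7403) (BT.leaf (.pt (nat_lit 5699) (nat_lit 3))) (BT.leaf (.cov [] [⟨(nat_lit 3381), (nat_lit 5293), [(nat_lit 391), (nat_lit 396)]⟩, ⟨(nat_lit 3383), (nat_lit 7300), [(nat_lit 373), (nat_lit 1478)]⟩, ⟨(nat_lit 3386), (nat_lit 5827), [(nat_lit 164), (nat_lit 581)]⟩, ⟨(nat_lit 3388), (nat_lit 7397), [(nat_lit 393), (nat_lit 432)]⟩, ⟨(nat_lit 3390), (nat_lit 5640), [(nat_lit 197), (nat_lit 712)]⟩, ⟨(nat_lit 3391), (nat_lit 7096), [(nat_lit 152), (nat_lit 368)]⟩, ⟨(nat_lit 3393), (nat_lit 5238), [(nat_lit 513), (nat_lit 974)]⟩, ⟨(nat_lit 3395), (nat_lit 6689), [(nat_lit 92), (nat_lit 400)]⟩, ⟨(nat_lit 3397), (nat_lit 5164), [(nat_lit 216), (nat_lit 252)]⟩, ⟨(nat_lit 3399), (nat_lit 4624), [(nat_lit 905), (nat_lit 532)]⟩, ⟨(nat_lit 3402), (nat_lit 5865),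 [(nat_lit 705), (nat_lit 751)]⟩, ⟨(nat_lit 3404), (nat_lit 6511), [(nat_lit 424), (nat_lit 795)]⟩, ⟨(nat_lit 3405), (nat_lit 6379), [(nat_lit 416), (nat_lit 361)]⟩, ⟨(nat_lit 3407), (nat_lit 7149), [(nat_lit 226), (nat_lit 375)]⟩, ⟨(nat_lit 3409), (nat_lit 6759), [(nat_lit 619), (nat_lit 972)]⟩, ⟨(nat_lit 3411), (nat_lit 7399), [(nat_lit 774), (nat_lit 627)]⟩, ⟨(nat_lit 3413), (nat_lit 7200), [(nat_lit 387), (nat_lit 1226)]⟩, ⟨(nat_lit 3415), (nat_lit 6434), [(nat_lit 970), (nat_lit 236)]⟩, ⟨(nat_lit 3417), (nat_lit 6707), [(nat_lit 1235), (nat_lit 386)]⟩, ⟨(nat_lit 3418), (nat_lit 4634), [(nat_lit 214), (nat_lit 627)]⟩, ⟨(nat_lit 3419), (nat_lit 7400), [(nat_lit 1308), (nat_lit 740)]⟩, ⟨(nat_lit 3421), (nat_lit 5689), [(nat_lit 167), (nat_lit 163)]⟩, ⟨(nat_lit 3423), (nat_lit 5977), [(nat_lit 463), (nat_lit 625)]⟩, ⟨(nat_lit 3424), (nat_lit 4909), [(nat_lit 271), (nat_lit 693)]⟩,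 ⟨(nat_lit 3429), (nat_lit 4855), [(nat_lit 630), (nat_lit 173)]⟩, ⟨(nat_lit 3431), (nat_lit 7323), [(nat_lit 462), (nat_lit 504)]⟩, ⟨(nat_lit 3433), (nat_lit 7385), [(nat_lit 212), (nat_lit 234)]⟩, ⟨(nat_lit 3434), (nat_lit 5285), [(nat_lit 1012), (nat_lit 1109)]⟩, ⟨(nat_lit 3436), (nat_lit 6263), [(nat_lit 928), (nat_lit 738)]⟩, ⟨(nat_lit 3438), (nat_lit 5106), [(nat_lit 539), (nat_lit 162)]⟩, ⟨(nat_lit 3441), (nat_lit 5774), [(nat_lit 705), (nat_lit 1478)]⟩, ⟨(nat_lit 3443), (nat_lit 7401), [(nat_lit 1189), (nat_lit 1)]⟩, ⟨(nat_lit 3444), (nat_lit 6115), [(nat_lit 550), (nat_lit 396)]⟩, ⟨(nat_lit 3447), (nat_lit 6281), [(nat_lit 829), (nat_lit 0)]⟩, ⟨(nat_lit 3448), (nat_lit 6236), [(nat_lit 1012), (nat_lit 593)]⟩, ⟨(nat_lit 3451), (nat_lit 6521), [(nat_lit 945), (nat_lit 432)]⟩, ⟨(nat_lit 3453), (nat_lit 5014), [(nat_lit 195), (nat_lit 512)]⟩, ⟨(nat_lit 3456), (nat_lit 7136), [(nat_lit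 653), (nat_lit 1871)]⟩, ⟨(nat_lit 3457), (nat_lit 7211), [(nat_lit 433), (nat_lit 88)]⟩, ⟨(nat_lit 3459), (nat_lit 7402), [(nat_lit 865), (nat_lit 91)]⟩])))) (BT.node (nat_lit 7406) (BT.node (nat_lit 7405) (BT.leaf (.pt (nat_lit 5632) (nat_lit 1))) (BT.leaf (.pt (nat_lit 7072) (nat_lit 4)))) (BT.node (nat_lit 7407) (BT.leaf (.pt (nat_lit 6661) (nat_lit 4))) (BT.leaf (.pt (nat_lit 6845) (nat_lit 4))))))) (BT.node (nat_lit 7416) (BT.node (nat_lit 7412) (BT.node (nat_lit 7410) (BT.node (nat_lit 7409) (BT.leaf (.pt (nat_lit 5561) (nat_lit 4))) (BT.leaf (.pt (nat_lit 6363) (nat_lit 3)))) (BT.node (nat_lit 7411) (BT.leaf (.pt (nat_lit 5084) (nat_lit 3))) (BT.leaf (.cov [] [⟨(nat_lit 3461), (nat_lit 5576), [(nat_lit 434), (nat_lit 141)]⟩, ⟨(nat_lit 3462), (nat_lit 5345), [(nat_lit 1026), (nat_lit 572)]⟩, ⟨(nat_lit 3465), (nat_lit 5643), [(nat_lit 394), (nat_lit 347)]⟩, ⟨(nat_lit 3466), (nat_lit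 7404), [(nat_lit 1337), (nat_lit 864)]⟩, ⟨(nat_lit 3469), (nat_lit 6952), [(nat_lit 150), (nat_lit 712)]⟩, ⟨(nat_lit 3471), (nat_lit 6972), [(nat_lit 1242), (nat_lit 333)]⟩, ⟨(nat_lit 3473), (nat_lit 7405), [(nat_lit 358), (nat_lit 972)]⟩, ⟨(nat_lit 3474), (nat_lit 4839), [(nat_lit 970), (nat_lit 265)]⟩, ⟨(nat_lit 3475), (nat_lit 5101), [(nat_lit 977), (nat_lit 740)]⟩, ⟨(nat_lit 3477), (nat_lit 6156), [(nat_lit 467), (nat_lit 89)]⟩, ⟨(nat_lit 3478), (nat_lit 6343), [(nat_lit 503), (nat_lit 586)]⟩, ⟨(nat_lit 3480), (nat_lit 6307), [(nat_lit 527), (nat_lit 439)]⟩, ⟨(nat_lit 3482), (nat_lit 6453), [(nat_lit 357), (nat_lit 864)]⟩, ⟨(nat_lit 3485), (nat_lit 7327), [(nat_lit 1189), (nat_lit 892)]⟩, ⟨(nat_lit 3487), (nat_lit 4998), [(nat_lit 165), (nat_lit 223)]⟩, ⟨(nat_lit 3490), (nat_lit 5389), [(nat_lit 741), (nat_lit 606)]⟩, ⟨(nat_lit 3492), (nat_lit 6602), [(nat_lit 900), (nat_lit 431)]⟩,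 ⟨(nat_lit 3493), (nat_lit 5243), [(nat_lit 474), (nat_lit 236)]⟩, ⟨(nat_lit 3495), (nat_lit 6077), [(nat_lit 175), (nat_lit 798)]⟩, ⟨(nat_lit 3496), (nat_lit 5983), [(nat_lit 299), (nat_lit 736)]⟩, ⟨(nat_lit 3498), (nat_lit 4557), [(nat_lit 696), (nat_lit 898)]⟩, ⟨(nat_lit 3500), (nat_lit 7406), [(nat_lit 445), (nat_lit 252)]⟩, ⟨(nat_lit 3503), (nat_lit 5857), [(nat_lit 522), (nat_lit 361)]⟩, ⟨(nat_lit 3504), (nat_lit 7407), [(nat_lit 942), (nat_lit 497)]⟩, ⟨(nat_lit 3506), (nat_lit 5506), [(nat_lit 582), (nat_lit 1091)]⟩, ⟨(nat_lit 3508), (nat_lit 7408), [(nat_lit 1013)]⟩, ⟨(nat_lit 3510), (nat_lit 6206), [(nat_lit 782), (nat_lit 864)]⟩, ⟨(nat_lit 3511), (nat_lit 6635), [(nat_lit 473), (nat_lit 506)]⟩, ⟨(nat_lit 3513), (nat_lit 7326), [(nat_lit 746), (nat_lit 736)]⟩, ⟨(nat_lit 3515), (nat_lit 5220), [(nat_lit 428), (nat_lit 651)]⟩, ⟨(nat_lit 3518), (nat_lit 7409), [(nat_lit 128),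 (nat_lit 596)]⟩, ⟨(nat_lit 3519), (nat_lit 6902), [(nat_lit 195), (nat_lit 1279)]⟩, ⟨(nat_lit 3521), (nat_lit 7317), [(nat_lit 349), (nat_lit 490)]⟩, ⟨(nat_lit 3523), (nat_lit 4800), [(nat_lit 1173), (nat_lit 127)]⟩, ⟨(nat_lit 3525), (nat_lit 6957), [(nat_lit 1103), (nat_lit 252)]⟩, ⟨(nat_lit 3526), (nat_lit 6925), [(nat_lit 696), (nat_lit 142)]⟩, ⟨(nat_lit 3527), (nat_lit 5453), [(nat_lit 261), (nat_lit 222)]⟩, ⟨(nat_lit 3528), (nat_lit 6135), [(nat_lit 441), (nat_lit 572)]⟩, ⟨(nat_lit 3530), (nat_lit 6202), [(nat_lit 129), (nat_lit 1211)]⟩, ⟨(nat_lit 3531), (nat_lit 7410), [(nat_lit 815), (nat_lit 328)]⟩])))) (BT.node (nat_lit 7414) (BT.node (nat_lit 7413) (BT.leaf (.pt (nat_lit 6659) (nat_lit 3))) (BT.leaf (.pt (nat_lit 5996) (nat_lit 3)))) (BT.node (nat_lit 7415) (BT.leaf (.pt (nat_lit 6871) (nat_lit 4))) (BT.leaf (.pt (nat_lit 7115) (nat_lit 1)))))) (BT.node (nat_lit 7420) (BT.node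 (nat_lit 7418) (BT.node (nat_lit 7417) (BT.leaf (.pt (nat_lit 6918) (nat_lit 3))) (BT.leaf (.pt (nat_lit 6703) (nat_lit 4)))) (BT.node (nat_lit 7419) (BT.leaf (.cov [] [⟨(nat_lit 3533), (nat_lit 6322), [(nat_lit 467), (nat_lit 1165)]⟩, ⟨(nat_lit 3534), (nat_lit 7229), [(nat_lit 350), (nat_lit 169)]⟩, ⟨(nat_lit 3535), (nat_lit 5007), [(nat_lit 424), (nat_lit 141)]⟩, ⟨(nat_lit 3536), (nat_lit 7412), [(nat_lit 832), (nat_lit 491)]⟩, ⟨(nat_lit 3538), (nat_lit 6012), [(nat_lit 874)]⟩, ⟨(nat_lit 3539), (nat_lit 7117), [(nat_lit 630), (nat_lit 682)]⟩, ⟨(nat_lit 3540), (nat_lit 6723), [(nat_lit 990), (nat_lit 455)]⟩, ⟨(nat_lit 3542), (nat_lit 6468), [(nat_lit 280), (nat_lit 1605)]⟩, ⟨(nat_lit 3543), (nat_lit 4710), [(nat_lit 350), (nat_lit 401)]⟩, ⟨(nat_lit 3546), (nat_lit 6312), [(nat_lit 2124), (nat_lit 252)]⟩, ⟨(nat_lit 3547), (nat_lit 6335), [(nat_lit 130), (nat_lit 752)]⟩, ⟨(nat_lit 3548),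 (nat_lit 5213), [(nat_lit 1099), (nat_lit 248)]⟩, ⟨(nat_lit 3550), (nat_lit 6801), [(nat_lit 178), (nat_lit 497)]⟩, ⟨(nat_lit 3552), (nat_lit 7083), [(nat_lit 544), (nat_lit 586)]⟩, ⟨(nat_lit 3554), (nat_lit 7222), [(nat_lit 675), (nat_lit 362)]⟩, ⟨(nat_lit 3556), (nat_lit 4990), [(nat_lit 402), (nat_lit 142)]⟩, ⟨(nat_lit 3558), (nat_lit 5446), [(nat_lit 209), (nat_lit 821)]⟩, ⟨(nat_lit 3559), (nat_lit 5541), [(nat_lit 1292), (nat_lit 203)]⟩, ⟨(nat_lit 3561), (nat_lit 5122), [(nat_lit 257), (nat_lit 1478)]⟩, ⟨(nat_lit 3563), (nat_lit 6199), [(nat_lit 1087), (nat_lit 504)]⟩, ⟨(nat_lit 3565), (nat_lit 7413), [(nat_lit 227), (nat_lit 572)]⟩, ⟨(nat_lit 3573), (nat_lit 6191), [(nat_lit 582), (nat_lit 1100)]⟩, ⟨(nat_lit 3574), (nat_lit 7414), [(nat_lit 470), (nat_lit 584)]⟩, ⟨(nat_lit 3575), (nat_lit 5353), [(nat_lit 273), (nat_lit 139)]⟩, ⟨(nat_lit 3577), (nat_lit 5352), [(nat_lit 1235),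 (nat_lit 449)]⟩, ⟨(nat_lit 3582), (nat_lit 7415), [(nat_lit 696), (nat_lit 263)]⟩, ⟨(nat_lit 3583), (nat_lit 7037), [(nat_lit 1014), (nat_lit 835)]⟩, ⟨(nat_lit 3585), (nat_lit 5393), [(nat_lit 387), (nat_lit 1939)]⟩, ⟨(nat_lit 3587), (nat_lit 5570), [(nat_lit 1099), (nat_lit 400)]⟩, ⟨(nat_lit 3588), (nat_lit 5004), [(nat_lit 178), (nat_lit 605)]⟩, ⟨(nat_lit 3590), (nat_lit 5199), [(nat_lit 393), (nat_lit 646)]⟩, ⟨(nat_lit 3591), (nat_lit 5665), [(nat_lit 462), (nat_lit 455)]⟩, ⟨(nat_lit 3592), (nat_lit 4899), [(nat_lit 928), (nat_lit 597)]⟩, ⟨(nat_lit 3604), (nat_lit 4661), [(nat_lit 905), (nat_lit 205)]⟩, ⟨(nat_lit 3639), (nat_lit 7416), [(nat_lit 761), (nat_lit 625)]⟩, ⟨(nat_lit 3649), (nat_lit 4492), [(nat_lit 237), (nat_lit 369)]⟩, ⟨(nat_lit 3660), (nat_lit 6231), [(nat_lit 130), (nat_lit 347)]⟩, ⟨(nat_lit 3675), (nat_lit 7417), [(nat_lit 1292), (nat_lit 438)]⟩, ⟨(nat_lit 3693),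 (nat_lit 4953), [(nat_lit 1032), (nat_lit 248)]⟩, ⟨(nat_lit 3697), (nat_lit 5760), [(nat_lit 508), (nat_lit 906)]⟩])) (BT.leaf (.pt (nat_lit 7046) (nat_lit 1))))) (BT.node (nat_lit 7422) (BT.node (nat_lit 7421) (BT.leaf (.pt (nat_lit 7230) (nat_lit 1))) (BT.leaf (.cov [] [⟨(nat_lit 3750), (nat_lit 6278), [(nat_lit 827), (nat_lit 449)]⟩, ⟨(nat_lit 3769), (nat_lit 7217), [(nat_lit 653), (nat_lit 389)]⟩, ⟨(nat_lit 3777), (nat_lit 6183), [(nat_lit 695), (nat_lit 347)]⟩, ⟨(nat_lit 3816), (nat_lit 5028), [(nat_lit 392), (nat_lit 288)]⟩, ⟨(nat_lit 3817), (nat_lit 6463), [(nat_lit 511), (nat_lit 530)]⟩, ⟨(nat_lit 3858), (nat_lit 6086), [(nat_lit 216), (nat_lit 384)]⟩, ⟨(nat_lit 3880), (nat_lit 5223), [(nat_lit 19), (nat_lit 1503)]⟩, ⟨(nat_lit 3903), (nat_lit 6751), [(nat_lit 450), (nat_lit 170)]⟩, ⟨(nat_lit 3909), (nat_lit 7278), [(nat_lit 1004), (nat_lit 1247)]⟩, ⟨(nat_lit 3915), (nat_lit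 7419), [(nat_lit 747), (nat_lit 320)]⟩, ⟨(nat_lit 3952), (nat_lit 7191), [(nat_lit 1257), (nat_lit 1375)]⟩, ⟨(nat_lit 3973), (nat_lit 5148), [(nat_lit 152), (nat_lit 906)]⟩, ⟨(nat_lit 4083), (nat_lit 7420), [(nat_lit 840), (nat_lit 490)]⟩, ⟨(nat_lit 4113), (nat_lit 5187), [(nat_lit 1103), (nat_lit 497)]⟩, ⟨(nat_lit 4160), (nat_lit 6827), [(nat_lit 43), (nat_lit 662)]⟩, ⟨(nat_lit 4192), (nat_lit 5272), [(nat_lit 95), (nat_lit 737)]⟩, ⟨(nat_lit 4227), (nat_lit 5821), [(nat_lit 392), (nat_lit 320)]⟩, ⟨(nat_lit 4257), (nat_lit 5620), [(nat_lit 214), (nat_lit 401)]⟩]))) (BT.node (nat_lit 7423) (BT.leaf (.cov [(nat_lit 7390), (nat_lit 7396), (nat_lit 7403), (nat_lit 7411), (nat_lit 7418), (nat_lit 7421)] [])) (BT.leaf (.pt (nat_lit 7386) (nat_lit 3)))))))))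
noncomputable def cF7424 : BT Fc := (BT.node (nat_lit 7456) (BT.node (nat_lit 7440) (BT.node (nat_lit 7432) (BT.node (nat_lit 7428) (BT.node (nat_lit 7426) (BT.node (nat_lit 7425) (BT.leaf ⟨(nat_lit 4), (nat_lit 2152), (nat_lit 0), (nat_lit 0x95f7e732015d384420803012004beb), (nat_lit 0), (nat_lit 0)⟩) (BT.leaf ⟨(nat_lit 4), (nat_lit 2117), (nat_lit 0), (nat_lit 0x5e7517adb1b74b46e58f134d3cef8d), (nat_lit 0), (nat_lit 0)⟩)) (BT.node (nat_lit 7427) (BT.leaf ⟨(nat_lit 4), (nat_lit 1746), (nat_lit 0), (nat_lit 0x73a6cba4a75cf83e7bae558eab2f1a), (nat_lit 0), (nat_lit 0)⟩) (BT.leaf ⟨(nat_lit 4), (nat_lit 1393), (nat_lit 0), (nat_lit 0x243cea4f060714086e4e5406247210), (nat_lit 0), (nat_lit 0)⟩))) (BT.node (nat_lit 7430) (BT.node (nat_lit 7429) (BT.leaf ⟨(nat_lit 4), (nat_lit 202), (nat_lit 0), (nat_lit 0x17aa7431cb5066d32de9ad17b263ad2), (nat_lit 0), (nat_lit 0)⟩) (BT.leaf ⟨(nat_lit 4), (nat_lit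 2509), (nat_lit 0), (nat_lit 0x2067995535f5a048480f75f1b86e74), (nat_lit 0), (nat_lit 0)⟩)) (BT.node (nat_lit 7431) (BT.leaf ⟨(nat_lit 5), (nat_lit 12), (nat_lit 0), (nat_lit 0x1000000000004000000000000000000000000000001000000004000000000004000000000000000000000000000000000000000000000000000000000000000000000000000000000000000000000000000200000000000000000000000000000000000000000000000010000000000000000000000000000000000020000010000000000080000000000000000000000000000000000022000000000000000000000000000000000000000010000000000000000000000000000001000100000800000010000000000000000000000000000000000000000000000000000000800000000000000000000000000000000000000000000000000000000000000004000000000000000000000000000000000000000000000000002004000000080000002000000000000008000000000000000000000200000100000000000000000000020000000000000000020000000000000000000000000000008000000000000000000000000000000000000000000000000000000000000000004000000000880000000000000000000000000000000000000000000000000000000800000000000000000400000000000000000000000000011000400000000800000000000000000000000000000000008000001),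 (nat_lit 0), (nat_lit 0)⟩) (BT.leaf ⟨(nat_lit 4), (nat_lit 2679), (nat_lit 0), (nat_lit 0x18e9d271ae774eb0a9ce16fcfb9d4d9), (nat_lit 0), (nat_lit 0)⟩)))) (BT.node (nat_lit 7436) (BT.node (nat_lit 7434) (BT.node (nat_lit 7433) (BT.leaf ⟨(nat_lit 4), (nat_lit 2289), (nat_lit 0), (nat_lit 0x5e6e978d8ddf37c2e8d16ee37d6f8c), (nat_lit 0), (nat_lit 0)⟩) (BT.leaf ⟨(nat_lit 5), (nat_lit 12), (nat_lit 0), (nat_lit 0x800000000000000000800200000000000000000000000000000000000000000000000000000080000000000000000000000000000000000000000000000000100000000000000000000000000000000000000000000000000000000000000000080000000000000000000000000000000000000000000000002000000000000000000000000000000000000000010000000000000000000080000000100000000000000000000000000000000000000000000000002000000000000000000000000000000000000000000000000000000000000000000000000000000000000000000000000000000000000000000400000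00000000000000000000100000000000000000080000000000001000000000000000000000000000000000000000000201000000000000000800000201000000000000000010020000000000000100000000000000008000000000000000000000000000000000000200400000000000000000000000000000000000000000000000200000000000000000000000002000000000000000000000000000000000000000000200000000000000000100000000200000000000000000000000000000000000000000000000000000000000000000000004000000000000000000000000), (nat_lit 0), (nat_lit 0)⟩)) (BT.node (nat_lit 7435) (BT.leaf ⟨(nat_lit 5), (nat_lit 12), (nat_lit 0), (nat_lit 0x80001000000000004080020000000000000000000000001000000004000000000004000000008000000000000000000000000000000000000000000000000010000000000000000000000000000000000000000200000000000000000000000008000000000000000000000010000000000000000000000000200000000020000010000000000080000000000001000000000000000000008022000010000000000000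000000000000000000000010000000000000200000000000000001000100000800000010000000000000000000000000000000000000000000000000000000800000000000000000000000040000000000000000000000000100000000000004000080000000000001000000000000000000000000000000002004000000281000002000000000800008201000000000000000010220000100000000100000000000020008000000000000020000000000000000000000200400008000000000000000000000000000000000000000000200000000000000000000004002000000880000000000000000000000000000000000200000000000000000100800000200000000000400000000000000000000000000011000400000000800000000000000004000000000000000008000001), (nat_lit 0), (nat_lit 0)⟩) (BT.leaf ⟨(nat_lit 2), (nat_lit 12), (nat_lit 12), (nat_lit 0x10028065f8081ce102f48111035c89e), (nat_lit 0), (nat_lit 0)⟩))) (BT.node (nat_lit 7438) (BT.node (nat_lit 7437) (BT.leaf ⟨(nat_lit 2), (nat_lit 12), (nat_lit 12), (nat_lit 0xa04447b41095c046fc81178158f32),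 (nat_lit 0), (nat_lit 0)⟩) (BT.leaf ⟨(nat_lit 2), (nat_lit 12), (nat_lit 12), (nat_lit 0x10019d500881202102f48110075c873), (nat_lit 0), (nat_lit 0)⟩)) (BT.node (nat_lit 7439) (BT.leaf ⟨(nat_lit 4), (nat_lit 3486), (nat_lit 0), (nat_lit 0x1400c0300241a36b9e46b3c420822e3), (nat_lit 0), (nat_lit 0)⟩) (BT.leaf ⟨(nat_lit 4), (nat_lit 3502), (nat_lit 0), (nat_lit 0xaa5dce27a68ae14caf9ea2ac55e95a), (nat_lit 0), (nat_lit 0)⟩))))) (BT.node (nat_lit 7448) (BT.node (nat_lit 7444) (BT.node (nat_lit 7442) (BT.node (nat_lit 7441) (BT.leaf ⟨(nat_lit 5), (nat_lit 13), (nat_lit 0), (nat_lit 0x1000000000000000000000000000004000000008000000000000000080000000000000040004000000000000020000000000000000000000000000000000800000000000000000000000000000000000000000000000000000000000800000000000000000000000000000000000000400000000000004020000000000002000000000000000000000004000000000000000000000000000000000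1000040000000004000000000000000000000000000000000002000000000000002000000000000000000200000000000000000020000000000200000000000000080000000000000000000000000000200200000000000000000000000000000000000000000000000000800000000000000000000000000000000010000000000000000000000000000000020000000000000000000000000010000000000000000000000000000000800000000000000000800000000000800000000000000000100000000000000000000000000000000000000000000000000000002000000000000000000000000800000000000000004000000000000000000000000000000000000000000000000000000000000000080000000000000000000000000100000000000000000000020000000000000000000000000000000000001), (nat_lit 0), (nat_lit 0)⟩) (BT.leaf ⟨(nat_lit 4), (nat_lit 3003), (nat_lit 0), (nat_lit 0x412f9d52008039d6f457200639820), (nat_lit 0), (nat_lit 0)⟩)) (BT.node (nat_lit 7443) (BT.leaf ⟨(nat_lit 4), (nat_lit 2400), (nat_lit 0), (nat_lit 0x2dd9d1ce749cfac1b49ef5ccb95615),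 (nat_lit 0), (nat_lit 0)⟩) (BT.leaf ⟨(nat_lit 5), (nat_lit 13), (nat_lit 0), (nat_lit 0x8000000000000000000000000000000000000000000008000000040000000000000100000000000008000000000000000000000000000000000000000000000000030000000000000000000000000001000000000200000400000400048000000000000000000000000800000000000000002000080000000000000000008000000080000000000000000000000000000000001000000000000000000000000000000000040000001000000000000000000000000000000000000000000000000000000100000000000000000000000000000001000000000000000000200000000000000200000000000000000000000000000000000000000000000000000000080000000000000000000000000000000000000000000000000000000000000000000800000000000000080008000000000000000000000000000000000000000000000000000000008000000100000000020000000000000000000000000000000000000000000000000000000000000000000000000000800000000000200400000000000400000000000000000000800000000000000000000000000000000000000000000000000000000000000000020000001000000000000000000000000000000000000000000000000004000000000),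 (nat_lit 0), (nat_lit 0)⟩))) (BT.node (nat_lit 7446) (BT.node (nat_lit 7445) (BT.leaf ⟨(nat_lit 4), (nat_lit 2282), (nat_lit 0), (nat_lit 0x1279d21769bd269356c17b152e4749f), (nat_lit 0), (nat_lit 0)⟩) (BT.leaf ⟨(nat_lit 4), (nat_lit 2827), (nat_lit 0), (nat_lit 0x3b7c8673d953ced319bae6a1e19c63), (nat_lit 0), (nat_lit 0)⟩)) (BT.node (nat_lit 7447) (BT.leaf ⟨(nat_lit 5), (nat_lit 13), (nat_lit 0), (nat_lit 0x400000002000000000000000000000000000000000000000000000000000000000000800020000000000400080000000000000400000000000000000000000008800000000000000000000000000000000000000000000000000000100000000000000000000000000080000000000800000000080000000000000000000004000000000000000000000000000000000000000000000000010000000200000000000000000000000000000000000000000000000000080004000000000000000000000001000000000000000000100000000000000010000000000000000010000000000008000000000000000400000000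000000200000000200800000000000000000080000000000000000000000000000000000000000000000000000000000000000000000000080000000000200000100000000000000000000000000000000000000000000000000002000000000000000000000000000004000000800000000000000000000000000000000000000000000000000000000000000080000000000100000000000000000000000000000000000000001000000000000000000000000000280000000000000000000000000000000040000000000000000000000000000000000000000000000000000000000), (nat_lit 0), (nat_lit 0)⟩) (BT.leaf ⟨(nat_lit 4), (nat_lit 2241), (nat_lit 0), (nat_lit 0x1ee9a4f38e64b485bf3addee92c187c), (nat_lit 0), (nat_lit 0)⟩)))) (BT.node (nat_lit 7452) (BT.node (nat_lit 7450) (BT.node (nat_lit 7449) (BT.leaf ⟨(nat_lit 4), (nat_lit 254), (nat_lit 0), (nat_lit 0x12004009030020860280e1a21044239), (nat_lit 0), (nat_lit 0)⟩) (BT.leaf ⟨(nat_lit 4), (nat_lit 2992), (nat_lit 0), (nat_lit 0x9aa473a4d3d89e4f49c93fb06a5d9e),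 (nat_lit 0), (nat_lit 0)⟩)) (BT.node (nat_lit 7451) (BT.leaf ⟨(nat_lit 4), (nat_lit 2644), (nat_lit 0), (nat_lit 0x1023004043d10820089ebab97e0038d), (nat_lit 0), (nat_lit 0)⟩) (BT.leaf ⟨(nat_lit 4), (nat_lit 2247), (nat_lit 0), (nat_lit 0x152ceb9d5cb0354aa9ddbaadb0e8c3d), (nat_lit 0), (nat_lit 0)⟩))) (BT.node (nat_lit 7454) (BT.node (nat_lit 7453) (BT.leaf ⟨(nat_lit 4), (nat_lit 1828), (nat_lit 0), (nat_lit 0x12389f811f3b040286e402824088010), (nat_lit 0), (nat_lit 0)⟩) (BT.leaf ⟨(nat_lit 5), (nat_lit 13), (nat_lit 0), (nat_lit 0x4000400000000000000000000000000000000000000000210000000000000000000000000000000200000000400000080000001000000000000000000000000000000410000000000000000000000000000000000000000000000000000000000000000000000000000000000000000000000000000200000000000000000000000000000000000000000010102000000000000000000000000800000000000020000000000000010010000000000000200000100000000040000000000000000080000000000000000010000000000000000000000040000000000400000000000800000000000000000000010000000000000000000000000000000000000000000000004000000000000000020000000000000000000000000000100000000000000000000000000000000000000000000000000000100000000000002000000000000000000800840000000000000000000000000000000000000010000000000000000000000800000000004000000000000000000002000000000000010000000000000000000000000000),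 (nat_lit 0), (nat_lit 0)⟩)) (BT.node (nat_lit 7455) (BT.leaf ⟨(nat_lit 4), (nat_lit 1906), (nat_lit 0), (nat_lit 0x11c900a5e3a8404028010124ba00c9f), (nat_lit 0), (nat_lit 0)⟩) (BT.leaf ⟨(nat_lit 5), (nat_lit 13), (nat_lit 0), (nat_lit 0x2000000000000000000000000000000000000000000000000000000000000000000000000000000000000000000000000000000000000000000000000000000000000000000000000000000000000000000000000000000000400000000000000000000000000000000000000000000000000000000000000000000000000000000000000000000000000000000000000000000000000000000000000000000000080000000000000000000000000000000000000000000000400000000000000000000000000000000000000000000000000000100000000000000000000000000000000000000000000000000000000000000000000000000000000000000000000000000000000000000000000000000000000000000000000000000000000000040000000000000000000000000000000000000000000000000000000000000000000000000000000000000000000000000000000000000000000000000000000000000000000000000000000000000000000000000000000000000000000000000000000000000004000000000000000000000000000000000000000000000000000000000),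 (nat_lit 0), (nat_lit 0)⟩)))))) (BT.node (nat_lit 7472) (BT.node (nat_lit 7464) (BT.node (nat_lit 7460) (BT.node (nat_lit 7458) (BT.node (nat_lit 7457) (BT.leaf ⟨(nat_lit 5), (nat_lit 13), (nat_lit 0), (nat_lit 0x10000000408000002000000000000040000000080000000000000008800000040000000400040900020000000208400080002000000000400000000000008000000000008800030000000004000400000000000001000000000200008400000500048210000000000000000000080804000000a0000004268008008000002100000000c000000080000040400000410000000000000000001000001010040000200004000000000000040000001000000000000002000000000080006000000000200000000200001100000000000020000100080200010103010000080000000000210000800000008200620200000000400010010000000200000200200900000000040000980080000000080000000000000000010010000000000000000000040000000000420800000000880000080008200010100010000000000000000000000000800000000000000000808006000100840000020020000000100004000000800000000100000000000000000000000000000000002000000000800000000180200c00000102000400004000000000800840800000000000001000000000000000000000010000280000080000000000800000020004001144000000000000002000020000000010000000000000000004000000001),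 (nat_lit 0), (nat_lit 0)⟩) (BT.leaf ⟨(nat_lit 5), (nat_lit 14), (nat_lit 0), (nat_lit 0x800000000000000000000000000000000000000000100000000000100000000000000000000000000000000000000000000000000000000000000000000000000000000000000000000040000000000000000000000000000000800000000000000000000000000000000000000000000000000000000000000001000000000000000000000000000400000000000000000000400000004000000000000000000000000000000000000000000000000000000000100000000000000000000000000000000000000001000000000000000000000000000000000000000100000000000000000000000000000000000000000000000000004000000000000000000000000000000000000000000000000000000000000000000000000000000000000000000000000000000000000000000002000000000000000000000000000000000000000000000000000000000000000000000000000000000000040000000000000001000000000000000000000000000000000000000001000000000000000000000000000000000000000000000000000000000000000000000000000000000000000000000000000000000000000000000000000000000000000000000000000000000000000000000000000000000000000000000001),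 (nat_lit 0), (nat_lit 0)⟩)) (BT.node (nat_lit 7459) (BT.leaf ⟨(nat_lit 2), (nat_lit 14), (nat_lit 14), (nat_lit 0x1cab9f2d2b07cef77d3ac2a73bbd3a4), (nat_lit 0), (nat_lit 0)⟩) (BT.leaf ⟨(nat_lit 2), (nat_lit 14), (nat_lit 14), (nat_lit 0x6ca7a44dce9ad36a287df9c85357db), (nat_lit 0), (nat_lit 0)⟩))) (BT.node (nat_lit 7462) (BT.node (nat_lit 7461) (BT.leaf ⟨(nat_lit 2), (nat_lit 14), (nat_lit 14), (nat_lit 0x1cdff5738f78b1a4a879e71dfc8472), (nat_lit 0), (nat_lit 0)⟩) (BT.leaf ⟨(nat_lit 2), (nat_lit 14), (nat_lit 14), (nat_lit 0xc2105c821e483b37ad533b513fcbe), (nat_lit 0), (nat_lit 0)⟩)) (BT.node (nat_lit 7463) (BT.leaf ⟨(nat_lit 2), (nat_lit 14), (nat_lit 14), (nat_lit 0x208408901088e4d7fba3019d060363), (nat_lit 0), (nat_lit 0)⟩) (BT.leaf ⟨(nat_lit 4), (nat_lit 3223), (nat_lit 0), (nat_lit 0x8836a0a0060a641042005008b8d3c3), (nat_lit 0), (nat_lit 0)⟩)))) (BT.node (nat_lit 7468) (BT.node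 (nat_lit 7466) (BT.node (nat_lit 7465) (BT.leaf ⟨(nat_lit 4), (nat_lit 2864), (nat_lit 0), (nat_lit 0x10223df327d695ef020805125844018), (nat_lit 0), (nat_lit 0)⟩) (BT.leaf ⟨(nat_lit 4), (nat_lit 2512), (nat_lit 0), (nat_lit 0xbd35a6e4a2f9d13544d957bc36a6f4), (nat_lit 0), (nat_lit 0)⟩)) (BT.node (nat_lit 7467) (BT.leaf ⟨(nat_lit 4), (nat_lit 1819), (nat_lit 0), (nat_lit 0x1c876a26ade9f6f721b2ce9bd626ef6), (nat_lit 0), (nat_lit 0)⟩) (BT.leaf ⟨(nat_lit 4), (nat_lit 1474), (nat_lit 0), (nat_lit 0x1f1860239105c3640155ce93ce0f080), (nat_lit 0), (nat_lit 0)⟩))) (BT.node (nat_lit 7470) (BT.node (nat_lit 7469) (BT.leaf ⟨(nat_lit 4), (nat_lit 1473), (nat_lit 0), (nat_lit 0x1519802104053d29d05fd3d802c68b9), (nat_lit 0), (nat_lit 0)⟩) (BT.leaf ⟨(nat_lit 4), (nat_lit 1123), (nat_lit 0), (nat_lit 0x60346e4660040417d7320044171904), (nat_lit 0), (nat_lit 0)⟩)) (BT.node (nat_lit 7471) (BT.leaf ⟨(nat_lit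 5), (nat_lit 15), (nat_lit 0), (nat_lit 0x10000000000000000000000000000000000010000000000000000000000000000000000000000000000000000000000000000000000000000000000000000000000008000004000004000000000000000000000000000000000000000000000000000000000000000008000000000020000000000000000000000000000080000000000000000010000000000000000000000000000000000000000004000000000000080000000000000000008000000000000000000000000000080000000000000000000000000000000000000000000000000000000000000000000000000000000008000000000000000000008000000000000400002000000000000000000000000000000000200010000000000000000000020000000000600000000000000000000200000000000040000000000800000080000000000100000000000000000002000000000000000000000000000000000000000000000000000000000000000000000000000000000000000000100000040000000000000000000000000000000100000100000000000000000000000002000000000000100000000008000000000000000000000001000000000004000000000000002000000040001),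 (nat_lit 0), (nat_lit 0)⟩) (BT.leaf ⟨(nat_lit 4), (nat_lit 3247), (nat_lit 0), (nat_lit 0xa1f580c3ba223c2f4edf895c0c408), (nat_lit 0), (nat_lit 0)⟩))))) (BT.node (nat_lit 7480) (BT.node (nat_lit 7476) (BT.node (nat_lit 7474) (BT.node (nat_lit 7473) (BT.leaf ⟨(nat_lit 4), (nat_lit 2904), (nat_lit 0), (nat_lit 0x6c8e76e45e9bdb5a6d4df89ab78721), (nat_lit 0), (nat_lit 0)⟩) (BT.leaf ⟨(nat_lit 4), (nat_lit 2795), (nat_lit 0), (nat_lit 0x11b9328b7ba5f372c3fe6265e7c2e8d), (nat_lit 0), (nat_lit 0)⟩)) (BT.node (nat_lit 7475) (BT.leaf ⟨(nat_lit 4), (nat_lit 1319), (nat_lit 0), (nat_lit 0xae7a8b6c532ac55daa9d734d1dc95a), (nat_lit 0), (nat_lit 0)⟩) (BT.leaf ⟨(nat_lit 4), (nat_lit 2821), (nat_lit 0), (nat_lit 0x49c9792b2dff6c87b2f6e16c6ae02f), (nat_lit 0), (nat_lit 0)⟩))) (BT.node (nat_lit 7478) (BT.node (nat_lit 7477) (BT.leaf ⟨(nat_lit 4), (nat_lit 2483), (nat_lit 0), (nat_lit 0x10224040188197dc6b3a0e70817a404),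 (nat_lit 0), (nat_lit 0)⟩) (BT.leaf ⟨(nat_lit 4), (nat_lit 3059), (nat_lit 0), (nat_lit 0xbd208346841001c6b3a8801ceead2f), (nat_lit 0), (nat_lit 0)⟩)) (BT.node (nat_lit 7479) (BT.leaf ⟨(nat_lit 5), (nat_lit 15), (nat_lit 0), (nat_lit 0x4000000000000000000000000000000000000000000002000000000020000000000000000000000000000000000000000000000000000000000000000000000000004000000000000000000000000000001000800000000000000000000000000000000000201000200000000200000000000000800000000000000000100000000000001000040000000010000000000000000000000000000000800000000000000000000010000000000000010000000000000000000000000000000000000000000000000000000000000000008000000000000000000000000000000000000000001000000000000000000000000000000000000000000000000002000000000000000000001000000800000080000000000000000000000000000000000000000000000000000000000800000000000000000000000000820000000080000000000100000000000000000000080000000000000000000000000000000000000002000000000000001000042000000000000000000000000000000000000000000000000000000000000000000000020000040000000000000000000000000000000004000800000000008000000000000000000000000000000000040000000000000000000000000000000000000),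 (nat_lit 0), (nat_lit 0)⟩) (BT.leaf ⟨(nat_lit 5), (nat_lit 15), (nat_lit 0), (nat_lit 0x400000000000000000000040000000000000000000000000000000000000000000000000000000000000000000000000000000000000000000000000000000000000000000000000000000000000000000000000000000000000000000000000000000000000000000000000000000000000000000000000000000000000000000000000000000000000000000000000000000000000000000000000000000000000000000000000000000000000000000000000000000000000000000000000000000000000000000000000000000000000000000000), (nat_lit 0), (nat_lit 0)⟩)))) (BT.node (nat_lit 7484) (BT.node (nat_lit 7482) (BT.node (nat_lit 7481) (BT.leaf ⟨(nat_lit 5), (nat_lit 15), (nat_lit 0), (nat_lit 0x400000000000000000000000000000001000000000000200000000002000000000001000000000000000000000000000000000000000000000000000000000000000400000000000000000000000000000100880000400000400000000000000000000000020100020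0000000200000000000000800000000008000000100020000000001000040000000010000080000000000000000010000000800000000000000000000010000000000004010000000000080000000000000000008000000000000000000000000000080000008000000000000000000000000000000000000000001000000000000000000000000000000008000000000000400002008000000000000440003000000800000080000000000000000000200010000000000000000000020000000000600800000000000000000200000000820040000080000800000180000000000100000000080000000002000000000000000000000000000002000000000000001000042000000000000000000000000000000000000000100000040000000000000000000000020000040100000100000000000000000000000006000800000000108000000008000000000000000000000001040000000004000000000000002000000040001), (nat_lit 0), (nat_lit 0)⟩) (BT.leaf ⟨(nat_lit 2), (nat_lit 15), (nat_lit 15), (nat_lit 0x100100100f1a10097a5f00201001008), (nat_lit 0), (nat_lit 0)⟩)) (BT.node (nat_lit 7483)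 (BT.leaf ⟨(nat_lit 2), (nat_lit 15), (nat_lit 15), (nat_lit 0x151865f42c8c6cb49bd8f8dd3b83346), (nat_lit 0), (nat_lit 0)⟩) (BT.leaf ⟨(nat_lit 2), (nat_lit 15), (nat_lit 15), (nat_lit 0xae15ea395637ff13b6cd722e6c1d34), (nat_lit 0), (nat_lit 0)⟩))) (BT.node (nat_lit 7486) (BT.node (nat_lit 7485) (BT.leaf ⟨(nat_lit 4), (nat_lit 1622), (nat_lit 0), (nat_lit 0x196189f8f16f74ac68cbd4499746fcd), (nat_lit 0), (nat_lit 0)⟩) (BT.leaf ⟨(nat_lit 4), (nat_lit 2548), (nat_lit 0), (nat_lit 0x17a24f020003ce9f19d50211cd2fab9), (nat_lit 0), (nat_lit 0)⟩)) (BT.node (nat_lit 7487) (BT.leaf ⟨(nat_lit 5), (nat_lit 16), (nat_lit 0), (nat_lit 0x400000000000400000000000000000000000000000000000000000000000000000000000000000000000000000000000000000000000000000000000000000000000000000000000000000000000000000000000004100000000000000000000000000000000000000000000000000000000000000000000000000000000100000000000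00000000000000000000000000000000000000000000000000000000000000000000000004000000000000000000000000000000000000000000000000000000000000000000000000000000000000000000000000000000000004002000000000000000000000000000000000004000000000000000000000000000201000000000000000000800000000000000000000000000000000000000000000000000000000000000000000000000000000000000000000000000000000000000000000000000000000000000000000000000000000000000000100000000000000000000000000000000000000000000000000000000000000000000000000000000000000000000000000000000000000000000000000000000000000000000000000000000000000000000000000000000001000000000000001), (nat_lit 0), (nat_lit 0)⟩) (BT.leaf ⟨(nat_lit 2), (nat_lit 16), (nat_lit 16), (nat_lit 0x100480c9f4037a4ea747f191c800841), (nat_lit 0), (nat_lit 0)⟩)))))))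
noncomputable def cP7424 : BT Pf := (BT.node (nat_lit 7456) (BT.node (nat_lit 7440) (BT.node (nat_lit 7432) (BT.node (nat_lit 7428) (BT.node (nat_lit 7426) (BT.node (nat_lit 7425) (BT.leaf (.pt (nat_lit 4678) (nat_lit 3))) (BT.leaf (.pt (nat_lit 7242) (nat_lit 1)))) (BT.node (nat_lit 7427) (BT.leaf (.pt (nat_lit 7425) (nat_lit 4))) (BT.leaf (.pt (nat_lit 7426) (nat_lit 1))))) (BT.node (nat_lit 7430) (BT.node (nat_lit 7429) (BT.leaf (.pt (nat_lit 6180) (nat_lit 3))) (BT.leaf (.pt (nat_lit 6745) (nat_lit 4)))) (BT.node (nat_lit 7431) (BT.leaf (.cov [] [⟨(nat_lit 3595), (nat_lit 4484), []⟩, ⟨(nat_lit 3596), (nat_lit 5904), [(nat_lit 1174), (nat_lit 525)]⟩, ⟨(nat_lit 3602), (nat_lit 7278), [(nat_lit 488), (nat_lit 874)]⟩, ⟨(nat_lit 3603), (nat_lit 6503), [(nat_lit 284), (nat_lit 389)]⟩, ⟨(nat_lit 3606), (nat_lit 4571), [(nat_lit 364), (nat_lit 681)]⟩, ⟨(nat_lit 3609), (nat_lit 4978), [(nat_lit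 618), (nat_lit 1605)]⟩, ⟨(nat_lit 3610), (nat_lit 7024), [(nat_lit 250), (nat_lit 139)]⟩, ⟨(nat_lit 3614), (nat_lit 7423), [(nat_lit 164), (nat_lit 432)]⟩, ⟨(nat_lit 3615), (nat_lit 4616), [(nat_lit 784), (nat_lit 223)]⟩, ⟨(nat_lit 3617), (nat_lit 5694), [(nat_lit 1099), (nat_lit 328)]⟩, ⟨(nat_lit 3619), (nat_lit 6137), [(nat_lit 696), (nat_lit 253)]⟩, ⟨(nat_lit 3622), (nat_lit 4791), [(nat_lit 214), (nat_lit 490)]⟩, ⟨(nat_lit 3624), (nat_lit 7424), [(nat_lit 733), (nat_lit 969)]⟩, ⟨(nat_lit 3626), (nat_lit 5233), [(nat_lit 774), (nat_lit 202)]⟩, ⟨(nat_lit 3627), (nat_lit 4511), [(nat_lit 226), (nat_lit 1001)]⟩, ⟨(nat_lit 3630), (nat_lit 7357), [(nat_lit 502), (nat_lit 898)]⟩, ⟨(nat_lit 3632), (nat_lit 4915), [(nat_lit 450), (nat_lit 1025)]⟩, ⟨(nat_lit 3633), (nat_lit 7180), [(nat_lit 215), (nat_lit 486)]⟩, ⟨(nat_lit 3636), (nat_lit 6966), [(nat_lit 829), (nat_lit 124)]⟩, ⟨(nat_lit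 3638), (nat_lit 5412), [(nat_lit 1099), (nat_lit 700)]⟩, ⟨(nat_lit 3640), (nat_lit 5181), [(nat_lit 240), (nat_lit 1009)]⟩, ⟨(nat_lit 3641), (nat_lit 7355), [(nat_lit 166), (nat_lit 586)]⟩, ⟨(nat_lit 3644), (nat_lit 6984), [(nat_lit 943), (nat_lit 778)]⟩, ⟨(nat_lit 3646), (nat_lit 5746), [(nat_lit 1027), (nat_lit 762)]⟩, ⟨(nat_lit 3648), (nat_lit 7354), [(nat_lit 356), (nat_lit 367)]⟩, ⟨(nat_lit 3650), (nat_lit 7427), [(nat_lit 164), (nat_lit 386)]⟩, ⟨(nat_lit 3651), (nat_lit 5640), [(nat_lit 527), (nat_lit 818)]⟩, ⟨(nat_lit 3654), (nat_lit 6756), [(nat_lit 391), (nat_lit 1001)]⟩, ⟨(nat_lit 3656), (nat_lit 6083), [(nat_lit 787), (nat_lit 278)]⟩, ⟨(nat_lit 3657), (nat_lit 4538), [(nat_lit 175), (nat_lit 291)]⟩, ⟨(nat_lit 3659), (nat_lit 5417), [(nat_lit 380), (nat_lit 107)]⟩, ⟨(nat_lit 3662), (nat_lit 7428), [(nat_lit 502), (nat_lit 555)]⟩, ⟨(nat_lit 3663), (nat_lit 5909), [(nat_lit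 357), (nat_lit 1939)]⟩, ⟨(nat_lit 3665), (nat_lit 6311), [(nat_lit 257), (nat_lit 1009)]⟩, ⟨(nat_lit 3668), (nat_lit 5466), [(nat_lit 284), (nat_lit 465)]⟩, ⟨(nat_lit 3672), (nat_lit 7429), [(nat_lit 130), (nat_lit 264)]⟩, ⟨(nat_lit 3673), (nat_lit 6152), [(nat_lit 832), (nat_lit 1036)]⟩, ⟨(nat_lit 3674), (nat_lit 7279), [(nat_lit 391), (nat_lit 1605)]⟩, ⟨(nat_lit 3677), (nat_lit 5250), [(nat_lit 945), (nat_lit 290)]⟩, ⟨(nat_lit 3678), (nat_lit 5848), [(nat_lit 1087), (nat_lit 1605)]⟩])) (BT.leaf (.pt (nat_lit 7178) (nat_lit 3)))))) (BT.node (nat_lit 7436) (BT.node (nat_lit 7434) (BT.node (nat_lit 7433) (BT.leaf (.pt (nat_lit 7431) (nat_lit 1))) (BT.leaf (.cov [] [⟨(nat_lit 3681), (nat_lit 6165), [(nat_lit 1174), (nat_lit 604)]⟩, ⟨(nat_lit 3686), (nat_lit 4917), [(nat_lit 928), (nat_lit 1133)]⟩, ⟨(nat_lit 3687), (nat_lit 6140), [(nat_lit 759), (nat_lit 1375)]⟩, ⟨(nat_lit 3690), (nat_lit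 6799), [(nat_lit 953), (nat_lit 1849)]⟩, ⟨(nat_lit 3691), (nat_lit 7344), [(nat_lit 166), (nat_lit 1247)]⟩, ⟨(nat_lit 3694), (nat_lit 6469), [(nat_lit 1257), (nat_lit 802)]⟩, ⟨(nat_lit 3695), (nat_lit 7056), [(nat_lit 696), (nat_lit 1091)]⟩, ⟨(nat_lit 3698), (nat_lit 5305), [(nat_lit 281), (nat_lit 499)]⟩, ⟨(nat_lit 3699), (nat_lit 7209), [(nat_lit 941), (nat_lit 139)]⟩, ⟨(nat_lit 3701), (nat_lit 5141), [(nat_lit 373), (nat_lit 362)]⟩, ⟨(nat_lit 3705), (nat_lit 7432), [(nat_lit 510), (nat_lit 681)]⟩, ⟨(nat_lit 3706), (nat_lit 5140), [(nat_lit 520), (nat_lit 597)]⟩, ⟨(nat_lit 3711), (nat_lit 5964), [(nat_lit 618), (nat_lit 711)]⟩, ⟨(nat_lit 3743), (nat_lit 6194), [(nat_lit 1014), (nat_lit 222)]⟩, ⟨(nat_lit 3873), (nat_lit 6796), [(nat_lit 380), (nat_lit 752)]⟩, ⟨(nat_lit 3906), (nat_lit 6973), [(nat_lit 128), (nat_lit 740)]⟩, ⟨(nat_lit 3933), (nat_lit 5058), [(nat_lit 1175), (nat_lit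 1329)]⟩, ⟨(nat_lit 3934), (nat_lit 5771), [(nat_lit 734), (nat_lit 682)]⟩, ⟨(nat_lit 3985), (nat_lit 6078), [(nat_lit 673), (nat_lit 306)]⟩, ⟨(nat_lit 3987), (nat_lit 5773), [(nat_lit 272), (nat_lit 868)]⟩, ⟨(nat_lit 3993), (nat_lit 5588), [(nat_lit 579), (nat_lit 898)]⟩, ⟨(nat_lit 4006), (nat_lit 5300), [(nat_lit 473), (nat_lit 361)]⟩, ⟨(nat_lit 4008), (nat_lit 5309), [(nat_lit 587), (nat_lit 1204)]⟩, ⟨(nat_lit 4028), (nat_lit 7232), [(nat_lit 381), (nat_lit 1348)]⟩, ⟨(nat_lit 4033), (nat_lit 4925), [(nat_lit 130), (nat_lit 581)]⟩, ⟨(nat_lit 4061), (nat_lit 5274), [(nat_lit 815), (nat_lit 460)]⟩, ⟨(nat_lit 4163), (nat_lit 6940), [(nat_lit 865), (nat_lit 762)]⟩, ⟨(nat_lit 4164), (nat_lit 6243), [(nat_lit 905), (nat_lit 662)]⟩, ⟨(nat_lit 4201), (nat_lit 5956), [(nat_lit 726), (nat_lit 785)]⟩, ⟨(nat_lit 4295), (nat_lit 5543), [(nat_lit 373), (nat_lit 347)]⟩, ⟨(nat_lit 4321), (nat_lit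 5281), [(nat_lit 355), (nat_lit 1279)]⟩, ⟨(nat_lit 4348), (nat_lit 5415), [(nat_lit 467), (nat_lit 1123)]⟩]))) (BT.node (nat_lit 7435) (BT.leaf (.cov [(nat_lit 7430), (nat_lit 7433)] [])) (BT.leaf (.emul [(nat_lit 3613), (nat_lit 3605)])))) (BT.node (nat_lit 7438) (BT.node (nat_lit 7437) (BT.leaf (.emul [(nat_lit 3605), (nat_lit 7435)])) (BT.leaf (.emul [(nat_lit 3594), (nat_lit 3942)]))) (BT.node (nat_lit 7439) (BT.leaf (.pt (nat_lit 4648) (nat_lit 4))) (BT.leaf (.pt (nat_lit 7121) (nat_lit 4))))))) (BT.node (nat_lit 7448) (BT.node (nat_lit 7444) (BT.node (nat_lit 7442) (BT.node (nat_lit 7441) (BT.leaf (.cov [] [⟨(nat_lit 3704), (nat_lit 4484), []⟩, ⟨(nat_lit 3708), (nat_lit 4556), [(nat_lit 466), (nat_lit 169)]⟩, ⟨(nat_lit 3710), (nat_lit 4633), [(nat_lit 474), (nat_lit 533)]⟩, ⟨(nat_lit 3713), (nat_lit 6821), [(nat_lit 787), (nat_lit 384)]⟩, ⟨(nat_lit 3715), (nat_lit 7438), [(nat_lit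 356), (nat_lit 1939)]⟩, ⟨(nat_lit 3717), (nat_lit 6804), [(nat_lit 826), (nat_lit 125)]⟩, ⟨(nat_lit 3718), (nat_lit 5540), [(nat_lit 259), (nat_lit 681)]⟩, ⟨(nat_lit 3722), (nat_lit 7185), [(nat_lit 630), (nat_lit 627)]⟩, ⟨(nat_lit 3727), (nat_lit 6685), [(nat_lit 473), (nat_lit 362)]⟩, ⟨(nat_lit 3728), (nat_lit 6316), [(nat_lit 690), (nat_lit 170)]⟩, ⟨(nat_lit 3735), (nat_lit 6442), [(nat_lit 227), (nat_lit 752)]⟩, ⟨(nat_lit 3737), (nat_lit 7297), [(nat_lit 215), (nat_lit 651)]⟩, ⟨(nat_lit 3741), (nat_lit 7085), [(nat_lit 905), (nat_lit 141)]⟩, ⟨(nat_lit 3744), (nat_lit 5460), [(nat_lit 1242), (nat_lit 1070)]⟩, ⟨(nat_lit 3746), (nat_lit 5037), [(nat_lit 462), (nat_lit 1101)]⟩, ⟨(nat_lit 3748), (nat_lit 7073), [(nat_lit 387), (nat_lit 1410)]⟩, ⟨(nat_lit 3751), (nat_lit 5697), [(nat_lit 447), (nat_lit 627)]⟩, ⟨(nat_lit 3753), (nat_lit 5001), [(nat_lit 527), (nat_lit 439)]⟩, ⟨(nat_lit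 3755), (nat_lit 5996), [(nat_lit 451), (nat_lit 624)]⟩, ⟨(nat_lit 3758), (nat_lit 6781), [(nat_lit 393), (nat_lit 306)]⟩, ⟨(nat_lit 3759), (nat_lit 4499), [(nat_lit 484), (nat_lit 982)]⟩, ⟨(nat_lit 3762), (nat_lit 4879), [(nat_lit 254), (nat_lit 495)]⟩, ⟨(nat_lit 3763), (nat_lit 5375), [(nat_lit 193), (nat_lit 269)]⟩, ⟨(nat_lit 3765), (nat_lit 6251), [(nat_lit 551), (nat_lit 89)]⟩, ⟨(nat_lit 3768), (nat_lit 6476), [(nat_lit 493), (nat_lit 288)]⟩, ⟨(nat_lit 3770), (nat_lit 5319), [(nat_lit 941), (nat_lit 206)]⟩, ⟨(nat_lit 3773), (nat_lit 6341), [(nat_lit 215), (nat_lit 163)]⟩, ⟨(nat_lit 3774), (nat_lit 5317), [(nat_lit 271), (nat_lit 328)]⟩, ⟨(nat_lit 3776), (nat_lit 6691), [(nat_lit 267), (nat_lit 835)]⟩, ⟨(nat_lit 3778), (nat_lit 4799), [(nat_lit 942), (nat_lit 530)]⟩, ⟨(nat_lit 3781), (nat_lit 4783), [(nat_lit 353), (nat_lit 363)]⟩, ⟨(nat_lit 3783), (nat_lit 6086), [(nat_lit 474),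 (nat_lit 279)]⟩, ⟨(nat_lit 3784), (nat_lit 7101), [(nat_lit 194), (nat_lit 874)]⟩, ⟨(nat_lit 3786), (nat_lit 4993), [(nat_lit 194), (nat_lit 795)]⟩, ⟨(nat_lit 3788), (nat_lit 5866), [(nat_lit 990), (nat_lit 420)]⟩, ⟨(nat_lit 3791), (nat_lit 7439), [(nat_lit 1173), (nat_lit 498)]⟩, ⟨(nat_lit 3793), (nat_lit 6875), [(nat_lit 258), (nat_lit 108)]⟩, ⟨(nat_lit 3795), (nat_lit 5041), [(nat_lit 321), (nat_lit 795)]⟩, ⟨(nat_lit 3798), (nat_lit 5483), [(nat_lit 734), (nat_lit 252)]⟩, ⟨(nat_lit 3800), (nat_lit 4999), [(nat_lit 299), (nat_lit 459)]⟩])) (BT.leaf (.pt (nat_lit 7100) (nat_lit 3)))) (BT.node (nat_lit 7443) (BT.leaf (.pt (nat_lit 5926) (nat_lit 3))) (BT.leaf (.cov [] [⟨(nat_lit 3802), (nat_lit 5247), [(nat_lit 391), (nat_lit 171)]⟩, ⟨(nat_lit 3803), (nat_lit 4945), [(nat_lit 945), (nat_lit 1021)]⟩, ⟨(nat_lit 3805), (nat_lit 6246), [(nat_lit 840), (nat_lit 225)]⟩, ⟨(nat_lit 3808),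 (nat_lit 4843), [(nat_lit 733), (nat_lit 421)]⟩, ⟨(nat_lit 3809), (nat_lit 7441), [(nat_lit 360), (nat_lit 1017)]⟩, ⟨(nat_lit 3811), (nat_lit 6144), [(nat_lit 826), (nat_lit 710)]⟩, ⟨(nat_lit 3814), (nat_lit 5209), [(nat_lit 747), (nat_lit 956)]⟩, ⟨(nat_lit 3815), (nat_lit 5009), [(nat_lit 1257), (nat_lit 386)]⟩, ⟨(nat_lit 3818), (nat_lit 6270), [(nat_lit 393), (nat_lit 1583)]⟩, ⟨(nat_lit 3820), (nat_lit 6677), [(nat_lit 282), (nat_lit 141)]⟩, ⟨(nat_lit 3822), (nat_lit 5451), [(nat_lit 523), (nat_lit 624)]⟩, ⟨(nat_lit 3823), (nat_lit 4539), [(nat_lit 466), (nat_lit 1053)]⟩, ⟨(nat_lit 3825), (nat_lit 6588), [(nat_lit 1056), (nat_lit 625)]⟩, ⟨(nat_lit 3828), (nat_lit 5625), [(nat_lit 1126), (nat_lit 440)]⟩, ⟨(nat_lit 3830), (nat_lit 5512), [(nat_lit 840), (nat_lit 384)]⟩, ⟨(nat_lit 3832), (nat_lit 7279), [(nat_lit 466), (nat_lit 557)]⟩, ⟨(nat_lit 3834), (nat_lit 4928), [(nat_lit 151),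 (nat_lit 624)]⟩, ⟨(nat_lit 3836), (nat_lit 6083), [(nat_lit 227), (nat_lit 625)]⟩, ⟨(nat_lit 3837), (nat_lit 6415), [(nat_lit 296), (nat_lit 291)]⟩, ⟨(nat_lit 3838), (nat_lit 6182), [(nat_lit 941), (nat_lit 985)]⟩, ⟨(nat_lit 3840), (nat_lit 5464), [(nat_lit 351), (nat_lit 141)]⟩, ⟨(nat_lit 3842), (nat_lit 5853), [(nat_lit 445), (nat_lit 651)]⟩, ⟨(nat_lit 3843), (nat_lit 6679), [(nat_lit 216), (nat_lit 248)]⟩, ⟨(nat_lit 3846), (nat_lit 5790), [(nat_lit 840), (nat_lit 1088)]⟩, ⟨(nat_lit 3847), (nat_lit 5266), [(nat_lit 267), (nat_lit 124)]⟩, ⟨(nat_lit 3848), (nat_lit 7442), [(nat_lit 1173), (nat_lit 0)]⟩, ⟨(nat_lit 3850), (nat_lit 4677), [(nat_lit 696), (nat_lit 169)]⟩, ⟨(nat_lit 3852), (nat_lit 7013), [(nat_lit 1027), (nat_lit 384)]⟩, ⟨(nat_lit 3854), (nat_lit 6017), [(nat_lit 209), (nat_lit 956)]⟩, ⟨(nat_lit 3856), (nat_lit 4835), [(nat_lit 782), (nat_lit 330)]⟩, ⟨(nat_lit 3859), (nat_lit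 5398), [(nat_lit 673), (nat_lit 898)]⟩, ⟨(nat_lit 3860), (nat_lit 7051), [(nat_lit 1012), (nat_lit 822)]⟩, ⟨(nat_lit 3862), (nat_lit 4576), [(nat_lit 1437), (nat_lit 222)]⟩, ⟨(nat_lit 3865), (nat_lit 5717), [(nat_lit 129), (nat_lit 651)]⟩, ⟨(nat_lit 3866), (nat_lit 4657), [(nat_lit 273), (nat_lit 399)]⟩, ⟨(nat_lit 3868), (nat_lit 6065), [(nat_lit 763), (nat_lit 202)]⟩, ⟨(nat_lit 3870), (nat_lit 5725), [(nat_lit 214), (nat_lit 1211)]⟩, ⟨(nat_lit 3872), (nat_lit 5332), [(nat_lit 759), (nat_lit 512)]⟩, ⟨(nat_lit 3874), (nat_lit 5911), [(nat_lit 295), (nat_lit 330)]⟩, ⟨(nat_lit 3876), (nat_lit 5933), [(nat_lit 283), (nat_lit 647)]⟩])))) (BT.node (nat_lit 7446) (BT.node (nat_lit 7445) (BT.leaf (.pt (nat_lit 5829) (nat_lit 3))) (BT.leaf (.pt (nat_lit 5259) (nat_lit 3)))) (BT.node (nat_lit 7447) (BT.leaf (.cov [] [⟨(nat_lit 3878), (nat_lit 5802), [(nat_lit 782), (nat_lit 127)]⟩, ⟨(nat_lit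 3879), (nat_lit 5034), [(nat_lit 393), (nat_lit 1745)]⟩, ⟨(nat_lit 3881), (nat_lit 6830), [(nat_lit 521), (nat_lit 585)]⟩, ⟨(nat_lit 3884), (nat_lit 7420), [(nat_lit 348), (nat_lit 203)]⟩, ⟨(nat_lit 3886), (nat_lit 5213), [(nat_lit 1218), (nat_lit 362)]⟩, ⟨(nat_lit 3888), (nat_lit 6181), [(nat_lit 826), (nat_lit 249)]⟩, ⟨(nat_lit 3889), (nat_lit 7168), [(nat_lit 355), (nat_lit 969)]⟩, ⟨(nat_lit 3891), (nat_lit 6911), [(nat_lit 1013), (nat_lit 247)]⟩, ⟨(nat_lit 3893), (nat_lit 5139), [(nat_lit 424), (nat_lit 581)]⟩, ⟨(nat_lit 3895), (nat_lit 4619), [(nat_lit 373), (nat_lit 398)]⟩, ⟨(nat_lit 3896), (nat_lit 5238), [(nat_lit 619), (nat_lit 969)]⟩, ⟨(nat_lit 3898), (nat_lit 4914), [(nat_lit 507), (nat_lit 202)]⟩, ⟨(nat_lit 3900), (nat_lit 5621), [(nat_lit 298), (nat_lit 142)]⟩, ⟨(nat_lit 3902), (nat_lit 5382), [(nat_lit 196), (nat_lit 500)]⟩, ⟨(nat_lit 3904), (nat_lit 7373), [(nat_lit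 1437), (nat_lit 320)]⟩, ⟨(nat_lit 3908), (nat_lit 6943), [(nat_lit 209), (nat_lit 109)]⟩, ⟨(nat_lit 3910), (nat_lit 6872), [(nat_lit 357), (nat_lit 439)]⟩, ⟨(nat_lit 3912), (nat_lit 5380), [(nat_lit 1175), (nat_lit 1136)]⟩, ⟨(nat_lit 3916), (nat_lit 7253), [(nat_lit 883), (nat_lit 985)]⟩, ⟨(nat_lit 3919), (nat_lit 4693), [(nat_lit 787), (nat_lit 204)]⟩, ⟨(nat_lit 3921), (nat_lit 6566), [(nat_lit 152), (nat_lit 693)]⟩, ⟨(nat_lit 3922), (nat_lit 5537), [(nat_lit 194), (nat_lit 88)]⟩, ⟨(nat_lit 3923), (nat_lit 6600), [(nat_lit 360), (nat_lit 91)]⟩, ⟨(nat_lit 3924), (nat_lit 6934), [(nat_lit 815), (nat_lit 556)]⟩, ⟨(nat_lit 3927), (nat_lit 6898), [(nat_lit 255), (nat_lit 798)]⟩, ⟨(nat_lit 3928), (nat_lit 5599), [(nat_lit 689), (nat_lit 1503)]⟩, ⟨(nat_lit 3930), (nat_lit 6080), [(nat_lit 825), (nat_lit 500)]⟩, ⟨(nat_lit 3932), (nat_lit 6557), [(nat_lit 255), (nat_lit 898)]⟩, ⟨(nat_lit 3936),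 (nat_lit 6670), [(nat_lit 815), (nat_lit 140)]⟩, ⟨(nat_lit 3938), (nat_lit 6469), [(nat_lit 883), (nat_lit 142)]⟩, ⟨(nat_lit 3940), (nat_lit 6511), [(nat_lit 690), (nat_lit 870)]⟩, ⟨(nat_lit 3945), (nat_lit 5970), [(nat_lit 825), (nat_lit 627)]⟩, ⟨(nat_lit 3949), (nat_lit 7444), [(nat_lit 511), (nat_lit 1109)]⟩, ⟨(nat_lit 3950), (nat_lit 7445), [(nat_lit 1092), (nat_lit 172)]⟩, ⟨(nat_lit 3953), (nat_lit 5407), [(nat_lit 227), (nat_lit 264)]⟩, ⟨(nat_lit 3954), (nat_lit 7038), [(nat_lit 212), (nat_lit 308)]⟩, ⟨(nat_lit 3956), (nat_lit 5078), [(nat_lit 467), (nat_lit 1583)]⟩, ⟨(nat_lit 3958), (nat_lit 4930), [(nat_lit 786), (nat_lit 604)]⟩, ⟨(nat_lit 3959), (nat_lit 7007), [(nat_lit 915), (nat_lit 1348)]⟩, ⟨(nat_lit 3961), (nat_lit 5997), [(nat_lit 349), (nat_lit 529)]⟩])) (BT.leaf (.pt (nat_lit 5841) (nat_lit 3)))))) (BT.node (nat_lit 7452) (BT.node (nat_lit 7450) (BT.node (nat_lit 7449)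 (BT.leaf (.pt (nat_lit 5499) (nat_lit 3))) (BT.leaf (.pt (nat_lit 7270) (nat_lit 1)))) (BT.node (nat_lit 7451) (BT.leaf (.pt (nat_lit 6813) (nat_lit 4))) (BT.leaf (.pt (nat_lit 7450) (nat_lit 1))))) (BT.node (nat_lit 7454) (BT.node (nat_lit 7453) (BT.leaf (.pt (nat_lit 7451) (nat_lit 4))) (BT.leaf (.cov [] [⟨(nat_lit 3962), (nat_lit 6378), [(nat_lit 466), (nat_lit 778)]⟩, ⟨(nat_lit 3965), (nat_lit 6837), [(nat_lit 216), (nat_lit 573)]⟩, ⟨(nat_lit 3968), (nat_lit 5811), [(nat_lit 1257), (nat_lit 1101)]⟩, ⟨(nat_lit 3969), (nat_lit 5314), [(nat_lit 502), (nat_lit 580)]⟩, ⟨(nat_lit 3970), (nat_lit 5995), [(nat_lit 174), (nat_lit 581)]⟩, ⟨(nat_lit 3974), (nat_lit 4897), [(nat_lit 271)]⟩, ⟨(nat_lit 3977), (nat_lit 5928), [(nat_lit 675), (nat_lit 439)]⟩, ⟨(nat_lit 3978), (nat_lit 7117), [(nat_lit 786), (nat_lit 693)]⟩, ⟨(nat_lit 3979), (nat_lit 7447), [(nat_lit 522), (nat_lit 821)]⟩, ⟨(nat_lit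 3980), (nat_lit 4892), [(nat_lit 216), (nat_lit 1053)]⟩, ⟨(nat_lit 3981), (nat_lit 5111), [(nat_lit 970), (nat_lit 399)]⟩, ⟨(nat_lit 3983), (nat_lit 5782), [(nat_lit 1175)]⟩, ⟨(nat_lit 3984), (nat_lit 5468), [(nat_lit 177), (nat_lit 1192)]⟩, ⟨(nat_lit 3986), (nat_lit 5631), [(nat_lit 1437), (nat_lit 651)]⟩, ⟨(nat_lit 3989), (nat_lit 4962), [(nat_lit 237), (nat_lit 490)]⟩, ⟨(nat_lit 3991), (nat_lit 6884), [(nat_lit 522), (nat_lit 172)]⟩, ⟨(nat_lit 3995), (nat_lit 5671), [(nat_lit 1012), (nat_lit 694)]⟩, ⟨(nat_lit 3998), (nat_lit 5389), [(nat_lit 258), (nat_lit 868)]⟩, ⟨(nat_lit 4000), (nat_lit 5347), [(nat_lit 348), (nat_lit 1018)]⟩, ⟨(nat_lit 4001), (nat_lit 6060), [(nat_lit 461), (nat_lit 712)]⟩, ⟨(nat_lit 4002), (nat_lit 6930), [(nat_lit 1099), (nat_lit 108)]⟩, ⟨(nat_lit 4003), (nat_lit 7448), [(nat_lit 493), (nat_lit 0)]⟩, ⟨(nat_lit 4004), (nat_lit 4958), [(nat_lit 255), (nat_lit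 455)]⟩, ⟨(nat_lit 4005), (nat_lit 5812), [(nat_lit 1337), (nat_lit 752)]⟩, ⟨(nat_lit 4007), (nat_lit 7449), [(nat_lit 176), (nat_lit 596)]⟩, ⟨(nat_lit 4012), (nat_lit 5908), [(nat_lit 214), (nat_lit 328)]⟩, ⟨(nat_lit 4023), (nat_lit 5223), [(nat_lit 266), (nat_lit 107)]⟩, ⟨(nat_lit 4024), (nat_lit 5708), [(nat_lit 359), (nat_lit 1021)]⟩, ⟨(nat_lit 4034), (nat_lit 4887), [(nat_lit 468), (nat_lit 333)]⟩, ⟨(nat_lit 4035), (nat_lit 5692), [(nat_lit 827), (nat_lit 529)]⟩, ⟨(nat_lit 4044), (nat_lit 6212), [(nat_lit 215), (nat_lit 891)]⟩, ⟨(nat_lit 4049), (nat_lit 6805), [(nat_lit 764), (nat_lit 247)]⟩, ⟨(nat_lit 4073), (nat_lit 7154), [(nat_lit 1012), (nat_lit 647)]⟩, ⟨(nat_lit 4091), (nat_lit 4704), [(nat_lit 1437), (nat_lit 1223)]⟩, ⟨(nat_lit 4099), (nat_lit 7316), [(nat_lit 789), (nat_lit 265)]⟩, ⟨(nat_lit 4103), (nat_lit 7450), [(nat_lit 2124), (nat_lit 204)]⟩, ⟨(nat_lit 4111), (nat_lit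 7452), [(nat_lit 2061), (nat_lit 289)]⟩, ⟨(nat_lit 4118), (nat_lit 5763), [(nat_lit 292), (nat_lit 1001)]⟩, ⟨(nat_lit 4143), (nat_lit 4768), [(nat_lit 521), (nat_lit 249)]⟩, ⟨(nat_lit 4167), (nat_lit 4620), [(nat_lit 194), (nat_lit 785)]⟩]))) (BT.node (nat_lit 7455) (BT.leaf (.pt (nat_lit 6085) (nat_lit 4))) (BT.leaf (.cov [] [⟨(nat_lit 4180), (nat_lit 7204), [(nat_lit 95), (nat_lit 477)]⟩, ⟨(nat_lit 4186), (nat_lit 7454), [(nat_lit 1041), (nat_lit 1203)]⟩, ⟨(nat_lit 4207), (nat_lit 5799), [(nat_lit 567), (nat_lit 363)]⟩, ⟨(nat_lit 4217), (nat_lit 5777), [(nat_lit 150), (nat_lit 586)]⟩, ⟨(nat_lit 4251), (nat_lit 5712), [(nat_lit 883), (nat_lit 878)]⟩, ⟨(nat_lit 4279), (nat_lit 5409), [(nat_lit 508), (nat_lit 681)]⟩, ⟨(nat_lit 4324), (nat_lit 5747), [(nat_lit 900), (nat_lit 90)]⟩]))))))) (BT.node (nat_lit 7472) (BT.node (nat_lit 7464) (BT.node (nat_lit 7460) (BT.node (nat_lit 7458)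 (BT.node (nat_lit 7457) (BT.leaf (.cov [(nat_lit 7440), (nat_lit 7443), (nat_lit 7446), (nat_lit 7453), (nat_lit 7455)] [])) (BT.leaf (.cov [] [⟨(nat_lit 4011), (nat_lit 4484), []⟩, ⟨(nat_lit 4016), (nat_lit 6055), [(nat_lit 461), (nat_lit 1192)]⟩, ⟨(nat_lit 4026), (nat_lit 5597), [(nat_lit 351), (nat_lit 386)]⟩, ⟨(nat_lit 4031), (nat_lit 5546), [(nat_lit 280), (nat_lit 1141)]⟩, ⟨(nat_lit 4032), (nat_lit 4967), [(nat_lit 196), (nat_lit 512)]⟩, ⟨(nat_lit 4036), (nat_lit 6872), [(nat_lit 914), (nat_lit 127)]⟩, ⟨(nat_lit 4037), (nat_lit 5312), [(nat_lit 111), (nat_lit 506)]⟩, ⟨(nat_lit 4040), (nat_lit 5807), [(nat_lit 508), (nat_lit 265)]⟩, ⟨(nat_lit 4043), (nat_lit 4861), [(nat_lit 240), (nat_lit 1140)]⟩, ⟨(nat_lit 4048), (nat_lit 6106), [(nat_lit 461), (nat_lit 584)]⟩, ⟨(nat_lit 4149), (nat_lit 5622), [(nat_lit 295), (nat_lit 264)]⟩, ⟨(nat_lit 4215), (nat_lit 7125), [(nat_lit 941),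 (nat_lit 563)]⟩, ⟨(nat_lit 4231), (nat_lit 7178), [(nat_lit 167), (nat_lit 421)]⟩, ⟨(nat_lit 4258), (nat_lit 4588), [(nat_lit 783), (nat_lit 294)]⟩, ⟨(nat_lit 4284), (nat_lit 5056), [(nat_lit 356), (nat_lit 110)]⟩, ⟨(nat_lit 4316), (nat_lit 7015), [(nat_lit 416), (nat_lit 580)]⟩, ⟨(nat_lit 4359), (nat_lit 5361), [(nat_lit 226), (nat_lit 605)]⟩, ⟨(nat_lit 4377), (nat_lit 6512), [(nat_lit 781), (nat_lit 420)]⟩]))) (BT.node (nat_lit 7459) (BT.leaf (.emul [(nat_lit 4025), (nat_lit 4166)])) (BT.leaf (.emul [(nat_lit 4015), (nat_lit 4010)])))) (BT.node (nat_lit 7462) (BT.node (nat_lit 7461) (BT.leaf (.emul [(nat_lit 4019), (nat_lit 7459)])) (BT.leaf (.emul [(nat_lit 7458), (nat_lit 7460)]))) (BT.node (nat_lit 7463) (BT.leaf (.emul [(nat_lit 4370), (nat_lit 4367)])) (BT.leaf (.pt (nat_lit 7373) (nat_lit 4)))))) (BT.node (nat_lit 7468) (BT.node (nat_lit 7466) (BT.node (nat_lit 7465) (BT.leaf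 (.pt (nat_lit 7463) (nat_lit 1))) (BT.leaf (.pt (nat_lit 7464) (nat_lit 3)))) (BT.node (nat_lit 7467) (BT.leaf (.pt (nat_lit 6705) (nat_lit 3))) (BT.leaf (.pt (nat_lit 7466) (nat_lit 1))))) (BT.node (nat_lit 7470) (BT.node (nat_lit 7469) (BT.leaf (.pt (nat_lit 7467) (nat_lit 4))) (BT.leaf (.pt (nat_lit 6482) (nat_lit 4)))) (BT.node (nat_lit 7471) (BT.leaf (.cov [] [⟨(nat_lit 4047), (nat_lit 4484), []⟩, ⟨(nat_lit 4051), (nat_lit 5582), [(nat_lit 466), (nat_lit 223)]⟩, ⟨(nat_lit 4053), (nat_lit 5695), [(nat_lit 353), (nat_lit 802)]⟩, ⟨(nat_lit 4057), (nat_lit 6677), [(nat_lit 128), (nat_lit 235)]⟩, ⟨(nat_lit 4058), (nat_lit 6074), [(nat_lit 631), (nat_lit 1088)]⟩, ⟨(nat_lit 4063), (nat_lit 5185), [(nat_lit 523), (nat_lit 982)]⟩, ⟨(nat_lit 4070), (nat_lit 4719), [(nat_lit 213), (nat_lit 1256)]⟩, ⟨(nat_lit 4072), (nat_lit 7465), [(nat_lit 226), (nat_lit 248)]⟩, ⟨(nat_lit 4075), (nat_lit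 6426), [(nat_lit 209), (nat_lit 375)]⟩, ⟨(nat_lit 4079), (nat_lit 5495), [(nat_lit 129), (nat_lit 91)]⟩, ⟨(nat_lit 4081), (nat_lit 5337), [(nat_lit 336), (nat_lit 497)]⟩, ⟨(nat_lit 4084), (nat_lit 5500), [(nat_lit 493), (nat_lit 682)]⟩, ⟨(nat_lit 4086), (nat_lit 5578), [(nat_lit 364), (nat_lit 1871)]⟩, ⟨(nat_lit 4088), (nat_lit 6881), [(nat_lit 433), (nat_lit 386)]⟩, ⟨(nat_lit 4089), (nat_lit 4601), [(nat_lit 336), (nat_lit 529)]⟩, ⟨(nat_lit 4093), (nat_lit 4981), [(nat_lit 207), (nat_lit 586)]⟩, ⟨(nat_lit 4095), (nat_lit 5498), [(nat_lit 445), (nat_lit 578)]⟩, ⟨(nat_lit 4096), (nat_lit 5669), [(nat_lit 194), (nat_lit 559)]⟩, ⟨(nat_lit 4098), (nat_lit 6581), [(nat_lit 522), (nat_lit 586)]⟩, ⟨(nat_lit 4101), (nat_lit 6935), [(nat_lit 446), (nat_lit 555)]⟩, ⟨(nat_lit 4102), (nat_lit 4528), [(nat_lit 256), (nat_lit 108)]⟩, ⟨(nat_lit 4105), (nat_lit 6993), [(nat_lit 741), (nat_lit 224)]⟩,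 ⟨(nat_lit 4106), (nat_lit 7468), [(nat_lit 406), (nat_lit 1478)]⟩, ⟨(nat_lit 4108), (nat_lit 4758), [(nat_lit 353), (nat_lit 585)]⟩, ⟨(nat_lit 4110), (nat_lit 6038), [(nat_lit 427), (nat_lit 252)]⟩, ⟨(nat_lit 4112), (nat_lit 5843), [(nat_lit 212), (nat_lit 1605)]⟩, ⟨(nat_lit 4115), (nat_lit 5409), [(nat_lit 1235), (nat_lit 320)]⟩, ⟨(nat_lit 4117), (nat_lit 4754), [(nat_lit 815), (nat_lit 372)]⟩, ⟨(nat_lit 4120), (nat_lit 6179), [(nat_lit 254), (nat_lit 681)]⟩, ⟨(nat_lit 4121), (nat_lit 4873), [(nat_lit 544), (nat_lit 320)]⟩, ⟨(nat_lit 4122), (nat_lit 6858), [(nat_lit 746), (nat_lit 662)]⟩, ⟨(nat_lit 4126), (nat_lit 5031), [(nat_lit 568), (nat_lit 700)]⟩, ⟨(nat_lit 4127), (nat_lit 7469), [(nat_lit 467), (nat_lit 738)]⟩, ⟨(nat_lit 4128), (nat_lit 7355), [(nat_lit 1235), (nat_lit 126)]⟩, ⟨(nat_lit 4133), (nat_lit 6819), [(nat_lit 428), (nat_lit 512)]⟩, ⟨(nat_lit 4134), (nat_lit 5306),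 [(nat_lit 321), (nat_lit 624)]⟩, ⟨(nat_lit 4136), (nat_lit 6469), [(nat_lit 441), (nat_lit 225)]⟩, ⟨(nat_lit 4138), (nat_lit 5126), [(nat_lit 579), (nat_lit 379)]⟩, ⟨(nat_lit 4140), (nat_lit 5574), [(nat_lit 165), (nat_lit 420)]⟩, ⟨(nat_lit 4141), (nat_lit 7296), [(nat_lit 352), (nat_lit 140)]⟩])) (BT.leaf (.pt (nat_lit 5508) (nat_lit 4))))))) (BT.node (nat_lit 7480) (BT.node (nat_lit 7476) (BT.node (nat_lit 7474) (BT.node (nat_lit 7473) (BT.leaf (.pt (nat_lit 7471) (nat_lit 1))) (BT.leaf (.pt (nat_lit 6028) (nat_lit 3)))) (BT.node (nat_lit 7475) (BT.leaf (.pt (nat_lit 5967) (nat_lit 3))) (BT.leaf (.pt (nat_lit 7151) (nat_lit 1))))) (BT.node (nat_lit 7478) (BT.node (nat_lit 7477) (BT.leaf (.pt (nat_lit 7475) (nat_lit 4))) (BT.leaf (.pt (nat_lit 6229) (nat_lit 4)))) (BT.node (nat_lit 7479) (BT.leaf (.cov [] [⟨(nat_lit 4144), (nat_lit 4795), [(nat_lit 587), (nat_lit 223)]⟩, ⟨(nat_lit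 4145), (nat_lit 4583), [(nat_lit 433), (nat_lit 762)]⟩, ⟨(nat_lit 4148), (nat_lit 7472), [(nat_lit 356), (nat_lit 586)]⟩, ⟨(nat_lit 4151), (nat_lit 5112), [(nat_lit 510), (nat_lit 252)]⟩, ⟨(nat_lit 4155), (nat_lit 5804), [(nat_lit 763), (nat_lit 880)]⟩, ⟨(nat_lit 4159), (nat_lit 5966), [(nat_lit 503), (nat_lit 813)]⟩, ⟨(nat_lit 4161), (nat_lit 7473), [(nat_lit 1012), (nat_lit 421)]⟩, ⟨(nat_lit 4162), (nat_lit 4560), [(nat_lit 1014), (nat_lit 580)]⟩, ⟨(nat_lit 4165), (nat_lit 4733), [(nat_lit 510), (nat_lit 736)]⟩, ⟨(nat_lit 4168), (nat_lit 7474), [(nat_lit 422), (nat_lit 580)]⟩, ⟨(nat_lit 4169), (nat_lit 5499), [(nat_lit 241), (nat_lit 1745)]⟩, ⟨(nat_lit 4171), (nat_lit 4793), [(nat_lit 359), (nat_lit 529)]⟩, ⟨(nat_lit 4173), (nat_lit 4594), [(nat_lit 165), (nat_lit 235)]⟩, ⟨(nat_lit 4179), (nat_lit 4589), [(nat_lit 1102), (nat_lit 125)]⟩, ⟨(nat_lit 4181), (nat_lit 4763), [(nat_lit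 726), (nat_lit 248)]⟩, ⟨(nat_lit 4182), (nat_lit 4544), [(nat_lit 468), (nat_lit 379)]⟩, ⟨(nat_lit 4185), (nat_lit 6014), [(nat_lit 466), (nat_lit 504)]⟩, ⟨(nat_lit 4187), (nat_lit 5117), [(nat_lit 364), (nat_lit 1136)]⟩, ⟨(nat_lit 4188), (nat_lit 4587), [(nat_lit 129), (nat_lit 652)]⟩, ⟨(nat_lit 4190), (nat_lit 5716), [(nat_lit 373), (nat_lit 293)]⟩, ⟨(nat_lit 4193), (nat_lit 4654), [(nat_lit 690), (nat_lit 557)]⟩, ⟨(nat_lit 4194), (nat_lit 5760), [(nat_lit 826), (nat_lit 676)]⟩, ⟨(nat_lit 4198), (nat_lit 5612), [(nat_lit 629), (nat_lit 1165)]⟩, ⟨(nat_lit 4200), (nat_lit 6100), [(nat_lit 1056), (nat_lit 738)]⟩, ⟨(nat_lit 4203), (nat_lit 5994), [(nat_lit 1056), (nat_lit 270)]⟩, ⟨(nat_lit 4206), (nat_lit 7203), [(nat_lit 1437), (nat_lit 264)]⟩, ⟨(nat_lit 4208), (nat_lit 5975), [(nat_lit 1201), (nat_lit 532)]⟩, ⟨(nat_lit 4209), (nat_lit 6264), [(nat_lit 473), (nat_lit 1025)]⟩, ⟨(nat_lit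 4211), (nat_lit 6193), [(nat_lit 502), (nat_lit 252)]⟩, ⟨(nat_lit 4212), (nat_lit 7476), [(nat_lit 977), (nat_lit 307)]⟩, ⟨(nat_lit 4213), (nat_lit 6253), [(nat_lit 567), (nat_lit 449)]⟩, ⟨(nat_lit 4214), (nat_lit 6599), [(nat_lit 392), (nat_lit 712)]⟩, ⟨(nat_lit 4216), (nat_lit 4949), [(nat_lit 726), (nat_lit 813)]⟩, ⟨(nat_lit 4218), (nat_lit 6945), [(nat_lit 815), (nat_lit 91)]⟩, ⟨(nat_lit 4220), (nat_lit 5951), [(nat_lit 826), (nat_lit 294)]⟩, ⟨(nat_lit 4226), (nat_lit 6091), [(nat_lit 129), (nat_lit 478)]⟩, ⟨(nat_lit 4232), (nat_lit 4975), [(nat_lit 111), (nat_lit 676)]⟩, ⟨(nat_lit 4253), (nat_lit 7477), [(nat_lit 928), (nat_lit 0)]⟩, ⟨(nat_lit 4319), (nat_lit 7120), [(nat_lit 503), (nat_lit 584)]⟩, ⟨(nat_lit 4351), (nat_lit 6617), [(nat_lit 336), (nat_lit 1329)]⟩])) (BT.leaf (.cov [] [⟨(nat_lit 4388), (nat_lit 6343), [(nat_lit 763), (nat_lit 717)]⟩, ⟨(nat_lit 4389), (nat_lit 6611),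 [(nat_lit 423), (nat_lit 140)]⟩]))))) (BT.node (nat_lit 7484) (BT.node (nat_lit 7482) (BT.node (nat_lit 7481) (BT.leaf (.cov [(nat_lit 7470), (nat_lit 7478), (nat_lit 7479)] [])) (BT.leaf (.emul [(nat_lit 4067), (nat_lit 4069)]))) (BT.node (nat_lit 7483) (BT.leaf (.emul [(nat_lit 4078), (nat_lit 7481)])) (BT.leaf (.emul [(nat_lit 4069), (nat_lit 7482)])))) (BT.node (nat_lit 7486) (BT.node (nat_lit 7485) (BT.leaf (.pt (nat_lit 6265) (nat_lit 4))) (BT.leaf (.pt (nat_lit 5650) (nat_lit 4)))) (BT.node (nat_lit 7487) (BT.leaf (.cov [] [⟨(nat_lit 4222), (nat_lit 4484), []⟩, ⟨(nat_lit 4223), (nat_lit 5528), [(nat_lit 582), (nat_lit 968)]⟩, ⟨(nat_lit 4228), (nat_lit 4607), [(nat_lit 1292), (nat_lit 107)]⟩, ⟨(nat_lit 4230), (nat_lit 5289), [(nat_lit 406), (nat_lit 559)]⟩, ⟨(nat_lit 4239), (nat_lit 7484), [(nat_lit 271), (nat_lit 361)]⟩, ⟨(nat_lit 4241), (nat_lit 7350), [(nat_lit 470), (nat_lit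 566)]⟩, ⟨(nat_lit 4245), (nat_lit 7485), [(nat_lit 695), (nat_lit 1348)]⟩, ⟨(nat_lit 4247), (nat_lit 5083), [(nat_lit 404), (nat_lit 369)]⟩, ⟨(nat_lit 4250), (nat_lit 5331), [(nat_lit 174), (nat_lit 605)]⟩, ⟨(nat_lit 4254), (nat_lit 5229), [(nat_lit 255), (nat_lit 646)]⟩, ⟨(nat_lit 4256), (nat_lit 5417), [(nat_lit 212), (nat_lit 1001)]⟩, ⟨(nat_lit 4260), (nat_lit 6882), [(nat_lit 193), (nat_lit 1204)]⟩, ⟨(nat_lit 4263), (nat_lit 6801), [(nat_lit 620), (nat_lit 127)]⟩, ⟨(nat_lit 4265), (nat_lit 6755), [(nat_lit 177), (nat_lit 107)]⟩, ⟨(nat_lit 4267), (nat_lit 5084), [(nat_lit 299), (nat_lit 1001)]⟩])) (BT.leaf (.emul [(nat_lit 4237), (nat_lit 4244)]))))))))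
noncomputable def cF7488 : BT Fc := (BT.node (nat_lit 7520) (BT.node (nat_lit 7504) (BT.node (nat_lit 7496) (BT.node (nat_lit 7492) (BT.node (nat_lit 7490) (BT.node (nat_lit 7489) (BT.leaf ⟨(nat_lit 2), (nat_lit 16), (nat_lit 16), (nat_lit 0x3e8ea6efbaba4ea59d73bbc85ea8d5), (nat_lit 0), (nat_lit 0)⟩) (BT.leaf ⟨(nat_lit 2), (nat_lit 16), (nat_lit 16), (nat_lit 0x123aa5cbeb63271d26c193cc4c4f49f), (nat_lit 0), (nat_lit 0)⟩)) (BT.node (nat_lit 7491) (BT.leaf ⟨(nat_lit 2), (nat_lit 16), (nat_lit 16), (nat_lit 0x160dd22d2e555978d77aa75ccb0aeef), (nat_lit 0), (nat_lit 0)⟩) (BT.leaf ⟨(nat_lit 2), (nat_lit 16), (nat_lit 16), (nat_lit 0x17fd5db6c89aae51caa9570a675caf9), (nat_lit 0), (nat_lit 0)⟩))) (BT.node (nat_lit 7494) (BT.node (nat_lit 7493) (BT.leaf ⟨(nat_lit 2), (nat_lit 16), (nat_lit 16), (nat_lit 0x192dc9af12810422bd3a37b095904), (nat_lit 0), (nat_lit 0)⟩) (BT.leaf ⟨(nat_lit 2), (nat_lit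 16), (nat_lit 16), (nat_lit 0x104297dd5901005a3404c00bd22009e), (nat_lit 0), (nat_lit 0)⟩)) (BT.node (nat_lit 7495) (BT.leaf ⟨(nat_lit 2), (nat_lit 16), (nat_lit 16), (nat_lit 0xe589fdb135e3e896d5ca5fa8817e15), (nat_lit 0), (nat_lit 0)⟩) (BT.leaf ⟨(nat_lit 2), (nat_lit 16), (nat_lit 16), (nat_lit 0xd197a402c0110202073a01020f46b9), (nat_lit 0), (nat_lit 0)⟩)))) (BT.node (nat_lit 7500) (BT.node (nat_lit 7498) (BT.node (nat_lit 7497) (BT.leaf ⟨(nat_lit 2), (nat_lit 16), (nat_lit 16), (nat_lit 0x4b751370a5e0beae7db25c4bf3492b), (nat_lit 0), (nat_lit 0)⟩) (BT.leaf ⟨(nat_lit 2), (nat_lit 16), (nat_lit 16), (nat_lit 0x93c0c05027e0477279d38a84009463), (nat_lit 0), (nat_lit 0)⟩)) (BT.node (nat_lit 7499) (BT.leaf ⟨(nat_lit 2), (nat_lit 16), (nat_lit 16), (nat_lit 0x1bd36a6e45e89a8e76fcd69bd778287), (nat_lit 0), (nat_lit 0)⟩) (BT.leaf ⟨(nat_lit 2), (nat_lit 16), (nat_lit 16), (nat_lit 0x163532d34d442dfd6f8dd1b961ff179),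 (nat_lit 0), (nat_lit 0)⟩))) (BT.node (nat_lit 7502) (BT.node (nat_lit 7501) (BT.leaf ⟨(nat_lit 4), (nat_lit 263), (nat_lit 0), (nat_lit 0x137b13c8ea9725a4d59e4d52fb60c9e), (nat_lit 0), (nat_lit 0)⟩) (BT.leaf ⟨(nat_lit 4), (nat_lit 550), (nat_lit 0), (nat_lit 0x19d2b4084472201b1980f75f1a0f088), (nat_lit 0), (nat_lit 0)⟩)) (BT.node (nat_lit 7503) (BT.leaf ⟨(nat_lit 5), (nat_lit 17), (nat_lit 0), (nat_lit 0x4000000000000000000000000000000000000000000000000000000000000000000000000000000000000000000000000000000000000000000000000000000000000000000000000000000000000000000000000000000000000000000000000000000000000000000000000000000000000000000000000000000000000000000000100000000000000000000000020000000000000000000000000000000000000000000000000000000000000000000000000000000000000000000000000000000000000000000000000000000000000000000000000000000000000000000000000000000000000000000000000000000000000000000000000000000000000000000000000000000000000000000000000010000000000000000000000000000000000000000000000000000000000000000000004000000000000000000000000000000000000000000000000400000000000000000000000000000000000000000000000000000000000000000000000800000000000000000080000000000000000000000000000000000000008000001),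 (nat_lit 0), (nat_lit 0)⟩) (BT.leaf ⟨(nat_lit 2), (nat_lit 17), (nat_lit 17), (nat_lit 0x1ede55b70cbe97d3fa5d4bd59527a57), (nat_lit 0), (nat_lit 0)⟩))))) (BT.node (nat_lit 7512) (BT.node (nat_lit 7508) (BT.node (nat_lit 7506) (BT.node (nat_lit 7505) (BT.leaf ⟨(nat_lit 2), (nat_lit 17), (nat_lit 17), (nat_lit 0x164d044408f9ce8ef08ee018025ec), (nat_lit 0), (nat_lit 0)⟩) (BT.leaf ⟨(nat_lit 2), (nat_lit 17), (nat_lit 17), (nat_lit 0x5e778674fe92af7e26a365ad28bed4), (nat_lit 0), (nat_lit 0)⟩)) (BT.node (nat_lit 7507) (BT.leaf ⟨(nat_lit 2), (nat_lit 17), (nat_lit 17), (nat_lit 0x4139f40425674402c9ae84011f3824), (nat_lit 0), (nat_lit 0)⟩) (BT.leaf ⟨(nat_lit 2), (nat_lit 17), (nat_lit 17), (nat_lit 0xaec2100a006808815eaded00a38802), (nat_lit 0), (nat_lit 0)⟩))) (BT.node (nat_lit 7510) (BT.node (nat_lit 7509) (BT.leaf ⟨(nat_lit 2), (nat_lit 17), (nat_lit 17), (nat_lit 0xbf468d5c74ee4812e3210502cf101),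 (nat_lit 0), (nat_lit 0)⟩) (BT.leaf ⟨(nat_lit 2), (nat_lit 17), (nat_lit 17), (nat_lit 0x994f45e863931ee45e92ed7b2f060b), (nat_lit 0), (nat_lit 0)⟩)) (BT.node (nat_lit 7511) (BT.leaf ⟨(nat_lit 2), (nat_lit 17), (nat_lit 17), (nat_lit 0x1d18008802000215ca000080082025f), (nat_lit 0), (nat_lit 0)⟩) (BT.leaf ⟨(nat_lit 2), (nat_lit 17), (nat_lit 17), (nat_lit 0x75349c3db4c7d4cae581f48d9b65d5), (nat_lit 0), (nat_lit 0)⟩)))) (BT.node (nat_lit 7516) (BT.node (nat_lit 7514) (BT.node (nat_lit 7513) (BT.leaf ⟨(nat_lit 5), (nat_lit 18), (nat_lit 0), (nat_lit 0x80000000000000000000000000000000000000000000000000000000000000000000000020000000000000000000000000000000000000000000800000000000000000000000000000000000000000000000000000000000000000000000000000200000000000000000000000000000000000000000000000000000000000000000000000000000000000000000000000000000000000000000000000000000000000000000000000000000000000000000000000000000000000000000000000000000000000000000000000000000000000000000000000000000000000000000000000000000000000000000000000000000000000000000000000000000000000000000000000000000100000000000000000000000000000000000000000000000000000000000000000000000000000000000000000000000000000001000000000000001),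 (nat_lit 0), (nat_lit 0)⟩) (BT.leaf ⟨(nat_lit 2), (nat_lit 18), (nat_lit 18), (nat_lit 0xe939f3495a5deab2d83e35bbf1d53a), (nat_lit 0), (nat_lit 0)⟩)) (BT.node (nat_lit 7515) (BT.leaf ⟨(nat_lit 2), (nat_lit 18), (nat_lit 18), (nat_lit 0x27b4f3d893d25a6f48e1dac4f60e27), (nat_lit 0), (nat_lit 0)⟩) (BT.leaf ⟨(nat_lit 2), (nat_lit 18), (nat_lit 18), (nat_lit 0x14bf5cc02fc74020440468cbd220410), (nat_lit 0), (nat_lit 0)⟩))) (BT.node (nat_lit 7518) (BT.node (nat_lit 7517) (BT.leaf ⟨(nat_lit 2), (nat_lit 18), (nat_lit 18), (nat_lit 0x145e7a4ab4d5bf36a72150ebd3fa31c), (nat_lit 0), (nat_lit 0)⟩) (BT.leaf ⟨(nat_lit 2), (nat_lit 18), (nat_lit 18), (nat_lit 0x2055c0418024063978ce8e4b92f001), (nat_lit 0), (nat_lit 0)⟩)) (BT.node (nat_lit 7519) (BT.leaf ⟨(nat_lit 2), (nat_lit 18), (nat_lit 18), (nat_lit 0xc7390ed4de9bf0d96e450f45f7b2f4), (nat_lit 0), (nat_lit 0)⟩) (BT.leaf ⟨(nat_lit 2), (nat_lit 18),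 (nat_lit 18), (nat_lit 0xc730599bbd2abaf0265b910f7dbd68), (nat_lit 0), (nat_lit 0)⟩)))))) (BT.node (nat_lit 7536) (BT.node (nat_lit 7528) (BT.node (nat_lit 7524) (BT.node (nat_lit 7522) (BT.node (nat_lit 7521) (BT.leaf ⟨(nat_lit 2), (nat_lit 18), (nat_lit 18), (nat_lit 0x1ee85bf1a5a55979c583c754eb9972a), (nat_lit 0), (nat_lit 0)⟩) (BT.leaf ⟨(nat_lit 2), (nat_lit 18), (nat_lit 18), (nat_lit 0x1a88d796f27f9a5b832f24e4ac87cc7), (nat_lit 0), (nat_lit 0)⟩)) (BT.node (nat_lit 7523) (BT.leaf ⟨(nat_lit 2), (nat_lit 18), (nat_lit 18), (nat_lit 0x73969732e7dce3bd583c754e9a4f3a), (nat_lit 0), (nat_lit 0)⟩) (BT.leaf ⟨(nat_lit 2), (nat_lit 18), (nat_lit 18), (nat_lit 0x127e4f59ed3d2fa4b48ed8389dec77d), (nat_lit 0), (nat_lit 0)⟩))) (BT.node (nat_lit 7526) (BT.node (nat_lit 7525) (BT.leaf ⟨(nat_lit 2), (nat_lit 18), (nat_lit 18), (nat_lit 0x1757f1e5fd721ce8040488104201480), (nat_lit 0), (nat_lit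 0)⟩) (BT.leaf ⟨(nat_lit 2), (nat_lit 18), (nat_lit 18), (nat_lit 0x1135351b29e9bdb7e721fe8c7255979), (nat_lit 0), (nat_lit 0)⟩)) (BT.node (nat_lit 7527) (BT.leaf ⟨(nat_lit 2), (nat_lit 18), (nat_lit 18), (nat_lit 0x18019d07380997e106b9811041a3480), (nat_lit 0), (nat_lit 0)⟩) (BT.leaf ⟨(nat_lit 2), (nat_lit 18), (nat_lit 18), (nat_lit 0xe5ad8e6965e5beae13f05e4ac96cc7), (nat_lit 0), (nat_lit 0)⟩)))) (BT.node (nat_lit 7532) (BT.node (nat_lit 7530) (BT.node (nat_lit 7529) (BT.leaf ⟨(nat_lit 2), (nat_lit 18), (nat_lit 18), (nat_lit 0x1bd790ed4dc9ad3fa674df9bc0d92f4), (nat_lit 0), (nat_lit 0)⟩) (BT.leaf ⟨(nat_lit 2), (nat_lit 18), (nat_lit 18), (nat_lit 0x10035cc403d14020438d84175439af4), (nat_lit 0), (nat_lit 0)⟩)) (BT.node (nat_lit 7531) (BT.leaf ⟨(nat_lit 2), (nat_lit 18), (nat_lit 18), (nat_lit 0xe5ac1af92b57fddcd34d94db0732b9), (nat_lit 0), (nat_lit 0)⟩) (BT.leaf ⟨(nat_lit 2), (nat_lit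 18), (nat_lit 18), (nat_lit 0x1ceb9df32e7ddeb8d2d20f94e9a4ba4), (nat_lit 0), (nat_lit 0)⟩))) (BT.node (nat_lit 7534) (BT.node (nat_lit 7533) (BT.leaf ⟨(nat_lit 2), (nat_lit 18), (nat_lit 18), (nat_lit 0x1df6a5d9ed3d25876c9e93989dec09e), (nat_lit 0), (nat_lit 0)⟩) (BT.leaf ⟨(nat_lit 2), (nat_lit 18), (nat_lit 18), (nat_lit 0x1201c6e5fd73401a37e38410420152f), (nat_lit 0), (nat_lit 0)⟩)) (BT.node (nat_lit 7535) (BT.leaf ⟨(nat_lit 2), (nat_lit 18), (nat_lit 18), (nat_lit 0x4b89f90ffb6dc017b2fcd3856ae52f), (nat_lit 0), (nat_lit 0)⟩) (BT.leaf ⟨(nat_lit 2), (nat_lit 18), (nat_lit 18), (nat_lit 0x1ee8480c0100603e32805be8e679f0d), (nat_lit 0), (nat_lit 0)⟩))))) (BT.node (nat_lit 7544) (BT.node (nat_lit 7540) (BT.node (nat_lit 7538) (BT.node (nat_lit 7537) (BT.leaf ⟨(nat_lit 2), (nat_lit 18), (nat_lit 18), (nat_lit 0x5d932dc83d1780cddecbd50f5575f8), (nat_lit 0), (nat_lit 0)⟩) (BT.leaf ⟨(nat_lit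 2), (nat_lit 18), (nat_lit 18), (nat_lit 0x10037a47325e403a3200041e3401004), (nat_lit 0), (nat_lit 0)⟩)) (BT.node (nat_lit 7539) (BT.leaf ⟨(nat_lit 2), (nat_lit 18), (nat_lit 18), (nat_lit 0xb31f14a59b26f1f095af2145de19e3), (nat_lit 0), (nat_lit 0)⟩) (BT.leaf ⟨(nat_lit 2), (nat_lit 18), (nat_lit 18), (nat_lit 0x1df64f0edb62f6360e9e93827a6f49a), (nat_lit 0), (nat_lit 0)⟩))) (BT.node (nat_lit 7542) (BT.node (nat_lit 7541) (BT.leaf ⟨(nat_lit 2), (nat_lit 18), (nat_lit 18), (nat_lit 0xe939df389b2d243e73eaca73b1d6ef), (nat_lit 0), (nat_lit 0)⟩) (BT.leaf ⟨(nat_lit 4), (nat_lit 64), (nat_lit 0), (nat_lit 0x295d8128040184112d93808a38a5d), (nat_lit 0), (nat_lit 0)⟩)) (BT.node (nat_lit 7543) (BT.leaf ⟨(nat_lit 5), (nat_lit 19), (nat_lit 0), (nat_lit 0x100000000000000000000000000000000000000000000020000000000000000000000000000000000000000000000000000000000000000000000000000000000000000000000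00000000000000000000000000000000000000000200800000000000000000000000000000000000000000000000000000000000000000000000000000000000000000000000000000000000000000000000000000000000000000000000000000000000000000000000000000000000000000000000000000010000000000000000000000000000000000000000000000000000000000000000000000000000000000000000000000000000000000000000000000000000000000000000000000000000000000000000000000000000000000000400000000000000000000000000000000000000000000000000000000000000000000000000000040000000000000000000000000000000000000000000000000000000000000000000000000000000000000000000000000000000000000020000000010000000000000001), (nat_lit 0), (nat_lit 0)⟩) (BT.leaf ⟨(nat_lit 2), (nat_lit 19), (nat_lit 19), (nat_lit 0xd1ba24a5a8dd5ba7766e841f065fc6), (nat_lit 0), (nat_lit 0)⟩)))) (BT.node (nat_lit 7548) (BT.node (nat_lit 7546) (BT.node (nat_lit 7545) (BT.leaf ⟨(nat_lit 2), (nat_lit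 19), (nat_lit 19), (nat_lit 0x75caa9d17147d4eef21ddf7546aa36), (nat_lit 0), (nat_lit 0)⟩) (BT.leaf ⟨(nat_lit 2), (nat_lit 19), (nat_lit 19), (nat_lit 0x1f1a5287ca8c6cba775668dd13a3f42), (nat_lit 0), (nat_lit 0)⟩)) (BT.node (nat_lit 7547) (BT.leaf ⟨(nat_lit 2), (nat_lit 19), (nat_lit 19), (nat_lit 0x8d8e8dd5714714ee9f53ae5572c6ef), (nat_lit 0), (nat_lit 0)⟩) (BT.leaf ⟨(nat_lit 2), (nat_lit 19), (nat_lit 19), (nat_lit 0x654e2b8a2aa75377a363af757908d5), (nat_lit 0), (nat_lit 0)⟩))) (BT.node (nat_lit 7550) (BT.node (nat_lit 7549) (BT.leaf ⟨(nat_lit 2), (nat_lit 19), (nat_lit 19), (nat_lit 0x1c1bb354694a32da3742f8dd13ab747), (nat_lit 0), (nat_lit 0)⟩) (BT.leaf ⟨(nat_lit 2), (nat_lit 19), (nat_lit 19), (nat_lit 0x1d3b235460f86cbe374268dd13a3f56), (nat_lit 0), (nat_lit 0)⟩)) (BT.node (nat_lit 7551) (BT.leaf ⟨(nat_lit 2), (nat_lit 19), (nat_lit 19), (nat_lit 0x160d7cd342b439a26abb172aa55c2bd),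 (nat_lit 0), (nat_lit 0)⟩) (BT.leaf ⟨(nat_lit 2), (nat_lit 19), (nat_lit 19), (nat_lit 0x11c439c778f75cf39b49f2114e79bfe), (nat_lit 0), (nat_lit 0)⟩)))))))
noncomputable def cP7488 : BT Pf := (BT.node (nat_lit 7520) (BT.node (nat_lit 7504) (BT.node (nat_lit 7496) (BT.node (nat_lit 7492) (BT.node (nat_lit 7490) (BT.node (nat_lit 7489) (BT.leaf (.emul [(nat_lit 4244), (nat_lit 7487)])) (BT.leaf (.emul [(nat_lit 4244), (nat_lit 7488)]))) (BT.node (nat_lit 7491) (BT.leaf (.emul [(nat_lit 4244), (nat_lit 7489)])) (BT.leaf (.emul [(nat_lit 4237), (nat_lit 7490)])))) (BT.node (nat_lit 7494) (BT.node (nat_lit 7493) (BT.leaf (.emul [(nat_lit 4244), (nat_lit 7491)])) (BT.leaf (.emul [(nat_lit 4244), (nat_lit 4244)]))) (BT.node (nat_lit 7495) (BT.leaf (.emul [(nat_lit 4244), (nat_lit 7493)])) (BT.leaf (.emul [(nat_lit 4237), (nat_lit 7494)]))))) (BT.node (nat_lit 7500) (BT.node (nat_lit 7498)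 (BT.node (nat_lit 7497) (BT.leaf (.emul [(nat_lit 4244), (nat_lit 7495)])) (BT.leaf (.emul [(nat_lit 4244), (nat_lit 7496)]))) (BT.node (nat_lit 7499) (BT.leaf (.emul [(nat_lit 4237), (nat_lit 7497)])) (BT.leaf (.emul [(nat_lit 4244), (nat_lit 7498)])))) (BT.node (nat_lit 7502) (BT.node (nat_lit 7501) (BT.leaf (.pt (nat_lit 6291) (nat_lit 3))) (BT.leaf (.pt (nat_lit 7201) (nat_lit 4)))) (BT.node (nat_lit 7503) (BT.leaf (.cov [] [⟨(nat_lit 4270), (nat_lit 4484), []⟩, ⟨(nat_lit 4280), (nat_lit 7500), [(nat_lit 883), (nat_lit 107)]⟩, ⟨(nat_lit 4282), (nat_lit 6077), [(nat_lit 296), (nat_lit 270)]⟩, ⟨(nat_lit 4283), (nat_lit 6763), [(nat_lit 513), (nat_lit 798)]⟩, ⟨(nat_lit 4285), (nat_lit 5038), [(nat_lit 470), (nat_lit 1605)]⟩, ⟨(nat_lit 4318), (nat_lit 6384), [(nat_lit 538), (nat_lit 431)]⟩, ⟨(nat_lit 4320), (nat_lit 5125), [(nat_lit 1173), (nat_lit 1279)]⟩, ⟨(nat_lit 4394), (nat_lit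 5342), [(nat_lit 1092), (nat_lit 808)]⟩, ⟨(nat_lit 4415), (nat_lit 7501), [(nat_lit 902), (nat_lit 269)]⟩, ⟨(nat_lit 4449), (nat_lit 4538), []⟩])) (BT.leaf (.emul [(nat_lit 4278), (nat_lit 4408)])))))) (BT.node (nat_lit 7512) (BT.node (nat_lit 7508) (BT.node (nat_lit 7506) (BT.node (nat_lit 7505) (BT.leaf (.emul [(nat_lit 4274), (nat_lit 4398)])) (BT.leaf (.emul [(nat_lit 4269), (nat_lit 7504)]))) (BT.node (nat_lit 7507) (BT.leaf (.emul [(nat_lit 7503), (nat_lit 7505)])) (BT.leaf (.emul [(nat_lit 4269), (nat_lit 4395)])))) (BT.node (nat_lit 7510) (BT.node (nat_lit 7509) (BT.leaf (.emul [(nat_lit 4278), (nat_lit 7507)])) (BT.leaf (.emul [(nat_lit 7508), (nat_lit 4403)]))) (BT.node (nat_lit 7511) (BT.leaf (.emul [(nat_lit 4278), (nat_lit 4421)])) (BT.leaf (.emul [(nat_lit 7510), (nat_lit 4398)]))))) (BT.node (nat_lit 7516) (BT.node (nat_lit 7514) (BT.node (nat_lit 7513) (BT.leaf (.cov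 [] [⟨(nat_lit 4288), (nat_lit 4484), []⟩, ⟨(nat_lit 4294), (nat_lit 4607), [(nat_lit 177), (nat_lit 163)]⟩, ⟨(nat_lit 4338), (nat_lit 4916), [(nat_lit 523), (nat_lit 421)]⟩, ⟨(nat_lit 4362), (nat_lit 6702), [(nat_lit 348), (nat_lit 1939)]⟩, ⟨(nat_lit 4368), (nat_lit 6819), [(nat_lit 783), (nat_lit 972)]⟩, ⟨(nat_lit 4416), (nat_lit 6052), [(nat_lit 1437), (nat_lit 504)]⟩, ⟨(nat_lit 4433), (nat_lit 5605), [(nat_lit 1027), (nat_lit 172)]⟩])) (BT.leaf (.emul [(nat_lit 4289), (nat_lit 4423)]))) (BT.node (nat_lit 7515) (BT.leaf (.emul [(nat_lit 4293), (nat_lit 7513)])) (BT.leaf (.emul [(nat_lit 4293), (nat_lit 7514)])))) (BT.node (nat_lit 7518) (BT.node (nat_lit 7517) (BT.leaf (.emul [(nat_lit 4289), (nat_lit 7515)])) (BT.leaf (.emul [(nat_lit 4293), (nat_lit 7516)]))) (BT.node (nat_lit 7519) (BT.leaf (.emul [(nat_lit 4287), (nat_lit 7517)])) (BT.leaf (.emul [(nat_lit 7518), (nat_lit 4287)])))))))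 (BT.node (nat_lit 7536) (BT.node (nat_lit 7528) (BT.node (nat_lit 7524) (BT.node (nat_lit 7522) (BT.node (nat_lit 7521) (BT.leaf (.emul [(nat_lit 4293), (nat_lit 4425)])) (BT.leaf (.emul [(nat_lit 4289), (nat_lit 7520)]))) (BT.node (nat_lit 7523) (BT.leaf (.emul [(nat_lit 4293), (nat_lit 7521)])) (BT.leaf (.emul [(nat_lit 4293), (nat_lit 7522)])))) (BT.node (nat_lit 7526) (BT.node (nat_lit 7525) (BT.leaf (.emul [(nat_lit 4293), (nat_lit 7523)])) (BT.leaf (.emul [(nat_lit 4289), (nat_lit 7524)]))) (BT.node (nat_lit 7527) (BT.leaf (.emul [(nat_lit 4289), (nat_lit 7525)])) (BT.leaf (.emul [(nat_lit 4293), (nat_lit 7526)]))))) (BT.node (nat_lit 7532) (BT.node (nat_lit 7530) (BT.node (nat_lit 7529) (BT.leaf (.emul [(nat_lit 4289), (nat_lit 4287)])) (BT.leaf (.emul [(nat_lit 4289), (nat_lit 7528)]))) (BT.node (nat_lit 7531) (BT.leaf (.emul [(nat_lit 7527), (nat_lit 7529)])) (BT.leaf (.emul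 [(nat_lit 4289), (nat_lit 7523)])))) (BT.node (nat_lit 7534) (BT.node (nat_lit 7533) (BT.leaf (.emul [(nat_lit 4293), (nat_lit 7531)])) (BT.leaf (.emul [(nat_lit 4293), (nat_lit 7532)]))) (BT.node (nat_lit 7535) (BT.leaf (.emul [(nat_lit 7533), (nat_lit 4289)])) (BT.leaf (.emul [(nat_lit 4293), (nat_lit 4293)])))))) (BT.node (nat_lit 7544) (BT.node (nat_lit 7540) (BT.node (nat_lit 7538) (BT.node (nat_lit 7537) (BT.leaf (.emul [(nat_lit 4287), (nat_lit 7535)])) (BT.leaf (.emul [(nat_lit 4293), (nat_lit 7536)]))) (BT.node (nat_lit 7539) (BT.leaf (.emul [(nat_lit 4293), (nat_lit 7537)])) (BT.leaf (.emul [(nat_lit 4289), (nat_lit 7538)])))) (BT.node (nat_lit 7542) (BT.node (nat_lit 7541) (BT.leaf (.emul [(nat_lit 4289), (nat_lit 7539)])) (BT.leaf (.pt (nat_lit 4540) (nat_lit 3)))) (BT.node (nat_lit 7543) (BT.leaf (.cov [] [⟨(nat_lit 4298), (nat_lit 4484), []⟩, ⟨(nat_lit 4313), (nat_lit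 7103), [(nat_lit 166), (nat_lit 396)]⟩, ⟨(nat_lit 4322), (nat_lit 5301), [(nat_lit 429), (nat_lit 898)]⟩, ⟨(nat_lit 4325), (nat_lit 6693), [(nat_lit 523), (nat_lit 235)]⟩, ⟨(nat_lit 4344), (nat_lit 5710), [(nat_lit 280), (nat_lit 822)]⟩, ⟨(nat_lit 4352), (nat_lit 7069), [(nat_lit 152), (nat_lit 1583)]⟩, ⟨(nat_lit 4363), (nat_lit 6930), [(nat_lit 781), (nat_lit 235)]⟩, ⟨(nat_lit 4364), (nat_lit 5094), [(nat_lit 350), (nat_lit 499)]⟩, ⟨(nat_lit 4369), (nat_lit 5948), [(nat_lit 373), (nat_lit 785)]⟩, ⟨(nat_lit 4461), (nat_lit 7541), []⟩])) (BT.leaf (.emul [(nat_lit 4297), (nat_lit 4437)]))))) (BT.node (nat_lit 7548) (BT.node (nat_lit 7546) (BT.node (nat_lit 7545) (BT.leaf (.emul [(nat_lit 4308), (nat_lit 7543)])) (BT.leaf (.emul [(nat_lit 4308), (nat_lit 7544)]))) (BT.node (nat_lit 7547) (BT.leaf (.emul [(nat_lit 4308), (nat_lit 7545)])) (BT.leaf (.emul [(nat_lit 4297), (nat_lit 7546)]))))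 (BT.node (nat_lit 7550) (BT.node (nat_lit 7549) (BT.leaf (.emul [(nat_lit 4308), (nat_lit 7547)])) (BT.leaf (.emul [(nat_lit 4299), (nat_lit 7548)]))) (BT.node (nat_lit 7551) (BT.leaf (.emul [(nat_lit 7549), (nat_lit 4438)])) (BT.leaf (.emul [(nat_lit 4299), (nat_lit 4435)]))))))))
noncomputable def cF7552 : BT Fc := (BT.node (nat_lit 7571) (BT.node (nat_lit 7561) (BT.node (nat_lit 7556) (BT.node (nat_lit 7554) (BT.node (nat_lit 7553) (BT.leaf ⟨(nat_lit 2), (nat_lit 19), (nat_lit 19), (nat_lit 0x15a2f52d2bc17a7db9e8bd8c7305ce8), (nat_lit 0), (nat_lit 0)⟩) (BT.leaf ⟨(nat_lit 2), (nat_lit 19), (nat_lit 19), (nat_lit 0xd1ba26460f9d0be3519ead51b8374e), (nat_lit 0), (nat_lit 0)⟩)) (BT.node (nat_lit 7555) (BT.leaf ⟨(nat_lit 2), (nat_lit 19), (nat_lit 19), (nat_lit 0x1f1ba276694bd09a3519e8f51ba7706), (nat_lit 0), (nat_lit 0)⟩) (BT.leaf ⟨(nat_lit 2), (nat_lit 19), (nat_lit 19), (nat_lit 0x8d8aaf213a3bbcebbd5cb0e28ee995),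 (nat_lit 0), (nat_lit 0)⟩))) (BT.node (nat_lit 7558) (BT.node (nat_lit 7557) (BT.leaf ⟨(nat_lit 2), (nat_lit 19), (nat_lit 19), (nat_lit 0x1d0a52f560f8d1be3519c8d51ba7706), (nat_lit 0), (nat_lit 0)⟩) (BT.leaf ⟨(nat_lit 2), (nat_lit 19), (nat_lit 19), (nat_lit 0x1bbce89f5baa75d1b3d53a8e28ee995), (nat_lit 0), (nat_lit 0)⟩)) (BT.node (nat_lit 7559) (BT.leaf ⟨(nat_lit 2), (nat_lit 19), (nat_lit 19), (nat_lit 0x27a0f26a91cc4e4e6c197d37a4b69e), (nat_lit 0), (nat_lit 0)⟩) (BT.node (nat_lit 7560) (BT.leaf ⟨(nat_lit 2), (nat_lit 19), (nat_lit 19), (nat_lit 0xb3095d2f2de4fd97e1525ba88d790f), (nat_lit 0), (nat_lit 0)⟩) (BT.leaf ⟨(nat_lit 2), (nat_lit 19), (nat_lit 19), (nat_lit 0x5bc9fb7021e4bb5102f25bf6e97acc), (nat_lit 0), (nat_lit 0)⟩))))) (BT.node (nat_lit 7566) (BT.node (nat_lit 7563) (BT.node (nat_lit 7562) (BT.leaf ⟨(nat_lit 2), (nat_lit 19), (nat_lit 19), (nat_lit 0x125a4fec1b3d239354be938c4e0f3a4),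 (nat_lit 0), (nat_lit 0)⟩) (BT.leaf ⟨(nat_lit 2), (nat_lit 19), (nat_lit 19), (nat_lit 0x23c6a00002080086f4100401f1c00), (nat_lit 0), (nat_lit 0)⟩)) (BT.node (nat_lit 7564) (BT.leaf ⟨(nat_lit 2), (nat_lit 19), (nat_lit 19), (nat_lit 0xb498e265bd982ef4fe83d1782d47b7), (nat_lit 0), (nat_lit 0)⟩) (BT.node (nat_lit 7565) (BT.leaf ⟨(nat_lit 2), (nat_lit 19), (nat_lit 19), (nat_lit 0x191aa31b2eadc1ba10cba321f3b37c6), (nat_lit 0), (nat_lit 0)⟩) (BT.leaf ⟨(nat_lit 2), (nat_lit 19), (nat_lit 19), (nat_lit 0xaa45cabd77239a26a395f360d4cd34), (nat_lit 0), (nat_lit 0)⟩)))) (BT.node (nat_lit 7568) (BT.node (nat_lit 7567) (BT.leaf ⟨(nat_lit 5), (nat_lit 26), (nat_lit 0), (nat_lit 0x8000000000000000000000000000000000000000000000000000000000000000000000000000000000000000000000000000000000000000000000000000000000000000000000000000000000000000000000000000000000001000000000000000000000000000000000000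0000000000000000000000000000000000000000000000000000000000000000000000000000000000000000000000000000000000000000000000000000000000000000000000000000000000000000000000000000000000000000000000000000000000000000000000000000000000000000000000000000000000000000000000000000000000000000000000000000000800000000000000000000000000000000000000000000000000000000000000000000000000000000000000000000000000000000000000000000000000000000000000000000000000000000000001), (nat_lit 0), (nat_lit 0)⟩) (BT.leaf ⟨(nat_lit 2), (nat_lit 26), (nat_lit 26), (nat_lit 0x16a2f45e9bd90f7dbfe82ecb48f45ea), (nat_lit 0), (nat_lit 0)⟩)) (BT.node (nat_lit 7569) (BT.leaf ⟨(nat_lit 2), (nat_lit 26), (nat_lit 26), (nat_lit 0x1a889393f35e43db8615fb6cbc95acc), (nat_lit 0), (nat_lit 0)⟩) (BT.node (nat_lit 7570) (BT.leaf ⟨(nat_lit 2), (nat_lit 26), (nat_lit 26), (nat_lit 0x56b13f511ccaf51cecabfeae54cd34), (nat_lit 0), (nat_lit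 0)⟩) (BT.leaf ⟨(nat_lit 2), (nat_lit 26), (nat_lit 26), (nat_lit 0xaee26b961cc8e75cab8c4eac55cbb9), (nat_lit 0), (nat_lit 0)⟩)))))) (BT.node (nat_lit 7581) (BT.node (nat_lit 7576) (BT.node (nat_lit 7573) (BT.node (nat_lit 7572) (BT.leaf ⟨(nat_lit 2), (nat_lit 26), (nat_lit 26), (nat_lit 0xfa3f3b8029780880593e08500841), (nat_lit 0), (nat_lit 0)⟩) (BT.leaf ⟨(nat_lit 2), (nat_lit 26), (nat_lit 26), (nat_lit 0x1b7800c029010424779344ace8904), (nat_lit 0), (nat_lit 0)⟩)) (BT.node (nat_lit 7574) (BT.leaf ⟨(nat_lit 2), (nat_lit 26), (nat_lit 26), (nat_lit 0xd8c605689e621240081ce8554507c6), (nat_lit 0), (nat_lit 0)⟩) (BT.node (nat_lit 7575) (BT.leaf ⟨(nat_lit 2), (nat_lit 26), (nat_lit 26), (nat_lit 0x1749c524faca9fdafa5da3287d2dcab), (nat_lit 0), (nat_lit 0)⟩) (BT.leaf ⟨(nat_lit 2), (nat_lit 26), (nat_lit 26), (nat_lit 0xd278d0b7aca1f377b3ae75cee6cfba), (nat_lit 0), (nat_lit 0)⟩)))) (BT.node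 (nat_lit 7578) (BT.node (nat_lit 7577) (BT.leaf ⟨(nat_lit 2), (nat_lit 26), (nat_lit 26), (nat_lit 0x820840880131edf5f854afbf093f32), (nat_lit 0), (nat_lit 0)⟩) (BT.leaf ⟨(nat_lit 2), (nat_lit 26), (nat_lit 26), (nat_lit 0x1e17d6f8f196c4ec68b771b4d346e58), (nat_lit 0), (nat_lit 0)⟩)) (BT.node (nat_lit 7579) (BT.leaf ⟨(nat_lit 2), (nat_lit 26), (nat_lit 26), (nat_lit 0x13a0802e3b3dfd31d300208ee723120), (nat_lit 0), (nat_lit 0)⟩) (BT.node (nat_lit 7580) (BT.leaf ⟨(nat_lit 2), (nat_lit 26), (nat_lit 26), (nat_lit 0x10430038d810d1839c008414bd7a404), (nat_lit 0), (nat_lit 0)⟩) (BT.leaf ⟨(nat_lit 2), (nat_lit 26), (nat_lit 26), (nat_lit 0x745ea995bab52c7d5a63ea554eb9c5), (nat_lit 0), (nat_lit 0)⟩))))) (BT.node (nat_lit 7586) (BT.node (nat_lit 7583) (BT.node (nat_lit 7582) (BT.leaf ⟨(nat_lit 2), (nat_lit 26), (nat_lit 26), (nat_lit 0x66e1ece8bf05d96975198fedef5568), (nat_lit 0), (nat_lit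 0)⟩) (BT.leaf ⟨(nat_lit 2), (nat_lit 26), (nat_lit 26), (nat_lit 0x556b470d100d8fdd2df1028e73a088), (nat_lit 0), (nat_lit 0)⟩)) (BT.node (nat_lit 7584) (BT.leaf ⟨(nat_lit 2), (nat_lit 26), (nat_lit 26), (nat_lit 0x200825f100800800403ab27b9d001), (nat_lit 0), (nat_lit 0)⟩) (BT.node (nat_lit 7585) (BT.leaf ⟨(nat_lit 2), (nat_lit 26), (nat_lit 26), (nat_lit 0x881406000bef5520300fd1a7904204), (nat_lit 0), (nat_lit 0)⟩) (BT.leaf ⟨(nat_lit 2), (nat_lit 26), (nat_lit 26), (nat_lit 0x1ce99d73eacbc685b87cc2a739697ba), (nat_lit 0), (nat_lit 0)⟩)))) (BT.node (nat_lit 7588) (BT.node (nat_lit 7587) (BT.leaf ⟨(nat_lit 2), (nat_lit 26), (nat_lit 26), (nat_lit 0x821022800be8018069e7aa90197e00), (nat_lit 0), (nat_lit 0)⟩) (BT.leaf ⟨(nat_lit 2), (nat_lit 26), (nat_lit 26), (nat_lit 0x12781025f100802000080807555c900), (nat_lit 0), (nat_lit 0)⟩)) (BT.node (nat_lit 7589) (BT.leaf ⟨(nat_lit 2), (nat_lit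 26), (nat_lit 26), (nat_lit 0x1bf004257811cc8065e0f0a0a158f4e), (nat_lit 0), (nat_lit 0)⟩) (BT.node (nat_lit 7590) (BT.leaf ⟨(nat_lit 2), (nat_lit 26), (nat_lit 26), (nat_lit 0xf634f41eb3c3b65f48eefb26ad8a6a), (nat_lit 0), (nat_lit 0)⟩) (BT.leaf ⟨(nat_lit 2), (nat_lit 26), (nat_lit 26), (nat_lit 0x9a8bb0ed9bd079d2627efbb06d8bd8), (nat_lit 0), (nat_lit 0)⟩)))))))
noncomputable def cP7552 : BT Pf := (BT.node (nat_lit 7571) (BT.node (nat_lit 7561) (BT.node (nat_lit 7556) (BT.node (nat_lit 7554) (BT.node (nat_lit 7553) (BT.leaf (.emul [(nat_lit 4308), (nat_lit 7551)])) (BT.leaf (.emul [(nat_lit 4297), (nat_lit 7552)]))) (BT.node (nat_lit 7555) (BT.leaf (.emul [(nat_lit 4299), (nat_lit 7553)])) (BT.leaf (.emul [(nat_lit 4308), (nat_lit 7554)])))) (BT.node (nat_lit 7558) (BT.node (nat_lit 7557) (BT.leaf (.emul [(nat_lit 4308), (nat_lit 7555)])) (BT.leaf (.emul [(nat_lit 4308), (nat_lit 7556)])))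 (BT.node (nat_lit 7559) (BT.leaf (.emul [(nat_lit 7557), (nat_lit 4438)])) (BT.node (nat_lit 7560) (BT.leaf (.emul [(nat_lit 4308), (nat_lit 4441)])) (BT.leaf (.emul [(nat_lit 4297), (nat_lit 7559)])))))) (BT.node (nat_lit 7566) (BT.node (nat_lit 7563) (BT.node (nat_lit 7562) (BT.leaf (.emul [(nat_lit 4299), (nat_lit 7560)])) (BT.leaf (.emul [(nat_lit 4308), (nat_lit 7561)]))) (BT.node (nat_lit 7564) (BT.leaf (.emul [(nat_lit 4297), (nat_lit 7562)])) (BT.node (nat_lit 7565) (BT.leaf (.emul [(nat_lit 4297), (nat_lit 7563)])) (BT.leaf (.emul [(nat_lit 7564), (nat_lit 4299)]))))) (BT.node (nat_lit 7568) (BT.node (nat_lit 7567) (BT.leaf (.cov [] [⟨(nat_lit 4391), (nat_lit 4484), []⟩, ⟨(nat_lit 4400), (nat_lit 5388), [(nat_lit 151), (nat_lit 1018)]⟩, ⟨(nat_lit 4482), (nat_lit 5640), []⟩, ⟨(nat_lit 4483), (nat_lit 6813), [(nat_lit 1027), (nat_lit 390)]⟩])) (BT.leaf (.emul [(nat_lit 4390),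 (nat_lit 4472)]))) (BT.node (nat_lit 7569) (BT.leaf (.emul [(nat_lit 4390), (nat_lit 7567)])) (BT.node (nat_lit 7570) (BT.leaf (.emul [(nat_lit 4399), (nat_lit 7568)])) (BT.leaf (.emul [(nat_lit 4390), (nat_lit 7569)]))))))) (BT.node (nat_lit 7581) (BT.node (nat_lit 7576) (BT.node (nat_lit 7573) (BT.node (nat_lit 7572) (BT.leaf (.emul [(nat_lit 4393), (nat_lit 7570)])) (BT.leaf (.emul [(nat_lit 4393), (nat_lit 7571)]))) (BT.node (nat_lit 7574) (BT.leaf (.emul [(nat_lit 4390), (nat_lit 7572)])) (BT.node (nat_lit 7575) (BT.leaf (.emul [(nat_lit 4399), (nat_lit 7573)])) (BT.leaf (.emul [(nat_lit 4390), (nat_lit 4393)]))))) (BT.node (nat_lit 7578) (BT.node (nat_lit 7577) (BT.leaf (.emul [(nat_lit 7574), (nat_lit 7575)])) (BT.leaf (.emul [(nat_lit 4393), (nat_lit 4468)]))) (BT.node (nat_lit 7579) (BT.leaf (.emul [(nat_lit 4390), (nat_lit 7577)])) (BT.node (nat_lit 7580) (BT.leaf (.emul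 [(nat_lit 4399), (nat_lit 7578)])) (BT.leaf (.emul [(nat_lit 4390), (nat_lit 4475)])))))) (BT.node (nat_lit 7586) (BT.node (nat_lit 7583) (BT.node (nat_lit 7582) (BT.leaf (.emul [(nat_lit 4393), (nat_lit 7580)])) (BT.leaf (.emul [(nat_lit 7579), (nat_lit 7581)]))) (BT.node (nat_lit 7584) (BT.leaf (.emul [(nat_lit 4399), (nat_lit 4476)])) (BT.node (nat_lit 7585) (BT.leaf (.emul [(nat_lit 4393), (nat_lit 7583)])) (BT.leaf (.emul [(nat_lit 4390), (nat_lit 7584)]))))) (BT.node (nat_lit 7588) (BT.node (nat_lit 7587) (BT.leaf (.emul [(nat_lit 4390), (nat_lit 7585)])) (BT.leaf (.emul [(nat_lit 4399), (nat_lit 7586)]))) (BT.node (nat_lit 7589) (BT.leaf (.emul [(nat_lit 4390), (nat_lit 7587)])) (BT.node (nat_lit 7590) (BT.leaf (.emul [(nat_lit 4399), (nat_lit 7588)])) (BT.leaf (.emul [(nat_lit 7589), (nat_lit 4473)]))))))))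

end CF.Dce.J4
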