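import Cfsg.Agent.Dce.J4.Rels2
import Cfsg.Agent.Dce.J4.NT
import Cfsg.Agent.Dce.J4.CertC0
import Cfsg.Agent.Dce.J4.CertC1
import Cfsg.Agent.Dce.J4.CertC2

set_option autoImplicit false
set_option maxRecDepth 1000000
set_option maxHeartbeats 0
set_option Elab.async false

namespace CF.Dce.J4
open CF.Comp

noncomputable def cF : BT Fc := (BT.node (nat_lit 3776) (BT.node (nat_lit 1856) (BT.node (nat_lit 896) (BT.node (nat_lit 448) (BT.node (nat_lit 192) (BT.node (nat_lit 64) cF0 (BT.node (nat_lit 128) cF64 cF128)) (BT.node (nat_lit 320) (BT.node (nat_lit 256) cF192 cF256) (BT.node (nat_lit 384) cF320 cF384))) (BT.node (nat_lit 640) (BT.node (nat_lit 512) cF448 (BT.node (nat_lit 576) cF512 cF576)) (BT.node (nat_lit 768) (BT.node (nat_lit 704) cF640 cF704) (BT.node (nat_lit 832) cF768 cF832)))) (BT.node (nat_lit 1344) (BT.node (nat_lit 1088) (BT.node (nat_lit 960) cF896 (BT.node (nat_lit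 1024) cF960 cF1024)) (BT.node (nat_lit 1216) (BT.node (nat_lit 1152) cF1088 cF1152) (BT.node (nat_lit 1280) cF1216 cF1280))) (BT.node (nat_lit 1600) (BT.node (nat_lit 1472) (BT.node (nat_lit 1408) cF1344 cF1408) (BT.node (nat_lit 1536) cF1472 cF1536)) (BT.node (nat_lit 1728) (BT.node (nat_lit 1664) cF1600 cF1664) (BT.node (nat_lit 1792) cF1728 cF1792))))) (BT.node (nat_lit 2816) (BT.node (nat_lit 2304) (BT.node (nat_lit 2048) (BT.node (nat_lit 1920) cF1856 (BT.node (nat_lit 1984) cF1920 cF1984)) (BT.node (nat_lit 2176) (BT.node (nat_lit 2112) cF2048 cF2112) (BT.node (nat_lit 2240) cF2176 cF2240))) (BT.node (nat_lit 2560) (BT.node (nat_lit 2432) (BT.node (nat_lit 2368) cF2304 cF2368) (BT.node (nat_lit 2496) cF2432 cF2496)) (BT.node (nat_lit 2688) (BT.node (nat_lit 2624) cF2560 cF2624) (BT.node (nat_lit 2752) cF2688 cF2752)))) (BT.node (nat_lit 3264) (BT.node (nat_lit 3008) (BT.node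 (nat_lit 2880) cF2816 (BT.node (nat_lit 2944) cF2880 cF2944)) (BT.node (nat_lit 3136) (BT.node (nat_lit 3072) cF3008 cF3072) (BT.node (nat_lit 3200) cF3136 cF3200))) (BT.node (nat_lit 3520) (BT.node (nat_lit 3392) (BT.node (nat_lit 3328) cF3264 cF3328) (BT.node (nat_lit 3456) cF3392 cF3456)) (BT.node (nat_lit 3648) (BT.node (nat_lit 3584) cF3520 cF3584) (BT.node (nat_lit 3712) cF3648 cF3712)))))) (BT.node (nat_lit 5696) (BT.node (nat_lit 4736) (BT.node (nat_lit 4224) (BT.node (nat_lit 3968) (BT.node (nat_lit 3840) cF3776 (BT.node (nat_lit 3904) cF3840 cF3904)) (BT.node (nat_lit 4096) (BT.node (nat_lit 4032) cF3968 cF4032) (BT.node (nat_lit 4160) cF4096 cF4160))) (BT.node (nat_lit 4480) (BT.node (nat_lit 4352) (BT.node (nat_lit 4288) cF4224 cF4288) (BT.node (nat_lit 4416) cF4352 cF4416)) (BT.node (nat_lit 4608) (BT.node (nat_lit 4544) cF4480 cF4544) (BT.node (nat_lit 4672) cF4608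 cF4672)))) (BT.node (nat_lit 5184) (BT.node (nat_lit 4928) (BT.node (nat_lit 4800) cF4736 (BT.node (nat_lit 4864) cF4800 cF4864)) (BT.node (nat_lit 5056) (BT.node (nat_lit 4992) cF4928 cF4992) (BT.node (nat_lit 5120) cF5056 cF5120))) (BT.node (nat_lit 5440) (BT.node (nat_lit 5312) (BT.node (nat_lit 5248) cF5184 cF5248) (BT.node (nat_lit 5376) cF5312 cF5376)) (BT.node (nat_lit 5568) (BT.node (nat_lit 5504) cF5440 cF5504) (BT.node (nat_lit 5632) cF5568 cF5632))))) (BT.node (nat_lit 6656) (BT.node (nat_lit 6144) (BT.node (nat_lit 5888) (BT.node (nat_lit 5760) cF5696 (BT.node (nat_lit 5824) cF5760 cF5824)) (BT.node (nat_lit 6016) (BT.node (nat_lit 5952) cF5888 cF5952) (BT.node (nat_lit 6080) cF6016 cF6080))) (BT.node (nat_lit 6400) (BT.node (nat_lit 6272) (BT.node (nat_lit 6208) cF6144 cF6208) (BT.node (nat_lit 6336) cF6272 cF6336)) (BT.node (nat_lit 6528) (BT.node (nat_lit 6464)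 cF6400 cF6464) (BT.node (nat_lit 6592) cF6528 cF6592)))) (BT.node (nat_lit 7104) (BT.node (nat_lit 6848) (BT.node (nat_lit 6720) cF6656 (BT.node (nat_lit 6784) cF6720 cF6784)) (BT.node (nat_lit 6976) (BT.node (nat_lit 6912) cF6848 cF6912) (BT.node (nat_lit 7040) cF6976 cF7040))) (BT.node (nat_lit 7360) (BT.node (nat_lit 7232) (BT.node (nat_lit 7168) cF7104 cF7168) (BT.node (nat_lit 7296) cF7232 cF7296)) (BT.node (nat_lit 7488) (BT.node (nat_lit 7424) cF7360 cF7424) (BT.node (nat_lit 7552) cF7488 cF7552)))))))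
noncomputable def cP : BT Pf := (BT.node (nat_lit 3776) (BT.node (nat_lit 1856) (BT.node (nat_lit 896) (BT.node (nat_lit 448) (BT.node (nat_lit 192) (BT.node (nat_lit 64) cP0 (BT.node (nat_lit 128) cP64 cP128)) (BT.node (nat_lit 320) (BT.node (nat_lit 256) cP192 cP256) (BT.node (nat_lit 384) cP320 cP384))) (BT.node (nat_lit 640) (BT.node (nat_lit 512) cP448 (BT.node (nat_lit 576) cP512 cP576)) (BT.node (nat_lit 768) (BT.node (nat_lit 704) cP640 cP704) (BT.node (nat_lit 832) cP768 cP832)))) (BT.node (nat_lit 1344) (BT.node (nat_lit 1088) (BT.node (nat_lit 960) cP896 (BT.node (nat_lit 1024) cP960 cP1024)) (BT.node (nat_lit 1216) (BT.node (nat_lit 1152) cP1088 cP1152) (BT.node (nat_lit 1280) cP1216 cP1280))) (BT.node (nat_lit 1600) (BT.node (nat_lit 1472) (BT.node (nat_lit 1408) cP1344 cP1408) (BT.node (nat_lit 1536) cP1472 cP1536)) (BT.node (nat_lit 1728) (BT.node (nat_lit 1664)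 cP1600 cP1664) (BT.node (nat_lit 1792) cP1728 cP1792))))) (BT.node (nat_lit 2816) (BT.node (nat_lit 2304) (BT.node (nat_lit 2048) (BT.node (nat_lit 1920) cP1856 (BT.node (nat_lit 1984) cP1920 cP1984)) (BT.node (nat_lit 2176) (BT.node (nat_lit 2112) cP2048 cP2112) (BT.node (nat_lit 2240) cP2176 cP2240))) (BT.node (nat_lit 2560) (BT.node (nat_lit 2432) (BT.node (nat_lit 2368) cP2304 cP2368) (BT.node (nat_lit 2496) cP2432 cP2496)) (BT.node (nat_lit 2688) (BT.node (nat_lit 2624) cP2560 cP2624) (BT.node (nat_lit 2752) cP2688 cP2752)))) (BT.node (nat_lit 3264) (BT.node (nat_lit 3008) (BT.node (nat_lit 2880) cP2816 (BT.node (nat_lit 2944) cP2880 cP2944)) (BT.node (nat_lit 3136) (BT.node (nat_lit 3072) cP3008 cP3072) (BT.node (nat_lit 3200) cP3136 cP3200))) (BT.node (nat_lit 3520) (BT.node (nat_lit 3392) (BT.node (nat_lit 3328) cP3264 cP3328) (BT.node (nat_lit 3456) cP3392 cP3456)) (BT.node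 (nat_lit 3648) (BT.node (nat_lit 3584) cP3520 cP3584) (BT.node (nat_lit 3712) cP3648 cP3712)))))) (BT.node (nat_lit 5696) (BT.node (nat_lit 4736) (BT.node (nat_lit 4224) (BT.node (nat_lit 3968) (BT.node (nat_lit 3840) cP3776 (BT.node (nat_lit 3904) cP3840 cP3904)) (BT.node (nat_lit 4096) (BT.node (nat_lit 4032) cP3968 cP4032) (BT.node (nat_lit 4160) cP4096 cP4160))) (BT.node (nat_lit 4480) (BT.node (nat_lit 4352) (BT.node (nat_lit 4288) cP4224 cP4288) (BT.node (nat_lit 4416) cP4352 cP4416)) (BT.node (nat_lit 4608) (BT.node (nat_lit 4544) cP4480 cP4544) (BT.node (nat_lit 4672) cP4608 cP4672)))) (BT.node (nat_lit 5184) (BT.node (nat_lit 4928) (BT.node (nat_lit 4800) cP4736 (BT.node (nat_lit 4864) cP4800 cP4864)) (BT.node (nat_lit 5056) (BT.node (nat_lit 4992) cP4928 cP4992) (BT.node (nat_lit 5120) cP5056 cP5120))) (BT.node (nat_lit 5440) (BT.node (nat_lit 5312) (BT.node (nat_lit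 5248) cP5184 cP5248) (BT.node (nat_lit 5376) cP5312 cP5376)) (BT.node (nat_lit 5568) (BT.node (nat_lit 5504) cP5440 cP5504) (BT.node (nat_lit 5632) cP5568 cP5632))))) (BT.node (nat_lit 6656) (BT.node (nat_lit 6144) (BT.node (nat_lit 5888) (BT.node (nat_lit 5760) cP5696 (BT.node (nat_lit 5824) cP5760 cP5824)) (BT.node (nat_lit 6016) (BT.node (nat_lit 5952) cP5888 cP5952) (BT.node (nat_lit 6080) cP6016 cP6080))) (BT.node (nat_lit 6400) (BT.node (nat_lit 6272) (BT.node (nat_lit 6208) cP6144 cP6208) (BT.node (nat_lit 6336) cP6272 cP6336)) (BT.node (nat_lit 6528) (BT.node (nat_lit 6464) cP6400 cP6464) (BT.node (nat_lit 6592) cP6528 cP6592)))) (BT.node (nat_lit 7104) (BT.node (nat_lit 6848) (BT.node (nat_lit 6720) cP6656 (BT.node (nat_lit 6784) cP6720 cP6784)) (BT.node (nat_lit 6976) (BT.node (nat_lit 6912) cP6848 cP6912) (BT.node (nat_lit 7040) cP6976 cP7040))) (BT.node (nat_lit 7360)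 (BT.node (nat_lit 7232) (BT.node (nat_lit 7168) cP7104 cP7168) (BT.node (nat_lit 7296) cP7232 cP7296)) (BT.node (nat_lit 7488) (BT.node (nat_lit 7424) cP7360 cP7424) (BT.node (nat_lit 7552) cP7488 cP7552)))))))
noncomputable def cnd : BT Nat := (BT.node (nat_lit 16) (BT.node (nat_lit 8) (BT.node (nat_lit 4) (BT.node (nat_lit 2) (BT.node (nat_lit 1) (BT.leaf (nat_lit 0)) (BT.leaf (nat_lit 44))) (BT.node (nat_lit 3) (BT.leaf (nat_lit 99)) (BT.leaf (nat_lit 310)))) (BT.node (nat_lit 6) (BT.node (nat_lit 5) (BT.leaf (nat_lit 535)) (BT.leaf (nat_lit 589))) (BT.node (nat_lit 7) (BT.leaf (nat_lit 655)) (BT.leaf (nat_lit 769))))) (BT.node (nat_lit 12) (BT.node (nat_lit 10) (BT.node (nat_lit 9) (BT.leaf (nat_lit 1820)) (BT.leaf (nat_lit 2164))) (BT.node (nat_lit 11) (BT.leaf (nat_lit 3176)) (BT.leaf (nat_lit 3214)))) (BT.node (nat_lit 14) (BT.node (nat_lit 13) (BT.leaf (nat_lit 3593))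 (BT.leaf (nat_lit 3702))) (BT.node (nat_lit 15) (BT.leaf (nat_lit 4009)) (BT.leaf (nat_lit 4046)))))) (BT.node (nat_lit 24) (BT.node (nat_lit 20) (BT.node (nat_lit 18) (BT.node (nat_lit 17) (BT.leaf (nat_lit 4221)) (BT.leaf (nat_lit 4268))) (BT.node (nat_lit 19) (BT.leaf (nat_lit 4286)) (BT.leaf (nat_lit 4296)))) (BT.node (nat_lit 22) (BT.node (nat_lit 21) (BT.leaf (nat_lit 4300)) (BT.leaf (nat_lit 4326))) (BT.node (nat_lit 23) (BT.leaf (nat_lit 4340)) (BT.leaf (nat_lit 4349))))) (BT.node (nat_lit 28) (BT.node (nat_lit 26) (BT.node (nat_lit 25) (BT.leaf (nat_lit 4365)) (BT.leaf (nat_lit 4378))) (BT.node (nat_lit 27) (BT.leaf (nat_lit 4389)) (BT.leaf (nat_lit 4401)))) (BT.node (nat_lit 30) (BT.node (nat_lit 29) (BT.leaf (nat_lit 4417)) (BT.leaf (nat_lit 4422))) (BT.node (nat_lit 31) (BT.leaf (nat_lit 4434)) (BT.leaf (nat_lit 4462)))))))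
noncomputable def cR : List (List Nat) := [[(nat_lit 0x14d35cbb9472a6713f51562af554ab8), (nat_lit 0x14d35cbb9472a6713f51562af554ab8), (nat_lit 0x14d35cbb9472a6713f51562af554ab8)],
  [(nat_lit 0x151865e46f8cf6383744e9dd0957747), (nat_lit 0x151865e46f8cf6383744e9dd0957747), (nat_lit 0x151865e46f8cf6383744e9dd0957747)],
  [(nat_lit 0xe8e52be1fc6fae3715a787364f1f7d), (nat_lit 0xdb06ac3d3aae2b779dd46dc85eadd5), (nat_lit 0xe8e52be1fc6fae3715a787364f1f7d), (nat_lit 0xdb06ac3d3aae2b779dd46dc85eadd5)],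
  [(nat_lit 0xdb06ac3d3aae2b779dd46dc85eadd5), (nat_lit 0xe8e52be1fc6fae3715a787364f1f7d), (nat_lit 0xdb06ac3d3aae2b779dd46dc85eadd5), (nat_lit 0xe8e52be1fc6fae3715a787364f1f7d)],
  [(nat_lit 0x107a4e26a62627a4b3a49bc5dacf0ed), (nat_lit 0x20441280f74b7f3a1af1208e6b44f3), (nat_lit 0x107a4e26a62627a4b3a49bc5dacf0ed), (nat_lit 0x20441280f74b7f3a1af1208e6b44f3)],
  [(nat_lit 0x20441280f74b7f3a1af1208e6b44f3), (nat_lit 0x107a4e26a62627a4b3a49bc5dacf0ed), (nat_lit 0x20441280f74b7f3a1af1208e6b44f3), (nat_lit 0x107a4e26a62627a4b3a49bc5dacf0ed)]]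
noncomputable def cnds0 : Nd := ⟨(nat_lit 1), (nat_lit 4523), [((nat_lit 46), [(nat_lit 1)]), ((nat_lit 47), [(nat_lit 3), (nat_lit 1), (nat_lit 3), (nat_lit 1), (nat_lit 4), (nat_lit 1), (nat_lit 4), (nat_lit 1), (nat_lit 3), (nat_lit 1), (nat_lit 3), (nat_lit 1), (nat_lit 3)])], (nat_lit 14)⟩
noncomputable def cnds1 : Nd := ⟨(nat_lit 2), (nat_lit 4680), [((nat_lit 4684), [(nat_lit 1), (nat_lit 4), (nat_lit 1), (nat_lit 4), (nat_lit 1), (nat_lit 3), (nat_lit 1), (nat_lit 3), (nat_lit 1), (nat_lit 3), (nat_lit 1), (nat_lit 4), (nat_lit 1), (nat_lit 3), (nat_lit 1), (nat_lit 3), (nat_lit 1), (nat_lit 4), (nat_lit 1), (nat_lit 4), (nat_lit 1), (nat_lit 4), (nat_lit 1), (nat_lit 4), (nat_lit 1)]), ((nat_lit 4685), [(nat_lit 3), (nat_lit 1), (nat_lit 4), (nat_lit 1), (nat_lit 3), (nat_lit 1), (nat_lit 3), (nat_lit 1), (nat_lit 3), (nat_lit 1), (nat_lit 4), (nat_lit 1), (nat_lit 4),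 (nat_lit 1), (nat_lit 3), (nat_lit 1), (nat_lit 4), (nat_lit 1), (nat_lit 3), (nat_lit 1), (nat_lit 4), (nat_lit 1), (nat_lit 3), (nat_lit 1), (nat_lit 3), (nat_lit 1), (nat_lit 3), (nat_lit 1)])], (nat_lit 9)⟩
noncomputable def cnds2 : Nd := ⟨(nat_lit 3), (nat_lit 5395), [((nat_lit 937), [(nat_lit 1), (nat_lit 3), (nat_lit 1), (nat_lit 4), (nat_lit 1), (nat_lit 3), (nat_lit 1), (nat_lit 4), (nat_lit 1), (nat_lit 4), (nat_lit 1), (nat_lit 4), (nat_lit 1), (nat_lit 3), (nat_lit 1), (nat_lit 3), (nat_lit 1), (nat_lit 3), (nat_lit 1), (nat_lit 4), (nat_lit 1), (nat_lit 3), (nat_lit 1), (nat_lit 4), (nat_lit 1)]), ((nat_lit 668), [(nat_lit 1), (nat_lit 3), (nat_lit 1), (nat_lit 3), (nat_lit 1), (nat_lit 4), (nat_lit 1), (nat_lit 4), (nat_lit 1), (nat_lit 4), (nat_lit 1), (nat_lit 3), (nat_lit 1), (nat_lit 3), (nat_lit 1), (nat_lit 4), (nat_lit 1), (nat_lit 3), (nat_lit 1), (nat_lit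 4), (nat_lit 1), (nat_lit 3), (nat_lit 1), (nat_lit 3), (nat_lit 1), (nat_lit 4), (nat_lit 1), (nat_lit 3), (nat_lit 1), (nat_lit 4), (nat_lit 1), (nat_lit 3), (nat_lit 1), (nat_lit 3), (nat_lit 1), (nat_lit 3), (nat_lit 1), (nat_lit 3), (nat_lit 1), (nat_lit 4), (nat_lit 1), (nat_lit 4)])], (nat_lit 5)⟩
noncomputable def cnds3 : Nd := ⟨(nat_lit 4), (nat_lit 5487), [((nat_lit 1064), [(nat_lit 1), (nat_lit 3), (nat_lit 1), (nat_lit 4), (nat_lit 1), (nat_lit 3), (nat_lit 1), (nat_lit 4), (nat_lit 1), (nat_lit 3), (nat_lit 1), (nat_lit 4), (nat_lit 1), (nat_lit 3), (nat_lit 1), (nat_lit 4), (nat_lit 1), (nat_lit 4), (nat_lit 1), (nat_lit 4), (nat_lit 1), (nat_lit 4), (nat_lit 1), (nat_lit 4), (nat_lit 1), (nat_lit 4), (nat_lit 1), (nat_lit 4), (nat_lit 1), (nat_lit 3), (nat_lit 1), (nat_lit 3), (nat_lit 1), (nat_lit 3)]), ((nat_lit 1342), [(nat_lit 4), (nat_lit 1), (nat_lit 4), (nat_lit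 1), (nat_lit 4), (nat_lit 1), (nat_lit 3), (nat_lit 1), (nat_lit 4), (nat_lit 1), (nat_lit 3), (nat_lit 1), (nat_lit 4), (nat_lit 1), (nat_lit 3), (nat_lit 1), (nat_lit 3), (nat_lit 1), (nat_lit 3), (nat_lit 1), (nat_lit 3), (nat_lit 1), (nat_lit 3), (nat_lit 1), (nat_lit 4), (nat_lit 1), (nat_lit 4), (nat_lit 1), (nat_lit 3), (nat_lit 1), (nat_lit 3), (nat_lit 1), (nat_lit 3), (nat_lit 1), (nat_lit 4), (nat_lit 1), (nat_lit 3), (nat_lit 1), (nat_lit 3)])], (nat_lit 8)⟩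
noncomputable def cnds4 : Nd := ⟨(nat_lit 5), (nat_lit 5683), [((nat_lit 5684), [(nat_lit 1), (nat_lit 3), (nat_lit 1), (nat_lit 4), (nat_lit 1), (nat_lit 4), (nat_lit 1), (nat_lit 4), (nat_lit 1), (nat_lit 3), (nat_lit 1), (nat_lit 3), (nat_lit 1), (nat_lit 3), (nat_lit 1), (nat_lit 4), (nat_lit 1), (nat_lit 4), (nat_lit 1), (nat_lit 3), (nat_lit 1), (nat_lit 4), (nat_lit 1), (nat_lit 4), (nat_lit 1), (nat_lit 4), (nat_lit 1), (nat_lit 4), (nat_lit 1), (nat_lit 3), (nat_lit 1), (nat_lit 4), (nat_lit 1), (nat_lit 3)]), ((nat_lit 5685), [(nat_lit 4), (nat_lit 1), (nat_lit 3), (nat_lit 1), (nat_lit 4), (nat_lit 1), (nat_lit 4), (nat_lit 1), (nat_lit 3), (nat_lit 1), (nat_lit 4), (nat_lit 1), (nat_lit 3), (nat_lit 1), (nat_lit 4), (nat_lit 1), (nat_lit 4), (nat_lit 1), (nat_lit 3), (nat_lit 1), (nat_lit 3), (nat_lit 1), (nat_lit 3), (nat_lit 1), (nat_lit 3), (nat_lit 1), (nat_lit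 3), (nat_lit 1), (nat_lit 4), (nat_lit 1), (nat_lit 3), (nat_lit 1), (nat_lit 3), (nat_lit 1), (nat_lit 4), (nat_lit 1), (nat_lit 4), (nat_lit 1), (nat_lit 4), (nat_lit 1), (nat_lit 3)]), ((nat_lit 1817), [(nat_lit 4), (nat_lit 1), (nat_lit 4), (nat_lit 1), (nat_lit 4), (nat_lit 1), (nat_lit 3), (nat_lit 1), (nat_lit 3), (nat_lit 1), (nat_lit 4), (nat_lit 1), (nat_lit 3), (nat_lit 1), (nat_lit 3), (nat_lit 1), (nat_lit 3), (nat_lit 1), (nat_lit 4), (nat_lit 1), (nat_lit 3), (nat_lit 1), (nat_lit 3), (nat_lit 1), (nat_lit 3), (nat_lit 1), (nat_lit 4), (nat_lit 1), (nat_lit 3), (nat_lit 1), (nat_lit 3), (nat_lit 1), (nat_lit 3), (nat_lit 1), (nat_lit 4), (nat_lit 1), (nat_lit 4), (nat_lit 1), (nat_lit 3), (nat_lit 1), (nat_lit 3)])], (nat_lit 4)⟩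
noncomputable def cnds5 : Nd := ⟨(nat_lit 7), (nat_lit 7111), [((nat_lit 935), [(nat_lit 1), (nat_lit 4), (nat_lit 1), (nat_lit 4), (nat_lit 1), (nat_lit 4), (nat_lit 1), (nat_lit 4), (nat_lit 1), (nat_lit 3), (nat_lit 1), (nat_lit 4), (nat_lit 1), (nat_lit 4), (nat_lit 1), (nat_lit 4), (nat_lit 1), (nat_lit 4), (nat_lit 1), (nat_lit 3), (nat_lit 1), (nat_lit 4), (nat_lit 1), (nat_lit 4), (nat_lit 1), (nat_lit 4), (nat_lit 1), (nat_lit 4), (nat_lit 1), (nat_lit 3), (nat_lit 1), (nat_lit 3), (nat_lit 1), (nat_lit 3), (nat_lit 1), (nat_lit 3), (nat_lit 1), (nat_lit 3), (nat_lit 1), (nat_lit 3), (nat_lit 1), (nat_lit 3), (nat_lit 1), (nat_lit 3), (nat_lit 1), (nat_lit 4), (nat_lit 1), (nat_lit 4), (nat_lit 1), (nat_lit 3), (nat_lit 1), (nat_lit 4), (nat_lit 1), (nat_lit 4)])], (nat_lit 2)⟩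
noncomputable def cnds6 : Nd := ⟨(nat_lit 8), (nat_lit 7198), [((nat_lit 2259), [(nat_lit 4), (nat_lit 1), (nat_lit 3), (nat_lit 1), (nat_lit 4), (nat_lit 1), (nat_lit 4), (nat_lit 1), (nat_lit 3), (nat_lit 1), (nat_lit 3), (nat_lit 1), (nat_lit 3), (nat_lit 1), (nat_lit 3), (nat_lit 1), (nat_lit 4), (nat_lit 1), (nat_lit 3), (nat_lit 1), (nat_lit 4), (nat_lit 1), (nat_lit 3), (nat_lit 1), (nat_lit 4), (nat_lit 1), (nat_lit 3), (nat_lit 1), (nat_lit 4), (nat_lit 1), (nat_lit 3), (nat_lit 1), (nat_lit 4), (nat_lit 1), (nat_lit 4), (nat_lit 1), (nat_lit 4), (nat_lit 1), (nat_lit 4), (nat_lit 1), (nat_lit 3), (nat_lit 1), (nat_lit 3), (nat_lit 1)]), ((nat_lit 1870), [(nat_lit 3), (nat_lit 1), (nat_lit 3), (nat_lit 1), (nat_lit 3), (nat_lit 1), (nat_lit 4), (nat_lit 1), (nat_lit 4), (nat_lit 1), (nat_lit 4), (nat_lit 1), (nat_lit 4), (nat_lit 1), (nat_lit 3), (nat_lit 1), (nat_lit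 3), (nat_lit 1), (nat_lit 3), (nat_lit 1), (nat_lit 4), (nat_lit 1), (nat_lit 3), (nat_lit 1), (nat_lit 3), (nat_lit 1), (nat_lit 4), (nat_lit 1), (nat_lit 3), (nat_lit 1), (nat_lit 3), (nat_lit 1), (nat_lit 3), (nat_lit 1), (nat_lit 4), (nat_lit 1), (nat_lit 3), (nat_lit 1), (nat_lit 4), (nat_lit 1), (nat_lit 4), (nat_lit 1), (nat_lit 4), (nat_lit 1), (nat_lit 3), (nat_lit 1), (nat_lit 3), (nat_lit 1)]), ((nat_lit 1846), [(nat_lit 4), (nat_lit 1), (nat_lit 4), (nat_lit 1), (nat_lit 3), (nat_lit 1), (nat_lit 4), (nat_lit 1), (nat_lit 4), (nat_lit 1), (nat_lit 4), (nat_lit 1), (nat_lit 3), (nat_lit 1), (nat_lit 4), (nat_lit 1), (nat_lit 4), (nat_lit 1), (nat_lit 3), (nat_lit 1), (nat_lit 3), (nat_lit 1), (nat_lit 3), (nat_lit 1), (nat_lit 3), (nat_lit 1), (nat_lit 3), (nat_lit 1), (nat_lit 4), (nat_lit 1), (nat_lit 4), (nat_lit 1), (nat_lit 4), (nat_lit 1), (nat_lit 4), (nat_lit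 1), (nat_lit 3), (nat_lit 1), (nat_lit 3), (nat_lit 1), (nat_lit 4), (nat_lit 1), (nat_lit 4), (nat_lit 1), (nat_lit 4), (nat_lit 1), (nat_lit 3), (nat_lit 1), (nat_lit 3), (nat_lit 1), (nat_lit 4), (nat_lit 1)])], (nat_lit 2)⟩
noncomputable def cnds7 : Nd := ⟨(nat_lit 9), (nat_lit 7375), [((nat_lit 2311), [(nat_lit 4), (nat_lit 1), (nat_lit 4), (nat_lit 1), (nat_lit 4), (nat_lit 1), (nat_lit 4), (nat_lit 1), (nat_lit 3), (nat_lit 1), (nat_lit 4), (nat_lit 1), (nat_lit 4), (nat_lit 1), (nat_lit 4), (nat_lit 1), (nat_lit 4), (nat_lit 1), (nat_lit 4), (nat_lit 1), (nat_lit 3), (nat_lit 1), (nat_lit 4), (nat_lit 1), (nat_lit 4), (nat_lit 1), (nat_lit 3), (nat_lit 1), (nat_lit 4), (nat_lit 1), (nat_lit 3), (nat_lit 1), (nat_lit 4), (nat_lit 1), (nat_lit 3), (nat_lit 1), (nat_lit 4), (nat_lit 1), (nat_lit 3), (nat_lit 1), (nat_lit 3)]), ((nat_lit 2167), [(nat_lit 3), (nat_lit 1), (nat_lit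 4), (nat_lit 1), (nat_lit 3), (nat_lit 1), (nat_lit 4), (nat_lit 1), (nat_lit 4), (nat_lit 1), (nat_lit 3), (nat_lit 1), (nat_lit 4), (nat_lit 1), (nat_lit 3), (nat_lit 1), (nat_lit 4), (nat_lit 1), (nat_lit 4), (nat_lit 1), (nat_lit 4), (nat_lit 1), (nat_lit 4), (nat_lit 1), (nat_lit 4), (nat_lit 1), (nat_lit 4), (nat_lit 1), (nat_lit 3), (nat_lit 1), (nat_lit 3), (nat_lit 1), (nat_lit 3), (nat_lit 1), (nat_lit 4), (nat_lit 1), (nat_lit 3), (nat_lit 1), (nat_lit 3), (nat_lit 1), (nat_lit 3), (nat_lit 1), (nat_lit 4), (nat_lit 1), (nat_lit 3), (nat_lit 1), (nat_lit 4), (nat_lit 1), (nat_lit 3), (nat_lit 1), (nat_lit 3), (nat_lit 1)])], (nat_lit 2)⟩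
noncomputable def cnds8 : Nd := ⟨(nat_lit 10), (nat_lit 7377), [((nat_lit 7381), [(nat_lit 3), (nat_lit 1), (nat_lit 4), (nat_lit 1), (nat_lit 3), (nat_lit 1), (nat_lit 4), (nat_lit 1), (nat_lit 4), (nat_lit 1), (nat_lit 3), (nat_lit 1), (nat_lit 3), (nat_lit 1), (nat_lit 3), (nat_lit 1), (nat_lit 3), (nat_lit 1), (nat_lit 3), (nat_lit 1), (nat_lit 4), (nat_lit 1), (nat_lit 3), (nat_lit 1), (nat_lit 3), (nat_lit 1), (nat_lit 4), (nat_lit 1), (nat_lit 3), (nat_lit 1), (nat_lit 4), (nat_lit 1)]), ((nat_lit 7383), [(nat_lit 3), (nat_lit 1), (nat_lit 3), (nat_lit 1), (nat_lit 4), (nat_lit 1), (nat_lit 4), (nat_lit 1), (nat_lit 4), (nat_lit 1), (nat_lit 4), (nat_lit 1), (nat_lit 3), (nat_lit 1), (nat_lit 4), (nat_lit 1), (nat_lit 4), (nat_lit 1), (nat_lit 4), (nat_lit 1), (nat_lit 4), (nat_lit 1), (nat_lit 4), (nat_lit 1), (nat_lit 4), (nat_lit 1), (nat_lit 3), (nat_lit 1), (nat_lit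 4), (nat_lit 1), (nat_lit 4), (nat_lit 1), (nat_lit 3), (nat_lit 1), (nat_lit 4), (nat_lit 1)]), ((nat_lit 7384), [(nat_lit 1), (nat_lit 4), (nat_lit 1), (nat_lit 3), (nat_lit 1), (nat_lit 4), (nat_lit 1), (nat_lit 4), (nat_lit 1), (nat_lit 4), (nat_lit 1), (nat_lit 3), (nat_lit 1), (nat_lit 3), (nat_lit 1), (nat_lit 4), (nat_lit 1), (nat_lit 4), (nat_lit 1), (nat_lit 3), (nat_lit 1), (nat_lit 4), (nat_lit 1), (nat_lit 4), (nat_lit 1), (nat_lit 3), (nat_lit 1), (nat_lit 4), (nat_lit 1), (nat_lit 3), (nat_lit 1), (nat_lit 3), (nat_lit 1), (nat_lit 4), (nat_lit 1), (nat_lit 3), (nat_lit 1), (nat_lit 4)])], (nat_lit 5)⟩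
noncomputable def cnds9 : Nd := ⟨(nat_lit 11), (nat_lit 7422), [((nat_lit 3723), [(nat_lit 4), (nat_lit 1), (nat_lit 4), (nat_lit 1), (nat_lit 4), (nat_lit 1), (nat_lit 3), (nat_lit 1), (nat_lit 3), (nat_lit 1), (nat_lit 3), (nat_lit 1), (nat_lit 3), (nat_lit 1), (nat_lit 3), (nat_lit 1), (nat_lit 3), (nat_lit 1), (nat_lit 4), (nat_lit 1), (nat_lit 3), (nat_lit 1), (nat_lit 3), (nat_lit 1), (nat_lit 3), (nat_lit 1), (nat_lit 3), (nat_lit 1), (nat_lit 3), (nat_lit 1), (nat_lit 4), (nat_lit 1), (nat_lit 4), (nat_lit 1), (nat_lit 4), (nat_lit 1), (nat_lit 3), (nat_lit 1), (nat_lit 4), (nat_lit 1), (nat_lit 3), (nat_lit 1), (nat_lit 4), (nat_lit 1), (nat_lit 4)]), ((nat_lit 4261), [(nat_lit 4), (nat_lit 1), (nat_lit 3), (nat_lit 1), (nat_lit 3), (nat_lit 1), (nat_lit 4), (nat_lit 1), (nat_lit 4), (nat_lit 1), (nat_lit 4), (nat_lit 1), (nat_lit 4), (nat_lit 1), (nat_lit 4), (nat_lit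 1), (nat_lit 4), (nat_lit 1), (nat_lit 4), (nat_lit 1), (nat_lit 3), (nat_lit 1), (nat_lit 3), (nat_lit 1), (nat_lit 3), (nat_lit 1), (nat_lit 4), (nat_lit 1), (nat_lit 4), (nat_lit 1), (nat_lit 4), (nat_lit 1), (nat_lit 3), (nat_lit 1), (nat_lit 3), (nat_lit 1), (nat_lit 3), (nat_lit 1), (nat_lit 3), (nat_lit 1), (nat_lit 4), (nat_lit 1), (nat_lit 3), (nat_lit 1), (nat_lit 3), (nat_lit 1), (nat_lit 3)])], (nat_lit 4)⟩
noncomputable def cnds10 : Nd := ⟨(nat_lit 12), (nat_lit 7434), [((nat_lit 7436), [(nat_lit 4), (nat_lit 1), (nat_lit 3), (nat_lit 1), (nat_lit 4), (nat_lit 1), (nat_lit 4), (nat_lit 1), (nat_lit 4), (nat_lit 1), (nat_lit 4), (nat_lit 1), (nat_lit 3), (nat_lit 1), (nat_lit 4), (nat_lit 1), (nat_lit 3), (nat_lit 1), (nat_lit 4), (nat_lit 1), (nat_lit 4), (nat_lit 1), (nat_lit 4), (nat_lit 1), (nat_lit 3), (nat_lit 1), (nat_lit 3), (nat_lit 1), (nat_lit 3), (nat_lit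 1), (nat_lit 4), (nat_lit 1), (nat_lit 3)]), ((nat_lit 7437), [(nat_lit 3), (nat_lit 1), (nat_lit 3), (nat_lit 1), (nat_lit 3), (nat_lit 1), (nat_lit 4), (nat_lit 1), (nat_lit 3), (nat_lit 1), (nat_lit 4), (nat_lit 1), (nat_lit 3), (nat_lit 1), (nat_lit 3), (nat_lit 1), (nat_lit 3), (nat_lit 1), (nat_lit 3), (nat_lit 1), (nat_lit 3), (nat_lit 1), (nat_lit 4), (nat_lit 1), (nat_lit 3), (nat_lit 1), (nat_lit 4), (nat_lit 1), (nat_lit 4), (nat_lit 1), (nat_lit 3), (nat_lit 1), (nat_lit 3), (nat_lit 1), (nat_lit 4), (nat_lit 1), (nat_lit 4)])], (nat_lit 6)⟩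
noncomputable def cnds11 : Nd := ⟨(nat_lit 13), (nat_lit 7456), [((nat_lit 3947), [(nat_lit 3), (nat_lit 1), (nat_lit 4), (nat_lit 1), (nat_lit 4), (nat_lit 1), (nat_lit 3), (nat_lit 1), (nat_lit 3), (nat_lit 1), (nat_lit 4), (nat_lit 1), (nat_lit 4), (nat_lit 1), (nat_lit 3), (nat_lit 1), (nat_lit 4), (nat_lit 1), (nat_lit 3), (nat_lit 1), (nat_lit 4), (nat_lit 1), (nat_lit 3), (nat_lit 1), (nat_lit 4), (nat_lit 1), (nat_lit 4), (nat_lit 1), (nat_lit 3), (nat_lit 1), (nat_lit 4), (nat_lit 1), (nat_lit 3), (nat_lit 1), (nat_lit 3), (nat_lit 1), (nat_lit 3), (nat_lit 1), (nat_lit 3), (nat_lit 1), (nat_lit 4), (nat_lit 1), (nat_lit 3), (nat_lit 1)]), ((nat_lit 4020), [(nat_lit 4), (nat_lit 1), (nat_lit 4), (nat_lit 1), (nat_lit 3), (nat_lit 1), (nat_lit 4), (nat_lit 1), (nat_lit 4), (nat_lit 1), (nat_lit 4), (nat_lit 1), (nat_lit 4), (nat_lit 1), (nat_lit 4), (nat_lit 1), (nat_lit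 4), (nat_lit 1), (nat_lit 4), (nat_lit 1), (nat_lit 4), (nat_lit 1), (nat_lit 3), (nat_lit 1), (nat_lit 4), (nat_lit 1), (nat_lit 4), (nat_lit 1), (nat_lit 4), (nat_lit 1), (nat_lit 3), (nat_lit 1), (nat_lit 3), (nat_lit 1), (nat_lit 3), (nat_lit 1), (nat_lit 3), (nat_lit 1), (nat_lit 3), (nat_lit 1), (nat_lit 4), (nat_lit 1), (nat_lit 3), (nat_lit 1)]), ((nat_lit 3931), [(nat_lit 4), (nat_lit 1), (nat_lit 4), (nat_lit 1), (nat_lit 4), (nat_lit 1), (nat_lit 4), (nat_lit 1), (nat_lit 4), (nat_lit 1), (nat_lit 3), (nat_lit 1), (nat_lit 3), (nat_lit 1), (nat_lit 4), (nat_lit 1), (nat_lit 4), (nat_lit 1), (nat_lit 4), (nat_lit 1), (nat_lit 3), (nat_lit 1), (nat_lit 4), (nat_lit 1), (nat_lit 3), (nat_lit 1), (nat_lit 3), (nat_lit 1), (nat_lit 3), (nat_lit 1), (nat_lit 4), (nat_lit 1), (nat_lit 4), (nat_lit 1), (nat_lit 4), (nat_lit 1), (nat_lit 3), (nat_lit 1), (nat_lit 4), (nat_lit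 1), (nat_lit 3), (nat_lit 1), (nat_lit 4), (nat_lit 1), (nat_lit 3), (nat_lit 1), (nat_lit 3)])], (nat_lit 4)⟩
noncomputable def cnds12 : Nd := ⟨(nat_lit 14), (nat_lit 7457), [((nat_lit 7461), [(nat_lit 4), (nat_lit 1), (nat_lit 4), (nat_lit 1), (nat_lit 3), (nat_lit 1), (nat_lit 3), (nat_lit 1), (nat_lit 4), (nat_lit 1), (nat_lit 3), (nat_lit 1), (nat_lit 4), (nat_lit 1), (nat_lit 3), (nat_lit 1), (nat_lit 3), (nat_lit 1), (nat_lit 3), (nat_lit 1), (nat_lit 3), (nat_lit 1), (nat_lit 3), (nat_lit 1), (nat_lit 4), (nat_lit 1), (nat_lit 4), (nat_lit 1), (nat_lit 4), (nat_lit 1), (nat_lit 4), (nat_lit 1), (nat_lit 3), (nat_lit 1), (nat_lit 4)]), ((nat_lit 7462), [(nat_lit 3), (nat_lit 1), (nat_lit 4), (nat_lit 1), (nat_lit 4), (nat_lit 1), (nat_lit 3), (nat_lit 1), (nat_lit 4), (nat_lit 1), (nat_lit 4), (nat_lit 1), (nat_lit 3), (nat_lit 1), (nat_lit 4), (nat_lit 1), (nat_lit 3),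 (nat_lit 1), (nat_lit 3), (nat_lit 1), (nat_lit 3), (nat_lit 1), (nat_lit 3), (nat_lit 1), (nat_lit 4), (nat_lit 1), (nat_lit 4), (nat_lit 1), (nat_lit 3), (nat_lit 1), (nat_lit 4), (nat_lit 1), (nat_lit 4), (nat_lit 1), (nat_lit 4), (nat_lit 1)])], (nat_lit 9)⟩
noncomputable def cnds13 : Nd := ⟨(nat_lit 15), (nat_lit 7480), [((nat_lit 4382), [(nat_lit 4), (nat_lit 1), (nat_lit 3), (nat_lit 1), (nat_lit 3), (nat_lit 1), (nat_lit 3), (nat_lit 1), (nat_lit 3), (nat_lit 1), (nat_lit 3), (nat_lit 1), (nat_lit 3), (nat_lit 1), (nat_lit 4), (nat_lit 1), (nat_lit 3), (nat_lit 1), (nat_lit 3), (nat_lit 1), (nat_lit 3), (nat_lit 1), (nat_lit 3), (nat_lit 1), (nat_lit 3), (nat_lit 1), (nat_lit 3), (nat_lit 1), (nat_lit 4), (nat_lit 1), (nat_lit 3), (nat_lit 1), (nat_lit 3), (nat_lit 1), (nat_lit 3), (nat_lit 1), (nat_lit 3), (nat_lit 1), (nat_lit 4)]), ((nat_lit 4380), [(nat_lit 4), (nat_lit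 1), (nat_lit 4), (nat_lit 1), (nat_lit 4), (nat_lit 1), (nat_lit 3), (nat_lit 1), (nat_lit 3), (nat_lit 1), (nat_lit 4), (nat_lit 1), (nat_lit 4), (nat_lit 1), (nat_lit 4), (nat_lit 1), (nat_lit 3), (nat_lit 1), (nat_lit 3), (nat_lit 1), (nat_lit 4), (nat_lit 1), (nat_lit 3), (nat_lit 1), (nat_lit 3), (nat_lit 1), (nat_lit 3), (nat_lit 1), (nat_lit 3), (nat_lit 1), (nat_lit 4), (nat_lit 1), (nat_lit 4), (nat_lit 1), (nat_lit 4), (nat_lit 1), (nat_lit 4), (nat_lit 1), (nat_lit 4)]), ((nat_lit 7483), [(nat_lit 3), (nat_lit 1), (nat_lit 4), (nat_lit 1), (nat_lit 4), (nat_lit 1), (nat_lit 3), (nat_lit 1), (nat_lit 4), (nat_lit 1), (nat_lit 3), (nat_lit 1), (nat_lit 3), (nat_lit 1), (nat_lit 3), (nat_lit 1), (nat_lit 4), (nat_lit 1), (nat_lit 3), (nat_lit 1), (nat_lit 4), (nat_lit 1), (nat_lit 3), (nat_lit 1), (nat_lit 3), (nat_lit 1), (nat_lit 4), (nat_lit 1), (nat_lit 4), (nat_lit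 1), (nat_lit 3), (nat_lit 1), (nat_lit 3), (nat_lit 1), (nat_lit 3), (nat_lit 1), (nat_lit 3), (nat_lit 1), (nat_lit 3), (nat_lit 1), (nat_lit 3), (nat_lit 1), (nat_lit 4)])], (nat_lit 4)⟩
noncomputable def cnds14 : Nd := ⟨(nat_lit 16), (nat_lit 7486), [((nat_lit 7492), [(nat_lit 3), (nat_lit 1), (nat_lit 3), (nat_lit 1), (nat_lit 4), (nat_lit 1), (nat_lit 3), (nat_lit 1), (nat_lit 3), (nat_lit 1), (nat_lit 4), (nat_lit 1), (nat_lit 4), (nat_lit 1), (nat_lit 4), (nat_lit 1), (nat_lit 4), (nat_lit 1), (nat_lit 3), (nat_lit 1), (nat_lit 3), (nat_lit 1), (nat_lit 3), (nat_lit 1), (nat_lit 4), (nat_lit 1), (nat_lit 3), (nat_lit 1), (nat_lit 3), (nat_lit 1), (nat_lit 3), (nat_lit 1), (nat_lit 4), (nat_lit 1), (nat_lit 3), (nat_lit 1), (nat_lit 4)]), ((nat_lit 7499), [(nat_lit 1), (nat_lit 3), (nat_lit 1), (nat_lit 3), (nat_lit 1), (nat_lit 4), (nat_lit 1), (nat_lit 3), (nat_lit 1),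 (nat_lit 4), (nat_lit 1), (nat_lit 4), (nat_lit 1), (nat_lit 4), (nat_lit 1), (nat_lit 4), (nat_lit 1), (nat_lit 4), (nat_lit 1), (nat_lit 4), (nat_lit 1), (nat_lit 3), (nat_lit 1), (nat_lit 3), (nat_lit 1), (nat_lit 4), (nat_lit 1), (nat_lit 4), (nat_lit 1), (nat_lit 4), (nat_lit 1), (nat_lit 3), (nat_lit 1), (nat_lit 4), (nat_lit 1), (nat_lit 3), (nat_lit 1), (nat_lit 3)])], (nat_lit 11)⟩
noncomputable def cnds15 : Nd := ⟨(nat_lit 17), (nat_lit 7502), [((nat_lit 7506), [(nat_lit 1), (nat_lit 4), (nat_lit 1), (nat_lit 3), (nat_lit 1), (nat_lit 3), (nat_lit 1), (nat_lit 3), (nat_lit 1), (nat_lit 4), (nat_lit 1), (nat_lit 4), (nat_lit 1), (nat_lit 4), (nat_lit 1), (nat_lit 3), (nat_lit 1)]), ((nat_lit 7509), [(nat_lit 1), (nat_lit 4), (nat_lit 1), (nat_lit 3), (nat_lit 1), (nat_lit 3), (nat_lit 1), (nat_lit 4), (nat_lit 1), (nat_lit 3), (nat_lit 1), (nat_lit 3), (nat_lit 1), (nat_lit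 4), (nat_lit 1), (nat_lit 4), (nat_lit 1), (nat_lit 3), (nat_lit 1)]), ((nat_lit 7511), [(nat_lit 4), (nat_lit 1), (nat_lit 3), (nat_lit 1), (nat_lit 4), (nat_lit 1), (nat_lit 4), (nat_lit 1), (nat_lit 4), (nat_lit 1), (nat_lit 4), (nat_lit 1), (nat_lit 3), (nat_lit 1), (nat_lit 4), (nat_lit 1), (nat_lit 3), (nat_lit 1), (nat_lit 3), (nat_lit 1), (nat_lit 3), (nat_lit 1), (nat_lit 3), (nat_lit 1), (nat_lit 4), (nat_lit 1), (nat_lit 3)])], (nat_lit 7)⟩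
noncomputable def cnds16 : Nd := ⟨(nat_lit 18), (nat_lit 7512), [((nat_lit 7519), [(nat_lit 1), (nat_lit 3), (nat_lit 1), (nat_lit 3), (nat_lit 1), (nat_lit 3), (nat_lit 1), (nat_lit 4), (nat_lit 1), (nat_lit 4), (nat_lit 1), (nat_lit 4), (nat_lit 1)]), ((nat_lit 7530), [(nat_lit 1), (nat_lit 3), (nat_lit 1), (nat_lit 4), (nat_lit 1), (nat_lit 3), (nat_lit 1), (nat_lit 3), (nat_lit 1), (nat_lit 4), (nat_lit 1), (nat_lit 3), (nat_lit 1), (nat_lit 3), (nat_lit 1), (nat_lit 4), (nat_lit 1), (nat_lit 4)]), ((nat_lit 7534), [(nat_lit 1), (nat_lit 3), (nat_lit 1), (nat_lit 3), (nat_lit 1), (nat_lit 4), (nat_lit 1), (nat_lit 3), (nat_lit 1), (nat_lit 4), (nat_lit 1), (nat_lit 3), (nat_lit 1), (nat_lit 4), (nat_lit 1), (nat_lit 3), (nat_lit 1), (nat_lit 4), (nat_lit 1), (nat_lit 4), (nat_lit 1)]), ((nat_lit 7540), [(nat_lit 4), (nat_lit 1), (nat_lit 3), (nat_lit 1), (nat_lit 4), (nat_lit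 1), (nat_lit 3), (nat_lit 1), (nat_lit 4), (nat_lit 1), (nat_lit 3), (nat_lit 1), (nat_lit 3), (nat_lit 1), (nat_lit 4), (nat_lit 1), (nat_lit 4), (nat_lit 1), (nat_lit 3), (nat_lit 1), (nat_lit 3), (nat_lit 1), (nat_lit 3)])], (nat_lit 4)⟩
noncomputable def cnds17 : Nd := ⟨(nat_lit 19), (nat_lit 7542), [((nat_lit 7550), [(nat_lit 1), (nat_lit 3), (nat_lit 1), (nat_lit 4), (nat_lit 1), (nat_lit 4), (nat_lit 1), (nat_lit 3), (nat_lit 1), (nat_lit 4), (nat_lit 1), (nat_lit 4), (nat_lit 1), (nat_lit 3), (nat_lit 1), (nat_lit 4), (nat_lit 1), (nat_lit 3)]), ((nat_lit 7558), [(nat_lit 3), (nat_lit 1), (nat_lit 4), (nat_lit 1), (nat_lit 3), (nat_lit 1), (nat_lit 3), (nat_lit 1), (nat_lit 4), (nat_lit 1), (nat_lit 4), (nat_lit 1), (nat_lit 4), (nat_lit 1), (nat_lit 3), (nat_lit 1), (nat_lit 4), (nat_lit 1), (nat_lit 4), (nat_lit 1), (nat_lit 4), (nat_lit 1), (nat_lit 3), (nat_lit 1),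 (nat_lit 3)]), ((nat_lit 7565), [(nat_lit 3), (nat_lit 1), (nat_lit 3), (nat_lit 1), (nat_lit 3), (nat_lit 1), (nat_lit 3), (nat_lit 1), (nat_lit 3), (nat_lit 1), (nat_lit 4), (nat_lit 1), (nat_lit 3), (nat_lit 1), (nat_lit 4), (nat_lit 1), (nat_lit 4), (nat_lit 1), (nat_lit 3), (nat_lit 1), (nat_lit 3), (nat_lit 1), (nat_lit 3), (nat_lit 1), (nat_lit 4), (nat_lit 1), (nat_lit 3)])], (nat_lit 6)⟩
noncomputable def cnds18 : Nd := ⟨(nat_lit 26), (nat_lit 7566), [((nat_lit 7576), [(nat_lit 1), (nat_lit 4), (nat_lit 1), (nat_lit 4), (nat_lit 1), (nat_lit 3), (nat_lit 1), (nat_lit 4), (nat_lit 1), (nat_lit 3), (nat_lit 1), (nat_lit 4), (nat_lit 1), (nat_lit 3), (nat_lit 1), (nat_lit 3), (nat_lit 1), (nat_lit 3)]), ((nat_lit 7582), [(nat_lit 3), (nat_lit 1), (nat_lit 4), (nat_lit 1), (nat_lit 3), (nat_lit 1), (nat_lit 3), (nat_lit 1), (nat_lit 3), (nat_lit 1), (nat_lit 4), (nat_lit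 1), (nat_lit 4), (nat_lit 1), (nat_lit 4), (nat_lit 1), (nat_lit 3), (nat_lit 1), (nat_lit 4)]), ((nat_lit 7590), [(nat_lit 4), (nat_lit 1), (nat_lit 4), (nat_lit 1), (nat_lit 3), (nat_lit 1), (nat_lit 4), (nat_lit 1), (nat_lit 4), (nat_lit 1), (nat_lit 4), (nat_lit 1), (nat_lit 3), (nat_lit 1), (nat_lit 3), (nat_lit 1), (nat_lit 3), (nat_lit 1), (nat_lit 4), (nat_lit 1), (nat_lit 3), (nat_lit 1), (nat_lit 3)])], (nat_lit 7)⟩
noncomputable def cnds : List Nd := [cnds0, cnds1, cnds2, cnds3, cnds4, cnds5, cnds6, cnds7, cnds8, cnds9, cnds10, cnds11, cnds12, cnds13, cnds14, cnds15, cnds16, cnds17, cnds18]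
noncomputable def cA : Alg := ⟨mu, e11, fun _ => true, fun _ _ => nat_lit 0, nat_lit 0, fun _ => true, fun _ => nat_lit 0, e11, nth (nat_lit 0) L11, nat_lit 30,
  fun x => mapW NT [x], (nat_lit 68157375)⟩
noncomputable def ck : Nat → Bool := chkAt cA cF.get cP.get (bsOf cA Ns Js) (nth [] cR) cnd.get

end CF.Dce.J4
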