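import Cfsg.Agent.Dce.J4.Rels2
import Cfsg.Agent.Dce.J4.NT

set_option autoImplicit false
set_option maxRecDepth 1000000
set_option maxHeartbeats 0
set_option Elab.async false

namespace CF.Dce.J4
open CF.Comp

noncomputable def hF0 : BT Fc := (BT.node (nat_lit 32) (BT.node (nat_lit 16) (BT.node (nat_lit 8) (BT.node (nat_lit 4) (BT.node (nat_lit 2) (BT.node (nat_lit 1) (BT.leaf ⟨(nat_lit 1), (nat_lit 0), (nat_lit 0), (nat_lit 0x2816f8841205551c98083c204d7880), (nat_lit 0x2816f8841205551c98083c204d7880), (nat_lit 0)⟩) (BT.leaf ⟨(nat_lit 1), (nat_lit 0), (nat_lit 0), (nat_lit 0x14bdcb12e35e4b495fdb2dfa88938fa), (nat_lit 0x14bdcb12e35e4b495fdb2dfa88938fa), (nat_lit 0)⟩)) (BT.node (nat_lit 3) (BT.leaf ⟨(nat_lit 1), (nat_lit 0), (nat_lit 0), (nat_lit 0x1eb532f8df3ba8bc678fcb05e589fcd), (nat_lit 0x1eb532f8df3ba8bc678fcb05e589fcd), (nat_lit 0)⟩) (BT.leaf ⟨(nat_lit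 1), (nat_lit 0), (nat_lit 0), (nat_lit 0x1134d9674fe85e77a7dbd69bd97a721), (nat_lit 0x1134d9674fe85e77a7dbd69bd97a721), (nat_lit 0)⟩))) (BT.node (nat_lit 6) (BT.node (nat_lit 5) (BT.leaf ⟨(nat_lit 1), (nat_lit 0), (nat_lit 0), (nat_lit 0xcd7ab7c6e8fd9b3487ce89d39a3646), (nat_lit 0xcd7ab7c6e8fd9b3487ce89d39a3646), (nat_lit 0)⟩) (BT.leaf ⟨(nat_lit 1), (nat_lit 0), (nat_lit 0), (nat_lit 0x8437209038a0539501003014208011), (nat_lit 0x8437209038a0539501003014208011), (nat_lit 0)⟩)) (BT.node (nat_lit 7) (BT.leaf ⟨(nat_lit 1), (nat_lit 0), (nat_lit 0), (nat_lit 0xd7c81110280406b9980b3c35490100), (nat_lit 0xd7c81110280406b9980b3c35490100), (nat_lit 0)⟩) (BT.leaf ⟨(nat_lit 1), (nat_lit 0), (nat_lit 0), (nat_lit 0x1cf8959043a2011f38148081115e884), (nat_lit 0x1cf8959043a2011f38148081115e884), (nat_lit 0)⟩)))) (BT.node (nat_lit 12) (BT.node (nat_lit 10) (BT.node (nat_lit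 9) (BT.leaf ⟨(nat_lit 1), (nat_lit 0), (nat_lit 0), (nat_lit 0x11cbc600508220404901042752f4811), (nat_lit 0x11cbc600508220404901042752f4811), (nat_lit 0)⟩) (BT.leaf ⟨(nat_lit 1), (nat_lit 0), (nat_lit 0), (nat_lit 0xf8f7a0013aa0424f004572103a3100), (nat_lit 0xf8f7a0013aa0424f004572103a3100), (nat_lit 0)⟩)) (BT.node (nat_lit 11) (BT.leaf ⟨(nat_lit 1), (nat_lit 0), (nat_lit 0), (nat_lit 0x2204108018060240081ad055540084), (nat_lit 0x2204108018060240081ad055540084), (nat_lit 0)⟩) (BT.leaf ⟨(nat_lit 1), (nat_lit 0), (nat_lit 0), (nat_lit 0x300441af10420640155ad06011cf0d), (nat_lit 0x300441af10420640155ad06011cf0d), (nat_lit 0)⟩))) (BT.node (nat_lit 14) (BT.node (nat_lit 13) (BT.leaf ⟨(nat_lit 1), (nat_lit 0), (nat_lit 0), (nat_lit 0x7164779d27e04018050eac052fc6e4), (nat_lit 0x7164779d27e04018050eac052fc6e4), (nat_lit 0)⟩) (BT.leaf ⟨(nat_lit 1), (nat_lit 0),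 (nat_lit 0), (nat_lit 0x502807f4d1a601dc8d560040723102), (nat_lit 0x502807f4d1a601dc8d560040723102), (nat_lit 0)⟩)) (BT.node (nat_lit 15) (BT.leaf ⟨(nat_lit 1), (nat_lit 0), (nat_lit 0), (nat_lit 0xe00f470422063910157075008809), (nat_lit 0xe00f470422063910157075008809), (nat_lit 0)⟩) (BT.leaf ⟨(nat_lit 1), (nat_lit 0), (nat_lit 0), (nat_lit 0x776ea9c53a2555ea9d4b4c35790995), (nat_lit 0x776ea9c53a2555ea9d4b4c35790995), (nat_lit 0)⟩))))) (BT.node (nat_lit 24) (BT.node (nat_lit 20) (BT.node (nat_lit 18) (BT.node (nat_lit 17) (BT.leaf ⟨(nat_lit 1), (nat_lit 0), (nat_lit 0), (nat_lit 0x1378301400821410f84074611021195), (nat_lit 0x1378301400821410f84074611021195), (nat_lit 0)⟩) (BT.leaf ⟨(nat_lit 1), (nat_lit 0), (nat_lit 0), (nat_lit 0xaa795011220142fc014820043ce890), (nat_lit 0xaa795011220142fc014820043ce890), (nat_lit 0)⟩)) (BT.node (nat_lit 19) (BT.leaf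 ⟨(nat_lit 1), (nat_lit 0), (nat_lit 0), (nat_lit 0x13a2b990020835723101240603fa110), (nat_lit 0x13a2b990020835723101240603fa110), (nat_lit 0)⟩) (BT.leaf ⟨(nat_lit 1), (nat_lit 0), (nat_lit 0), (nat_lit 0x1d09f388400a1110200457a05003104), (nat_lit 0x1d09f388400a1110200457a05003104), (nat_lit 0)⟩))) (BT.node (nat_lit 22) (BT.node (nat_lit 21) (BT.leaf ⟨(nat_lit 1), (nat_lit 0), (nat_lit 0), (nat_lit 0x804048110027512f081bd240497005), (nat_lit 0x804048110027512f081bd240497005), (nat_lit 0)⟩) (BT.leaf ⟨(nat_lit 1), (nat_lit 0), (nat_lit 0), (nat_lit 0x97e4f1001001039d010e8c013c6801), (nat_lit 0x97e4f1001001039d010e8c013c6801), (nat_lit 0)⟩)) (BT.node (nat_lit 23) (BT.leaf ⟨(nat_lit 1), (nat_lit 0), (nat_lit 0), (nat_lit 0x1eea40084120556799805002073a080), (nat_lit 0x1eea40084120556799805002073a080), (nat_lit 0)⟩) (BT.leaf ⟨(nat_lit 1), (nat_lit 0), (nat_lit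 0), (nat_lit 0x118c18011220141f981449e04009090), (nat_lit 0x118c18011220141f981449e04009090), (nat_lit 0)⟩)))) (BT.node (nat_lit 28) (BT.node (nat_lit 26) (BT.node (nat_lit 25) (BT.leaf ⟨(nat_lit 1), (nat_lit 0), (nat_lit 0), (nat_lit 0xb8ddc90020835484101c7460017910), (nat_lit 0xb8ddc90020835484101c7460017910), (nat_lit 0)⟩) (BT.leaf ⟨(nat_lit 1), (nat_lit 0), (nat_lit 0), (nat_lit 0x32f608400a1124d0048ee053c4904), (nat_lit 0x32f608400a1124d0048ee053c4904), (nat_lit 0)⟩)) (BT.node (nat_lit 27) (BT.leaf ⟨(nat_lit 1), (nat_lit 0), (nat_lit 0), (nat_lit 0xf9e3b8053a20539f044e84013c4904), (nat_lit 0xf9e3b8053a20539f044e84013c4904), (nat_lit 0)⟩) (BT.leaf ⟨(nat_lit 1), (nat_lit 0), (nat_lit 0), (nat_lit 0xce9a4eeff75cc85b87ce71c6bbd63a), (nat_lit 0xce9a4eeff75cc85b87ce71c6bbd63a), (nat_lit 0)⟩))) (BT.node (nat_lit 30) (BT.node (nat_lit 29) (BT.leaf ⟨(nat_lit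 1), (nat_lit 0), (nat_lit 0), (nat_lit 0x114fc84338c63b543e73ab9b2ad3477), (nat_lit 0x114fc84338c63b543e73ab9b2ad3477), (nat_lit 0)⟩) (BT.leaf ⟨(nat_lit 1), (nat_lit 0), (nat_lit 0), (nat_lit 0x569f5a365c7f8df09bc8dd82dd1be2), (nat_lit 0x569f5a365c7f8df09bc8dd82dd1be2), (nat_lit 0)⟩)) (BT.node (nat_lit 31) (BT.leaf ⟨(nat_lit 1), (nat_lit 0), (nat_lit 0), (nat_lit 0x17824b0480180a093f32df9d38ee808), (nat_lit 0x17824b0480180a093f32df9d38ee808), (nat_lit 0)⟩) (BT.leaf ⟨(nat_lit 1), (nat_lit 0), (nat_lit 0), (nat_lit 0xf604f54b93f89d898ed939a7a6f41e), (nat_lit 0xf604f54b93f89d898ed939a7a6f41e), (nat_lit 0)⟩)))))) (BT.node (nat_lit 48) (BT.node (nat_lit 40) (BT.node (nat_lit 36) (BT.node (nat_lit 34) (BT.node (nat_lit 33) (BT.leaf ⟨(nat_lit 1), (nat_lit 0), (nat_lit 0), (nat_lit 0x1802104408007a17a7e3a5f97eeac10), (nat_lit 0x1802104408007a17a7e3a5f97eeac10),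 (nat_lit 0)⟩) (BT.leaf ⟨(nat_lit 1), (nat_lit 0), (nat_lit 0), (nat_lit 0x9fd4c9f5141d9811028f5bc6830120), (nat_lit 0x9fd4c9f5141d9811028f5bc6830120), (nat_lit 0)⟩)) (BT.node (nat_lit 35) (BT.leaf ⟨(nat_lit 1), (nat_lit 0), (nat_lit 0), (nat_lit 0x96e3b9041080500604404801003005), (nat_lit 0x96e3b9041080500604404801003005), (nat_lit 0)⟩) (BT.leaf ⟨(nat_lit 1), (nat_lit 0), (nat_lit 0), (nat_lit 0x174ac6f8ce1a5e7e6f8ff13a8bc2e58), (nat_lit 0x174ac6f8ce1a5e7e6f8ff13a8bc2e58), (nat_lit 0)⟩))) (BT.node (nat_lit 38) (BT.node (nat_lit 37) (BT.leaf ⟨(nat_lit 1), (nat_lit 0), (nat_lit 0), (nat_lit 0x73a55ef4dc9bdb90fdbdea5e5356b4), (nat_lit 0x73a55ef4dc9bdb90fdbdea5e5356b4), (nat_lit 0)⟩) (BT.leaf ⟨(nat_lit 1), (nat_lit 0), (nat_lit 0), (nat_lit 0x1d1a8ce69365d3b2307cd27d99ec744), (nat_lit 0x1d1a8ce69365d3b2307cd27d99ec744), (nat_lit 0)⟩)) (BT.node (nat_lit 39)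 (BT.leaf ⟨(nat_lit 1), (nat_lit 0), (nat_lit 0), (nat_lit 0xa029d58d405a79026734802e70032f), (nat_lit 0xa029d58d405a79026734802e70032f), (nat_lit 0)⟩) (BT.leaf ⟨(nat_lit 1), (nat_lit 0), (nat_lit 0), (nat_lit 0x93f164ab6e197d2f1bc715edd3fdd2), (nat_lit 0x93f164ab6e197d2f1bc715edd3fdd2), (nat_lit 0)⟩)))) (BT.node (nat_lit 44) (BT.node (nat_lit 42) (BT.node (nat_lit 41) (BT.leaf ⟨(nat_lit 1), (nat_lit 0), (nat_lit 0), (nat_lit 0x12ac2fd19acb97dc51bc6bfedd2da7f), (nat_lit 0x12ac2fd19acb97dc51bc6bfedd2da7f), (nat_lit 0)⟩) (BT.leaf ⟨(nat_lit 3), (nat_lit 0), (nat_lit 1), (nat_lit 0x1001001001001001001001001001001), (nat_lit 0x1001001001001001001001001001001), (nat_lit 0)⟩)) (BT.node (nat_lit 43) (BT.leaf ⟨(nat_lit 3), (nat_lit 1), (nat_lit 0), (nat_lit 0x1001001001001001001001001001001), (nat_lit 0x1001001001001001001001001001001), (nat_lit 0)⟩) (BT.leaf ⟨(nat_lit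 2), (nat_lit 1), (nat_lit 1), (nat_lit 0x2816f8841205551c98083c204d7880), (nat_lit 0), (nat_lit 0)⟩))) (BT.node (nat_lit 46) (BT.node (nat_lit 45) (BT.leaf ⟨(nat_lit 2), (nat_lit 1), (nat_lit 1), (nat_lit 0x14bdcb12e35e4b495fdb2dfa88938fa), (nat_lit 0), (nat_lit 0)⟩) (BT.leaf ⟨(nat_lit 2), (nat_lit 1), (nat_lit 1), (nat_lit 0x1eb532f8df3ba8bc678fcb05e589fcd), (nat_lit 0), (nat_lit 0)⟩)) (BT.node (nat_lit 47) (BT.leaf ⟨(nat_lit 2), (nat_lit 1), (nat_lit 1), (nat_lit 0x1134d9674fe85e77a7dbd69bd97a721), (nat_lit 0), (nat_lit 0)⟩) (BT.leaf ⟨(nat_lit 2), (nat_lit 1), (nat_lit 1), (nat_lit 0x17a90101200dbd84178f3ae4b411042), (nat_lit 0), (nat_lit 0)⟩))))) (BT.node (nat_lit 56) (BT.node (nat_lit 52) (BT.node (nat_lit 50) (BT.node (nat_lit 49) (BT.leaf ⟨(nat_lit 2), (nat_lit 1), (nat_lit 1), (nat_lit 0x19a5b802f25c4b49ffdb2dfa89cb0fa), (nat_lit 0), (nat_lit 0)⟩)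 (BT.leaf ⟨(nat_lit 2), (nat_lit 1), (nat_lit 1), (nat_lit 0x1caab2f3bddfcc8e707ce71c69a4e3a), (nat_lit 0), (nat_lit 0)⟩)) (BT.node (nat_lit 51) (BT.leaf ⟨(nat_lit 2), (nat_lit 1), (nat_lit 1), (nat_lit 0x15cda4c738663b638e73ab9b2bc8477), (nat_lit 0), (nat_lit 0)⟩) (BT.leaf ⟨(nat_lit 2), (nat_lit 1), (nat_lit 1), (nat_lit 0xf9fc836346df8d661bc8dd82df5be2), (nat_lit 0), (nat_lit 0)⟩))) (BT.node (nat_lit 54) (BT.node (nat_lit 53) (BT.leaf ⟨(nat_lit 2), (nat_lit 1), (nat_lit 1), (nat_lit 0x11b8f1b635c7f8e6c9bc78782dd1a36), (nat_lit 0), (nat_lit 0)⟩) (BT.leaf ⟨(nat_lit 2), (nat_lit 1), (nat_lit 1), (nat_lit 0x1bf12b8180180a23df32563d38ee848), (nat_lit 0), (nat_lit 0)⟩)) (BT.node (nat_lit 55) (BT.leaf ⟨(nat_lit 2), (nat_lit 1), (nat_lit 1), (nat_lit 0x1271d259e93f89fbe8ed2eda7a6f54b), (nat_lit 0), (nat_lit 0)⟩) (BT.leaf ⟨(nat_lit 2), (nat_lit 1), (nat_lit 1),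 (nat_lit 0x125a4f49fa963b7bee9e2ed89e4e59e), (nat_lit 0), (nat_lit 0)⟩)))) (BT.node (nat_lit 60) (BT.node (nat_lit 58) (BT.node (nat_lit 57) (BT.leaf ⟨(nat_lit 2), (nat_lit 1), (nat_lit 1), (nat_lit 0x27a40400881f8e0465f68c7a297c04), (nat_lit 0), (nat_lit 0)⟩) (BT.leaf ⟨(nat_lit 2), (nat_lit 1), (nat_lit 1), (nat_lit 0x1080180a03ea0a25f71a441d9bd6821), (nat_lit 0), (nat_lit 0)⟩)) (BT.node (nat_lit 59) (BT.leaf ⟨(nat_lit 2), (nat_lit 1), (nat_lit 1), (nat_lit 0xaa795011220142fc014820043ce890), (nat_lit 0), (nat_lit 0)⟩) (BT.leaf ⟨(nat_lit 2), (nat_lit 1), (nat_lit 1), (nat_lit 0x1deac1f3bf75cca6c87c675c6b9c6ef), (nat_lit 0), (nat_lit 0)⟩))) (BT.node (nat_lit 62) (BT.node (nat_lit 61) (BT.leaf ⟨(nat_lit 2), (nat_lit 1), (nat_lit 1), (nat_lit 0xce9a4eeff75cc85b87ce71c6bbd63a), (nat_lit 0), (nat_lit 0)⟩) (BT.leaf ⟨(nat_lit 2), (nat_lit 1), (nat_lit 1), (nat_lit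 0x114fc84338c63b543e73ab9b2ad3477), (nat_lit 0), (nat_lit 0)⟩)) (BT.node (nat_lit 63) (BT.leaf ⟨(nat_lit 2), (nat_lit 1), (nat_lit 1), (nat_lit 0x569f5a365c7f8df09bc8dd82dd1be2), (nat_lit 0), (nat_lit 0)⟩) (BT.leaf ⟨(nat_lit 2), (nat_lit 1), (nat_lit 1), (nat_lit 0x1e41d1ae37c5f8df59bc78782df0a36), (nat_lit 0), (nat_lit 0)⟩)))))))
noncomputable def hP0 : BT Pf := (BT.node (nat_lit 32) (BT.node (nat_lit 16) (BT.node (nat_lit 8) (BT.node (nat_lit 4) (BT.node (nat_lit 2) (BT.node (nat_lit 1) (BT.leaf (.base (nat_lit 0))) (BT.leaf (.base (nat_lit 1)))) (BT.node (nat_lit 3) (BT.leaf (.nmul (nat_lit 1) [(nat_lit 0)])) (BT.leaf (.nmul (nat_lit 2) [(nat_lit 0)])))) (BT.node (nat_lit 6) (BT.node (nat_lit 5) (BT.leaf (.nmul (nat_lit 3) [(nat_lit 1)])) (BT.leaf (.nmul (nat_lit 4) [(nat_lit 1)]))) (BT.node (nat_lit 7) (BT.leaf (.nmul (nat_lit 5) [(nat_lit 0)])) (BT.leaf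 (.nmul (nat_lit 6) [(nat_lit 0)]))))) (BT.node (nat_lit 12) (BT.node (nat_lit 10) (BT.node (nat_lit 9) (BT.leaf (.nmul (nat_lit 7) [(nat_lit 0)])) (BT.leaf (.nmul (nat_lit 8) [(nat_lit 0)]))) (BT.node (nat_lit 11) (BT.leaf (.nmul (nat_lit 9) [(nat_lit 0)])) (BT.leaf (.nmul (nat_lit 10) [(nat_lit 1)])))) (BT.node (nat_lit 14) (BT.node (nat_lit 13) (BT.leaf (.nmul (nat_lit 11) [(nat_lit 0)])) (BT.leaf (.nmul (nat_lit 12) [(nat_lit 0)]))) (BT.node (nat_lit 15) (BT.leaf (.nmul (nat_lit 13) [(nat_lit 1)])) (BT.leaf (.nmul (nat_lit 14) [(nat_lit 1)])))))) (BT.node (nat_lit 24) (BT.node (nat_lit 20) (BT.node (nat_lit 18) (BT.node (nat_lit 17) (BT.leaf (.nmul (nat_lit 15) [(nat_lit 0)])) (BT.leaf (.nmul (nat_lit 0) [(nat_lit 0)]))) (BT.node (nat_lit 19) (BT.leaf (.nmul (nat_lit 17) [(nat_lit 0)])) (BT.leaf (.nmul (nat_lit 18) [(nat_lit 0)])))) (BT.node (nat_lit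 22) (BT.node (nat_lit 21) (BT.leaf (.nmul (nat_lit 19) [(nat_lit 0)])) (BT.leaf (.nmul (nat_lit 20) [(nat_lit 0)]))) (BT.node (nat_lit 23) (BT.leaf (.nmul (nat_lit 21) [(nat_lit 0)])) (BT.leaf (.nmul (nat_lit 22) [(nat_lit 0)]))))) (BT.node (nat_lit 28) (BT.node (nat_lit 26) (BT.node (nat_lit 25) (BT.leaf (.nmul (nat_lit 23) [(nat_lit 0)])) (BT.leaf (.nmul (nat_lit 24) [(nat_lit 0)]))) (BT.node (nat_lit 27) (BT.leaf (.nmul (nat_lit 25) [(nat_lit 16)])) (BT.leaf (.nmul (nat_lit 1) [(nat_lit 1)])))) (BT.node (nat_lit 30) (BT.node (nat_lit 29) (BT.leaf (.nmul (nat_lit 27) [(nat_lit 0)])) (BT.leaf (.nmul (nat_lit 28) [(nat_lit 0)]))) (BT.node (nat_lit 31) (BT.leaf (.nmul (nat_lit 29) [(nat_lit 0)])) (BT.leaf (.nmul (nat_lit 30) [(nat_lit 0)]))))))) (BT.node (nat_lit 48) (BT.node (nat_lit 40) (BT.node (nat_lit 36) (BT.node (nat_lit 34) (BT.node (nat_lit 33)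 (BT.leaf (.nmul (nat_lit 31) [(nat_lit 0)])) (BT.leaf (.nmul (nat_lit 32) [(nat_lit 0)]))) (BT.node (nat_lit 35) (BT.leaf (.nmul (nat_lit 33) [(nat_lit 1)])) (BT.leaf (.nmul (nat_lit 34) [(nat_lit 1)])))) (BT.node (nat_lit 38) (BT.node (nat_lit 37) (BT.leaf (.nmul (nat_lit 35) [(nat_lit 0)])) (BT.leaf (.nmul (nat_lit 36) [(nat_lit 1)]))) (BT.node (nat_lit 39) (BT.leaf (.nmul (nat_lit 37) [(nat_lit 0)])) (BT.leaf (.nmul (nat_lit 38) [(nat_lit 0)]))))) (BT.node (nat_lit 44) (BT.node (nat_lit 42) (BT.node (nat_lit 41) (BT.leaf (.nmul (nat_lit 39) [(nat_lit 1)])) (BT.leaf (.dfn []))) (BT.node (nat_lit 43) (BT.leaf (.inv (nat_lit 41))) (BT.leaf (.ne (nat_lit 0))))) (BT.node (nat_lit 46) (BT.node (nat_lit 45) (BT.leaf (.ne (nat_lit 1))) (BT.leaf (.emul [(nat_lit 43), (nat_lit 44)]))) (BT.node (nat_lit 47) (BT.leaf (.emul [(nat_lit 43), (nat_lit 45)])) (BT.leaf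 (.emul [(nat_lit 43), (nat_lit 46)])))))) (BT.node (nat_lit 56) (BT.node (nat_lit 52) (BT.node (nat_lit 50) (BT.node (nat_lit 49) (BT.leaf (.emul [(nat_lit 43), (nat_lit 47)])) (BT.leaf (.emul [(nat_lit 44), (nat_lit 48)]))) (BT.node (nat_lit 51) (BT.leaf (.emul [(nat_lit 43), (nat_lit 49)])) (BT.leaf (.emul [(nat_lit 43), (nat_lit 50)])))) (BT.node (nat_lit 54) (BT.node (nat_lit 53) (BT.leaf (.emul [(nat_lit 44), (nat_lit 51)])) (BT.leaf (.emul [(nat_lit 43), (nat_lit 52)]))) (BT.node (nat_lit 55) (BT.leaf (.emul [(nat_lit 43), (nat_lit 53)])) (BT.leaf (.emul [(nat_lit 44), (nat_lit 54)]))))) (BT.node (nat_lit 60) (BT.node (nat_lit 58) (BT.node (nat_lit 57) (BT.leaf (.emul [(nat_lit 43), (nat_lit 55)])) (BT.leaf (.emul [(nat_lit 43), (nat_lit 56)]))) (BT.node (nat_lit 59) (BT.leaf (.emul [(nat_lit 43), (nat_lit 43)])) (BT.leaf (.emul [(nat_lit 57), (nat_lit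 58)])))) (BT.node (nat_lit 62) (BT.node (nat_lit 61) (BT.leaf (.emul [(nat_lit 44), (nat_lit 44)])) (BT.leaf (.emul [(nat_lit 43), (nat_lit 60)]))) (BT.node (nat_lit 63) (BT.leaf (.emul [(nat_lit 43), (nat_lit 61)])) (BT.leaf (.emul [(nat_lit 44), (nat_lit 62)]))))))))
noncomputable def hF64 : BT Fc := (BT.node (nat_lit 96) (BT.node (nat_lit 80) (BT.node (nat_lit 72) (BT.node (nat_lit 68) (BT.node (nat_lit 66) (BT.node (nat_lit 65) (BT.leaf ⟨(nat_lit 2), (nat_lit 1), (nat_lit 1), (nat_lit 0xfacee80c0100a24b732563d3893848), (nat_lit 0), (nat_lit 0)⟩) (BT.leaf ⟨(nat_lit 2), (nat_lit 1), (nat_lit 1), (nat_lit 0x125a6f49f83d89c4f0ed2eda7989d4b), (nat_lit 0), (nat_lit 0)⟩)) (BT.node (nat_lit 67) (BT.leaf ⟨(nat_lit 2), (nat_lit 1), (nat_lit 1), (nat_lit 0x27aeac008207a2107e368d97d7a440), (nat_lit 0), (nat_lit 0)⟩) (BT.leaf ⟨(nat_lit 2), (nat_lit 1), (nat_lit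 1), (nat_lit 0x1080300a0241d994c828441c68111f5), (nat_lit 0), (nat_lit 0)⟩))) (BT.node (nat_lit 70) (BT.node (nat_lit 69) (BT.leaf ⟨(nat_lit 2), (nat_lit 1), (nat_lit 1), (nat_lit 0x10100308400a0523b84457a01006104), (nat_lit 0), (nat_lit 0)⟩) (BT.leaf ⟨(nat_lit 2), (nat_lit 1), (nat_lit 1), (nat_lit 0xe37c2f0dcb05e6c6f8f7fda8be6f8c), (nat_lit 0), (nat_lit 0)⟩)) (BT.node (nat_lit 71) (BT.leaf ⟨(nat_lit 2), (nat_lit 1), (nat_lit 1), (nat_lit 0x1b51356e4d69bda55fdba2e5e790ef4), (nat_lit 0), (nat_lit 0)⟩) (BT.leaf ⟨(nat_lit 2), (nat_lit 1), (nat_lit 1), (nat_lit 0x1d09ec1b2e89d3a8c87c94bd9b23669), (nat_lit 0), (nat_lit 0)⟩)))) (BT.node (nat_lit 76) (BT.node (nat_lit 74) (BT.node (nat_lit 73) (BT.leaf ⟨(nat_lit 2), (nat_lit 1), (nat_lit 1), (nat_lit 0x1e7647756030141278107e605008f2a), (nat_lit 0), (nat_lit 0)⟩) (BT.leaf ⟨(nat_lit 2), (nat_lit 1), (nat_lit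 1), (nat_lit 0x1fd280300b3c3571d18021040480573), (nat_lit 0), (nat_lit 0)⟩)) (BT.node (nat_lit 75) (BT.leaf ⟨(nat_lit 2), (nat_lit 1), (nat_lit 1), (nat_lit 0x1d1e00ab893e4040088108275097201), (nat_lit 0), (nat_lit 0)⟩) (BT.leaf ⟨(nat_lit 2), (nat_lit 1), (nat_lit 1), (nat_lit 0x13a2b990020835723101240603fa110), (nat_lit 0), (nat_lit 0)⟩))) (BT.node (nat_lit 78) (BT.node (nat_lit 77) (BT.leaf ⟨(nat_lit 2), (nat_lit 1), (nat_lit 1), (nat_lit 0x1d09f388400a1110200457a05003104), (nat_lit 0), (nat_lit 0)⟩) (BT.leaf ⟨(nat_lit 2), (nat_lit 1), (nat_lit 1), (nat_lit 0x804048110027512f081bd240497005), (nat_lit 0), (nat_lit 0)⟩)) (BT.node (nat_lit 79) (BT.leaf ⟨(nat_lit 2), (nat_lit 1), (nat_lit 1), (nat_lit 0x1801202804039ce9d69e4402e5013d5), (nat_lit 0), (nat_lit 0)⟩) (BT.leaf ⟨(nat_lit 1), (nat_lit 0), (nat_lit 0), (nat_lit 0xaa795011220142fc014820043ce890),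 (nat_lit 0xaa795011220142fc014820043ce890), (nat_lit 0)⟩))))) (BT.node (nat_lit 88) (BT.node (nat_lit 84) (BT.node (nat_lit 82) (BT.node (nat_lit 81) (BT.leaf ⟨(nat_lit 1), (nat_lit 0), (nat_lit 0), (nat_lit 0x13a2b990020835723101240603fa110), (nat_lit 0x13a2b990020835723101240603fa110), (nat_lit 0)⟩) (BT.leaf ⟨(nat_lit 1), (nat_lit 0), (nat_lit 0), (nat_lit 0x1d12ffd1955dd3ba3f66d261f3ab4a5), (nat_lit 0x1d12ffd1955dd3ba3f66d261f3ab4a5), (nat_lit 0)⟩)) (BT.node (nat_lit 83) (BT.leaf ⟨(nat_lit 1), (nat_lit 0), (nat_lit 0), (nat_lit 0xcbff453aa8da79000b94819cd80208), (nat_lit 0xcbff453aa8da79000b94819cd80208), (nat_lit 0)⟩) (BT.leaf ⟨(nat_lit 1), (nat_lit 0), (nat_lit 0), (nat_lit 0x80101280403a782fe73c002e6a3300), (nat_lit 0x80101280403a782fe73c002e6a3300), (nat_lit 0)⟩))) (BT.node (nat_lit 86) (BT.node (nat_lit 85) (BT.leaf ⟨(nat_lit 1), (nat_lit 0),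 (nat_lit 0), (nat_lit 0x997a8dc8bc182eb41e8bd3eded42ae), (nat_lit 0x997a8dc8bc182eb41e8bd3eded42ae), (nat_lit 0)⟩) (BT.leaf ⟨(nat_lit 1), (nat_lit 0), (nat_lit 0), (nat_lit 0x10a389d7205e3f9c6f60444b601003), (nat_lit 0x10a389d7205e3f9c6f60444b601003), (nat_lit 0)⟩)) (BT.node (nat_lit 87) (BT.leaf ⟨(nat_lit 1), (nat_lit 0), (nat_lit 0), (nat_lit 0x10115e80ce84110420143a201378024), (nat_lit 0x10115e80ce84110420143a201378024), (nat_lit 0)⟩) (BT.leaf ⟨(nat_lit 1), (nat_lit 0), (nat_lit 0), (nat_lit 0xf8e4f746010040ea84010001097f3a), (nat_lit 0xf8e4f746010040ea84010001097f3a), (nat_lit 0)⟩)))) (BT.node (nat_lit 92) (BT.node (nat_lit 90) (BT.node (nat_lit 89) (BT.leaf ⟨(nat_lit 1), (nat_lit 0), (nat_lit 0), (nat_lit 0x174b60a5e6be6f12be5facbedd2fadf), (nat_lit 0x174b60a5e6be6f12be5facbedd2fadf), (nat_lit 0)⟩) (BT.leaf ⟨(nat_lit 1), (nat_lit 0), (nat_lit 0),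 (nat_lit 0x17aba8ce8bd27a15760bb91edef643d), (nat_lit 0x17aba8ce8bd27a15760bb91edef643d), (nat_lit 0)⟩)) (BT.node (nat_lit 91) (BT.leaf ⟨(nat_lit 1), (nat_lit 0), (nat_lit 0), (nat_lit 0x1a38f44045bd801f8f3ae4b6f500a), (nat_lit 0x1a38f44045bd801f8f3ae4b6f500a), (nat_lit 0)⟩) (BT.leaf ⟨(nat_lit 1), (nat_lit 0), (nat_lit 0), (nat_lit 0x1e36c6f8516fa8b46f8fe1a5e6e90cb), (nat_lit 0x1e36c6f8516fa8b46f8fe1a5e6e90cb), (nat_lit 0)⟩))) (BT.node (nat_lit 94) (BT.node (nat_lit 93) (BT.leaf ⟨(nat_lit 1), (nat_lit 0), (nat_lit 0), (nat_lit 0x87d2014018010383044ef4140b7841), (nat_lit 0x87d2014018010383044ef4140b7841), (nat_lit 0)⟩) (BT.leaf ⟨(nat_lit 1), (nat_lit 0), (nat_lit 0), (nat_lit 0x14bf0034667597e009e8901f8e00420), (nat_lit 0x14bf0034667597e009e8901f8e00420), (nat_lit 0)⟩)) (BT.node (nat_lit 95) (BT.leaf ⟨(nat_lit 1), (nat_lit 0), (nat_lit 0), (nat_lit 0x1bd27a6f5ce9f6f6a6f639c5e655f21),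 (nat_lit 0x1bd27a6f5ce9f6f6a6f639c5e655f21), (nat_lit 0)⟩) (BT.leaf ⟨(nat_lit 3), (nat_lit 1), (nat_lit 1), (nat_lit 0xe8d7c96f32a103bd5a886687f5a7cd), (nat_lit 0xf89f9a367c2f8fc83a394bf8cad363), (nat_lit 0)⟩)))))) (BT.node (nat_lit 112) (BT.node (nat_lit 104) (BT.node (nat_lit 100) (BT.node (nat_lit 98) (BT.node (nat_lit 97) (BT.leaf ⟨(nat_lit 3), (nat_lit 1), (nat_lit 2), (nat_lit 0x1679d269ed82f624f4de1dbdf64fcbe), (nat_lit 0x1001001001001001001001001001001), (nat_lit 0)⟩) (BT.leaf ⟨(nat_lit 2), (nat_lit 1), (nat_lit 1), (nat_lit 0x1cedf12b893e4040888100a7537aa01), (nat_lit 0), (nat_lit 0)⟩)) (BT.node (nat_lit 99) (BT.leaf ⟨(nat_lit 2), (nat_lit 1), (nat_lit 1), (nat_lit 0x11cc045e8800010800100021000125f), (nat_lit 0), (nat_lit 0)⟩) (BT.leaf ⟨(nat_lit 2), (nat_lit 1), (nat_lit 1), (nat_lit 0x14e99d72aef5c6b9d87cddfccb9c73a), (nat_lit 0), (nat_lit 0)⟩)))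 (BT.node (nat_lit 102) (BT.node (nat_lit 101) (BT.leaf ⟨(nat_lit 2), (nat_lit 1), (nat_lit 1), (nat_lit 0xbe558a396d82e4736272b5b295dbb9), (nat_lit 0), (nat_lit 0)⟩) (BT.leaf ⟨(nat_lit 2), (nat_lit 1), (nat_lit 1), (nat_lit 0x11ec39cf3ae7b2a398ed8ef9ce38c72), (nat_lit 0), (nat_lit 0)⟩)) (BT.node (nat_lit 103) (BT.leaf ⟨(nat_lit 2), (nat_lit 1), (nat_lit 1), (nat_lit 0x820000110004100004572100011d5), (nat_lit 0), (nat_lit 0)⟩) (BT.leaf ⟨(nat_lit 2), (nat_lit 1), (nat_lit 1), (nat_lit 0x14eb003d5403a79200b94219cd01300), (nat_lit 0), (nat_lit 0)⟩)))) (BT.node (nat_lit 108) (BT.node (nat_lit 106) (BT.node (nat_lit 105) (BT.leaf ⟨(nat_lit 2), (nat_lit 1), (nat_lit 1), (nat_lit 0x3997cbb96d989d58ecabfe2e55dab8), (nat_lit 0), (nat_lit 0)⟩) (BT.leaf ⟨(nat_lit 2), (nat_lit 1), (nat_lit 1), (nat_lit 0xfce3189022005018010030140091c5), (nat_lit 0), (nat_lit 0)⟩))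 (BT.node (nat_lit 107) (BT.leaf ⟨(nat_lit 2), (nat_lit 1), (nat_lit 1), (nat_lit 0x1d0aa37c6e8fd9a5287c68dd3ba2646), (nat_lit 0), (nat_lit 0)⟩) (BT.leaf ⟨(nat_lit 2), (nat_lit 1), (nat_lit 1), (nat_lit 0xac4240093bbcc92bf4e8100a005088), (nat_lit 0), (nat_lit 0)⟩))) (BT.node (nat_lit 110) (BT.node (nat_lit 109) (BT.leaf ⟨(nat_lit 2), (nat_lit 1), (nat_lit 1), (nat_lit 0x1ce045d5a0197e001e8881f8e01480), (nat_lit 0), (nat_lit 0)⟩) (BT.leaf ⟨(nat_lit 2), (nat_lit 1), (nat_lit 1), (nat_lit 0x100210500901f8f001e80e797e01401), (nat_lit 0), (nat_lit 0)⟩)) (BT.node (nat_lit 111) (BT.leaf ⟨(nat_lit 2), (nat_lit 1), (nat_lit 1), (nat_lit 0x18019d48080397e201e8801f8e015d5), (nat_lit 0), (nat_lit 0)⟩) (BT.leaf ⟨(nat_lit 1), (nat_lit 0), (nat_lit 0), (nat_lit 0x1bd239820e74012f401080010080008), (nat_lit 0x1bd239820e74012f401080010080008), (nat_lit 0)⟩))))) (BT.node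 (nat_lit 120) (BT.node (nat_lit 116) (BT.node (nat_lit 114) (BT.node (nat_lit 113) (BT.leaf ⟨(nat_lit 1), (nat_lit 0), (nat_lit 0), (nat_lit 0x209b1a399e6207e31801405544241e), (nat_lit 0x209b1a399e6207e31801405544241e), (nat_lit 0)⟩) (BT.leaf ⟨(nat_lit 1), (nat_lit 0), (nat_lit 0), (nat_lit 0x221b1cf35005544808110860386c1e), (nat_lit 0x221b1cf35005544808110860386c1e), (nat_lit 0)⟩)) (BT.node (nat_lit 115) (BT.leaf ⟨(nat_lit 1), (nat_lit 0), (nat_lit 0), (nat_lit 0x12380c3f349e1408801002205372410), (nat_lit 0x12380c3f349e1408801002205372410), (nat_lit 0)⟩) (BT.leaf ⟨(nat_lit 1), (nat_lit 0), (nat_lit 0), (nat_lit 0x1e76c6f0df19e3fd6ea216e5e63768d), (nat_lit 0x1e76c6f0df19e3fd6ea216e5e63768d), (nat_lit 0)⟩))) (BT.node (nat_lit 118) (BT.node (nat_lit 117) (BT.leaf ⟨(nat_lit 1), (nat_lit 0), (nat_lit 0), (nat_lit 0xe8d2077a0c0110ca840180143e6f06), (nat_lit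 0xe8d2077a0c0110ca840180143e6f06), (nat_lit 0)⟩) (BT.leaf ⟨(nat_lit 1), (nat_lit 0), (nat_lit 0), (nat_lit 0xe3700480baa7a20465f675f8e20401), (nat_lit 0xe3700480baa7a20465f675f8e20401), (nat_lit 0)⟩)) (BT.node (nat_lit 119) (BT.leaf ⟨(nat_lit 1), (nat_lit 0), (nat_lit 0), (nat_lit 0xf87c82366c66f252e0b787f8df9ae3), (nat_lit 0xf87c82366c66f252e0b787f8df9ae3), (nat_lit 0)⟩) (BT.leaf ⟨(nat_lit 1), (nat_lit 0), (nat_lit 0), (nat_lit 0x1e269a78516fa8bc678fcb05e6370cb), (nat_lit 0x1e269a78516fa8bc678fcb05e6370cb), (nat_lit 0)⟩)))) (BT.node (nat_lit 124) (BT.node (nat_lit 122) (BT.node (nat_lit 121) (BT.leaf ⟨(nat_lit 1), (nat_lit 0), (nat_lit 0), (nat_lit 0x16a21994018010030044090143e6841), (nat_lit 0x16a21994018010030044090143e6841), (nat_lit 0)⟩) (BT.leaf ⟨(nat_lit 1), (nat_lit 0), (nat_lit 0), (nat_lit 0x100b5cb4667597eea9e8a01f8e20420), (nat_lit 0x100b5cb4667597eea9e8a01f8e20420),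 (nat_lit 0)⟩)) (BT.node (nat_lit 123) (BT.leaf ⟨(nat_lit 1), (nat_lit 0), (nat_lit 0), (nat_lit 0x1bc143ef5ce9f6f7e6f63645e57a721), (nat_lit 0x1bc143ef5ce9f6f7e6f63645e57a721), (nat_lit 0)⟩) (BT.leaf ⟨(nat_lit 1), (nat_lit 0), (nat_lit 0), (nat_lit 0x17e154830e540408801402214372018), (nat_lit 0x17e154830e540408801402214372018), (nat_lit 0)⟩))) (BT.node (nat_lit 126) (BT.node (nat_lit 125) (BT.leaf ⟨(nat_lit 2), (nat_lit 2), (nat_lit 2), (nat_lit 0x11cfa3100100041f1804800103c6801), (nat_lit 0), (nat_lit 0)⟩) (BT.leaf ⟨(nat_lit 3), (nat_lit 2), (nat_lit 1), (nat_lit 0x1001001001001001001001001001001), (nat_lit 0x1679d269ed82f624f4de1dbdf64fcbe), (nat_lit 0)⟩)) (BT.node (nat_lit 127) (BT.leaf ⟨(nat_lit 2), (nat_lit 1), (nat_lit 1), (nat_lit 0xcd7ab693e8fd9a8cf4e68c1f3a2646), (nat_lit 0), (nat_lit 0)⟩) (BT.leaf ⟨(nat_lit 2), (nat_lit 1), (nat_lit 1), (nat_lit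 0x224b1083bbcc9f5828811d3805088), (nat_lit 0), (nat_lit 0)⟩)))))))
noncomputable def hP64 : BT Pf := (BT.node (nat_lit 96) (BT.node (nat_lit 80) (BT.node (nat_lit 72) (BT.node (nat_lit 68) (BT.node (nat_lit 66) (BT.node (nat_lit 65) (BT.leaf (.emul [(nat_lit 43), (nat_lit 63)])) (BT.leaf (.emul [(nat_lit 43), (nat_lit 64)]))) (BT.node (nat_lit 67) (BT.leaf (.emul [(nat_lit 43), (nat_lit 65)])) (BT.leaf (.emul [(nat_lit 43), (nat_lit 66)])))) (BT.node (nat_lit 70) (BT.node (nat_lit 69) (BT.leaf (.emul [(nat_lit 44), (nat_lit 67)])) (BT.leaf (.emul [(nat_lit 44), (nat_lit 68)]))) (BT.node (nat_lit 71) (BT.leaf (.emul [(nat_lit 43), (nat_lit 69)])) (BT.leaf (.emul [(nat_lit 44), (nat_lit 70)]))))) (BT.node (nat_lit 76) (BT.node (nat_lit 74) (BT.node (nat_lit 73) (BT.leaf (.emul [(nat_lit 44), (nat_lit 71)])) (BT.leaf (.emul [(nat_lit 43), (nat_lit 72)])))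 (BT.node (nat_lit 75) (BT.leaf (.emul [(nat_lit 44), (nat_lit 73)])) (BT.leaf (.emul [(nat_lit 43), (nat_lit 58)])))) (BT.node (nat_lit 78) (BT.node (nat_lit 77) (BT.leaf (.emul [(nat_lit 43), (nat_lit 75)])) (BT.leaf (.emul [(nat_lit 43), (nat_lit 76)]))) (BT.node (nat_lit 79) (BT.leaf (.emul [(nat_lit 74), (nat_lit 77)])) (BT.leaf (.nmul (nat_lit 0) [(nat_lit 0)])))))) (BT.node (nat_lit 88) (BT.node (nat_lit 84) (BT.node (nat_lit 82) (BT.node (nat_lit 81) (BT.leaf (.nmul (nat_lit 79) [(nat_lit 0)])) (BT.leaf (.nmul (nat_lit 80) [(nat_lit 40)]))) (BT.node (nat_lit 83) (BT.leaf (.nmul (nat_lit 81) [(nat_lit 0)])) (BT.leaf (.nmul (nat_lit 82) [(nat_lit 40)])))) (BT.node (nat_lit 86) (BT.node (nat_lit 85) (BT.leaf (.nmul (nat_lit 26) [(nat_lit 40)])) (BT.leaf (.nmul (nat_lit 84) [(nat_lit 40)]))) (BT.node (nat_lit 87) (BT.leaf (.nmul (nat_lit 85) [(nat_lit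 40)])) (BT.leaf (.nmul (nat_lit 86) [(nat_lit 26)]))))) (BT.node (nat_lit 92) (BT.node (nat_lit 90) (BT.node (nat_lit 89) (BT.leaf (.nmul (nat_lit 87) [(nat_lit 40)])) (BT.leaf (.nmul (nat_lit 88) [(nat_lit 26)]))) (BT.node (nat_lit 91) (BT.leaf (.nmul (nat_lit 89) [(nat_lit 40)])) (BT.leaf (.nmul (nat_lit 90) [(nat_lit 26)])))) (BT.node (nat_lit 94) (BT.node (nat_lit 93) (BT.leaf (.nmul (nat_lit 91) [(nat_lit 40)])) (BT.leaf (.nmul (nat_lit 92) [(nat_lit 40)]))) (BT.node (nat_lit 95) (BT.leaf (.nmul (nat_lit 93) [(nat_lit 40)])) (BT.leaf (.rel (nat_lit 42) (nat_lit 3) [(nat_lit 94), (nat_lit 83)] [⟨(nat_lit 0), [], []⟩]))))))) (BT.node (nat_lit 112) (BT.node (nat_lit 104) (BT.node (nat_lit 100) (BT.node (nat_lit 98) (BT.node (nat_lit 97) (BT.leaf (.dfn [(nat_lit 1), (nat_lit 3), (nat_lit 1), (nat_lit 3), (nat_lit 1)])) (BT.leaf (.emul [(nat_lit 78),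 (nat_lit 43)]))) (BT.node (nat_lit 99) (BT.leaf (.emul [(nat_lit 43), (nat_lit 97)])) (BT.leaf (.emul [(nat_lit 59), (nat_lit 98)])))) (BT.node (nat_lit 102) (BT.node (nat_lit 101) (BT.leaf (.emul [(nat_lit 59), (nat_lit 78)])) (BT.leaf (.emul [(nat_lit 59), (nat_lit 100)]))) (BT.node (nat_lit 103) (BT.leaf (.emul [(nat_lit 78), (nat_lit 101)])) (BT.leaf (.emul [(nat_lit 78), (nat_lit 102)]))))) (BT.node (nat_lit 108) (BT.node (nat_lit 106) (BT.node (nat_lit 105) (BT.leaf (.emul [(nat_lit 59), (nat_lit 103)])) (BT.leaf (.emul [(nat_lit 78), (nat_lit 104)]))) (BT.node (nat_lit 107) (BT.leaf (.emul [(nat_lit 59), (nat_lit 105)])) (BT.leaf (.emul [(nat_lit 78), (nat_lit 106)])))) (BT.node (nat_lit 110) (BT.node (nat_lit 109) (BT.leaf (.emul [(nat_lit 59), (nat_lit 107)])) (BT.leaf (.emul [(nat_lit 78), (nat_lit 108)]))) (BT.node (nat_lit 111) (BT.leaf (.emul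 [(nat_lit 78), (nat_lit 109)])) (BT.leaf (.nmul (nat_lit 1) [(nat_lit 40)])))))) (BT.node (nat_lit 120) (BT.node (nat_lit 116) (BT.node (nat_lit 114) (BT.node (nat_lit 113) (BT.leaf (.nmul (nat_lit 111) [(nat_lit 0)])) (BT.leaf (.nmul (nat_lit 112) [(nat_lit 1)]))) (BT.node (nat_lit 115) (BT.leaf (.nmul (nat_lit 113) [(nat_lit 0)])) (BT.leaf (.nmul (nat_lit 85) [(nat_lit 26)])))) (BT.node (nat_lit 118) (BT.node (nat_lit 117) (BT.leaf (.nmul (nat_lit 115) [(nat_lit 40)])) (BT.leaf (.nmul (nat_lit 116) [(nat_lit 40)]))) (BT.node (nat_lit 119) (BT.leaf (.nmul (nat_lit 117) [(nat_lit 26)])) (BT.leaf (.nmul (nat_lit 118) [(nat_lit 40)]))))) (BT.node (nat_lit 124) (BT.node (nat_lit 122) (BT.node (nat_lit 121) (BT.leaf (.nmul (nat_lit 119) [(nat_lit 40)])) (BT.leaf (.nmul (nat_lit 120) [(nat_lit 40)]))) (BT.node (nat_lit 123) (BT.leaf (.nmul (nat_lit 121) [(nat_lit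 40)])) (BT.leaf (.nmul (nat_lit 122) [(nat_lit 40)])))) (BT.node (nat_lit 126) (BT.node (nat_lit 125) (BT.leaf (.cmp (nat_lit 96) ⟨(nat_lit 96), [(nat_lit 99), (nat_lit 110)], [(nat_lit 123), (nat_lit 114)]⟩)) (BT.leaf (.inv (nat_lit 96)))) (BT.node (nat_lit 127) (BT.leaf (.emul [(nat_lit 78), (nat_lit 59)])) (BT.leaf (.emul [(nat_lit 78), (nat_lit 126)]))))))))
noncomputable def hF128 : BT Fc := (BT.node (nat_lit 160) (BT.node (nat_lit 144) (BT.node (nat_lit 136) (BT.node (nat_lit 132) (BT.node (nat_lit 130) (BT.node (nat_lit 129) (BT.leaf ⟨(nat_lit 2), (nat_lit 1), (nat_lit 1), (nat_lit 0x880120a0241d993ff1a8400a011021), (nat_lit 0), (nat_lit 0)⟩) (BT.leaf ⟨(nat_lit 1), (nat_lit 0), (nat_lit 0), (nat_lit 0x1cf85bb49b07c6b9d87cddfcc9693a4), (nat_lit 0x1cf85bb49b07c6b9d87cddfcc9693a4), (nat_lit 0)⟩)) (BT.node (nat_lit 131) (BT.leaf ⟨(nat_lit 1), (nat_lit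 0), (nat_lit 0), (nat_lit 0x1e34102008e6010ea810200102f449e), (nat_lit 0x1e34102008e6010ea810200102f449e), (nat_lit 0)⟩) (BT.leaf ⟨(nat_lit 1), (nat_lit 0), (nat_lit 0), (nat_lit 0x97760d65a3397dc51bc6bfedd27a57), (nat_lit 0x97760d65a3397dc51bc6bfedd27a57), (nat_lit 0)⟩))) (BT.node (nat_lit 134) (BT.node (nat_lit 133) (BT.leaf ⟨(nat_lit 1), (nat_lit 0), (nat_lit 0), (nat_lit 0x4aed89af25df6c93ea2cd24b56602f), (nat_lit 0x4aed89af25df6c93ea2cd24b56602f), (nat_lit 0)⟩) (BT.leaf ⟨(nat_lit 1), (nat_lit 0), (nat_lit 0), (nat_lit 0x1bd226f21fe9f6cd96f6df85e57a6f5), (nat_lit 0x1bd226f21fe9f6cd96f6df85e57a6f5), (nat_lit 0)⟩)) (BT.node (nat_lit 135) (BT.leaf ⟨(nat_lit 1), (nat_lit 0), (nat_lit 0), (nat_lit 0x93e31818eac0400881422014372030), (nat_lit 0x93e31818eac0400881422014372030), (nat_lit 0)⟩) (BT.leaf ⟨(nat_lit 1), (nat_lit 0), (nat_lit 0), (nat_lit 0x16a120706090110a0040082140b7f7a),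 (nat_lit 0x16a120706090110a0040082140b7f7a), (nat_lit 0)⟩)))) (BT.node (nat_lit 140) (BT.node (nat_lit 138) (BT.node (nat_lit 137) (BT.leaf ⟨(nat_lit 1), (nat_lit 0), (nat_lit 0), (nat_lit 0x100b00401a007a1a365f841f8e00480), (nat_lit 0x100b00401a007a1a365f841f8e00480), (nat_lit 0)⟩) (BT.leaf ⟨(nat_lit 1), (nat_lit 0), (nat_lit 0), (nat_lit 0x11bbc82e37c46f1f5e0b9b3f8df3a36), (nat_lit 0x11bbc82e37c46f1f5e0b9b3f8df3a36), (nat_lit 0)⟩)) (BT.node (nat_lit 139) (BT.leaf ⟨(nat_lit 1), (nat_lit 0), (nat_lit 0), (nat_lit 0x1f369a0cbf5ba8b46f8fe1a5e532f85), (nat_lit 0x1f369a0cbf5ba8b46f8fe1a5e532f85), (nat_lit 0)⟩) (BT.leaf ⟨(nat_lit 1), (nat_lit 0), (nat_lit 0), (nat_lit 0x4a4e00ae71bd801f8f3ae4b52ef44), (nat_lit 0x4a4e00ae71bd801f8f3ae4b52ef44), (nat_lit 0)⟩))) (BT.node (nat_lit 142) (BT.node (nat_lit 141) (BT.leaf ⟨(nat_lit 2), (nat_lit 2), (nat_lit 2), (nat_lit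 0x17e1574e8ad1edcbb1e8ea382ef55e9), (nat_lit 0), (nat_lit 0)⟩) (BT.leaf ⟨(nat_lit 2), (nat_lit 1), (nat_lit 1), (nat_lit 0xce9a4eeff75cc85b87ce71c6bbd63a), (nat_lit 0), (nat_lit 0)⟩)) (BT.node (nat_lit 143) (BT.leaf ⟨(nat_lit 2), (nat_lit 1), (nat_lit 1), (nat_lit 0xd1ba3646e8fd9865f4ee881f19afc6), (nat_lit 0), (nat_lit 0)⟩) (BT.leaf ⟨(nat_lit 2), (nat_lit 1), (nat_lit 1), (nat_lit 0x10409f81138a0501805003004108090), (nat_lit 0), (nat_lit 0)⟩))))) (BT.node (nat_lit 152) (BT.node (nat_lit 148) (BT.node (nat_lit 146) (BT.node (nat_lit 145) (BT.leaf ⟨(nat_lit 2), (nat_lit 1), (nat_lit 1), (nat_lit 0x48346900280405dc8d5b3c601af910), (nat_lit 0), (nat_lit 0)⟩) (BT.leaf ⟨(nat_lit 2), (nat_lit 1), (nat_lit 1), (nat_lit 0x1367bd6eff741f2c1f1a693ccb9c63a), (nat_lit 0), (nat_lit 0)⟩)) (BT.node (nat_lit 147) (BT.leaf ⟨(nat_lit 2), (nat_lit 1), (nat_lit 1), (nat_lit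 0x14659ae46e8fd3bab07ce8dd9ba27c6), (nat_lit 0), (nat_lit 0)⟩) (BT.leaf ⟨(nat_lit 2), (nat_lit 1), (nat_lit 1), (nat_lit 0xfac040883ba0a24b74e411cc805009), (nat_lit 0), (nat_lit 0)⟩))) (BT.node (nat_lit 150) (BT.node (nat_lit 149) (BT.leaf ⟨(nat_lit 2), (nat_lit 1), (nat_lit 1), (nat_lit 0x10119d480a01f8c4f1e8d7397e015d5), (nat_lit 0), (nat_lit 0)⟩) (BT.leaf ⟨(nat_lit 2), (nat_lit 1), (nat_lit 1), (nat_lit 0x1ae5a340190197e021e8821f8e01500), (nat_lit 0), (nat_lit 0)⟩)) (BT.node (nat_lit 151) (BT.leaf ⟨(nat_lit 1), (nat_lit 0), (nat_lit 0), (nat_lit 0x2116ff0dce86027988183c557dd1af), (nat_lit 0x2116ff0dce86027988183c557dd1af), (nat_lit 0)⟩) (BT.leaf ⟨(nat_lit 1), (nat_lit 0), (nat_lit 0), (nat_lit 0x47956e4024051f981082014231f9d), (nat_lit 0x47956e4024051f981082014231f9d), (nat_lit 0)⟩)))) (BT.node (nat_lit 156) (BT.node (nat_lit 154) (BT.node (nat_lit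 153) (BT.leaf ⟨(nat_lit 1), (nat_lit 0), (nat_lit 0), (nat_lit 0xf0db1bf37cf82e371bca2ff8cad3a3), (nat_lit 0xf0db1bf37cf82e371bca2ff8cad3a3), (nat_lit 0)⟩) (BT.leaf ⟨(nat_lit 1), (nat_lit 0), (nat_lit 0), (nat_lit 0xf9db1d178dd82de19bc94bf8fc83e1), (nat_lit 0xf9db1d178dd82de19bc94bf8fc83e1), (nat_lit 0)⟩)) (BT.node (nat_lit 155) (BT.leaf ⟨(nat_lit 1), (nat_lit 0), (nat_lit 0), (nat_lit 0x240c00adf9d3958f324100a1f5927), (nat_lit 0x240c00adf9d3958f324100a1f5927), (nat_lit 0)⟩) (BT.leaf ⟨(nat_lit 1), (nat_lit 0), (nat_lit 0), (nat_lit 0x4fd9792e35ff6c93ea2cd24b6638fa), (nat_lit 0x4fd9792e35ff6c93ea2cd24b6638fa), (nat_lit 0)⟩))) (BT.node (nat_lit 158) (BT.node (nat_lit 157) (BT.leaf ⟨(nat_lit 1), (nat_lit 0), (nat_lit 0), (nat_lit 0x1ad143ff4e43f6cd96f6df85e655e74), (nat_lit 0x1ad143ff4e43f6cd96f6df85e655e74), (nat_lit 0)⟩) (BT.leaf ⟨(nat_lit 1), (nat_lit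 0), (nat_lit 0), (nat_lit 0x104154f56030040088142201409ff2a), (nat_lit 0x104154f56030040088142201409ff2a), (nat_lit 0)⟩)) (BT.node (nat_lit 159) (BT.leaf ⟨(nat_lit 1), (nat_lit 0), (nat_lit 0), (nat_lit 0x145fc83e25c66f1e1e0b94bf8df1b63), (nat_lit 0x145fc83e25c66f1e1e0b94bf8df1b63), (nat_lit 0)⟩) (BT.leaf ⟨(nat_lit 1), (nat_lit 0), (nat_lit 0), (nat_lit 0x14bf005008027a19d65f811f8e025d5), (nat_lit 0x14bf005008027a19d65f811f8e025d5), (nat_lit 0)⟩)))))) (BT.node (nat_lit 176) (BT.node (nat_lit 168) (BT.node (nat_lit 164) (BT.node (nat_lit 162) (BT.node (nat_lit 161) (BT.leaf ⟨(nat_lit 1), (nat_lit 0), (nat_lit 0), (nat_lit 0x1bd27a1b2da9bdb3a7dbfe85e58e6fc), (nat_lit 0x1bd27a1b2da9bdb3a7dbfe85e58e6fc), (nat_lit 0)⟩) (BT.leaf ⟨(nat_lit 1), (nat_lit 0), (nat_lit 0), (nat_lit 0x4aeae127c2ba887d7db25c4b5b8669), (nat_lit 0x4aeae127c2ba887d7db25c4b5b8669), (nat_lit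 0)⟩)) (BT.node (nat_lit 163) (BT.leaf ⟨(nat_lit 1), (nat_lit 0), (nat_lit 0), (nat_lit 0x17a15c9001001000401004001097801), (nat_lit 0x17a15c9001001000401004001097801), (nat_lit 0)⟩) (BT.leaf ⟨(nat_lit 1), (nat_lit 0), (nat_lit 0), (nat_lit 0x97716519acb97daf9bc715edd2fa7f), (nat_lit 0x97716519acb97daf9bc715edd2fa7f), (nat_lit 0)⟩))) (BT.node (nat_lit 166) (BT.node (nat_lit 165) (BT.leaf ⟨(nat_lit 1), (nat_lit 0), (nat_lit 0), (nat_lit 0x4adcb12e35ff6f34ea224e4b5b80fa), (nat_lit 0x4adcb12e35ff6f34ea224e4b5b80fa), (nat_lit 0)⟩) (BT.leaf ⟨(nat_lit 2), (nat_lit 2), (nat_lit 2), (nat_lit 0x9fd0fb7095797f60fb70be6f16fdd2), (nat_lit 0), (nat_lit 0)⟩)) (BT.node (nat_lit 167) (BT.leaf ⟨(nat_lit 2), (nat_lit 1), (nat_lit 1), (nat_lit 0x2116ff0dce86027988183c557dd1af), (nat_lit 0), (nat_lit 0)⟩) (BT.leaf ⟨(nat_lit 2), (nat_lit 1), (nat_lit 1), (nat_lit 0x2804070dce82054015583c6016f9af),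 (nat_lit 0), (nat_lit 0)⟩)))) (BT.node (nat_lit 172) (BT.node (nat_lit 170) (BT.node (nat_lit 169) (BT.leaf ⟨(nat_lit 2), (nat_lit 1), (nat_lit 1), (nat_lit 0x210d78a0f8c5551c98083c2056ffba), (nat_lit 0), (nat_lit 0)⟩) (BT.leaf ⟨(nat_lit 2), (nat_lit 1), (nat_lit 1), (nat_lit 0x95f1638a5bf97d2dfb743e6f12eb5f), (nat_lit 0), (nat_lit 0)⟩)) (BT.node (nat_lit 171) (BT.leaf ⟨(nat_lit 2), (nat_lit 1), (nat_lit 1), (nat_lit 0xf0df1ae37c5f8cad60bf206f1f0b63), (nat_lit 0), (nat_lit 0)⟩) (BT.leaf ⟨(nat_lit 2), (nat_lit 1), (nat_lit 1), (nat_lit 0xf9f9f0053a21123b81440801003084), (nat_lit 0), (nat_lit 0)⟩))) (BT.node (nat_lit 174) (BT.node (nat_lit 173) (BT.leaf ⟨(nat_lit 2), (nat_lit 1), (nat_lit 1), (nat_lit 0x39affb6c773b295ce275f22e55dab8), (nat_lit 0), (nat_lit 0)⟩) (BT.leaf ⟨(nat_lit 2), (nat_lit 1), (nat_lit 1), (nat_lit 0x11cccdd738e59cda48ed8f7b2a38da6),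 (nat_lit 0), (nat_lit 0)⟩)) (BT.node (nat_lit 175) (BT.leaf ⟨(nat_lit 2), (nat_lit 1), (nat_lit 1), (nat_lit 0x802f40803aa103a300404004001100), (nat_lit 0), (nat_lit 0)⟩) (BT.leaf ⟨(nat_lit 2), (nat_lit 1), (nat_lit 1), (nat_lit 0x903f42016019cd040b9a75a7901280), (nat_lit 0), (nat_lit 0)⟩))))) (BT.node (nat_lit 184) (BT.node (nat_lit 180) (BT.node (nat_lit 178) (BT.node (nat_lit 177) (BT.leaf ⟨(nat_lit 2), (nat_lit 1), (nat_lit 1), (nat_lit 0x10ced419518010030050e0c11021041), (nat_lit 0), (nat_lit 0)⟩) (BT.leaf ⟨(nat_lit 2), (nat_lit 1), (nat_lit 1), (nat_lit 0x8200c108111cc9f5f4ebc00a0051dd), (nat_lit 0), (nat_lit 0)⟩)) (BT.node (nat_lit 179) (BT.leaf ⟨(nat_lit 1), (nat_lit 0), (nat_lit 0), (nat_lit 0x1bbf0aad29b3cc9a487c749c6b9d565), (nat_lit 0x1bbf0aad29b3cc9a487c749c6b9d565), (nat_lit 0)⟩) (BT.leaf ⟨(nat_lit 1), (nat_lit 0), (nat_lit 0), (nat_lit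 0x22040082e1a6011c88183c5556f9af), (nat_lit 0x22040082e1a6011c88183c5556f9af), (nat_lit 0)⟩))) (BT.node (nat_lit 182) (BT.node (nat_lit 181) (BT.leaf ⟨(nat_lit 1), (nat_lit 0), (nat_lit 0), (nat_lit 0xf8d00020e740408004000201001008), (nat_lit 0xf8d00020e740408004000201001008), (nat_lit 0)⟩) (BT.leaf ⟨(nat_lit 1), (nat_lit 0), (nat_lit 0), (nat_lit 0x10123bf3e04811002814208013c4f42), (nat_lit 0x10123bf3e04811002814208013c4f42), (nat_lit 0)⟩)) (BT.node (nat_lit 183) (BT.leaf ⟨(nat_lit 1), (nat_lit 0), (nat_lit 0), (nat_lit 0xc73a8d6887a7a2e460b55deded45e9), (nat_lit 0xc73a8d6887a7a2e460b55deded45e9), (nat_lit 0)⟩) (BT.leaf ⟨(nat_lit 1), (nat_lit 0), (nat_lit 0), (nat_lit 0x4a38f38015bd8ebf8f0064b601022), (nat_lit 0x4a38f38015bd8ebf8f0064b601022), (nat_lit 0)⟩)))) (BT.node (nat_lit 188) (BT.node (nat_lit 186) (BT.node (nat_lit 185) (BT.leaf ⟨(nat_lit 1),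 (nat_lit 0), (nat_lit 0), (nat_lit 0x1f36c6fad197a8b86f8fd1a5e6370b7), (nat_lit 0x1f36c6fad197a8b86f8fd1a5e6370b7), (nat_lit 0)⟩) (BT.leaf ⟨(nat_lit 1), (nat_lit 0), (nat_lit 0), (nat_lit 0x110120195082103bd044e0c143e68c0), (nat_lit 0x110120195082103bd044e0c143e68c0), (nat_lit 0)⟩)) (BT.node (nat_lit 187) (BT.leaf ⟨(nat_lit 1), (nat_lit 0), (nat_lit 0), (nat_lit 0xbd30040884197e401e8803f8e2033a), (nat_lit 0xbd30040884197e401e8803f8e2033a), (nat_lit 0)⟩) (BT.leaf ⟨(nat_lit 1), (nat_lit 0), (nat_lit 0), (nat_lit 0x1b927a7f4e43f6ce76f6da85e57a674), (nat_lit 0x1b927a7f4e43f6ce76f6da85e57a674), (nat_lit 0)⟩))) (BT.node (nat_lit 190) (BT.node (nat_lit 189) (BT.leaf ⟨(nat_lit 1), (nat_lit 0), (nat_lit 0), (nat_lit 0xfcd087560300404801438a1437272a), (nat_lit 0xfcd087560300404801438a1437272a), (nat_lit 0)⟩) (BT.leaf ⟨(nat_lit 1), (nat_lit 0), (nat_lit 0), (nat_lit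 0x11b8f1be25c66f26ce0b7d7f8df9b63), (nat_lit 0x11b8f1be25c66f26ce0b7d7f8df9b63), (nat_lit 0)⟩)) (BT.node (nat_lit 191) (BT.leaf ⟨(nat_lit 2), (nat_lit 2), (nat_lit 2), (nat_lit 0x1297a3669e881f19af667b1d3ba38cb), (nat_lit 0), (nat_lit 0)⟩) (BT.leaf ⟨(nat_lit 1), (nat_lit 0), (nat_lit 0), (nat_lit 0xb4b0af7ae541f2c1f1a749ccbdd73a), (nat_lit 0xb4b0af7ae541f2c1f1a749ccbdd73a), (nat_lit 0)⟩)))))))
noncomputable def hP128 : BT Pf := (BT.node (nat_lit 160) (BT.node (nat_lit 144) (BT.node (nat_lit 136) (BT.node (nat_lit 132) (BT.node (nat_lit 130) (BT.node (nat_lit 129) (BT.leaf (.emul [(nat_lit 78), (nat_lit 127)])) (BT.leaf (.nmul (nat_lit 112) [(nat_lit 40)]))) (BT.node (nat_lit 131) (BT.leaf (.nmul (nat_lit 129) [(nat_lit 1)])) (BT.leaf (.nmul (nat_lit 84) [(nat_lit 26)])))) (BT.node (nat_lit 134) (BT.node (nat_lit 133) (BT.leaf (.nmul (nat_lit 131) [(nat_lit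 40)])) (BT.leaf (.nmul (nat_lit 132) [(nat_lit 26)]))) (BT.node (nat_lit 135) (BT.leaf (.nmul (nat_lit 133) [(nat_lit 40)])) (BT.leaf (.nmul (nat_lit 134) [(nat_lit 26)]))))) (BT.node (nat_lit 140) (BT.node (nat_lit 138) (BT.node (nat_lit 137) (BT.leaf (.nmul (nat_lit 135) [(nat_lit 40)])) (BT.leaf (.nmul (nat_lit 136) [(nat_lit 26)]))) (BT.node (nat_lit 139) (BT.leaf (.nmul (nat_lit 137) [(nat_lit 40)])) (BT.leaf (.nmul (nat_lit 138) [(nat_lit 26)])))) (BT.node (nat_lit 142) (BT.node (nat_lit 141) (BT.leaf (.cmp (nat_lit 96) ⟨(nat_lit 96), [(nat_lit 99), (nat_lit 128)], [(nat_lit 139), (nat_lit 130)]⟩)) (BT.leaf (.emul [(nat_lit 44), (nat_lit 44)]))) (BT.node (nat_lit 143) (BT.leaf (.emul [(nat_lit 78), (nat_lit 141)])) (BT.leaf (.emul [(nat_lit 44), (nat_lit 142)])))))) (BT.node (nat_lit 152) (BT.node (nat_lit 148) (BT.node (nat_lit 146) (BT.node (nat_lit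 145) (BT.leaf (.emul [(nat_lit 43), (nat_lit 143)])) (BT.leaf (.emul [(nat_lit 59), (nat_lit 102)]))) (BT.node (nat_lit 147) (BT.leaf (.emul [(nat_lit 78), (nat_lit 145)])) (BT.leaf (.emul [(nat_lit 78), (nat_lit 146)])))) (BT.node (nat_lit 150) (BT.node (nat_lit 149) (BT.leaf (.emul [(nat_lit 59), (nat_lit 147)])) (BT.leaf (.emul [(nat_lit 78), (nat_lit 148)]))) (BT.node (nat_lit 151) (BT.leaf (.nmul (nat_lit 0) [(nat_lit 1)])) (BT.leaf (.nmul (nat_lit 150) [(nat_lit 0)]))))) (BT.node (nat_lit 156) (BT.node (nat_lit 154) (BT.node (nat_lit 153) (BT.leaf (.nmul (nat_lit 151) [(nat_lit 40)])) (BT.leaf (.nmul (nat_lit 152) [(nat_lit 1)]))) (BT.node (nat_lit 155) (BT.leaf (.nmul (nat_lit 153) [(nat_lit 0)])) (BT.leaf (.nmul (nat_lit 40) [(nat_lit 40)])))) (BT.node (nat_lit 158) (BT.node (nat_lit 157) (BT.leaf (.nmul (nat_lit 155) [(nat_lit 26)])) (BT.leaf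 (.nmul (nat_lit 156) [(nat_lit 40)]))) (BT.node (nat_lit 159) (BT.leaf (.nmul (nat_lit 157) [(nat_lit 40)])) (BT.leaf (.nmul (nat_lit 158) [(nat_lit 26)]))))))) (BT.node (nat_lit 176) (BT.node (nat_lit 168) (BT.node (nat_lit 164) (BT.node (nat_lit 162) (BT.node (nat_lit 161) (BT.leaf (.nmul (nat_lit 159) [(nat_lit 40)])) (BT.leaf (.nmul (nat_lit 160) [(nat_lit 26)]))) (BT.node (nat_lit 163) (BT.leaf (.nmul (nat_lit 161) [(nat_lit 40)])) (BT.leaf (.nmul (nat_lit 162) [(nat_lit 40)])))) (BT.node (nat_lit 166) (BT.node (nat_lit 165) (BT.leaf (.nmul (nat_lit 163) [(nat_lit 40)])) (BT.leaf (.cmp (nat_lit 96) ⟨(nat_lit 96), [(nat_lit 144), (nat_lit 149)], [(nat_lit 164), (nat_lit 154)]⟩))) (BT.node (nat_lit 167) (BT.leaf (.emul [(nat_lit 44), (nat_lit 43)])) (BT.leaf (.emul [(nat_lit 59), (nat_lit 166)]))))) (BT.node (nat_lit 172) (BT.node (nat_lit 170) (BT.node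 (nat_lit 169) (BT.leaf (.emul [(nat_lit 44), (nat_lit 167)])) (BT.leaf (.emul [(nat_lit 59), (nat_lit 59)]))) (BT.node (nat_lit 171) (BT.leaf (.emul [(nat_lit 78), (nat_lit 169)])) (BT.leaf (.emul [(nat_lit 59), (nat_lit 170)])))) (BT.node (nat_lit 174) (BT.node (nat_lit 173) (BT.leaf (.emul [(nat_lit 78), (nat_lit 171)])) (BT.leaf (.emul [(nat_lit 59), (nat_lit 172)]))) (BT.node (nat_lit 175) (BT.leaf (.emul [(nat_lit 78), (nat_lit 173)])) (BT.leaf (.emul [(nat_lit 78), (nat_lit 174)])))))) (BT.node (nat_lit 184) (BT.node (nat_lit 180) (BT.node (nat_lit 178) (BT.node (nat_lit 177) (BT.leaf (.emul [(nat_lit 78), (nat_lit 175)])) (BT.leaf (.emul [(nat_lit 59), (nat_lit 176)]))) (BT.node (nat_lit 179) (BT.leaf (.nmul (nat_lit 0) [(nat_lit 40)])) (BT.leaf (.nmul (nat_lit 178) [(nat_lit 40)])))) (BT.node (nat_lit 182) (BT.node (nat_lit 181) (BT.leaf (.nmul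 (nat_lit 155) [(nat_lit 40)])) (BT.leaf (.nmul (nat_lit 180) [(nat_lit 26)]))) (BT.node (nat_lit 183) (BT.leaf (.nmul (nat_lit 181) [(nat_lit 40)])) (BT.leaf (.nmul (nat_lit 182) [(nat_lit 40)]))))) (BT.node (nat_lit 188) (BT.node (nat_lit 186) (BT.node (nat_lit 185) (BT.leaf (.nmul (nat_lit 183) [(nat_lit 26)])) (BT.leaf (.nmul (nat_lit 184) [(nat_lit 40)]))) (BT.node (nat_lit 187) (BT.leaf (.nmul (nat_lit 185) [(nat_lit 40)])) (BT.leaf (.nmul (nat_lit 186) [(nat_lit 40)])))) (BT.node (nat_lit 190) (BT.node (nat_lit 189) (BT.leaf (.nmul (nat_lit 187) [(nat_lit 40)])) (BT.leaf (.nmul (nat_lit 188) [(nat_lit 40)]))) (BT.node (nat_lit 191) (BT.leaf (.cmp (nat_lit 96) ⟨(nat_lit 96), [(nat_lit 168), (nat_lit 177)], [(nat_lit 189), (nat_lit 179)]⟩)) (BT.leaf (.nmul (nat_lit 150) [(nat_lit 40)]))))))))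
noncomputable def hF192 : BT Fc := (BT.node (nat_lit 224) (BT.node (nat_lit 208) (BT.node (nat_lit 200) (BT.node (nat_lit 196) (BT.node (nat_lit 194) (BT.node (nat_lit 193) (BT.leaf ⟨(nat_lit 1), (nat_lit 0), (nat_lit 0), (nat_lit 0x208404806c62067995583c603dd2df), (nat_lit 0x208404806c62067995583c603dd2df), (nat_lit 0)⟩) (BT.leaf ⟨(nat_lit 1), (nat_lit 0), (nat_lit 0), (nat_lit 0x220d7c806c65554018083c204402df), (nat_lit 0x220d7c806c65554018083c204402df), (nat_lit 0)⟩)) (BT.node (nat_lit 195) (BT.leaf ⟨(nat_lit 1), (nat_lit 0), (nat_lit 0), (nat_lit 0x1ad27a1cedf9bdbfa7dbce85e57a6d4), (nat_lit 0x1ad27a1cedf9bdbfa7dbce85e57a6d4), (nat_lit 0)⟩) (BT.leaf ⟨(nat_lit 2), (nat_lit 1), (nat_lit 1), (nat_lit 0x47956e4024051f981082014231f9d), (nat_lit 0), (nat_lit 0)⟩))) (BT.node (nat_lit 198) (BT.node (nat_lit 197) (BT.leaf ⟨(nat_lit 2), (nat_lit 1), (nat_lit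 1), (nat_lit 0x1c877a1b2df85e68bfdb5e9bda7a6d4), (nat_lit 0), (nat_lit 0)⟩) (BT.leaf ⟨(nat_lit 2), (nat_lit 1), (nat_lit 1), (nat_lit 0x10841202939bd80578f0444b52eabb), (nat_lit 0), (nat_lit 0)⟩)) (BT.node (nat_lit 199) (BT.leaf ⟨(nat_lit 2), (nat_lit 1), (nat_lit 1), (nat_lit 0x1fa1574e887b82ef41e8b51edef55e9), (nat_lit 0), (nat_lit 0)⟩) (BT.leaf ⟨(nat_lit 2), (nat_lit 1), (nat_lit 1), (nat_lit 0x16a2f05689d1edff41e833782ef543d), (nat_lit 0), (nat_lit 0)⟩)))) (BT.node (nat_lit 204) (BT.node (nat_lit 202) (BT.node (nat_lit 201) (BT.leaf ⟨(nat_lit 2), (nat_lit 1), (nat_lit 1), (nat_lit 0x62080900220415485042005009110), (nat_lit 0), (nat_lit 0)⟩) (BT.leaf ⟨(nat_lit 2), (nat_lit 1), (nat_lit 1), (nat_lit 0x12f84f49fa97a7a470ed9bd89e4e41e), (nat_lit 0), (nat_lit 0)⟩)) (BT.node (nat_lit 203) (BT.leaf ⟨(nat_lit 2), (nat_lit 1), (nat_lit 1), (nat_lit 0x1df66f54bb3d89dec69e92c3b64e41e),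 (nat_lit 0), (nat_lit 0)⟩) (BT.leaf ⟨(nat_lit 2), (nat_lit 1), (nat_lit 1), (nat_lit 0x96e3b9041080500604404801003005), (nat_lit 0), (nat_lit 0)⟩))) (BT.node (nat_lit 206) (BT.node (nat_lit 205) (BT.leaf ⟨(nat_lit 2), (nat_lit 1), (nat_lit 1), (nat_lit 0x8110021141d9a10028787c68111f5), (nat_lit 0), (nat_lit 0)⟩) (BT.leaf ⟨(nat_lit 1), (nat_lit 0), (nat_lit 0), (nat_lit 0x93c7338a5bfedd2e9bc95797e8cb5f), (nat_lit 0x93c7338a5bfedd2e9bc95797e8cb5f), (nat_lit 0)⟩)) (BT.node (nat_lit 207) (BT.leaf ⟨(nat_lit 1), (nat_lit 0), (nat_lit 0), (nat_lit 0xb32ae127c2a4b495ea227ff6c97669), (nat_lit 0xb32ae127c2a4b495ea227ff6c97669), (nat_lit 0)⟩) (BT.leaf ⟨(nat_lit 1), (nat_lit 0), (nat_lit 0), (nat_lit 0x13669d77ae75cc85bf1a39c1f377f2a), (nat_lit 0x13669d77ae75cc85bf1a39c1f377f2a), (nat_lit 0)⟩))))) (BT.node (nat_lit 216) (BT.node (nat_lit 212) (BT.node (nat_lit 210)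 (BT.node (nat_lit 209) (BT.leaf ⟨(nat_lit 1), (nat_lit 0), (nat_lit 0), (nat_lit 0xf8d5c80225e10010004e8c040806f4), (nat_lit 0xf8d5c80225e10010004e8c040806f4), (nat_lit 0)⟩) (BT.leaf ⟨(nat_lit 1), (nat_lit 0), (nat_lit 0), (nat_lit 0x174b1625b4bf97dc57b74bc6f28ca4f), (nat_lit 0x174b1625b4bf97dc57b74bc6f28ca4f), (nat_lit 0)⟩)) (BT.node (nat_lit 211) (BT.leaf ⟨(nat_lit 1), (nat_lit 0), (nat_lit 0), (nat_lit 0x17482fb8a5be6f28ce5f4ffedd2db5f), (nat_lit 0x17482fb8a5be6f28ce5f4ffedd2db5f), (nat_lit 0)⟩) (BT.leaf ⟨(nat_lit 1), (nat_lit 0), (nat_lit 0), (nat_lit 0x5bd97927c2ba88977db1f44b663e69), (nat_lit 0x5bd97927c2ba88977db1f44b663e69), (nat_lit 0)⟩))) (BT.node (nat_lit 214) (BT.node (nat_lit 213) (BT.leaf ⟨(nat_lit 1), (nat_lit 0), (nat_lit 0), (nat_lit 0x1b91439b2da9bdbfa7dbce85e655efc), (nat_lit 0x1b91439b2da9bdbfa7dbce85e655efc), (nat_lit 0)⟩) (BT.leaf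 ⟨(nat_lit 1), (nat_lit 0), (nat_lit 0), (nat_lit 0xfcd5481138a053ab010e541409f910), (nat_lit 0xfcd5481138a053ab010e541409f910), (nat_lit 0)⟩)) (BT.node (nat_lit 215) (BT.leaf ⟨(nat_lit 1), (nat_lit 0), (nat_lit 0), (nat_lit 0x11bbc83c37d782df11bc6c7f8df1ca5), (nat_lit 0x11bbc83c37d782df11bc6c7f8df1ca5), (nat_lit 0)⟩) (BT.leaf ⟨(nat_lit 1), (nat_lit 0), (nat_lit 0), (nat_lit 0x1f369a658d1be3fd6ea216e5e6e978c), (nat_lit 0x1f369a658d1be3fd6ea216e5e6e978c), (nat_lit 0)⟩)))) (BT.node (nat_lit 220) (BT.node (nat_lit 218) (BT.node (nat_lit 217) (BT.leaf ⟨(nat_lit 1), (nat_lit 0), (nat_lit 0), (nat_lit 0x110219848e0c110ca840180140b7860), (nat_lit 0x110219848e0c110ca840180140b7860), (nat_lit 0)⟩) (BT.leaf ⟨(nat_lit 1), (nat_lit 0), (nat_lit 0), (nat_lit 0xbd35cd008027a20465f675f8e005d5), (nat_lit 0xbd35cd008027a20465f675f8e005d5), (nat_lit 0)⟩)) (BT.node (nat_lit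 219) (BT.leaf ⟨(nat_lit 3), (nat_lit 2), (nat_lit 2), (nat_lit 0x113c4abd4097b37825b00c05006024), (nat_lit 0x15a2747e855d6a305de83d1edccdf51), (nat_lit 0)⟩) (BT.leaf ⟨(nat_lit 1), (nat_lit 0), (nat_lit 0), (nat_lit 0x301b1a804726033a155e1a2045041e), (nat_lit 0x301b1a804726033a155e1a2045041e), (nat_lit 0)⟩))) (BT.node (nat_lit 222) (BT.node (nat_lit 221) (BT.leaf ⟨(nat_lit 1), (nat_lit 0), (nat_lit 0), (nat_lit 0x104231830e540404801438a14009018), (nat_lit 0x104231830e540404801438a14009018), (nat_lit 0)⟩) (BT.leaf ⟨(nat_lit 1), (nat_lit 0), (nat_lit 0), (nat_lit 0x145cad2366c66f26ce0b7d7f8df3ae3), (nat_lit 0x145cad2366c66f26ce0b7d7f8df3ae3), (nat_lit 0)⟩)) (BT.node (nat_lit 223) (BT.leaf ⟨(nat_lit 1), (nat_lit 0), (nat_lit 0), (nat_lit 0x14bc4f480baa7a21065f68df8e00401), (nat_lit 0x14bc4f480baa7a21065f68df8e00401), (nat_lit 0)⟩) (BT.leaf ⟨(nat_lit 1), (nat_lit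 0), (nat_lit 0), (nat_lit 0x1bd1351cedf9bdb90fdbdea5e655ed4), (nat_lit 0x1bd1351cedf9bdb90fdbdea5e655ed4), (nat_lit 0)⟩)))))) (BT.node (nat_lit 240) (BT.node (nat_lit 232) (BT.node (nat_lit 228) (BT.node (nat_lit 226) (BT.node (nat_lit 225) (BT.leaf ⟨(nat_lit 1), (nat_lit 0), (nat_lit 0), (nat_lit 0x93e470902200500c0100601409f9c5), (nat_lit 0x93e470902200500c0100601409f9c5), (nat_lit 0)⟩) (BT.leaf ⟨(nat_lit 1), (nat_lit 0), (nat_lit 0), (nat_lit 0xb33becd994b82d719bc46df8df1beb), (nat_lit 0xb33becd994b82d719bc46df8df1beb), (nat_lit 0)⟩)) (BT.node (nat_lit 227) (BT.leaf ⟨(nat_lit 2), (nat_lit 1), (nat_lit 1), (nat_lit 0xaa795011220142fc014820043ce890), (nat_lit 0), (nat_lit 0)⟩) (BT.leaf ⟨(nat_lit 2), (nat_lit 1), (nat_lit 1), (nat_lit 0xa1f7a721debbd98e1795e9f6f6a674), (nat_lit 0), (nat_lit 0)⟩))) (BT.node (nat_lit 230) (BT.node (nat_lit 229) (BT.leaf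 ⟨(nat_lit 2), (nat_lit 1), (nat_lit 1), (nat_lit 0x151b34e46d27d395776668c1f3a17c6), (nat_lit 0), (nat_lit 0)⟩) (BT.leaf ⟨(nat_lit 2), (nat_lit 1), (nat_lit 1), (nat_lit 0x17ec6a04481a7aa30b94419cd00a10), (nat_lit 0), (nat_lit 0)⟩)) (BT.node (nat_lit 231) (BT.leaf ⟨(nat_lit 2), (nat_lit 1), (nat_lit 1), (nat_lit 0xe8fe6af986611024050ef4100cacde), (nat_lit 0), (nat_lit 0)⟩) (BT.leaf ⟨(nat_lit 2), (nat_lit 1), (nat_lit 1), (nat_lit 0xce84f401a0197e027e38807a201480), (nat_lit 0), (nat_lit 0)⟩)))) (BT.node (nat_lit 236) (BT.node (nat_lit 234) (BT.node (nat_lit 233) (BT.leaf ⟨(nat_lit 2), (nat_lit 1), (nat_lit 1), (nat_lit 0xd1a025d5901f8f5ce5f0e67a201401), (nat_lit 0), (nat_lit 0)⟩) (BT.leaf ⟨(nat_lit 2), (nat_lit 1), (nat_lit 1), (nat_lit 0x16a0301401801121984048014021195), (nat_lit 0), (nat_lit 0)⟩)) (BT.node (nat_lit 235) (BT.leaf ⟨(nat_lit 2), (nat_lit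 1), (nat_lit 1), (nat_lit 0x66da4cf38e5b2a39e738663b638d73), (nat_lit 0), (nat_lit 0)⟩) (BT.leaf ⟨(nat_lit 1), (nat_lit 0), (nat_lit 0), (nat_lit 0x19a59792b25fa8a63fdba5e4b49716f), (nat_lit 0x19a59792b25fa8a63fdba5e4b49716f), (nat_lit 0)⟩))) (BT.node (nat_lit 238) (BT.node (nat_lit 237) (BT.leaf ⟨(nat_lit 1), (nat_lit 0), (nat_lit 0), (nat_lit 0x5005e84be10001010de801010400), (nat_lit 0x5005e84be10001010de801010400), (nat_lit 0)⟩) (BT.leaf ⟨(nat_lit 1), (nat_lit 0), (nat_lit 0), (nat_lit 0x9fc2fa5d6e197d2d9bc49feddc54ab), (nat_lit 0x9fc2fa5d6e197d2d9bc49feddc54ab), (nat_lit 0)⟩)) (BT.node (nat_lit 239) (BT.leaf ⟨(nat_lit 1), (nat_lit 0), (nat_lit 0), (nat_lit 0x131ccdde0b9182eb41e8bd3edef42d2), (nat_lit 0x131ccdde0b9182eb41e8bd3edef42d2), (nat_lit 0)⟩) (BT.leaf ⟨(nat_lit 1), (nat_lit 0), (nat_lit 0), (nat_lit 0x95d9023afe3f9c6f60444b52e882), (nat_lit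 0x95d9023afe3f9c6f60444b52e882), (nat_lit 0)⟩))))) (BT.node (nat_lit 248) (BT.node (nat_lit 244) (BT.node (nat_lit 242) (BT.node (nat_lit 241) (BT.leaf ⟨(nat_lit 1), (nat_lit 0), (nat_lit 0), (nat_lit 0x96e3bf42018110420143a201095f3e), (nat_lit 0x96e3bf42018110420143a201095f3e), (nat_lit 0)⟩) (BT.leaf ⟨(nat_lit 1), (nat_lit 0), (nat_lit 0), (nat_lit 0x131fa8de99d07a16960bbc1edef4568), (nat_lit 0x131fa8de99d07a16960bbc1edef4568), (nat_lit 0)⟩)) (BT.node (nat_lit 243) (BT.leaf ⟨(nat_lit 1), (nat_lit 0), (nat_lit 0), (nat_lit 0xa38822e89bd84178f2044b52ef38), (nat_lit 0xa38822e89bd84178f2044b52ef38), (nat_lit 0)⟩) (BT.leaf ⟨(nat_lit 1), (nat_lit 0), (nat_lit 0), (nat_lit 0x96d5e9d100a0539f044e8401095884), (nat_lit 0x96d5e9d100a0539f044e8401095884), (nat_lit 0)⟩))) (BT.node (nat_lit 246) (BT.node (nat_lit 245) (BT.leaf ⟨(nat_lit 3), (nat_lit 2), (nat_lit 1),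 (nat_lit 0x1ad255c4dce9bf36a1ce3645e790a87), (nat_lit 0x1c1ba25ffe8e6c957519cd3d199ae93), (nat_lit 0)⟩) (BT.leaf ⟨(nat_lit 3), (nat_lit 1), (nat_lit 2), (nat_lit 0x1c1ba25ffe8e6c957519cd3d199ae93), (nat_lit 0x1ad255c4dce9bf36a1ce3645e790a87), (nat_lit 0)⟩)) (BT.node (nat_lit 247) (BT.leaf ⟨(nat_lit 2), (nat_lit 1), (nat_lit 1), (nat_lit 0x7551b5a6a9675390955cb035749b6c), (nat_lit 0), (nat_lit 0)⟩) (BT.leaf ⟨(nat_lit 2), (nat_lit 1), (nat_lit 1), (nat_lit 0xbd71b00b3c3572318024040488573), (nat_lit 0), (nat_lit 0)⟩)))) (BT.node (nat_lit 252) (BT.node (nat_lit 250) (BT.node (nat_lit 249) (BT.leaf ⟨(nat_lit 2), (nat_lit 1), (nat_lit 1), (nat_lit 0x1e240625b8081110201457a010823e7), (nat_lit 0), (nat_lit 0)⟩) (BT.leaf ⟨(nat_lit 2), (nat_lit 1), (nat_lit 1), (nat_lit 0x1eb7e6dd271be3e9a1797fda8bc646e), (nat_lit 0), (nat_lit 0)⟩)) (BT.node (nat_lit 251) (BT.leaf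 ⟨(nat_lit 2), (nat_lit 1), (nat_lit 1), (nat_lit 0x87e6f19508210030044090140210c0), (nat_lit 0), (nat_lit 0)⟩) (BT.leaf ⟨(nat_lit 2), (nat_lit 1), (nat_lit 1), (nat_lit 0x1e423bd73b4d9cda4eca8a63b638c72), (nat_lit 0), (nat_lit 0)⟩))) (BT.node (nat_lit 254) (BT.node (nat_lit 253) (BT.leaf ⟨(nat_lit 2), (nat_lit 1), (nat_lit 1), (nat_lit 0x811102016002e42fe733c7a79013d5), (nat_lit 0), (nat_lit 0)⟩) (BT.leaf ⟨(nat_lit 2), (nat_lit 1), (nat_lit 1), (nat_lit 0xbe7bd195180141d184043e11021140), (nat_lit 0), (nat_lit 0)⟩)) (BT.node (nat_lit 255) (BT.leaf ⟨(nat_lit 2), (nat_lit 1), (nat_lit 1), (nat_lit 0x118d9ad738e43b716673f21b2a38cf3), (nat_lit 0), (nat_lit 0)⟩) (BT.leaf ⟨(nat_lit 1), (nat_lit 0), (nat_lit 0), (nat_lit 0xa1f7a721debbd98e1795e9f6f6a674), (nat_lit 0xa1f7a721debbd98e1795e9f6f6a674), (nat_lit 0)⟩)))))))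
noncomputable def hP192 : BT Pf := (BT.node (nat_lit 224) (BT.node (nat_lit 208) (BT.node (nat_lit 200) (BT.node (nat_lit 196) (BT.node (nat_lit 194) (BT.node (nat_lit 193) (BT.leaf (.nmul (nat_lit 191) [(nat_lit 40)])) (BT.leaf (.nmul (nat_lit 192) [(nat_lit 1)]))) (BT.node (nat_lit 195) (BT.leaf (.nmul (nat_lit 117) [(nat_lit 40)])) (BT.leaf (.emul [(nat_lit 43), (nat_lit 166)])))) (BT.node (nat_lit 198) (BT.node (nat_lit 197) (BT.leaf (.emul [(nat_lit 44), (nat_lit 195)])) (BT.leaf (.emul [(nat_lit 43), (nat_lit 196)]))) (BT.node (nat_lit 199) (BT.leaf (.emul [(nat_lit 59), (nat_lit 126)])) (BT.leaf (.emul [(nat_lit 78), (nat_lit 198)]))))) (BT.node (nat_lit 204) (BT.node (nat_lit 202) (BT.node (nat_lit 201) (BT.leaf (.emul [(nat_lit 59), (nat_lit 199)])) (BT.leaf (.emul [(nat_lit 78), (nat_lit 200)]))) (BT.node (nat_lit 203) (BT.leaf (.emul [(nat_lit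 59), (nat_lit 201)])) (BT.leaf (.emul [(nat_lit 78), (nat_lit 202)])))) (BT.node (nat_lit 206) (BT.node (nat_lit 205) (BT.leaf (.emul [(nat_lit 59), (nat_lit 203)])) (BT.leaf (.nmul (nat_lit 111) [(nat_lit 40)]))) (BT.node (nat_lit 207) (BT.leaf (.nmul (nat_lit 205) [(nat_lit 40)])) (BT.leaf (.nmul (nat_lit 206) [(nat_lit 1)])))))) (BT.node (nat_lit 216) (BT.node (nat_lit 212) (BT.node (nat_lit 210) (BT.node (nat_lit 209) (BT.leaf (.nmul (nat_lit 207) [(nat_lit 1)])) (BT.leaf (.nmul (nat_lit 208) [(nat_lit 40)]))) (BT.node (nat_lit 211) (BT.leaf (.nmul (nat_lit 180) [(nat_lit 40)])) (BT.leaf (.nmul (nat_lit 210) [(nat_lit 40)])))) (BT.node (nat_lit 214) (BT.node (nat_lit 213) (BT.leaf (.nmul (nat_lit 211) [(nat_lit 26)])) (BT.leaf (.nmul (nat_lit 212) [(nat_lit 40)]))) (BT.node (nat_lit 215) (BT.leaf (.nmul (nat_lit 213) [(nat_lit 40)])) (BT.leaf (.nmul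 (nat_lit 214) [(nat_lit 40)]))))) (BT.node (nat_lit 220) (BT.node (nat_lit 218) (BT.node (nat_lit 217) (BT.leaf (.nmul (nat_lit 215) [(nat_lit 40)])) (BT.leaf (.nmul (nat_lit 216) [(nat_lit 40)]))) (BT.node (nat_lit 219) (BT.leaf (.rel (nat_lit 125) (nat_lit 5) [(nat_lit 194), (nat_lit 193)] [⟨(nat_lit 96), [(nat_lit 197), (nat_lit 204)], [(nat_lit 217), (nat_lit 209)]⟩])) (BT.leaf (.nmul (nat_lit 113) [(nat_lit 1)])))) (BT.node (nat_lit 222) (BT.node (nat_lit 221) (BT.leaf (.nmul (nat_lit 116) [(nat_lit 26)])) (BT.leaf (.nmul (nat_lit 220) [(nat_lit 40)]))) (BT.node (nat_lit 223) (BT.leaf (.nmul (nat_lit 221) [(nat_lit 26)])) (BT.leaf (.nmul (nat_lit 222) [(nat_lit 40)]))))))) (BT.node (nat_lit 240) (BT.node (nat_lit 232) (BT.node (nat_lit 228) (BT.node (nat_lit 226) (BT.node (nat_lit 225) (BT.leaf (.nmul (nat_lit 223) [(nat_lit 40)])) (BT.leaf (.nmul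 (nat_lit 224) [(nat_lit 40)]))) (BT.node (nat_lit 227) (BT.leaf (.emul [(nat_lit 43), (nat_lit 43)])) (BT.leaf (.emul [(nat_lit 44), (nat_lit 226)])))) (BT.node (nat_lit 230) (BT.node (nat_lit 229) (BT.leaf (.emul [(nat_lit 44), (nat_lit 227)])) (BT.leaf (.emul [(nat_lit 43), (nat_lit 228)]))) (BT.node (nat_lit 231) (BT.leaf (.emul [(nat_lit 78), (nat_lit 229)])) (BT.leaf (.emul [(nat_lit 59), (nat_lit 127)]))))) (BT.node (nat_lit 236) (BT.node (nat_lit 234) (BT.node (nat_lit 233) (BT.leaf (.emul [(nat_lit 78), (nat_lit 231)])) (BT.leaf (.emul [(nat_lit 59), (nat_lit 232)]))) (BT.node (nat_lit 235) (BT.leaf (.emul [(nat_lit 78), (nat_lit 233)])) (BT.leaf (.nmul (nat_lit 111) [(nat_lit 1)])))) (BT.node (nat_lit 238) (BT.node (nat_lit 237) (BT.leaf (.nmul (nat_lit 235) [(nat_lit 40)])) (BT.leaf (.nmul (nat_lit 236) [(nat_lit 40)]))) (BT.node (nat_lit 239)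 (BT.leaf (.nmul (nat_lit 40) [(nat_lit 26)])) (BT.leaf (.nmul (nat_lit 238) [(nat_lit 40)])))))) (BT.node (nat_lit 248) (BT.node (nat_lit 244) (BT.node (nat_lit 242) (BT.node (nat_lit 241) (BT.leaf (.nmul (nat_lit 239) [(nat_lit 40)])) (BT.leaf (.nmul (nat_lit 240) [(nat_lit 40)]))) (BT.node (nat_lit 243) (BT.leaf (.nmul (nat_lit 241) [(nat_lit 40)])) (BT.leaf (.nmul (nat_lit 242) [(nat_lit 40)])))) (BT.node (nat_lit 246) (BT.node (nat_lit 245) (BT.leaf (.rel (nat_lit 95) (nat_lit 4) [(nat_lit 225), (nat_lit 219)] [⟨(nat_lit 96), [(nat_lit 230), (nat_lit 234)], [(nat_lit 243), (nat_lit 237)]⟩])) (BT.leaf (.inv (nat_lit 244)))) (BT.node (nat_lit 247) (BT.leaf (.emul [(nat_lit 44), (nat_lit 97)])) (BT.leaf (.emul [(nat_lit 44), (nat_lit 246)]))))) (BT.node (nat_lit 252) (BT.node (nat_lit 250) (BT.node (nat_lit 249) (BT.leaf (.emul [(nat_lit 43), (nat_lit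 247)])) (BT.leaf (.emul [(nat_lit 44), (nat_lit 248)]))) (BT.node (nat_lit 251) (BT.leaf (.emul [(nat_lit 59), (nat_lit 231)])) (BT.leaf (.emul [(nat_lit 78), (nat_lit 250)])))) (BT.node (nat_lit 254) (BT.node (nat_lit 253) (BT.leaf (.emul [(nat_lit 59), (nat_lit 251)])) (BT.leaf (.emul [(nat_lit 78), (nat_lit 252)]))) (BT.node (nat_lit 255) (BT.leaf (.emul [(nat_lit 78), (nat_lit 253)])) (BT.leaf (.nmul (nat_lit 79) [(nat_lit 1)]))))))))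
noncomputable def hF256 : BT Fc := (BT.node (nat_lit 288) (BT.node (nat_lit 272) (BT.node (nat_lit 264) (BT.node (nat_lit 260) (BT.node (nat_lit 258) (BT.node (nat_lit 257) (BT.leaf ⟨(nat_lit 1), (nat_lit 0), (nat_lit 0), (nat_lit 0xf84410420044b7a26f6045e3d5d812), (nat_lit 0xf84410420044b7a26f6045e3d5d812), (nat_lit 0)⟩) (BT.leaf ⟨(nat_lit 1), (nat_lit 0), (nat_lit 0), (nat_lit 0x1e279f4044b6010028143a21123bbe7), (nat_lit 0x1e279f4044b6010028143a21123bbe7), (nat_lit 0)⟩)) (BT.node (nat_lit 259) (BT.leaf ⟨(nat_lit 1), (nat_lit 0), (nat_lit 0), (nat_lit 0x16a2b431c98fedee460bbc07a3a8a65), (nat_lit 0x16a2b431c98fedee460bbc07a3a8a65), (nat_lit 0)⟩) (BT.leaf ⟨(nat_lit 1), (nat_lit 0), (nat_lit 0), (nat_lit 0x100b9c0120044b4ebf8f205bda38842), (nat_lit 0x100b9c0120044b4ebf8f205bda38842), (nat_lit 0)⟩))) (BT.node (nat_lit 262) (BT.node (nat_lit 261) (BT.leaf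 ⟨(nat_lit 1), (nat_lit 0), (nat_lit 0), (nat_lit 0xdc360b8a5be6f2b2e5f4afedd27b5f), (nat_lit 0xdc360b8a5be6f2b2e5f4afedd27b5f), (nat_lit 0)⟩) (BT.leaf ⟨(nat_lit 1), (nat_lit 0), (nat_lit 0), (nat_lit 0x4bed8927c2ba88d7fdb05e4b566669), (nat_lit 0x4bed8927c2ba88d7fdb05e4b566669), (nat_lit 0)⟩)) (BT.node (nat_lit 263) (BT.leaf ⟨(nat_lit 1), (nat_lit 0), (nat_lit 0), (nat_lit 0x1bc2269b2da9bdb90fdbdea5e57a6fc), (nat_lit 0x1bc2269b2da9bdb90fdbdea5e57a6fc), (nat_lit 0)⟩) (BT.leaf ⟨(nat_lit 1), (nat_lit 0), (nat_lit 0), (nat_lit 0x17e23181138a0500c01006014372110), (nat_lit 0x17e23181138a0500c01006014372110), (nat_lit 0)⟩)))) (BT.node (nat_lit 268) (BT.node (nat_lit 266) (BT.node (nat_lit 265) (BT.leaf ⟨(nat_lit 1), (nat_lit 0), (nat_lit 0), (nat_lit 0xf84ad3c37d782d719bc46df8df9ca5), (nat_lit 0xf84ad3c37d782d719bc46df8df9ca5), (nat_lit 0)⟩) (BT.leaf ⟨(nat_lit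 1), (nat_lit 0), (nat_lit 0), (nat_lit 0x1e25ff658d1be3c65ea2f0a5e63778c), (nat_lit 0x1e25ff658d1be3c65ea2f0a5e63778c), (nat_lit 0)⟩)) (BT.node (nat_lit 267) (BT.leaf ⟨(nat_lit 1), (nat_lit 0), (nat_lit 0), (nat_lit 0x16a17c848e0c11020840280143e6860), (nat_lit 0x16a17c848e0c11020840280143e6860), (nat_lit 0)⟩) (BT.leaf ⟨(nat_lit 2), (nat_lit 2), (nat_lit 2), (nat_lit 0x13678d615f75ce99d07c749cf85bf38), (nat_lit 0), (nat_lit 0)⟩))) (BT.node (nat_lit 270) (BT.node (nat_lit 269) (BT.leaf ⟨(nat_lit 3), (nat_lit 1), (nat_lit 3), (nat_lit 0x609380a013bf0eec0801095c84088), (nat_lit 0x1001001001001001001001001001001), (nat_lit 0)⟩) (BT.leaf ⟨(nat_lit 2), (nat_lit 1), (nat_lit 1), (nat_lit 0x1eb532f8df3ba8bc678fcb05e589fcd), (nat_lit 0), (nat_lit 0)⟩)) (BT.node (nat_lit 271) (BT.leaf ⟨(nat_lit 2), (nat_lit 1), (nat_lit 1), (nat_lit 0x2dd32d8d6265e72c78fd1ba8bc4bfe),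 (nat_lit 0), (nat_lit 0)⟩) (BT.leaf ⟨(nat_lit 2), (nat_lit 1), (nat_lit 1), (nat_lit 0x82e429997dd9890028043c6bd6a20), (nat_lit 0), (nat_lit 0)⟩))))) (BT.node (nat_lit 280) (BT.node (nat_lit 276) (BT.node (nat_lit 274) (BT.node (nat_lit 273) (BT.leaf ⟨(nat_lit 2), (nat_lit 1), (nat_lit 1), (nat_lit 0x8e6fff51d722e55ee27573b2a268e6), (nat_lit 0), (nat_lit 0)⟩) (BT.leaf ⟨(nat_lit 2), (nat_lit 1), (nat_lit 1), (nat_lit 0xfcc0c110120041080148c6140091c5), (nat_lit 0), (nat_lit 0)⟩)) (BT.node (nat_lit 275) (BT.leaf ⟨(nat_lit 2), (nat_lit 1), (nat_lit 1), (nat_lit 0x1d09a3747f8c1f2fff66a8dd3ba2646), (nat_lit 0), (nat_lit 0)⟩) (BT.leaf ⟨(nat_lit 2), (nat_lit 1), (nat_lit 1), (nat_lit 0x1722d443dad1edccde0bea27a2f55e9), (nat_lit 0), (nat_lit 0)⟩))) (BT.node (nat_lit 278) (BT.node (nat_lit 277) (BT.leaf ⟨(nat_lit 1), (nat_lit 0), (nat_lit 0), (nat_lit 0x1bd639021e7620400901082751f1009),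 (nat_lit 0x1bd639021e7620400901082751f1009), (nat_lit 0)⟩) (BT.leaf ⟨(nat_lit 1), (nat_lit 0), (nat_lit 0), (nat_lit 0x12af60b5f4bc6f13fe5fa33edd2db8a), (nat_lit 0x12af60b5f4bc6f13fe5fa33edd2db8a), (nat_lit 0)⟩)) (BT.node (nat_lit 279) (BT.leaf ⟨(nat_lit 1), (nat_lit 0), (nat_lit 0), (nat_lit 0x4fed8e6921fa887d7db25c4b663927), (nat_lit 0x4fed8e6921fa887d7db25c4b663927), (nat_lit 0)⟩) (BT.leaf ⟨(nat_lit 1), (nat_lit 0), (nat_lit 0), (nat_lit 0x1ad226efc39dbdb3a7dbfe85e6559b2), (nat_lit 0x1ad226efc39dbdb3a7dbfe85e6559b2), (nat_lit 0)⟩)))) (BT.node (nat_lit 284) (BT.node (nat_lit 282) (BT.node (nat_lit 281) (BT.leaf ⟨(nat_lit 2), (nat_lit 3), (nat_lit 3), (nat_lit 0x15a3f45a8bd982d697b7b907a132df8), (nat_lit 0), (nat_lit 0)⟩) (BT.leaf ⟨(nat_lit 3), (nat_lit 3), (nat_lit 1), (nat_lit 0x1001001001001001001001001001001), (nat_lit 0x609380a013bf0eec0801095c84088),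 (nat_lit 0)⟩)) (BT.node (nat_lit 283) (BT.leaf ⟨(nat_lit 2), (nat_lit 1), (nat_lit 1), (nat_lit 0x1134d9674fe85e77a7dbd69bd97a721), (nat_lit 0), (nat_lit 0)⟩) (BT.leaf ⟨(nat_lit 2), (nat_lit 1), (nat_lit 1), (nat_lit 0xa1d8e674dea5e4e77dbdf9bdb5a7f4), (nat_lit 0), (nat_lit 0)⟩))) (BT.node (nat_lit 286) (BT.node (nat_lit 285) (BT.leaf ⟨(nat_lit 2), (nat_lit 1), (nat_lit 1), (nat_lit 0x1519577c6d27d9ba307ce0dd3ba2747), (nat_lit 0), (nat_lit 0)⟩) (BT.leaf ⟨(nat_lit 1), (nat_lit 0), (nat_lit 0), (nat_lit 0x1e41b1bc394bf8df0e0ba2e6f1d1cd9), (nat_lit 0x1e41b1bc394bf8df0e0ba2e6f1d1cd9), (nat_lit 0)⟩)) (BT.node (nat_lit 287) (BT.leaf ⟨(nat_lit 1), (nat_lit 0), (nat_lit 0), (nat_lit 0x78db1be77e7f8df5e0b94a6f1f0be3), (nat_lit 0x78db1be77e7f8df5e0b94a6f1f0be3), (nat_lit 0)⟩) (BT.leaf ⟨(nat_lit 1), (nat_lit 0), (nat_lit 0), (nat_lit 0x569b1c6ea2ff8dd1e0b7e66f1f5acc),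 (nat_lit 0x569b1c6ea2ff8dd1e0b7e66f1f5acc), (nat_lit 0)⟩)))))) (BT.node (nat_lit 304) (BT.node (nat_lit 296) (BT.node (nat_lit 292) (BT.node (nat_lit 290) (BT.node (nat_lit 289) (BT.leaf ⟨(nat_lit 1), (nat_lit 0), (nat_lit 0), (nat_lit 0xff85bfcdf3a5e5c6f8f8dda8b46f8d), (nat_lit 0xff85bfcdf3a5e5c6f8f8dda8b46f8d), (nat_lit 0)⟩) (BT.leaf ⟨(nat_lit 1), (nat_lit 0), (nat_lit 0), (nat_lit 0x145d43f21fe9bdb6a7dbdf85e778674), (nat_lit 0x145d43f21fe9bdb6a7dbdf85e778674), (nat_lit 0)⟩)) (BT.node (nat_lit 291) (BT.leaf ⟨(nat_lit 2), (nat_lit 3), (nat_lit 3), (nat_lit 0x17e3f44e8bd382ee41e85a5edef5568), (nat_lit 0), (nat_lit 0)⟩) (BT.leaf ⟨(nat_lit 2), (nat_lit 1), (nat_lit 1), (nat_lit 0x11bbce8b7197a8b2c78fd1a5e589f85), (nat_lit 0), (nat_lit 0)⟩))) (BT.node (nat_lit 294) (BT.node (nat_lit 293) (BT.leaf ⟨(nat_lit 2), (nat_lit 1), (nat_lit 1), (nat_lit 0x1749898cbf0a5e746f8fe1ba8bc4fad),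 (nat_lit 0), (nat_lit 0)⟩) (BT.leaf ⟨(nat_lit 2), (nat_lit 1), (nat_lit 1), (nat_lit 0x9fe5f0300c1d9810828141c6bd6824), (nat_lit 0), (nat_lit 0)⟩)) (BT.node (nat_lit 295) (BT.leaf ⟨(nat_lit 2), (nat_lit 1), (nat_lit 1), (nat_lit 0x11021984132a10383044ef414021140), (nat_lit 0), (nat_lit 0)⟩) (BT.leaf ⟨(nat_lit 2), (nat_lit 1), (nat_lit 1), (nat_lit 0x121041dd211ccaf00284afd3805009), (nat_lit 0), (nat_lit 0)⟩)))) (BT.node (nat_lit 300) (BT.node (nat_lit 298) (BT.node (nat_lit 297) (BT.leaf ⟨(nat_lit 2), (nat_lit 1), (nat_lit 1), (nat_lit 0x114c30120141d9ae471a7860a0111f5), (nat_lit 0), (nat_lit 0)⟩) (BT.leaf ⟨(nat_lit 2), (nat_lit 1), (nat_lit 1), (nat_lit 0x1ce9a4fbae77cc96907cacbc6b9c63a), (nat_lit 0), (nat_lit 0)⟩)) (BT.node (nat_lit 299) (BT.leaf ⟨(nat_lit 2), (nat_lit 1), (nat_lit 1), (nat_lit 0x151ba3747d27d995774e94a1f3a27c6), (nat_lit 0), (nat_lit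 0)⟩) (BT.leaf ⟨(nat_lit 2), (nat_lit 1), (nat_lit 1), (nat_lit 0x1d456943d9d182efc1e8bd9edef5568), (nat_lit 0), (nat_lit 0)⟩))) (BT.node (nat_lit 302) (BT.node (nat_lit 301) (BT.leaf ⟨(nat_lit 2), (nat_lit 1), (nat_lit 1), (nat_lit 0x17e1574e8ad1edcbb1e8ea382ef55e9), (nat_lit 0), (nat_lit 0)⟩) (BT.leaf ⟨(nat_lit 2), (nat_lit 1), (nat_lit 1), (nat_lit 0x1d5afc011120042470508c6050091c5), (nat_lit 0), (nat_lit 0)⟩)) (BT.node (nat_lit 303) (BT.leaf ⟨(nat_lit 2), (nat_lit 1), (nat_lit 1), (nat_lit 0x1258bb54b93fa7a4d0ed93d89e4e59e), (nat_lit 0), (nat_lit 0)⟩) (BT.leaf ⟨(nat_lit 1), (nat_lit 0), (nat_lit 0), (nat_lit 0x19605bc6e4cbe3fe6ea2f3a5e5ff38d), (nat_lit 0x19605bc6e4cbe3fe6ea2f3a5e5ff38d), (nat_lit 0)⟩))))) (BT.node (nat_lit 312) (BT.node (nat_lit 308) (BT.node (nat_lit 306) (BT.node (nat_lit 305) (BT.leaf ⟨(nat_lit 1), (nat_lit 0), (nat_lit 0), (nat_lit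 0x480103c3b900a01171ada9d9910420), (nat_lit 0x480103c3b900a01171ada9d9910420), (nat_lit 0)⟩) (BT.leaf ⟨(nat_lit 1), (nat_lit 0), (nat_lit 0), (nat_lit 0xa4e744045bd88178f1044b60100a), (nat_lit 0xa4e744045bd88178f1044b60100a), (nat_lit 0)⟩)) (BT.node (nat_lit 307) (BT.leaf ⟨(nat_lit 1), (nat_lit 0), (nat_lit 0), (nat_lit 0x96e4d0053a2053a1044e7c01378104), (nat_lit 0x96e4d0053a2053a1044e7c01378104), (nat_lit 0)⟩) (BT.leaf ⟨(nat_lit 1), (nat_lit 0), (nat_lit 0), (nat_lit 0x131cbb5c8bc182ef49e8ad1edefc2ae), (nat_lit 0x131cbb5c8bc182ef49e8ad1edefc2ae), (nat_lit 0)⟩))) (BT.node (nat_lit 310) (BT.node (nat_lit 309) (BT.leaf ⟨(nat_lit 1), (nat_lit 0), (nat_lit 0), (nat_lit 0xa4e1d7205e3c116f6e704b5f0803), (nat_lit 0xa4e1d7205e3c116f6e704b5f0803), (nat_lit 0)⟩) (BT.leaf ⟨(nat_lit 1), (nat_lit 0), (nat_lit 0), (nat_lit 0x96e4d00ce84110e8814108013c4824), (nat_lit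 0x96e4d00ce84110e8814108013c4824), (nat_lit 0)⟩)) (BT.node (nat_lit 311) (BT.leaf ⟨(nat_lit 1), (nat_lit 0), (nat_lit 0), (nat_lit 0x131cbb4e8bd27a2f060b5a5eded443d), (nat_lit 0x131cbb4e8bd27a2f060b5a5eded443d), (nat_lit 0)⟩) (BT.leaf ⟨(nat_lit 2), (nat_lit 3), (nat_lit 3), (nat_lit 0x1698caa36baa357909d41f4554eeb8a), (nat_lit 0), (nat_lit 0)⟩)))) (BT.node (nat_lit 316) (BT.node (nat_lit 314) (BT.node (nat_lit 313) (BT.leaf ⟨(nat_lit 2), (nat_lit 1), (nat_lit 1), (nat_lit 0xcbcb7cc7a5fa88977db1f44b493b70), (nat_lit 0), (nat_lit 0)⟩) (BT.leaf ⟨(nat_lit 2), (nat_lit 1), (nat_lit 1), (nat_lit 0xac6041dd013d380c7320900a005088), (nat_lit 0), (nat_lit 0)⟩)) (BT.node (nat_lit 315) (BT.leaf ⟨(nat_lit 2), (nat_lit 3), (nat_lit 3), (nat_lit 0xf8bbebe37e782e6cfe37866f2373e7), (nat_lit 0), (nat_lit 0)⟩) (BT.leaf ⟨(nat_lit 1), (nat_lit 0), (nat_lit 0), (nat_lit 0x4039d5e87c61010001093c01097a5f),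 (nat_lit 0x4039d5e87c61010001093c01097a5f), (nat_lit 0)⟩))) (BT.node (nat_lit 318) (BT.node (nat_lit 317) (BT.leaf ⟨(nat_lit 1), (nat_lit 0), (nat_lit 0), (nat_lit 0x4b897cc75984b5cb7dbb63a8b0ab70), (nat_lit 0x4b897cc75984b5cb7dbb63a8b0ab70), (nat_lit 0)⟩) (BT.leaf ⟨(nat_lit 1), (nat_lit 0), (nat_lit 0), (nat_lit 0x812f802f1a0123981093c1004012f), (nat_lit 0x812f802f1a0123981093c1004012f), (nat_lit 0)⟩)) (BT.node (nat_lit 319) (BT.leaf ⟨(nat_lit 1), (nat_lit 0), (nat_lit 0), (nat_lit 0x17b15e8053a20501204401801003104), (nat_lit 0x17b15e8053a20501204401801003104), (nat_lit 0)⟩) (BT.leaf ⟨(nat_lit 1), (nat_lit 0), (nat_lit 0), (nat_lit 0x17a8cddc8bc182e1e9e89d1edef62ae), (nat_lit 0x17a8cddc8bc182e1e9e89d1edef62ae), (nat_lit 0)⟩)))))))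
noncomputable def hP256 : BT Pf := (BT.node (nat_lit 288) (BT.node (nat_lit 272) (BT.node (nat_lit 264) (BT.node (nat_lit 260) (BT.node (nat_lit 258) (BT.node (nat_lit 257) (BT.leaf (.nmul (nat_lit 255) [(nat_lit 0)])) (BT.leaf (.nmul (nat_lit 256) [(nat_lit 40)]))) (BT.node (nat_lit 259) (BT.leaf (.nmul (nat_lit 257) [(nat_lit 40)])) (BT.leaf (.nmul (nat_lit 258) [(nat_lit 40)])))) (BT.node (nat_lit 262) (BT.node (nat_lit 261) (BT.leaf (.nmul (nat_lit 182) [(nat_lit 26)])) (BT.leaf (.nmul (nat_lit 260) [(nat_lit 40)]))) (BT.node (nat_lit 263) (BT.leaf (.nmul (nat_lit 261) [(nat_lit 26)])) (BT.leaf (.nmul (nat_lit 262) [(nat_lit 40)]))))) (BT.node (nat_lit 268) (BT.node (nat_lit 266) (BT.node (nat_lit 265) (BT.leaf (.nmul (nat_lit 263) [(nat_lit 40)])) (BT.leaf (.nmul (nat_lit 264) [(nat_lit 40)]))) (BT.node (nat_lit 267) (BT.leaf (.nmul (nat_lit 265)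 [(nat_lit 40)])) (BT.leaf (.cmp (nat_lit 245) ⟨(nat_lit 96), [(nat_lit 249), (nat_lit 254)], [(nat_lit 266), (nat_lit 259)]⟩)))) (BT.node (nat_lit 270) (BT.node (nat_lit 269) (BT.leaf (.dfn [(nat_lit 1)])) (BT.leaf (.emul [(nat_lit 43), (nat_lit 44)]))) (BT.node (nat_lit 271) (BT.leaf (.emul [(nat_lit 78), (nat_lit 269)])) (BT.leaf (.emul [(nat_lit 44), (nat_lit 270)])))))) (BT.node (nat_lit 280) (BT.node (nat_lit 276) (BT.node (nat_lit 274) (BT.node (nat_lit 273) (BT.leaf (.emul [(nat_lit 43), (nat_lit 271)])) (BT.leaf (.emul [(nat_lit 78), (nat_lit 172)]))) (BT.node (nat_lit 275) (BT.leaf (.emul [(nat_lit 59), (nat_lit 273)])) (BT.leaf (.emul [(nat_lit 59), (nat_lit 274)])))) (BT.node (nat_lit 278) (BT.node (nat_lit 277) (BT.leaf (.nmul (nat_lit 257) [(nat_lit 0)])) (BT.leaf (.nmul (nat_lit 241) [(nat_lit 26)]))) (BT.node (nat_lit 279) (BT.leaf (.nmul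 (nat_lit 277) [(nat_lit 40)])) (BT.leaf (.nmul (nat_lit 278) [(nat_lit 26)]))))) (BT.node (nat_lit 284) (BT.node (nat_lit 282) (BT.node (nat_lit 281) (BT.leaf (.cmp (nat_lit 268) ⟨(nat_lit 268), [(nat_lit 272), (nat_lit 275)], [(nat_lit 279), (nat_lit 276)]⟩)) (BT.leaf (.inv (nat_lit 268)))) (BT.node (nat_lit 283) (BT.leaf (.emul [(nat_lit 43), (nat_lit 269)])) (BT.leaf (.emul [(nat_lit 59), (nat_lit 282)])))) (BT.node (nat_lit 286) (BT.node (nat_lit 285) (BT.leaf (.emul [(nat_lit 44), (nat_lit 283)])) (BT.leaf (.nmul (nat_lit 79) [(nat_lit 40)]))) (BT.node (nat_lit 287) (BT.leaf (.nmul (nat_lit 285) [(nat_lit 1)])) (BT.leaf (.nmul (nat_lit 286) [(nat_lit 1)]))))))) (BT.node (nat_lit 304) (BT.node (nat_lit 296) (BT.node (nat_lit 292) (BT.node (nat_lit 290) (BT.node (nat_lit 289) (BT.leaf (.nmul (nat_lit 287) [(nat_lit 40)])) (BT.leaf (.nmul (nat_lit 288)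 [(nat_lit 0)]))) (BT.node (nat_lit 291) (BT.leaf (.cmp (nat_lit 268) ⟨(nat_lit 268), [(nat_lit 284), (nat_lit 103)], [(nat_lit 182), (nat_lit 289)]⟩)) (BT.leaf (.emul [(nat_lit 59), (nat_lit 269)])))) (BT.node (nat_lit 294) (BT.node (nat_lit 293) (BT.leaf (.emul [(nat_lit 78), (nat_lit 291)])) (BT.leaf (.emul [(nat_lit 44), (nat_lit 292)]))) (BT.node (nat_lit 295) (BT.leaf (.emul [(nat_lit 78), (nat_lit 78)])) (BT.leaf (.emul [(nat_lit 59), (nat_lit 294)]))))) (BT.node (nat_lit 300) (BT.node (nat_lit 298) (BT.node (nat_lit 297) (BT.leaf (.emul [(nat_lit 78), (nat_lit 295)])) (BT.leaf (.emul [(nat_lit 78), (nat_lit 296)]))) (BT.node (nat_lit 299) (BT.leaf (.emul [(nat_lit 78), (nat_lit 297)])) (BT.leaf (.emul [(nat_lit 59), (nat_lit 298)])))) (BT.node (nat_lit 302) (BT.node (nat_lit 301) (BT.leaf (.emul [(nat_lit 78), (nat_lit 299)])) (BT.leaf (.emul [(nat_lit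 59), (nat_lit 300)]))) (BT.node (nat_lit 303) (BT.leaf (.emul [(nat_lit 78), (nat_lit 301)])) (BT.leaf (.nmul (nat_lit 152) [(nat_lit 40)])))))) (BT.node (nat_lit 312) (BT.node (nat_lit 308) (BT.node (nat_lit 306) (BT.node (nat_lit 305) (BT.leaf (.nmul (nat_lit 303) [(nat_lit 1)])) (BT.leaf (.nmul (nat_lit 119) [(nat_lit 26)]))) (BT.node (nat_lit 307) (BT.leaf (.nmul (nat_lit 305) [(nat_lit 40)])) (BT.leaf (.nmul (nat_lit 306) [(nat_lit 40)])))) (BT.node (nat_lit 310) (BT.node (nat_lit 309) (BT.leaf (.nmul (nat_lit 307) [(nat_lit 40)])) (BT.leaf (.nmul (nat_lit 308) [(nat_lit 40)]))) (BT.node (nat_lit 311) (BT.leaf (.nmul (nat_lit 309) [(nat_lit 40)])) (BT.leaf (.cmp (nat_lit 268) ⟨(nat_lit 268), [(nat_lit 293), (nat_lit 302)], [(nat_lit 310), (nat_lit 304)]⟩))))) (BT.node (nat_lit 316) (BT.node (nat_lit 314) (BT.node (nat_lit 313) (BT.leaf (.emul [(nat_lit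 44), (nat_lit 98)])) (BT.leaf (.emul [(nat_lit 78), (nat_lit 274)]))) (BT.node (nat_lit 315) (BT.leaf (.cmp (nat_lit 268) ⟨(nat_lit 268), [(nat_lit 312), (nat_lit 313)], [(nat_lit 242), (nat_lit 276)]⟩)) (BT.leaf (.nmul (nat_lit 178) [(nat_lit 1)])))) (BT.node (nat_lit 318) (BT.node (nat_lit 317) (BT.leaf (.nmul (nat_lit 315) [(nat_lit 1)])) (BT.leaf (.nmul (nat_lit 316) [(nat_lit 40)]))) (BT.node (nat_lit 319) (BT.leaf (.nmul (nat_lit 90) [(nat_lit 40)])) (BT.leaf (.nmul (nat_lit 318) [(nat_lit 40)]))))))))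
noncomputable def hF320 : BT Fc := (BT.node (nat_lit 352) (BT.node (nat_lit 336) (BT.node (nat_lit 328) (BT.node (nat_lit 324) (BT.node (nat_lit 322) (BT.node (nat_lit 321) (BT.leaf ⟨(nat_lit 1), (nat_lit 0), (nat_lit 0), (nat_lit 0x195d9d7205e3c056f6e884b6f5003), (nat_lit 0x195d9d7205e3c056f6e884b6f5003), (nat_lit 0)⟩) (BT.leaf ⟨(nat_lit 2), (nat_lit 1), (nat_lit 1), (nat_lit 0x17a90101200dbd84178f3ae4b411042), (nat_lit 0), (nat_lit 0)⟩)) (BT.node (nat_lit 323) (BT.leaf ⟨(nat_lit 2), (nat_lit 1), (nat_lit 1), (nat_lit 0x569e1b637c582df19bc747f8df0a36), (nat_lit 0), (nat_lit 0)⟩) (BT.leaf ⟨(nat_lit 2), (nat_lit 1), (nat_lit 1), (nat_lit 0x11ddf38843a20539f00401811003104), (nat_lit 0), (nat_lit 0)⟩))) (BT.node (nat_lit 326) (BT.node (nat_lit 325) (BT.leaf ⟨(nat_lit 2), (nat_lit 1), (nat_lit 1), (nat_lit 0xae4732b877389eff8b9533b295da39), (nat_lit 0), (nat_lit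 0)⟩) (BT.leaf ⟨(nat_lit 2), (nat_lit 1), (nat_lit 1), (nat_lit 0xd2639da68e43b4cdecaf219ce38cf3), (nat_lit 0), (nat_lit 0)⟩)) (BT.node (nat_lit 327) (BT.leaf ⟨(nat_lit 2), (nat_lit 1), (nat_lit 1), (nat_lit 0x17e9d3007aba79086734082e501280), (nat_lit 0), (nat_lit 0)⟩) (BT.leaf ⟨(nat_lit 1), (nat_lit 0), (nat_lit 0), (nat_lit 0x1636e978ce1a5e465f8ff5ba8bc6e58), (nat_lit 0x1636e978ce1a5e465f8ff5ba8bc6e58), (nat_lit 0)⟩)))) (BT.node (nat_lit 332) (BT.node (nat_lit 330) (BT.node (nat_lit 329) (BT.leaf ⟨(nat_lit 1), (nat_lit 0), (nat_lit 0), (nat_lit 0xb30ad2e37c46f1e1e0b94bf8df9a36), (nat_lit 0xb30ad2e37c46f1e1e0b94bf8df9a36), (nat_lit 0)⟩) (BT.leaf ⟨(nat_lit 1), (nat_lit 0), (nat_lit 0), (nat_lit 0xbd04f401a007a19d65f811f8e20480), (nat_lit 0xbd04f401a007a19d65f811f8e20480), (nat_lit 0)⟩)) (BT.node (nat_lit 331) (BT.leaf ⟨(nat_lit 1), (nat_lit 0), (nat_lit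 0), (nat_lit 0x1b91356d4365bdb3a7dbfe85e57a1ce), (nat_lit 0x1b91356d4365bdb3a7dbfe85e57a1ce), (nat_lit 0)⟩) (BT.leaf ⟨(nat_lit 1), (nat_lit 0), (nat_lit 0), (nat_lit 0x5bdcb61524fa887d7db25c4b56610f), (nat_lit 0x5bdcb61524fa887d7db25c4b56610f), (nat_lit 0)⟩))) (BT.node (nat_lit 334) (BT.node (nat_lit 333) (BT.leaf ⟨(nat_lit 3), (nat_lit 3), (nat_lit 1), (nat_lit 0x1d4558eb95722e5b6583472a669a2f9), (nat_lit 0x1f37c4fadf199629a26571b749ff0b7), (nat_lit 0)⟩) (BT.leaf ⟨(nat_lit 3), (nat_lit 1), (nat_lit 3), (nat_lit 0x1f37c4fadf199629a26571b749ff0b7), (nat_lit 0x1d4558eb95722e5b6583472a669a2f9), (nat_lit 0)⟩)) (BT.node (nat_lit 335) (BT.leaf ⟨(nat_lit 2), (nat_lit 1), (nat_lit 1), (nat_lit 0x1c356f8a0f8c2054015583c600407ba), (nat_lit 0), (nat_lit 0)⟩) (BT.leaf ⟨(nat_lit 2), (nat_lit 1), (nat_lit 1), (nat_lit 0x1c3440363ad05551c98083c207dd2df), (nat_lit 0),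 (nat_lit 0)⟩))))) (BT.node (nat_lit 344) (BT.node (nat_lit 340) (BT.node (nat_lit 338) (BT.node (nat_lit 337) (BT.leaf ⟨(nat_lit 2), (nat_lit 1), (nat_lit 1), (nat_lit 0x1e3100a5ebd24040888100a753a3be2), (nat_lit 0), (nat_lit 0)⟩) (BT.leaf ⟨(nat_lit 2), (nat_lit 1), (nat_lit 1), (nat_lit 0x1ce39da6ae79ce3deca66a3b638cf3), (nat_lit 0), (nat_lit 0)⟩)) (BT.node (nat_lit 339) (BT.leaf ⟨(nat_lit 2), (nat_lit 1), (nat_lit 1), (nat_lit 0x9029d3004022e700673fd1a7901280), (nat_lit 0), (nat_lit 0)⟩) (BT.leaf ⟨(nat_lit 2), (nat_lit 1), (nat_lit 1), (nat_lit 0xac4732b86d9b297c8b955389d5da39), (nat_lit 0), (nat_lit 0)⟩))) (BT.node (nat_lit 342) (BT.node (nat_lit 341) (BT.leaf ⟨(nat_lit 2), (nat_lit 1), (nat_lit 1), (nat_lit 0xc1f99c52200423185091c05009011), (nat_lit 0), (nat_lit 0)⟩) (BT.leaf ⟨(nat_lit 2), (nat_lit 1), (nat_lit 1), (nat_lit 0x1297a1646e8e1f2a374e7b1d9ba2693),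 (nat_lit 0), (nat_lit 0)⟩)) (BT.node (nat_lit 343) (BT.leaf ⟨(nat_lit 1), (nat_lit 0), (nat_lit 0), (nat_lit 0x1eb532f8df3ba8bc678fcb05e589fcd), (nat_lit 0x1eb532f8df3ba8bc678fcb05e589fcd), (nat_lit 0)⟩) (BT.leaf ⟨(nat_lit 1), (nat_lit 0), (nat_lit 0), (nat_lit 0x92e410fda9c68fa828241d9a5f022), (nat_lit 0x92e410fda9c68fa828241d9a5f022), (nat_lit 0)⟩)))) (BT.node (nat_lit 348) (BT.node (nat_lit 346) (BT.node (nat_lit 345) (BT.leaf ⟨(nat_lit 1), (nat_lit 0), (nat_lit 0), (nat_lit 0x1e26f673ee840108204400a0524d00c), (nat_lit 0x1e26f673ee840108204400a0524d00c), (nat_lit 0)⟩) (BT.leaf ⟨(nat_lit 1), (nat_lit 0), (nat_lit 0), (nat_lit 0x16a2f5568bd3edd571e8b9182cbb4e8), (nat_lit 0x16a2f5568bd3edd571e8b9182cbb4e8), (nat_lit 0)⟩)) (BT.node (nat_lit 347) (BT.leaf ⟨(nat_lit 1), (nat_lit 0), (nat_lit 0), (nat_lit 0x17aaf056887bedefc1e8bd982cbb5e9), (nat_lit 0x17aaf056887bedefc1e8bd982cbb5e9),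 (nat_lit 0)⟩) (BT.leaf ⟨(nat_lit 1), (nat_lit 0), (nat_lit 0), (nat_lit 0x5bed890fcd3a8817fdb35e4b5b8615), (nat_lit 0x5bed890fcd3a8817fdb35e4b5b8615), (nat_lit 0)⟩))) (BT.node (nat_lit 350) (BT.node (nat_lit 349) (BT.leaf ⟨(nat_lit 2), (nat_lit 3), (nat_lit 3), (nat_lit 0x87e6f3a3082100244330c0be75a0c0), (nat_lit 0), (nat_lit 0)⟩) (BT.leaf ⟨(nat_lit 1), (nat_lit 0), (nat_lit 0), (nat_lit 0x1c877a1b2df85e68bfdb5e9bda7a6d4), (nat_lit 0x1c877a1b2df85e68bfdb5e9bda7a6d4), (nat_lit 0)⟩)) (BT.node (nat_lit 351) (BT.leaf ⟨(nat_lit 1), (nat_lit 0), (nat_lit 0), (nat_lit 0x6127811220143ce810dc8051081c5), (nat_lit 0x6127811220143ce810dc8051081c5), (nat_lit 0)⟩) (BT.leaf ⟨(nat_lit 2), (nat_lit 1), (nat_lit 1), (nat_lit 0x1a4e8c9b2e89d9ba107ce0dd3aa30cb), (nat_lit 0), (nat_lit 0)⟩)))))) (BT.node (nat_lit 368) (BT.node (nat_lit 360) (BT.node (nat_lit 356) (BT.node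 (nat_lit 354) (BT.node (nat_lit 353) (BT.leaf ⟨(nat_lit 2), (nat_lit 1), (nat_lit 1), (nat_lit 0x17a3f45e987a7a1577b75a582ef5568), (nat_lit 0), (nat_lit 0)⟩) (BT.leaf ⟨(nat_lit 2), (nat_lit 1), (nat_lit 1), (nat_lit 0x1fa2d443d9d07a2f060b55dedef55e9), (nat_lit 0), (nat_lit 0)⟩)) (BT.node (nat_lit 355) (BT.leaf ⟨(nat_lit 1), (nat_lit 0), (nat_lit 0), (nat_lit 0x174a8ce2c0bf97d6ffb77146f12dec1), (nat_lit 0x174a8ce2c0bf97d6ffb77146f12dec1), (nat_lit 0)⟩) (BT.leaf ⟨(nat_lit 1), (nat_lit 0), (nat_lit 0), (nat_lit 0x1e2589f8ce1be3fd6ea216e5e532e58), (nat_lit 0x1e2589f8ce1be3fd6ea216e5e532e58), (nat_lit 0)⟩))) (BT.node (nat_lit 358) (BT.node (nat_lit 357) (BT.leaf ⟨(nat_lit 1), (nat_lit 0), (nat_lit 0), (nat_lit 0x16a26f060ef4110ca84018014021048), (nat_lit 0x16a26f060ef4110ca84018014021048), (nat_lit 0)⟩) (BT.leaf ⟨(nat_lit 1), (nat_lit 0), (nat_lit 0), (nat_lit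 0x93d54f2a0600404801438a143cef56), (nat_lit 0x93d54f2a0600404801438a143cef56), (nat_lit 0)⟩)) (BT.node (nat_lit 359) (BT.leaf ⟨(nat_lit 1), (nat_lit 0), (nat_lit 0), (nat_lit 0xb33c836346c6f26ce0b7d7f8dd1be2), (nat_lit 0xb33c836346c6f26ce0b7d7f8dd1be2), (nat_lit 0)⟩) (BT.leaf ⟨(nat_lit 1), (nat_lit 0), (nat_lit 0), (nat_lit 0xbd3005d59007a21065f68df8e08500), (nat_lit 0xbd3005d59007a21065f68df8e08500), (nat_lit 0)⟩)))) (BT.node (nat_lit 364) (BT.node (nat_lit 362) (BT.node (nat_lit 361) (BT.leaf ⟨(nat_lit 1), (nat_lit 0), (nat_lit 0), (nat_lit 0x1b927a6fc39dbdb90fdbdea5e68b9b2), (nat_lit 0x1b927a6fc39dbdb90fdbdea5e68b9b2), (nat_lit 0)⟩) (BT.leaf ⟨(nat_lit 1), (nat_lit 0), (nat_lit 0), (nat_lit 0x5beae66921fa88d7fdb05e4b697927), (nat_lit 0x5beae66921fa88d7fdb05e4b697927), (nat_lit 0)⟩)) (BT.node (nat_lit 363) (BT.leaf ⟨(nat_lit 1), (nat_lit 0), (nat_lit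 0), (nat_lit 0x10015c8013aa1039d010e8c0137a100), (nat_lit 0x10015c8013aa1039d010e8c0137a100), (nat_lit 0)⟩) (BT.leaf ⟨(nat_lit 3), (nat_lit 3), (nat_lit 2), (nat_lit 0x31f5927013d3b7e4961111ec14108), (nat_lit 0x80102202600821405467aa2e69d4f4), (nat_lit 0)⟩))) (BT.node (nat_lit 366) (BT.node (nat_lit 365) (BT.leaf ⟨(nat_lit 3), (nat_lit 2), (nat_lit 3), (nat_lit 0x80102202600821405467aa2e69d4f4), (nat_lit 0x31f5927013d3b7e4961111ec14108), (nat_lit 0)⟩) (BT.leaf ⟨(nat_lit 1), (nat_lit 0), (nat_lit 0), (nat_lit 0x1e369a0b7f0ba8b86f8fd1a5e5c6fad), (nat_lit 0x1e369a0b7f0ba8b86f8fd1a5e5c6fad), (nat_lit 0)⟩)) (BT.node (nat_lit 367) (BT.leaf ⟨(nat_lit 1), (nat_lit 0), (nat_lit 0), (nat_lit 0xfac4400a24fcc80c74e0180a23defc), (nat_lit 0xfac4400a24fcc80c74e0180a23defc), (nat_lit 0)⟩) (BT.leaf ⟨(nat_lit 1), (nat_lit 0), (nat_lit 0), (nat_lit 0xce9a4eeff75cc85b87ce71c6bbd63a),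 (nat_lit 0xce9a4eeff75cc85b87ce71c6bbd63a), (nat_lit 0)⟩))))) (BT.node (nat_lit 376) (BT.node (nat_lit 372) (BT.node (nat_lit 370) (BT.node (nat_lit 369) (BT.leaf ⟨(nat_lit 1), (nat_lit 0), (nat_lit 0), (nat_lit 0x19d11c888f7460060081108556407c6), (nat_lit 0x19d11c888f7460060081108556407c6), (nat_lit 0)⟩) (BT.leaf ⟨(nat_lit 1), (nat_lit 0), (nat_lit 0), (nat_lit 0xc70cdce8bd27a16960bbc1edefc43d), (nat_lit 0xc70cdce8bd27a16960bbc1edefc43d), (nat_lit 0)⟩)) (BT.node (nat_lit 371) (BT.leaf ⟨(nat_lit 1), (nat_lit 0), (nat_lit 0), (nat_lit 0xdc02fa5e6be6f13fe5fa33edd0fadf), (nat_lit 0xdc02fa5e6be6f13fe5fa33edd0fadf), (nat_lit 0)⟩) (BT.leaf ⟨(nat_lit 2), (nat_lit 1), (nat_lit 1), (nat_lit 0x118c18011220141f981449e04009090), (nat_lit 0), (nat_lit 0)⟩))) (BT.node (nat_lit 374) (BT.node (nat_lit 373) (BT.leaf ⟨(nat_lit 2), (nat_lit 1), (nat_lit 1), (nat_lit 0x1279d254b83c3b760e27efba7a4e49f),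 (nat_lit 0), (nat_lit 0)⟩) (BT.leaf ⟨(nat_lit 2), (nat_lit 1), (nat_lit 1), (nat_lit 0xe9360d9e83da7a4f0ed93589e4e54b), (nat_lit 0), (nat_lit 0)⟩)) (BT.node (nat_lit 375) (BT.leaf ⟨(nat_lit 2), (nat_lit 1), (nat_lit 1), (nat_lit 0x1d09f388400a1110200457a05003104), (nat_lit 0), (nat_lit 0)⟩) (BT.leaf ⟨(nat_lit 1), (nat_lit 0), (nat_lit 0), (nat_lit 0x114fc84338c63b543e73ab9b2ad3477), (nat_lit 0x114fc84338c63b543e73ab9b2ad3477), (nat_lit 0)⟩)))) (BT.node (nat_lit 380) (BT.node (nat_lit 378) (BT.node (nat_lit 377) (BT.leaf ⟨(nat_lit 1), (nat_lit 0), (nat_lit 0), (nat_lit 0x569f5a365c7f8df09bc8dd82dd1be2), (nat_lit 0x569f5a365c7f8df09bc8dd82dd1be2), (nat_lit 0)⟩) (BT.leaf ⟨(nat_lit 1), (nat_lit 0), (nat_lit 0), (nat_lit 0x17824b0480180a093f32df9d38ee808), (nat_lit 0x17824b0480180a093f32df9d38ee808), (nat_lit 0)⟩)) (BT.node (nat_lit 379) (BT.leaf ⟨(nat_lit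 1), (nat_lit 0), (nat_lit 0), (nat_lit 0x4bd9790fcd3a887d7db25c4b697e15), (nat_lit 0x4bd9790fcd3a887d7db25c4b697e15), (nat_lit 0)⟩) (BT.leaf ⟨(nat_lit 1), (nat_lit 0), (nat_lit 0), (nat_lit 0x1bc1439cedf9bdb3a7dbfe85e68bed4), (nat_lit 0x1bc1439cedf9bdb3a7dbfe85e68bed4), (nat_lit 0)⟩))) (BT.node (nat_lit 382) (BT.node (nat_lit 381) (BT.leaf ⟨(nat_lit 1), (nat_lit 0), (nat_lit 0), (nat_lit 0x17e15489022005395010eac143ce9c5), (nat_lit 0x17e15489022005395010eac143ce9c5), (nat_lit 0)⟩) (BT.leaf ⟨(nat_lit 2), (nat_lit 1), (nat_lit 1), (nat_lit 0x1ced00f8c25c7502090100a205f16f5), (nat_lit 0), (nat_lit 0)⟩)) (BT.node (nat_lit 383) (BT.leaf ⟨(nat_lit 2), (nat_lit 1), (nat_lit 1), (nat_lit 0xe29b66581f4354ee9d43ea554e8f21), (nat_lit 0), (nat_lit 0)⟩) (BT.leaf ⟨(nat_lit 2), (nat_lit 1), (nat_lit 1), (nat_lit 0x9fd10021241c68120280c1d98111f5), (nat_lit 0), (nat_lit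 0)⟩)))))))
noncomputable def hP320 : BT Pf := (BT.node (nat_lit 352) (BT.node (nat_lit 336) (BT.node (nat_lit 328) (BT.node (nat_lit 324) (BT.node (nat_lit 322) (BT.node (nat_lit 321) (BT.leaf (.nmul (nat_lit 319) [(nat_lit 40)])) (BT.leaf (.emul [(nat_lit 43), (nat_lit 282)]))) (BT.node (nat_lit 323) (BT.leaf (.emul [(nat_lit 59), (nat_lit 128)])) (BT.leaf (.emul [(nat_lit 59), (nat_lit 322)])))) (BT.node (nat_lit 326) (BT.node (nat_lit 325) (BT.leaf (.emul [(nat_lit 78), (nat_lit 323)])) (BT.leaf (.emul [(nat_lit 59), (nat_lit 324)]))) (BT.node (nat_lit 327) (BT.leaf (.emul [(nat_lit 59), (nat_lit 325)])) (BT.leaf (.nmul (nat_lit 235) [(nat_lit 0)]))))) (BT.node (nat_lit 332) (BT.node (nat_lit 330) (BT.node (nat_lit 329) (BT.leaf (.nmul (nat_lit 134) [(nat_lit 40)])) (BT.leaf (.nmul (nat_lit 328) [(nat_lit 26)]))) (BT.node (nat_lit 331) (BT.leaf (.nmul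 (nat_lit 329) [(nat_lit 40)])) (BT.leaf (.nmul (nat_lit 330) [(nat_lit 26)])))) (BT.node (nat_lit 334) (BT.node (nat_lit 333) (BT.leaf (.rel (nat_lit 95) (nat_lit 1) [(nat_lit 320), (nat_lit 317)] [⟨(nat_lit 268), [(nat_lit 321), (nat_lit 326)], [(nat_lit 331), (nat_lit 327)]⟩])) (BT.leaf (.inv (nat_lit 332)))) (BT.node (nat_lit 335) (BT.leaf (.emul [(nat_lit 44), (nat_lit 166)])) (BT.leaf (.emul [(nat_lit 59), (nat_lit 334)])))))) (BT.node (nat_lit 344) (BT.node (nat_lit 340) (BT.node (nat_lit 338) (BT.node (nat_lit 337) (BT.leaf (.emul [(nat_lit 78), (nat_lit 335)])) (BT.leaf (.emul [(nat_lit 78), (nat_lit 294)]))) (BT.node (nat_lit 339) (BT.leaf (.emul [(nat_lit 59), (nat_lit 337)])) (BT.leaf (.emul [(nat_lit 59), (nat_lit 338)])))) (BT.node (nat_lit 342) (BT.node (nat_lit 341) (BT.leaf (.emul [(nat_lit 78), (nat_lit 339)])) (BT.leaf (.emul [(nat_lit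 59), (nat_lit 340)]))) (BT.node (nat_lit 343) (BT.leaf (.nmul (nat_lit 1) [(nat_lit 0)])) (BT.leaf (.nmul (nat_lit 342) [(nat_lit 1)]))))) (BT.node (nat_lit 348) (BT.node (nat_lit 346) (BT.node (nat_lit 345) (BT.leaf (.nmul (nat_lit 343) [(nat_lit 1)])) (BT.leaf (.nmul (nat_lit 344) [(nat_lit 40)]))) (BT.node (nat_lit 347) (BT.leaf (.nmul (nat_lit 345) [(nat_lit 1)])) (BT.leaf (.nmul (nat_lit 88) [(nat_lit 40)])))) (BT.node (nat_lit 350) (BT.node (nat_lit 349) (BT.leaf (.cmp (nat_lit 333) ⟨(nat_lit 268), [(nat_lit 336), (nat_lit 341)], [(nat_lit 347), (nat_lit 346)]⟩)) (BT.leaf (.nmul (nat_lit 151) [(nat_lit 1)]))) (BT.node (nat_lit 351) (BT.leaf (.nmul (nat_lit 349) [(nat_lit 40)])) (BT.leaf (.emul [(nat_lit 59), (nat_lit 195)]))))))) (BT.node (nat_lit 368) (BT.node (nat_lit 360) (BT.node (nat_lit 356) (BT.node (nat_lit 354) (BT.node (nat_lit 353) (BT.leaf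 (.emul [(nat_lit 59), (nat_lit 146)])) (BT.leaf (.emul [(nat_lit 78), (nat_lit 352)]))) (BT.node (nat_lit 355) (BT.leaf (.nmul (nat_lit 82) [(nat_lit 0)])) (BT.leaf (.nmul (nat_lit 239) [(nat_lit 26)])))) (BT.node (nat_lit 358) (BT.node (nat_lit 357) (BT.leaf (.nmul (nat_lit 355) [(nat_lit 40)])) (BT.leaf (.nmul (nat_lit 356) [(nat_lit 26)]))) (BT.node (nat_lit 359) (BT.leaf (.nmul (nat_lit 357) [(nat_lit 40)])) (BT.leaf (.nmul (nat_lit 358) [(nat_lit 26)]))))) (BT.node (nat_lit 364) (BT.node (nat_lit 362) (BT.node (nat_lit 361) (BT.leaf (.nmul (nat_lit 359) [(nat_lit 40)])) (BT.leaf (.nmul (nat_lit 360) [(nat_lit 26)]))) (BT.node (nat_lit 363) (BT.leaf (.nmul (nat_lit 361) [(nat_lit 40)])) (BT.leaf (.rel (nat_lit 125) (nat_lit 5) [(nat_lit 211), (nat_lit 350)] [⟨(nat_lit 268), [(nat_lit 351), (nat_lit 353)], [(nat_lit 362), (nat_lit 354)]⟩])))) (BT.node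 (nat_lit 366) (BT.node (nat_lit 365) (BT.leaf (.inv (nat_lit 363))) (BT.leaf (.nmul (nat_lit 358) [(nat_lit 40)]))) (BT.node (nat_lit 367) (BT.leaf (.nmul (nat_lit 256) [(nat_lit 1)])) (BT.leaf (.nmul (nat_lit 1) [(nat_lit 1)])))))) (BT.node (nat_lit 376) (BT.node (nat_lit 372) (BT.node (nat_lit 370) (BT.node (nat_lit 369) (BT.leaf (.nmul (nat_lit 367) [(nat_lit 40)])) (BT.leaf (.nmul (nat_lit 86) [(nat_lit 40)]))) (BT.node (nat_lit 371) (BT.leaf (.nmul (nat_lit 369) [(nat_lit 26)])) (BT.leaf (.emul [(nat_lit 78), (nat_lit 100)])))) (BT.node (nat_lit 374) (BT.node (nat_lit 373) (BT.leaf (.emul [(nat_lit 78), (nat_lit 371)])) (BT.leaf (.emul [(nat_lit 59), (nat_lit 372)]))) (BT.node (nat_lit 375) (BT.leaf (.emul [(nat_lit 78), (nat_lit 373)])) (BT.leaf (.nmul (nat_lit 367) [(nat_lit 0)]))))) (BT.node (nat_lit 380) (BT.node (nat_lit 378) (BT.node (nat_lit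 377) (BT.leaf (.nmul (nat_lit 375) [(nat_lit 0)])) (BT.leaf (.nmul (nat_lit 376) [(nat_lit 0)]))) (BT.node (nat_lit 379) (BT.leaf (.nmul (nat_lit 370) [(nat_lit 40)])) (BT.leaf (.nmul (nat_lit 378) [(nat_lit 26)])))) (BT.node (nat_lit 382) (BT.node (nat_lit 381) (BT.leaf (.nmul (nat_lit 379) [(nat_lit 40)])) (BT.leaf (.emul [(nat_lit 78), (nat_lit 167)]))) (BT.node (nat_lit 383) (BT.leaf (.emul [(nat_lit 59), (nat_lit 381)])) (BT.leaf (.emul [(nat_lit 78), (nat_lit 147)]))))))))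
noncomputable def hF384 : BT Fc := (BT.node (nat_lit 416) (BT.node (nat_lit 400) (BT.node (nat_lit 392) (BT.node (nat_lit 388) (BT.node (nat_lit 386) (BT.node (nat_lit 385) (BT.leaf ⟨(nat_lit 1), (nat_lit 0), (nat_lit 0), (nat_lit 0x123bce830030141278148200404872a), (nat_lit 0x123bce830030141278148200404872a), (nat_lit 0)⟩) (BT.leaf ⟨(nat_lit 3), (nat_lit 3), (nat_lit 3), (nat_lit 0x7d6a5eef1f4db1c55a632a3561e9dd), (nat_lit 0x1f350f96fe0d6a020ba35f2100ca842), (nat_lit 0)⟩)) (BT.node (nat_lit 387) (BT.leaf ⟨(nat_lit 1), (nat_lit 0), (nat_lit 0), (nat_lit 0x21279fc61105556f98090020786fba), (nat_lit 0x21279fc61105556f98090020786fba), (nat_lit 0)⟩) (BT.leaf ⟨(nat_lit 1), (nat_lit 0), (nat_lit 0), (nat_lit 0x45f9a1091c1439501406004372463), (nat_lit 0x45f9a1091c1439501406004372463), (nat_lit 0)⟩))) (BT.node (nat_lit 390) (BT.node (nat_lit 389) (BT.leaf ⟨(nat_lit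 1), (nat_lit 0), (nat_lit 0), (nat_lit 0x4008435fa00356b9901772600812e3), (nat_lit 0x4008435fa00356b9901772600812e3), (nat_lit 0)⟩) (BT.leaf ⟨(nat_lit 1), (nat_lit 0), (nat_lit 0), (nat_lit 0x4b820a5e802405009d48e420404be2), (nat_lit 0x4b820a5e802405009d48e420404be2), (nat_lit 0)⟩)) (BT.node (nat_lit 391) (BT.leaf ⟨(nat_lit 1), (nat_lit 0), (nat_lit 0), (nat_lit 0x1a4e022e89bd8ebf8f0064b5f0f38), (nat_lit 0x1a4e022e89bd8ebf8f0064b5f0f38), (nat_lit 0)⟩) (BT.leaf ⟨(nat_lit 1), (nat_lit 0), (nat_lit 0), (nat_lit 0x17b24d1d100a05006044048013c4884), (nat_lit 0x17b24d1d100a05006044048013c4884), (nat_lit 0)⟩)))) (BT.node (nat_lit 396) (BT.node (nat_lit 394) (BT.node (nat_lit 393) (BT.leaf ⟨(nat_lit 1), (nat_lit 0), (nat_lit 0), (nat_lit 0x17a8bb5e0b9182e741e887beded42d2), (nat_lit 0x17a8bb5e0b9182e741e887beded42d2), (nat_lit 0)⟩) (BT.leaf ⟨(nat_lit 1), (nat_lit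 0), (nat_lit 0), (nat_lit 0x1a4e1023afe3fa26f60144b601082), (nat_lit 0x1a4e1023afe3fa26f60144b601082), (nat_lit 0)⟩)) (BT.node (nat_lit 395) (BT.leaf ⟨(nat_lit 1), (nat_lit 0), (nat_lit 0), (nat_lit 0x17b24d742018110028142080137873e), (nat_lit 0x17b24d742018110028142080137873e), (nat_lit 0)⟩) (BT.leaf ⟨(nat_lit 1), (nat_lit 0), (nat_lit 0), (nat_lit 0x17a8bb5e99d07a2e460b55dedefc568), (nat_lit 0x17a8bb5e99d07a2e460b55dedefc568), (nat_lit 0)⟩))) (BT.node (nat_lit 398) (BT.node (nat_lit 397) (BT.leaf ⟨(nat_lit 2), (nat_lit 3), (nat_lit 3), (nat_lit 0xf8bbeae37e782de1f909b2569f0be7), (nat_lit 0), (nat_lit 0)⟩) (BT.leaf ⟨(nat_lit 1), (nat_lit 0), (nat_lit 0), (nat_lit 0x10cdff3358f63b7c86730e7b2a79b49), (nat_lit 0x10cdff3358f63b7c86730e7b2a79b49), (nat_lit 0)⟩)) (BT.node (nat_lit 399) (BT.leaf ⟨(nat_lit 1), (nat_lit 0), (nat_lit 0), (nat_lit 0x8da8b9e3efbf8df59bc78782df9f90),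 (nat_lit 0x8da8b9e3efbf8df59bc78782df9f90), (nat_lit 0)⟩) (BT.leaf ⟨(nat_lit 1), (nat_lit 0), (nat_lit 0), (nat_lit 0x17a8cdd6887a7a2f060b5a5edef45e9), (nat_lit 0x17a8cdd6887a7a2f060b5a5edef45e9), (nat_lit 0)⟩))))) (BT.node (nat_lit 408) (BT.node (nat_lit 404) (BT.node (nat_lit 402) (BT.node (nat_lit 401) (BT.leaf ⟨(nat_lit 1), (nat_lit 0), (nat_lit 0), (nat_lit 0x195df38015bd88178f1044b52e822), (nat_lit 0x195df38015bd88178f1044b52e822), (nat_lit 0)⟩) (BT.leaf ⟨(nat_lit 1), (nat_lit 0), (nat_lit 0), (nat_lit 0x17b23b884208053a1044e7c010959d1), (nat_lit 0x17b23b884208053a1044e7c010959d1), (nat_lit 0)⟩)) (BT.node (nat_lit 403) (BT.leaf ⟨(nat_lit 1), (nat_lit 0), (nat_lit 0), (nat_lit 0x17aba8ad255d82ef49e8ad1edef45e0), (nat_lit 0x17aba8ad255d82ef49e8ad1edef45e0), (nat_lit 0)⟩) (BT.leaf ⟨(nat_lit 1), (nat_lit 0), (nat_lit 0), (nat_lit 0x1a38882007e3c116f6e704b52e902),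 (nat_lit 0x1a38882007e3c116f6e704b52e902), (nat_lit 0)⟩))) (BT.node (nat_lit 406) (BT.node (nat_lit 405) (BT.leaf ⟨(nat_lit 3), (nat_lit 3), (nat_lit 3), (nat_lit 0x14d3c2e8df9ba8bce8b76265e7c4bfe), (nat_lit 0x1bc0d94ab4d5bdb5a7db50fbf37a6e4), (nat_lit 0)⟩) (BT.leaf ⟨(nat_lit 1), (nat_lit 0), (nat_lit 0), (nat_lit 0x17a50092ef18404089d400a207a3ef5), (nat_lit 0x17a50092ef18404089d400a207a3ef5), (nat_lit 0)⟩)) (BT.node (nat_lit 407) (BT.leaf ⟨(nat_lit 1), (nat_lit 0), (nat_lit 0), (nat_lit 0x89100200c1d99e1828b91c6810830), (nat_lit 0x89100200c1d99e1828b91c6810830), (nat_lit 0)⟩) (BT.leaf ⟨(nat_lit 1), (nat_lit 0), (nat_lit 0), (nat_lit 0x745eab8abaa7532c0d53ae554faa36), (nat_lit 0x745eab8abaa7532c0d53ae554faa36), (nat_lit 0)⟩)))) (BT.node (nat_lit 412) (BT.node (nat_lit 410) (BT.node (nat_lit 409) (BT.leaf ⟨(nat_lit 1), (nat_lit 0), (nat_lit 0), (nat_lit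 0x1a35dcb5fa0035490101210600822e3), (nat_lit 0x1a35dcb5fa0035490101210600822e3), (nat_lit 0)⟩) (BT.leaf ⟨(nat_lit 1), (nat_lit 0), (nat_lit 0), (nat_lit 0x1b92269cedf9bdb7afdbe425e58e6d4), (nat_lit 0x1b92269cedf9bdb7afdbe425e58e6d4), (nat_lit 0)⟩)) (BT.node (nat_lit 411) (BT.leaf ⟨(nat_lit 1), (nat_lit 0), (nat_lit 0), (nat_lit 0xfce3189022005018010030140091c5), (nat_lit 0xfce3189022005018010030140091c5), (nat_lit 0)⟩) (BT.leaf ⟨(nat_lit 1), (nat_lit 0), (nat_lit 0), (nat_lit 0x11b8ad4d994b82d1b1bc5c7f8df3beb), (nat_lit 0x11b8ad4d994b82d1b1bc5c7f8df3beb), (nat_lit 0)⟩))) (BT.node (nat_lit 414) (BT.node (nat_lit 413) (BT.leaf ⟨(nat_lit 1), (nat_lit 0), (nat_lit 0), (nat_lit 0x1f35ff70df19e3fc2ea21965e532e8d), (nat_lit 0x1f35ff70df19e3fc2ea21965e532e8d), (nat_lit 0)⟩) (BT.leaf ⟨(nat_lit 2), (nat_lit 2), (nat_lit 2), (nat_lit 0x398de3705be97f167b7aca87e55dd2),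 (nat_lit 0), (nat_lit 0)⟩)) (BT.node (nat_lit 415) (BT.leaf ⟨(nat_lit 2), (nat_lit 2), (nat_lit 2), (nat_lit 0x10cf39d739e6d263199bd951ce39287), (nat_lit 0), (nat_lit 0)⟩) (BT.leaf ⟨(nat_lit 2), (nat_lit 2), (nat_lit 2), (nat_lit 0x401813f120aa7ab5f80a1ca809011), (nat_lit 0), (nat_lit 0)⟩)))))) (BT.node (nat_lit 432) (BT.node (nat_lit 424) (BT.node (nat_lit 420) (BT.node (nat_lit 418) (BT.node (nat_lit 417) (BT.leaf ⟨(nat_lit 2), (nat_lit 2), (nat_lit 2), (nat_lit 0x11ef165739e7b2a3b8ed8e79cdff5a6), (nat_lit 0), (nat_lit 0)⟩) (BT.leaf ⟨(nat_lit 2), (nat_lit 2), (nat_lit 2), (nat_lit 0x813a112bde0051f38044b6110e8806), (nat_lit 0), (nat_lit 0)⟩)) (BT.node (nat_lit 419) (BT.leaf ⟨(nat_lit 2), (nat_lit 2), (nat_lit 2), (nat_lit 0xb4bf44e8ad07a2f660bbf1edd32de9), (nat_lit 0), (nat_lit 0)⟩) (BT.leaf ⟨(nat_lit 2), (nat_lit 2), (nat_lit 2), (nat_lit 0x17ea33005019cd200b9409a7a7a201),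 (nat_lit 0), (nat_lit 0)⟩))) (BT.node (nat_lit 422) (BT.node (nat_lit 421) (BT.leaf ⟨(nat_lit 1), (nat_lit 0), (nat_lit 0), (nat_lit 0x315e92b00c051f3844bd8010e8ef0), (nat_lit 0x315e92b00c051f3844bd8010e8ef0), (nat_lit 0)⟩) (BT.leaf ⟨(nat_lit 1), (nat_lit 0), (nat_lit 0), (nat_lit 0x1e75ff78516fa8b86f8fd1a5e5328cb), (nat_lit 0x1e75ff78516fa8b86f8fd1a5e5328cb), (nat_lit 0)⟩)) (BT.node (nat_lit 423) (BT.leaf ⟨(nat_lit 1), (nat_lit 0), (nat_lit 0), (nat_lit 0x10901744045bd8ebf8f0064b52e80a), (nat_lit 0x10901744045bd8ebf8f0064b52e80a), (nat_lit 0)⟩) (BT.leaf ⟨(nat_lit 1), (nat_lit 0), (nat_lit 0), (nat_lit 0x1011020053a20500604404801095904), (nat_lit 0x1011020053a20500604404801095904), (nat_lit 0)⟩)))) (BT.node (nat_lit 428) (BT.node (nat_lit 426) (BT.node (nat_lit 425) (BT.leaf ⟨(nat_lit 1), (nat_lit 0), (nat_lit 0), (nat_lit 0xc73f45c8bc182e741e887bedef42ae),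 (nat_lit 0xc73f45c8bc182e741e887bedef42ae), (nat_lit 0)⟩) (BT.leaf ⟨(nat_lit 1), (nat_lit 0), (nat_lit 0), (nat_lit 0x49011d7205e3fa26f60144b52e803), (nat_lit 0x49011d7205e3fa26f60144b52e803), (nat_lit 0)⟩)) (BT.node (nat_lit 427) (BT.leaf ⟨(nat_lit 1), (nat_lit 0), (nat_lit 0), (nat_lit 0xf9d0200ce841100281420801095824), (nat_lit 0xf9d0200ce841100281420801095824), (nat_lit 0)⟩) (BT.leaf ⟨(nat_lit 1), (nat_lit 0), (nat_lit 0), (nat_lit 0x997f44e8bd27a2e460b55dedef443d), (nat_lit 0x997f44e8bd27a2e460b55dedef443d), (nat_lit 0)⟩))) (BT.node (nat_lit 430) (BT.node (nat_lit 429) (BT.leaf ⟨(nat_lit 3), (nat_lit 3), (nat_lit 3), (nat_lit 0x1cf89584400af9c0200c00dd0a02104), (nat_lit 0xf0e8be0b7d6e8df9ae3f20f8bf1ca5), (nat_lit 0)⟩) (BT.leaf ⟨(nat_lit 2), (nat_lit 3), (nat_lit 3), (nat_lit 0xdb11b19538a3572c1551f4753779d1), (nat_lit 0), (nat_lit 0)⟩)) (BT.node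 (nat_lit 431) (BT.leaf ⟨(nat_lit 2), (nat_lit 3), (nat_lit 3), (nat_lit 0xae4803e34be1037a00425e04004400), (nat_lit 0), (nat_lit 0)⟩) (BT.leaf ⟨(nat_lit 2), (nat_lit 3), (nat_lit 3), (nat_lit 0x7151b3d56d835749955dde7507d5a6), (nat_lit 0), (nat_lit 0)⟩))))) (BT.node (nat_lit 440) (BT.node (nat_lit 436) (BT.node (nat_lit 434) (BT.node (nat_lit 433) (BT.leaf ⟨(nat_lit 1), (nat_lit 0), (nat_lit 0), (nat_lit 0xe58732396d82e558e27bffb295cbb9), (nat_lit 0xe58732396d82e558e27bffb295cbb9), (nat_lit 0)⟩) (BT.leaf ⟨(nat_lit 1), (nat_lit 0), (nat_lit 0), (nat_lit 0x17a100008e8c040ea8401000137a020), (nat_lit 0x17a100008e8c040ea8401000137a020), (nat_lit 0)⟩)) (BT.node (nat_lit 435) (BT.leaf ⟨(nat_lit 1), (nat_lit 0), (nat_lit 0), (nat_lit 0x9742fb5f4bc6f12be5facbedd27b8a), (nat_lit 0x9742fb5f4bc6f12be5facbedd27b8a), (nat_lit 0)⟩) (BT.leaf ⟨(nat_lit 1), (nat_lit 0),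 (nat_lit 0), (nat_lit 0x4ad97e6921fa8817fdb35e4b566127), (nat_lit 0x4ad97e6921fa8817fdb35e4b566127), (nat_lit 0)⟩))) (BT.node (nat_lit 438) (BT.node (nat_lit 437) (BT.leaf ⟨(nat_lit 1), (nat_lit 0), (nat_lit 0), (nat_lit 0x1bd143efc39dbdb7afdbe425e57a1b2), (nat_lit 0x1bd143efc39dbdb7afdbe425e57a1b2), (nat_lit 0)⟩) (BT.leaf ⟨(nat_lit 1), (nat_lit 0), (nat_lit 0), (nat_lit 0x93d549101200501801003014372011), (nat_lit 0x93d549101200501801003014372011), (nat_lit 0)⟩)) (BT.node (nat_lit 439) (BT.leaf ⟨(nat_lit 1), (nat_lit 0), (nat_lit 0), (nat_lit 0xb33c84a59b382d1b1bc5c7f8df9bc3), (nat_lit 0xb33c84a59b382d1b1bc5c7f8df9bc3), (nat_lit 0)⟩) (BT.leaf ⟨(nat_lit 1), (nat_lit 0), (nat_lit 0), (nat_lit 0x1e369a78ce1be3fc2ea21965e637658), (nat_lit 0x1e369a78ce1be3fc2ea21965e637658), (nat_lit 0)⟩)))) (BT.node (nat_lit 444) (BT.node (nat_lit 442) (BT.node (nat_lit 441)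 (BT.leaf ⟨(nat_lit 1), (nat_lit 0), (nat_lit 0), (nat_lit 0x87e19860ef4110a0040082143e6848), (nat_lit 0x87e19860ef4110a0040082143e6848), (nat_lit 0)⟩) (BT.leaf ⟨(nat_lit 2), (nat_lit 3), (nat_lit 3), (nat_lit 0x12acbcfdbdc9bf135674fe9bd67a6f0), (nat_lit 0), (nat_lit 0)⟩)) (BT.node (nat_lit 443) (BT.leaf ⟨(nat_lit 1), (nat_lit 0), (nat_lit 0), (nat_lit 0xfcd081101200500c010060143ce811), (nat_lit 0xfcd081101200500c010060143ce811), (nat_lit 0)⟩) (BT.leaf ⟨(nat_lit 1), (nat_lit 0), (nat_lit 0), (nat_lit 0xfac0c2b14100a093f4e015cc8eec7b), (nat_lit 0xfac0c2b14100a093f4e015cc8eec7b), (nat_lit 0)⟩))) (BT.node (nat_lit 446) (BT.node (nat_lit 445) (BT.leaf ⟨(nat_lit 1), (nat_lit 0), (nat_lit 0), (nat_lit 0x1a3571d7360035480101208600843b9), (nat_lit 0x1a3571d7360035480101208600843b9), (nat_lit 0)⟩) (BT.leaf ⟨(nat_lit 1), (nat_lit 0), (nat_lit 0), (nat_lit 0x85f1201570404971d4f1820420c72),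 (nat_lit 0x85f1201570404971d4f1820420c72), (nat_lit 0)⟩)) (BT.node (nat_lit 447) (BT.leaf ⟨(nat_lit 1), (nat_lit 0), (nat_lit 0), (nat_lit 0x7451b36cb4c753778d53ea554ebbd5), (nat_lit 0x7451b36cb4c753778d53ea554ebbd5), (nat_lit 0)⟩) (BT.leaf ⟨(nat_lit 3), (nat_lit 3), (nat_lit 3), (nat_lit 0x1ae54cbb9572ae11cabd57656b650e6), (nat_lit 0x78d10300c008074f7e8a8c90140210), (nat_lit 0)⟩)))))))
noncomputable def hP384 : BT Pf := (BT.node (nat_lit 416) (BT.node (nat_lit 400) (BT.node (nat_lit 392) (BT.node (nat_lit 388) (BT.node (nat_lit 386) (BT.node (nat_lit 385) (BT.leaf (.nmul (nat_lit 193) [(nat_lit 0)])) (BT.leaf (.rel (nat_lit 281) (nat_lit 0) [(nat_lit 380), (nat_lit 377)] [⟨(nat_lit 268), [(nat_lit 382), (nat_lit 383)], [(nat_lit 361), (nat_lit 384)]⟩]))) (BT.node (nat_lit 387) (BT.leaf (.nmul (nat_lit 315) [(nat_lit 0)])) (BT.leaf (.nmul (nat_lit 386)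 [(nat_lit 0)])))) (BT.node (nat_lit 390) (BT.node (nat_lit 389) (BT.leaf (.nmul (nat_lit 387) [(nat_lit 0)])) (BT.leaf (.nmul (nat_lit 388) [(nat_lit 1)]))) (BT.node (nat_lit 391) (BT.leaf (.nmul (nat_lit 365) [(nat_lit 26)])) (BT.leaf (.nmul (nat_lit 390) [(nat_lit 40)]))))) (BT.node (nat_lit 396) (BT.node (nat_lit 394) (BT.node (nat_lit 393) (BT.leaf (.nmul (nat_lit 391) [(nat_lit 40)])) (BT.leaf (.nmul (nat_lit 392) [(nat_lit 40)]))) (BT.node (nat_lit 395) (BT.leaf (.nmul (nat_lit 393) [(nat_lit 40)])) (BT.leaf (.nmul (nat_lit 394) [(nat_lit 40)])))) (BT.node (nat_lit 398) (BT.node (nat_lit 397) (BT.leaf (.emul [(nat_lit 280), (nat_lit 348)])) (BT.leaf (.nmul (nat_lit 178) [(nat_lit 0)]))) (BT.node (nat_lit 399) (BT.leaf (.nmul (nat_lit 397) [(nat_lit 0)])) (BT.leaf (.nmul (nat_lit 210) [(nat_lit 26)])))))) (BT.node (nat_lit 408) (BT.node (nat_lit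 404) (BT.node (nat_lit 402) (BT.node (nat_lit 401) (BT.leaf (.nmul (nat_lit 399) [(nat_lit 40)])) (BT.leaf (.nmul (nat_lit 400) [(nat_lit 40)]))) (BT.node (nat_lit 403) (BT.leaf (.nmul (nat_lit 401) [(nat_lit 40)])) (BT.leaf (.nmul (nat_lit 402) [(nat_lit 40)])))) (BT.node (nat_lit 406) (BT.node (nat_lit 405) (BT.leaf (.rel (nat_lit 385) (nat_lit 0) [(nat_lit 395), (nat_lit 389)] [⟨(nat_lit 385), [(nat_lit 396), (nat_lit 311)], [(nat_lit 403), (nat_lit 398)]⟩])) (BT.leaf (.nmul (nat_lit 80) [(nat_lit 1)]))) (BT.node (nat_lit 407) (BT.leaf (.nmul (nat_lit 405) [(nat_lit 40)])) (BT.leaf (.nmul (nat_lit 406) [(nat_lit 40)]))))) (BT.node (nat_lit 412) (BT.node (nat_lit 410) (BT.node (nat_lit 409) (BT.leaf (.nmul (nat_lit 407) [(nat_lit 1)])) (BT.leaf (.nmul (nat_lit 347) [(nat_lit 26)]))) (BT.node (nat_lit 411) (BT.leaf (.nmul (nat_lit 409) [(nat_lit 40)]))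 (BT.leaf (.nmul (nat_lit 410) [(nat_lit 40)])))) (BT.node (nat_lit 414) (BT.node (nat_lit 413) (BT.leaf (.nmul (nat_lit 411) [(nat_lit 40)])) (BT.leaf (.emul [(nat_lit 124), (nat_lit 267)]))) (BT.node (nat_lit 415) (BT.leaf (.emul [(nat_lit 267), (nat_lit 413)])) (BT.leaf (.emul [(nat_lit 267), (nat_lit 414)]))))))) (BT.node (nat_lit 432) (BT.node (nat_lit 424) (BT.node (nat_lit 420) (BT.node (nat_lit 418) (BT.node (nat_lit 417) (BT.leaf (.emul [(nat_lit 165), (nat_lit 190)])) (BT.leaf (.emul [(nat_lit 165), (nat_lit 416)]))) (BT.node (nat_lit 419) (BT.leaf (.emul [(nat_lit 140), (nat_lit 124)])) (BT.leaf (.emul [(nat_lit 124), (nat_lit 418)])))) (BT.node (nat_lit 422) (BT.node (nat_lit 421) (BT.leaf (.nmul (nat_lit 406) [(nat_lit 1)])) (BT.leaf (.nmul (nat_lit 221) [(nat_lit 40)]))) (BT.node (nat_lit 423) (BT.leaf (.nmul (nat_lit 421) [(nat_lit 26)]))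 (BT.leaf (.nmul (nat_lit 422) [(nat_lit 40)]))))) (BT.node (nat_lit 428) (BT.node (nat_lit 426) (BT.node (nat_lit 425) (BT.leaf (.nmul (nat_lit 423) [(nat_lit 40)])) (BT.leaf (.nmul (nat_lit 424) [(nat_lit 40)]))) (BT.node (nat_lit 427) (BT.leaf (.nmul (nat_lit 425) [(nat_lit 40)])) (BT.leaf (.nmul (nat_lit 426) [(nat_lit 40)])))) (BT.node (nat_lit 430) (BT.node (nat_lit 429) (BT.leaf (.rel (nat_lit 363) (nat_lit 2) [(nat_lit 412), (nat_lit 408)] [⟨(nat_lit 364), [(nat_lit 415), (nat_lit 417), (nat_lit 419)], [(nat_lit 427), (nat_lit 420)]⟩])) (BT.leaf (.emul [(nat_lit 290), (nat_lit 311)]))) (BT.node (nat_lit 431) (BT.leaf (.emul [(nat_lit 280), (nat_lit 429)])) (BT.leaf (.emul [(nat_lit 311), (nat_lit 430)])))))) (BT.node (nat_lit 440) (BT.node (nat_lit 436) (BT.node (nat_lit 434) (BT.node (nat_lit 433) (BT.leaf (.nmul (nat_lit 406) [(nat_lit 0)]))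 (BT.leaf (.nmul (nat_lit 240) [(nat_lit 26)]))) (BT.node (nat_lit 435) (BT.leaf (.nmul (nat_lit 433) [(nat_lit 40)])) (BT.leaf (.nmul (nat_lit 434) [(nat_lit 40)])))) (BT.node (nat_lit 438) (BT.node (nat_lit 437) (BT.leaf (.nmul (nat_lit 435) [(nat_lit 26)])) (BT.leaf (.nmul (nat_lit 436) [(nat_lit 40)]))) (BT.node (nat_lit 439) (BT.leaf (.nmul (nat_lit 437) [(nat_lit 40)])) (BT.leaf (.nmul (nat_lit 438) [(nat_lit 40)]))))) (BT.node (nat_lit 444) (BT.node (nat_lit 442) (BT.node (nat_lit 441) (BT.leaf (.nmul (nat_lit 439) [(nat_lit 40)])) (BT.leaf (.cmp (nat_lit 428) ⟨(nat_lit 428), [(nat_lit 348), (nat_lit 431)], [(nat_lit 440), (nat_lit 432)]⟩))) (BT.node (nat_lit 443) (BT.leaf (.nmul (nat_lit 360) [(nat_lit 40)])) (BT.leaf (.nmul (nat_lit 285) [(nat_lit 0)])))) (BT.node (nat_lit 446) (BT.node (nat_lit 445) (BT.leaf (.nmul (nat_lit 443) [(nat_lit 40)]))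 (BT.leaf (.nmul (nat_lit 444) [(nat_lit 1)]))) (BT.node (nat_lit 447) (BT.leaf (.nmul (nat_lit 445) [(nat_lit 1)])) (BT.leaf (.rel (nat_lit 428) (nat_lit 0) [(nat_lit 442), (nat_lit 112)] [⟨(nat_lit 428), [(nat_lit 348), (nat_lit 280)], [(nat_lit 187), (nat_lit 446)]⟩]))))))))
noncomputable def hF448 : BT Fc := (BT.node (nat_lit 480) (BT.node (nat_lit 464) (BT.node (nat_lit 456) (BT.node (nat_lit 452) (BT.node (nat_lit 450) (BT.node (nat_lit 449) (BT.leaf ⟨(nat_lit 1), (nat_lit 0), (nat_lit 0), (nat_lit 0x4afc48e8c6050e281002214018210), (nat_lit 0x4afc48e8c6050e281002214018210), (nat_lit 0)⟩) (BT.leaf ⟨(nat_lit 1), (nat_lit 0), (nat_lit 0), (nat_lit 0xbf235005c6404a0180200355dcb5f), (nat_lit 0xbf235005c6404a0180200355dcb5f), (nat_lit 0)⟩)) (BT.node (nat_lit 451) (BT.leaf ⟨(nat_lit 2), (nat_lit 3), (nat_lit 3), (nat_lit 0x1403fa1403003571d10160041346910),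 (nat_lit 0), (nat_lit 0)⟩) (BT.leaf ⟨(nat_lit 2), (nat_lit 3), (nat_lit 3), (nat_lit 0x4015e80201000400493c97f7a400), (nat_lit 0), (nat_lit 0)⟩))) (BT.node (nat_lit 454) (BT.node (nat_lit 453) (BT.leaf ⟨(nat_lit 2), (nat_lit 3), (nat_lit 3), (nat_lit 0x1bc27a6f6ce9bf3fa6f539cbd390cab), (nat_lit 0), (nat_lit 0)⟩) (BT.leaf ⟨(nat_lit 1), (nat_lit 0), (nat_lit 0), (nat_lit 0x9945bf9df9be3f2c6a2f185e69a789), (nat_lit 0x9945bf9df9be3f2c6a2f185e69a789), (nat_lit 0)⟩)) (BT.node (nat_lit 455) (BT.leaf ⟨(nat_lit 2), (nat_lit 3), (nat_lit 1), (nat_lit 0x1cc83e63ae702df9df3aacbde99d71a), (nat_lit 0), (nat_lit 0)⟩) (BT.leaf ⟨(nat_lit 3), (nat_lit 1), (nat_lit 1), (nat_lit 0x609380a013bf0eec0801095c84088), (nat_lit 0x1cc83e63ae702df9df3aacbde99d71a), (nat_lit 0)⟩)))) (BT.node (nat_lit 460) (BT.node (nat_lit 458) (BT.node (nat_lit 457) (BT.leaf ⟨(nat_lit 3), (nat_lit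 1), (nat_lit 2), (nat_lit 0x208eb92d045ce08100abd5d10036f6), (nat_lit 0x80102202600821405467aa2e69d4f4), (nat_lit 0)⟩) (BT.leaf ⟨(nat_lit 2), (nat_lit 1), (nat_lit 1), (nat_lit 0x3994cd3457789d54eca57a2e5b644d), (nat_lit 0), (nat_lit 0)⟩)) (BT.node (nat_lit 459) (BT.leaf ⟨(nat_lit 2), (nat_lit 1), (nat_lit 1), (nat_lit 0x15942fadf71597d27fb74be6f12ea5e), (nat_lit 0), (nat_lit 0)⟩) (BT.leaf ⟨(nat_lit 2), (nat_lit 1), (nat_lit 1), (nat_lit 0x97d5c880200103a3010e74010011d5), (nat_lit 0), (nat_lit 0)⟩))) (BT.node (nat_lit 462) (BT.node (nat_lit 461) (BT.leaf ⟨(nat_lit 2), (nat_lit 1), (nat_lit 1), (nat_lit 0x78d082015019cd0469ea8c2e501300), (nat_lit 0), (nat_lit 0)⟩) (BT.leaf ⟨(nat_lit 2), (nat_lit 1), (nat_lit 1), (nat_lit 0xaf6ffb6c4722e75ce27ea3b295dab8), (nat_lit 0), (nat_lit 0)⟩)) (BT.node (nat_lit 463) (BT.leaf ⟨(nat_lit 2), (nat_lit 1), (nat_lit 1),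 (nat_lit 0x114ccdd739e7b2a198ed8c79ce38da6), (nat_lit 0), (nat_lit 0)⟩) (BT.leaf ⟨(nat_lit 2), (nat_lit 1), (nat_lit 1), (nat_lit 0x1ceaf40800020423980493c10001100), (nat_lit 0), (nat_lit 0)⟩))))) (BT.node (nat_lit 472) (BT.node (nat_lit 468) (BT.node (nat_lit 466) (BT.node (nat_lit 465) (BT.leaf ⟨(nat_lit 2), (nat_lit 1), (nat_lit 1), (nat_lit 0x151bf42017aba79000b94099cd01280), (nat_lit 0), (nat_lit 0)⟩) (BT.leaf ⟨(nat_lit 2), (nat_lit 2), (nat_lit 2), (nat_lit 0xae5b63b95703985cf512b5b297cdff), (nat_lit 0), (nat_lit 0)⟩)) (BT.node (nat_lit 467) (BT.leaf ⟨(nat_lit 4), (nat_lit 0), (nat_lit 0), (nat_lit 0x1001001001001001001001001001001), (nat_lit 0), (nat_lit 0)⟩) (BT.leaf ⟨(nat_lit 5), (nat_lit 0), (nat_lit 0), (nat_lit 0x1), (nat_lit 0), (nat_lit 0)⟩))) (BT.node (nat_lit 470) (BT.node (nat_lit 469) (BT.leaf ⟨(nat_lit 4), (nat_lit 1), (nat_lit 0),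 (nat_lit 0x609380a013bf0eec0801095c84088), (nat_lit 0), (nat_lit 0)⟩) (BT.leaf ⟨(nat_lit 4), (nat_lit 3), (nat_lit 0), (nat_lit 0x17e3a8dc8bd37a3059769d10f58e5ea), (nat_lit 0), (nat_lit 0)⟩)) (BT.node (nat_lit 471) (BT.leaf ⟨(nat_lit 4), (nat_lit 5), (nat_lit 0), (nat_lit 0x1678847f4205400c01109d041090101), (nat_lit 0), (nat_lit 0)⟩) (BT.leaf ⟨(nat_lit 4), (nat_lit 9), (nat_lit 0), (nat_lit 0xe930acd9e70b485b87ce35ee99d1ce), (nat_lit 0), (nat_lit 0)⟩)))) (BT.node (nat_lit 476) (BT.node (nat_lit 474) (BT.node (nat_lit 473) (BT.leaf ⟨(nat_lit 4), (nat_lit 13), (nat_lit 0), (nat_lit 0x1d9890420da80c010cbee347d5e1822), (nat_lit 0), (nat_lit 0)⟩) (BT.leaf ⟨(nat_lit 4), (nat_lit 20), (nat_lit 0), (nat_lit 0x19a6ae12dfb6b307d4c727edc30aea2), (nat_lit 0), (nat_lit 0)⟩)) (BT.node (nat_lit 475) (BT.leaf ⟨(nat_lit 4), (nat_lit 28), (nat_lit 0), (nat_lit 0x17e10872af3a1420875627e240096e4),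 (nat_lit 0), (nat_lit 0)⟩) (BT.leaf ⟨(nat_lit 4), (nat_lit 42), (nat_lit 0), (nat_lit 0x66eb9a877fd1c679f908671deae5a6), (nat_lit 0), (nat_lit 0)⟩))) (BT.node (nat_lit 478) (BT.node (nat_lit 477) (BT.leaf ⟨(nat_lit 4), (nat_lit 58), (nat_lit 0), (nat_lit 0xe8d7c96f32a103bd5a886687f5a7cd), (nat_lit 0), (nat_lit 0)⟩) (BT.leaf ⟨(nat_lit 4), (nat_lit 2), (nat_lit 0), (nat_lit 0x84339a80402c002fa409e878d00220), (nat_lit 0), (nat_lit 0)⟩)) (BT.node (nat_lit 479) (BT.leaf ⟨(nat_lit 4), (nat_lit 4), (nat_lit 0), (nat_lit 0x1ad18e6f4da89ab7b6e49e9bc33a6f5), (nat_lit 0), (nat_lit 0)⟩) (BT.leaf ⟨(nat_lit 4), (nat_lit 6), (nat_lit 0), (nat_lit 0x10ceae4728a73ce3bd731daffb39e2c), (nat_lit 0), (nat_lit 0)⟩)))))) (BT.node (nat_lit 496) (BT.node (nat_lit 488) (BT.node (nat_lit 484) (BT.node (nat_lit 482) (BT.node (nat_lit 481) (BT.leaf ⟨(nat_lit 4), (nat_lit 10), (nat_lit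 0), (nat_lit 0x1679d269ed82f624f4de1dbdf64fcbe), (nat_lit 0), (nat_lit 0)⟩) (BT.leaf ⟨(nat_lit 5), (nat_lit 1), (nat_lit 0), (nat_lit 0x400000000000403), (nat_lit 0), (nat_lit 0)⟩)) (BT.node (nat_lit 483) (BT.leaf ⟨(nat_lit 2), (nat_lit 1), (nat_lit 1), (nat_lit 0x13a2b990020835723101240603fa110), (nat_lit 0), (nat_lit 0)⟩) (BT.leaf ⟨(nat_lit 2), (nat_lit 1), (nat_lit 1), (nat_lit 0x15a04028047260044155f74204d7c1e), (nat_lit 0), (nat_lit 0)⟩))) (BT.node (nat_lit 486) (BT.node (nat_lit 485) (BT.leaf ⟨(nat_lit 2), (nat_lit 1), (nat_lit 1), (nat_lit 0x15a0d7a399e620460180100557dd41e), (nat_lit 0), (nat_lit 0)⟩) (BT.leaf ⟨(nat_lit 2), (nat_lit 1), (nat_lit 1), (nat_lit 0x15a3dd4f35005544108135e6004041e), (nat_lit 0), (nat_lit 0)⟩)) (BT.node (nat_lit 487) (BT.leaf ⟨(nat_lit 2), (nat_lit 1), (nat_lit 1), (nat_lit 0x1720120a03ea0a14cf1a8a7d9811021), (nat_lit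 0), (nat_lit 0)⟩) (BT.leaf ⟨(nat_lit 2), (nat_lit 1), (nat_lit 1), (nat_lit 0xf84812025764b40578f045bd80149c), (nat_lit 0), (nat_lit 0)⟩)))) (BT.node (nat_lit 492) (BT.node (nat_lit 490) (BT.node (nat_lit 489) (BT.leaf ⟨(nat_lit 2), (nat_lit 1), (nat_lit 1), (nat_lit 0x5beae0fa35e4b487fdb24fa8a9782f), (nat_lit 0), (nat_lit 0)⟩) (BT.leaf ⟨(nat_lit 2), (nat_lit 1), (nat_lit 1), (nat_lit 0x1962377cdf3ba8a9a78f6265e7d6f89), (nat_lit 0), (nat_lit 0)⟩)) (BT.node (nat_lit 491) (BT.leaf ⟨(nat_lit 2), (nat_lit 1), (nat_lit 1), (nat_lit 0x481e1822da9c6a2982897dd98127ad), (nat_lit 0), (nat_lit 0)⟩) (BT.leaf ⟨(nat_lit 2), (nat_lit 1), (nat_lit 1), (nat_lit 0xaf558b96577b28ad627d722e55c44d), (nat_lit 0), (nat_lit 0)⟩))) (BT.node (nat_lit 494) (BT.node (nat_lit 493) (BT.leaf ⟨(nat_lit 2), (nat_lit 1), (nat_lit 1), (nat_lit 0x126a4b59e93e3b4bb62713da7a4e41e), (nat_lit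 0), (nat_lit 0)⟩) (BT.leaf ⟨(nat_lit 2), (nat_lit 1), (nat_lit 1), (nat_lit 0x8821010fda9d981071a0480a010822), (nat_lit 0), (nat_lit 0)⟩)) (BT.node (nat_lit 495) (BT.leaf ⟨(nat_lit 4), (nat_lit 21), (nat_lit 0), (nat_lit 0x15190458d9e94e82fa403c680508600), (nat_lit 0), (nat_lit 0)⟩) (BT.leaf ⟨(nat_lit 4), (nat_lit 29), (nat_lit 0), (nat_lit 0xe8de1bf3fc7df5f0ca53c6d8e37517), (nat_lit 0), (nat_lit 0)⟩))))) (BT.node (nat_lit 504) (BT.node (nat_lit 500) (BT.node (nat_lit 498) (BT.node (nat_lit 497) (BT.leaf ⟨(nat_lit 4), (nat_lit 45), (nat_lit 0), (nat_lit 0xbe5dc8e6d722e55eab9a68aef13aa9), (nat_lit 0), (nat_lit 0)⟩) (BT.leaf ⟨(nat_lit 4), (nat_lit 61), (nat_lit 0), (nat_lit 0x1e3637313f3a32cbcfcda69e32e938d), (nat_lit 0), (nat_lit 0)⟩)) (BT.node (nat_lit 499) (BT.leaf ⟨(nat_lit 4), (nat_lit 92), (nat_lit 0), (nat_lit 0x402b9d00220d7c80b00c8c355dc904), (nat_lit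 0), (nat_lit 0)⟩) (BT.leaf ⟨(nat_lit 4), (nat_lit 121), (nat_lit 0), (nat_lit 0x151b34dffe84ab9ec746c8dd11a3756), (nat_lit 0), (nat_lit 0)⟩))) (BT.node (nat_lit 502) (BT.node (nat_lit 501) (BT.leaf ⟨(nat_lit 4), (nat_lit 177), (nat_lit 0), (nat_lit 0x19cfc84638ee1ce38e2c3373ceb9c72), (nat_lit 0), (nat_lit 0)⟩) (BT.leaf ⟨(nat_lit 4), (nat_lit 234), (nat_lit 0), (nat_lit 0x1edef04e8bd2b4ba8fe83370f6fc5ec), (nat_lit 0), (nat_lit 0)⟩)) (BT.node (nat_lit 503) (BT.leaf ⟨(nat_lit 4), (nat_lit 344), (nat_lit 0), (nat_lit 0x174bd6f8ff18ff8bcfcdf3b4d05be8d), (nat_lit 0), (nat_lit 0)⟩) (BT.leaf ⟨(nat_lit 4), (nat_lit 439), (nat_lit 0), (nat_lit 0x142fc72a2208400a24ff3a24009011), (nat_lit 0), (nat_lit 0)⟩)))) (BT.node (nat_lit 508) (BT.node (nat_lit 506) (BT.node (nat_lit 505) (BT.leaf ⟨(nat_lit 4), (nat_lit 609), (nat_lit 0), (nat_lit 0x18087821240088504534412fbd6ed4),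 (nat_lit 0), (nat_lit 0)⟩) (BT.leaf ⟨(nat_lit 4), (nat_lit 756), (nat_lit 0), (nat_lit 0x19cea358d9e88029d2404402e500b00), (nat_lit 0), (nat_lit 0)⟩)) (BT.node (nat_lit 507) (BT.leaf ⟨(nat_lit 1), (nat_lit 0), (nat_lit 0), (nat_lit 0x151b34e46d27d395776668c1f3a17c6), (nat_lit 0x151b34e46d27d395776668c1f3a17c6), (nat_lit 0)⟩) (BT.leaf ⟨(nat_lit 5), (nat_lit 2), (nat_lit 0), (nat_lit 0x1000000000000000000000000000000000000000000000000000000000000000000000000000000000000000000000000000000000000000000000000000000000000000000000000000000000000000000000000000000000000000000001), (nat_lit 0), (nat_lit 0)⟩))) (BT.node (nat_lit 510) (BT.node (nat_lit 509) (BT.leaf ⟨(nat_lit 2), (nat_lit 2), (nat_lit 2), (nat_lit 0x1de8ca96f0850cc305a84801402021f), (nat_lit 0), (nat_lit 0)⟩) (BT.leaf ⟨(nat_lit 2), (nat_lit 2), (nat_lit 2), (nat_lit 0xae4ea900f1a042005e8041d1b9d473),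 (nat_lit 0), (nat_lit 0)⟩)) (BT.node (nat_lit 511) (BT.leaf ⟨(nat_lit 2), (nat_lit 2), (nat_lit 2), (nat_lit 0xac713bb989a3994ceca572569b6239), (nat_lit 0), (nat_lit 0)⟩) (BT.leaf ⟨(nat_lit 2), (nat_lit 2), (nat_lit 2), (nat_lit 0x1d46f44c74cbedef060b5a47a2f4b1c), (nat_lit 0), (nat_lit 0)⟩)))))))
noncomputable def hP448 : BT Pf := (BT.node (nat_lit 480) (BT.node (nat_lit 464) (BT.node (nat_lit 456) (BT.node (nat_lit 452) (BT.node (nat_lit 450) (BT.node (nat_lit 449) (BT.leaf (.nmul (nat_lit 368) [(nat_lit 0)])) (BT.leaf (.nmul (nat_lit 448) [(nat_lit 0)]))) (BT.node (nat_lit 451) (BT.leaf (.cmp (nat_lit 447) ⟨(nat_lit 428), [(nat_lit 348), (nat_lit 280)], [(nat_lit 379), (nat_lit 449)]⟩)) (BT.leaf (.emul [(nat_lit 314), (nat_lit 450)])))) (BT.node (nat_lit 454) (BT.node (nat_lit 453) (BT.leaf (.emul [(nat_lit 441), (nat_lit 451)])) (BT.leaf (.nmul (nat_lit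 153) [(nat_lit 40)]))) (BT.node (nat_lit 455) (BT.leaf (.cmp (nat_lit 404) ⟨(nat_lit 281), [(nat_lit 452)], [(nat_lit 164), (nat_lit 453)]⟩)) (BT.leaf (.trans (nat_lit 268) [] [(nat_lit 454)]))))) (BT.node (nat_lit 460) (BT.node (nat_lit 458) (BT.node (nat_lit 457) (BT.leaf (.trans (nat_lit 363) [(nat_lit 454)] [])) (BT.leaf (.emul [(nat_lit 44), (nat_lit 229)]))) (BT.node (nat_lit 459) (BT.leaf (.emul [(nat_lit 78), (nat_lit 170)])) (BT.leaf (.emul [(nat_lit 59), (nat_lit 458)])))) (BT.node (nat_lit 462) (BT.node (nat_lit 461) (BT.leaf (.emul [(nat_lit 78), (nat_lit 459)])) (BT.leaf (.emul [(nat_lit 59), (nat_lit 460)]))) (BT.node (nat_lit 463) (BT.leaf (.emul [(nat_lit 59), (nat_lit 461)])) (BT.leaf (.emul [(nat_lit 78), (nat_lit 462)])))))) (BT.node (nat_lit 472) (BT.node (nat_lit 468) (BT.node (nat_lit 466) (BT.node (nat_lit 465) (BT.leaf (.emul [(nat_lit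 78), (nat_lit 463)])) (BT.leaf (.cmp (nat_lit 456) ⟨(nat_lit 96), [(nat_lit 457), (nat_lit 464)], [(nat_lit 217), (nat_lit 366)]⟩))) (BT.node (nat_lit 467) (BT.leaf (.pt0)) (BT.leaf (.cov [] [⟨(nat_lit 41), (nat_lit 466), []⟩])))) (BT.node (nat_lit 470) (BT.node (nat_lit 469) (BT.leaf (.pt (nat_lit 466) (nat_lit 1))) (BT.leaf (.pt (nat_lit 468) (nat_lit 4)))) (BT.node (nat_lit 471) (BT.leaf (.pt (nat_lit 469) (nat_lit 1))) (BT.leaf (.pt (nat_lit 470) (nat_lit 4)))))) (BT.node (nat_lit 476) (BT.node (nat_lit 474) (BT.node (nat_lit 473) (BT.leaf (.pt (nat_lit 471) (nat_lit 1))) (BT.leaf (.pt (nat_lit 472) (nat_lit 3)))) (BT.node (nat_lit 475) (BT.leaf (.pt (nat_lit 473) (nat_lit 1))) (BT.leaf (.pt (nat_lit 474) (nat_lit 3))))) (BT.node (nat_lit 478) (BT.node (nat_lit 477) (BT.leaf (.pt (nat_lit 475) (nat_lit 1))) (BT.leaf (.pt (nat_lit 468) (nat_lit 3))))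 (BT.node (nat_lit 479) (BT.leaf (.pt (nat_lit 477) (nat_lit 1))) (BT.leaf (.pt (nat_lit 478) (nat_lit 3)))))))) (BT.node (nat_lit 496) (BT.node (nat_lit 488) (BT.node (nat_lit 484) (BT.node (nat_lit 482) (BT.node (nat_lit 481) (BT.leaf (.pt (nat_lit 479) (nat_lit 1))) (BT.leaf (.cov [] [⟨(nat_lit 42), (nat_lit 466), []⟩, ⟨(nat_lit 95), (nat_lit 476), []⟩, ⟨(nat_lit 96), (nat_lit 480), []⟩, ⟨(nat_lit 455), (nat_lit 468), []⟩]))) (BT.node (nat_lit 483) (BT.leaf (.emul [(nat_lit 43), (nat_lit 226)])) (BT.leaf (.emul [(nat_lit 78), (nat_lit 482)])))) (BT.node (nat_lit 486) (BT.node (nat_lit 485) (BT.leaf (.emul [(nat_lit 44), (nat_lit 483)])) (BT.leaf (.emul [(nat_lit 44), (nat_lit 484)]))) (BT.node (nat_lit 487) (BT.leaf (.emul [(nat_lit 59), (nat_lit 374)])) (BT.leaf (.emul [(nat_lit 485), (nat_lit 486)]))))) (BT.node (nat_lit 492) (BT.node (nat_lit 490)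 (BT.node (nat_lit 489) (BT.leaf (.emul [(nat_lit 59), (nat_lit 44)])) (BT.leaf (.emul [(nat_lit 43), (nat_lit 488)]))) (BT.node (nat_lit 491) (BT.leaf (.emul [(nat_lit 44), (nat_lit 489)])) (BT.leaf (.emul [(nat_lit 43), (nat_lit 490)])))) (BT.node (nat_lit 494) (BT.node (nat_lit 493) (BT.leaf (.emul [(nat_lit 59), (nat_lit 202)])) (BT.leaf (.emul [(nat_lit 491), (nat_lit 492)]))) (BT.node (nat_lit 495) (BT.leaf (.pt (nat_lit 472) (nat_lit 4))) (BT.leaf (.pt (nat_lit 494) (nat_lit 1))))))) (BT.node (nat_lit 504) (BT.node (nat_lit 500) (BT.node (nat_lit 498) (BT.node (nat_lit 497) (BT.leaf (.pt (nat_lit 495) (nat_lit 4))) (BT.leaf (.pt (nat_lit 496) (nat_lit 1)))) (BT.node (nat_lit 499) (BT.leaf (.pt (nat_lit 497) (nat_lit 3))) (BT.leaf (.pt (nat_lit 498) (nat_lit 1))))) (BT.node (nat_lit 502) (BT.node (nat_lit 501) (BT.leaf (.pt (nat_lit 499) (nat_lit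 3))) (BT.leaf (.pt (nat_lit 500) (nat_lit 1)))) (BT.node (nat_lit 503) (BT.leaf (.pt (nat_lit 501) (nat_lit 4))) (BT.leaf (.pt (nat_lit 502) (nat_lit 1)))))) (BT.node (nat_lit 508) (BT.node (nat_lit 506) (BT.node (nat_lit 505) (BT.leaf (.pt (nat_lit 503) (nat_lit 3))) (BT.leaf (.pt (nat_lit 504) (nat_lit 1)))) (BT.node (nat_lit 507) (BT.leaf (.nmul (nat_lit 255) [(nat_lit 1)])) (BT.leaf (.cov [] [⟨(nat_lit 125), (nat_lit 466), []⟩, ⟨(nat_lit 218), (nat_lit 505), [(nat_lit 264), (nat_lit 506)]⟩])))) (BT.node (nat_lit 510) (BT.node (nat_lit 509) (BT.leaf (.emul [(nat_lit 267), (nat_lit 465)])) (BT.leaf (.emul [(nat_lit 267), (nat_lit 508)]))) (BT.node (nat_lit 511) (BT.leaf (.emul [(nat_lit 165), (nat_lit 267)])) (BT.leaf (.emul [(nat_lit 124), (nat_lit 190)]))))))))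
noncomputable def hF512 : BT Fc := (BT.node (nat_lit 517) (BT.node (nat_lit 514) (BT.node (nat_lit 513) (BT.leaf ⟨(nat_lit 2), (nat_lit 2), (nat_lit 2), (nat_lit 0x8810032f9e9a7b000b90bf9cd00a02), (nat_lit 0), (nat_lit 0)⟩) (BT.leaf ⟨(nat_lit 2), (nat_lit 2), (nat_lit 2), (nat_lit 0x13790f94008210030050e0c113e68c0), (nat_lit 0), (nat_lit 0)⟩)) (BT.node (nat_lit 515) (BT.leaf ⟨(nat_lit 2), (nat_lit 2), (nat_lit 2), (nat_lit 0xaa558bb95702e75ce27ea3b2a9a239), (nat_lit 0), (nat_lit 0)⟩) (BT.node (nat_lit 516) (BT.leaf ⟨(nat_lit 2), (nat_lit 2), (nat_lit 2), (nat_lit 0x1ce0050090027a046006747a200af4), (nat_lit 0), (nat_lit 0)⟩) (BT.leaf ⟨(nat_lit 2), (nat_lit 2), (nat_lit 2), (nat_lit 0xac55cbb9a688e54cb6cc4eaf7650e6), (nat_lit 0), (nat_lit 0)⟩)))) (BT.node (nat_lit 520) (BT.node (nat_lit 518) (BT.leaf ⟨(nat_lit 2), (nat_lit 2), (nat_lit 2), (nat_lit 0x1df6475b19383b5d269e7b189e0f26a),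 (nat_lit 0), (nat_lit 0)⟩) (BT.node (nat_lit 519) (BT.leaf ⟨(nat_lit 2), (nat_lit 2), (nat_lit 2), (nat_lit 0x160f9f61516fccab287c5a5c6bdd738), (nat_lit 0), (nat_lit 0)⟩) (BT.leaf ⟨(nat_lit 2), (nat_lit 2), (nat_lit 2), (nat_lit 0x811043007aba7b000b90bf9cd01201), (nat_lit 0), (nat_lit 0)⟩))) (BT.node (nat_lit 521) (BT.leaf ⟨(nat_lit 2), (nat_lit 2), (nat_lit 2), (nat_lit 0x1c19a3646d261f19af667b1d3865f47), (nat_lit 0), (nat_lit 0)⟩) (BT.node (nat_lit 522) (BT.leaf ⟨(nat_lit 2), (nat_lit 2), (nat_lit 2), (nat_lit 0x812021043a21100601404801003005), (nat_lit 0), (nat_lit 0)⟩) (BT.leaf ⟨(nat_lit 2), (nat_lit 2), (nat_lit 2), (nat_lit 0xe8d7c96f32a103bd5a886687f5a7cd), (nat_lit 0), (nat_lit 0)⟩)))))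
noncomputable def hP512 : BT Pf := (BT.node (nat_lit 517) (BT.node (nat_lit 514) (BT.node (nat_lit 513) (BT.leaf (.emul [(nat_lit 124), (nat_lit 511)])) (BT.leaf (.emul [(nat_lit 165), (nat_lit 512)]))) (BT.node (nat_lit 515) (BT.leaf (.emul [(nat_lit 513), (nat_lit 140)])) (BT.node (nat_lit 516) (BT.leaf (.emul [(nat_lit 510), (nat_lit 514)])) (BT.leaf (.emul [(nat_lit 509), (nat_lit 515)]))))) (BT.node (nat_lit 520) (BT.node (nat_lit 518) (BT.leaf (.emul [(nat_lit 124), (nat_lit 165)])) (BT.node (nat_lit 519) (BT.leaf (.emul [(nat_lit 124), (nat_lit 517)])) (BT.leaf (.emul [(nat_lit 190), (nat_lit 518)])))) (BT.node (nat_lit 521) (BT.leaf (.emul [(nat_lit 124), (nat_lit 519)])) (BT.node (nat_lit 522) (BT.leaf (.emul [(nat_lit 520), (nat_lit 418)])) (BT.leaf (.emul [(nat_lit 413), (nat_lit 521)]))))))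
noncomputable def hF : BT Fc := (BT.node (nat_lit 256) (BT.node (nat_lit 128) (BT.node (nat_lit 64) hF0 hF64) (BT.node (nat_lit 192) hF128 hF192)) (BT.node (nat_lit 384) (BT.node (nat_lit 320) hF256 hF320) (BT.node (nat_lit 448) hF384 (BT.node (nat_lit 512) hF448 hF512))))
noncomputable def hP : BT Pf := (BT.node (nat_lit 256) (BT.node (nat_lit 128) (BT.node (nat_lit 64) hP0 hP64) (BT.node (nat_lit 192) hP128 hP192)) (BT.node (nat_lit 384) (BT.node (nat_lit 320) hP256 hP320) (BT.node (nat_lit 448) hP384 (BT.node (nat_lit 512) hP448 hP512))))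
noncomputable def hnd : BT Nat := (BT.node (nat_lit 2) (BT.node (nat_lit 1) (BT.leaf (nat_lit 0)) (BT.leaf (nat_lit 41))) (BT.node (nat_lit 3) (BT.leaf (nat_lit 96)) (BT.leaf (nat_lit 268))))
noncomputable def hR : List (List Nat) := [[(nat_lit 0x12f8109f5da9c681029978688018022), (nat_lit 0xe8d7c96f32a103bd5a886687f5a7cd), (nat_lit 0x1d3bab335c8dd9b831b2a3232fe35ff)],
  [(nat_lit 0xe8d7c96f32a103bd5a886687f5a7cd), (nat_lit 0x1d3bab335c8dd9b831b2a3232fe35ff), (nat_lit 0x12f8109f5da9c681029978688018022)],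
  [(nat_lit 0x1d3bab335c8dd9b831b2a3232fe35ff), (nat_lit 0x12f8109f5da9c681029978688018022), (nat_lit 0xe8d7c96f32a103bd5a886687f5a7cd)],
  [(nat_lit 0x1c68124be3ebd981002278643c10a20), (nat_lit 0x1f05bfbae71c6bbd53a67560d691ce), (nat_lit 0xe8d7c96f32a103bd5a886687f5a7cd)],
  [(nat_lit 0x1f05bfbae71c6bbd53a67560d691ce), (nat_lit 0xe8d7c96f32a103bd5a886687f5a7cd), (nat_lit 0x1c68124be3ebd981002278643c10a20)],
  [(nat_lit 0xe8d7c96f32a103bd5a886687f5a7cd), (nat_lit 0x1c68124be3ebd981002278643c10a20), (nat_lit 0x1f05bfbae71c6bbd53a67560d691ce)]]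
noncomputable def hnds0 : Nd := ⟨(nat_lit 1), (nat_lit 481), [((nat_lit 44), [(nat_lit 3)]), ((nat_lit 487), [(nat_lit 1), (nat_lit 3), (nat_lit 1), (nat_lit 4), (nat_lit 1), (nat_lit 4), (nat_lit 1), (nat_lit 4), (nat_lit 1), (nat_lit 3), (nat_lit 1), (nat_lit 4), (nat_lit 1), (nat_lit 3), (nat_lit 1), (nat_lit 3), (nat_lit 1), (nat_lit 3), (nat_lit 1), (nat_lit 4), (nat_lit 1)]), ((nat_lit 493), [(nat_lit 1), (nat_lit 3), (nat_lit 1), (nat_lit 4), (nat_lit 1), (nat_lit 4), (nat_lit 1), (nat_lit 4), (nat_lit 1), (nat_lit 4), (nat_lit 1), (nat_lit 3), (nat_lit 1), (nat_lit 3), (nat_lit 1), (nat_lit 3), (nat_lit 1), (nat_lit 3), (nat_lit 1), (nat_lit 4), (nat_lit 1)])], (nat_lit 6)⟩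
noncomputable def hnds1 : Nd := ⟨(nat_lit 2), (nat_lit 507), [((nat_lit 516), [(nat_lit 3), (nat_lit 1), (nat_lit 3), (nat_lit 1), (nat_lit 4)]), ((nat_lit 522), [(nat_lit 1), (nat_lit 3), (nat_lit 1), (nat_lit 3), (nat_lit 1), (nat_lit 4), (nat_lit 1), (nat_lit 4), (nat_lit 1)])], (nat_lit 16)⟩
noncomputable def hnds : List Nd := [hnds0, hnds1]
noncomputable def hA : Alg := ⟨mu, e11, fun _ => true, fun _ _ => nat_lit 0, nat_lit 0, fun _ => true, fun _ => nat_lit 0, e11, nth (nat_lit 0) L11, nat_lit 30,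
  fun x => mapW NS [x], (nat_lit 7)⟩
noncomputable def hk : Nat → Bool := chkAt hA hF.get hP.get (bsOf hA NH []) (nth [] hR) hnd.get

end CF.Dce.J4
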