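import Cfsg.Agent.Dce.J4.Rels2
import Cfsg.Agent.Dce.J4.NT

set_option autoImplicit false
set_option maxRecDepth 1000000
set_option maxHeartbeats 0
set_option Elab.async false

namespace CF.Dce.J4
open CF.Comp

noncomputable def xF0 : BT Fc := (BT.node (nat_lit 32) (BT.node (nat_lit 16) (BT.node (nat_lit 8) (BT.node (nat_lit 4) (BT.node (nat_lit 2) (BT.node (nat_lit 1) (BT.leaf ⟨(nat_lit 1), (nat_lit 0), (nat_lit 0), (nat_lit 0x609380a013bf0eec0801095c84088), (nat_lit 0x609380a013bf0eec0801095c84088), (nat_lit 0)⟩) (BT.leaf ⟨(nat_lit 1), (nat_lit 0), (nat_lit 0), (nat_lit 0x16a21edf8bc1d46f64e8ad1722f44c7), (nat_lit 0x16a21edf8bc1d46f64e8ad1722f44c7), (nat_lit 0)⟩)) (BT.node (nat_lit 3) (BT.leaf ⟨(nat_lit 1), (nat_lit 0), (nat_lit 0), (nat_lit 0x14d065e8de1ac4fd6f9df0be2532bfe), (nat_lit 0x14d065e8de1ac4fd6f9df0be2532bfe), (nat_lit 0)⟩) (BT.leaf ⟨(nat_lit 1), (nat_lit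 0), (nat_lit 0), (nat_lit 0x1e43bebe17c52951b7e37c66f26c95a), (nat_lit 0x1e43bebe17c52951b7e37c66f26c95a), (nat_lit 0)⟩))) (BT.node (nat_lit 6) (BT.node (nat_lit 5) (BT.leaf ⟨(nat_lit 1), (nat_lit 0), (nat_lit 0), (nat_lit 0x15972fa5f6e12ae8ca1ff6e6f12f6c1), (nat_lit 0x15972fa5f6e12ae8ca1ff6e6f12f6c1), (nat_lit 0)⟩) (BT.leaf ⟨(nat_lit 1), (nat_lit 0), (nat_lit 0), (nat_lit 0xf89d1e0bf2078e8b95a8dc6f1667e3), (nat_lit 0xf89d1e0bf2078e8b95a8dc6f1667e3), (nat_lit 0)⟩)) (BT.node (nat_lit 7) (BT.leaf ⟨(nat_lit 1), (nat_lit 0), (nat_lit 0), (nat_lit 0x1c34bc8b7a69a8be6bfe8dde26c6f9d), (nat_lit 0x1c34bc8b7a69a8be6bfe8dde26c6f9d), (nat_lit 0)⟩) (BT.leaf ⟨(nat_lit 1), (nat_lit 0), (nat_lit 0), (nat_lit 0x29010039391c55df384ba088eb902), (nat_lit 0x29010039391c55df384ba088eb902), (nat_lit 0)⟩)))) (BT.node (nat_lit 12) (BT.node (nat_lit 10) (BT.node (nat_lit 9) (BT.leaf ⟨(nat_lit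 1), (nat_lit 0), (nat_lit 0), (nat_lit 0x40017980c8cee6b9ce820835490102), (nat_lit 0x40017980c8cee6b9ce820835490102), (nat_lit 0)⟩) (BT.leaf ⟨(nat_lit 1), (nat_lit 0), (nat_lit 0), (nat_lit 0x17e231818dc923b9579d061d580a010), (nat_lit 0x17e231818dc923b9579d061d580a010), (nat_lit 0)⟩)) (BT.node (nat_lit 11) (BT.leaf ⟨(nat_lit 1), (nat_lit 0), (nat_lit 0), (nat_lit 0x1a371d18060140080902209fd0904e8), (nat_lit 0x1a371d18060140080902209fd0904e8), (nat_lit 0)⟩) (BT.leaf ⟨(nat_lit 1), (nat_lit 0), (nat_lit 0), (nat_lit 0xf86f500325a048411024ba108ebf38), (nat_lit 0xf86f500325a048411024ba108ebf38), (nat_lit 0)⟩))) (BT.node (nat_lit 14) (BT.node (nat_lit 13) (BT.leaf ⟨(nat_lit 1), (nat_lit 0), (nat_lit 0), (nat_lit 0x97fc692f8e6400040107c6ae7a3001), (nat_lit 0x97fc692f8e6400040107c6ae7a3001), (nat_lit 0)⟩) (BT.leaf ⟨(nat_lit 1), (nat_lit 0), (nat_lit 0), (nat_lit 0x31f5a0856202804408f0b1ee4b088),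 (nat_lit 0x31f5a0856202804408f0b1ee4b088), (nat_lit 0)⟩)) (BT.node (nat_lit 15) (BT.leaf ⟨(nat_lit 1), (nat_lit 0), (nat_lit 0), (nat_lit 0x2816f95583c202b40c0105eea40088), (nat_lit 0x2816f95583c202b40c0105eea40088), (nat_lit 0)⟩) (BT.leaf ⟨(nat_lit 1), (nat_lit 0), (nat_lit 0), (nat_lit 0x31f5f4e811783c2ab101002424088), (nat_lit 0x31f5f4e811783c2ab101002424088), (nat_lit 0)⟩))))) (BT.node (nat_lit 24) (BT.node (nat_lit 20) (BT.node (nat_lit 18) (BT.node (nat_lit 17) (BT.leaf ⟨(nat_lit 1), (nat_lit 0), (nat_lit 0), (nat_lit 0x97fc6c9e021ce9f1c730102037a001), (nat_lit 0x97fc6c9e021ce9f1c730102037a001), (nat_lit 0)⟩) (BT.leaf ⟨(nat_lit 1), (nat_lit 0), (nat_lit 0), (nat_lit 0x182ef51e89d17a7dbad2ad1783f44c7), (nat_lit 0x182ef51e89d17a7dbad2ad1783f44c7), (nat_lit 0)⟩)) (BT.node (nat_lit 19) (BT.leaf ⟨(nat_lit 1), (nat_lit 0), (nat_lit 0), (nat_lit 0x174bc6fcdf3ba8a3778cf0bc372c3fe),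 (nat_lit 0x174bc6fcdf3ba8a3778cf0bc372c3fe), (nat_lit 0)⟩) (BT.leaf ⟨(nat_lit 1), (nat_lit 0), (nat_lit 0), (nat_lit 0xf9df5d17fc678e373637c6f89e195a), (nat_lit 0xf9df5d17fc678e373637c6f89e195a), (nat_lit 0)⟩))) (BT.node (nat_lit 22) (BT.node (nat_lit 21) (BT.leaf ⟨(nat_lit 1), (nat_lit 0), (nat_lit 0), (nat_lit 0x9fd6f85f43ee292ea57f6edc12dec1), (nat_lit 0x9fd6f85f43ee292ea57f6edc12dec1), (nat_lit 0)⟩) (BT.leaf ⟨(nat_lit 1), (nat_lit 0), (nat_lit 0), (nat_lit 0x7440292bde009082004e7c8112df42), (nat_lit 0x7440292bde009082004e7c8112df42), (nat_lit 0)⟩)) (BT.node (nat_lit 23) (BT.leaf ⟨(nat_lit 1), (nat_lit 0), (nat_lit 0), (nat_lit 0x1d9887c53440090185c80427d5e1ed4), (nat_lit 0x1d9887c53440090185c80427d5e1ed4), (nat_lit 0)⟩) (BT.leaf ⟨(nat_lit 1), (nat_lit 0), (nat_lit 0), (nat_lit 0x17a440be2dea1064ff4704200639201), (nat_lit 0x17a440be2dea1064ff4704200639201),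 (nat_lit 0)⟩)))) (BT.node (nat_lit 28) (BT.node (nat_lit 26) (BT.node (nat_lit 25) (BT.leaf ⟨(nat_lit 1), (nat_lit 0), (nat_lit 0), (nat_lit 0x17b00a00c4081124d6f0e7de2442742), (nat_lit 0x17b00a00c4081124d6f0e7de2442742), (nat_lit 0)⟩) (BT.leaf ⟨(nat_lit 1), (nat_lit 0), (nat_lit 0), (nat_lit 0x1eb4900a03eaa6610220042088146d4), (nat_lit 0x1eb4900a03eaa6610220042088146d4), (nat_lit 0)⟩)) (BT.node (nat_lit 27) (BT.leaf ⟨(nat_lit 1), (nat_lit 0), (nat_lit 0), (nat_lit 0x180a00ce85268221d125601042204), (nat_lit 0x180a00ce85268221d125601042204), (nat_lit 0)⟩) (BT.leaf ⟨(nat_lit 1), (nat_lit 0), (nat_lit 0), (nat_lit 0xd7f2fa5fd8346655a7f0be95d2f370), (nat_lit 0xd7f2fa5fd8346655a7f0be95d2f370), (nat_lit 0)⟩))) (BT.node (nat_lit 30) (BT.node (nat_lit 29) (BT.leaf ⟨(nat_lit 1), (nat_lit 0), (nat_lit 0), (nat_lit 0xfcdd1e0bfc745cf1be746cd8d66790), (nat_lit 0xfcdd1e0bfc745cf1be746cd8d66790),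 (nat_lit 0)⟩) (BT.leaf ⟨(nat_lit 1), (nat_lit 0), (nat_lit 0), (nat_lit 0xe34bc8b7f3bf37515d2f5be32c6d34), (nat_lit 0xe34bc8b7f3bf37515d2f5be32c6d34), (nat_lit 0)⟩)) (BT.node (nat_lit 31) (BT.leaf ⟨(nat_lit 1), (nat_lit 0), (nat_lit 0), (nat_lit 0x10901003204aee38be100c4b4ebc9c), (nat_lit 0x10901003204aee38be100c4b4ebc9c), (nat_lit 0)⟩) (BT.leaf ⟨(nat_lit 1), (nat_lit 0), (nat_lit 0), (nat_lit 0x1fd0179802055cddce8d6bec0090646), (nat_lit 0x1fd0179802055cddce8d6bec0090646), (nat_lit 0)⟩)))))) (BT.node (nat_lit 48) (BT.node (nat_lit 40) (BT.node (nat_lit 36) (BT.node (nat_lit 34) (BT.node (nat_lit 33) (BT.leaf ⟨(nat_lit 1), (nat_lit 0), (nat_lit 0), (nat_lit 0x84231818021caa470127e67140a6e4), (nat_lit 0x84231818021caa470127e67140a6e4), (nat_lit 0)⟩) (BT.leaf ⟨(nat_lit 1), (nat_lit 0), (nat_lit 0), (nat_lit 0x3571d1809d0406801006bf91890300), (nat_lit 0x3571d1809d0406801006bf91890300),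 (nat_lit 0)⟩)) (BT.node (nat_lit 35) (BT.leaf ⟨(nat_lit 1), (nat_lit 0), (nat_lit 0), (nat_lit 0x8af5003e702080900a00d270eb92d), (nat_lit 0x8af5003e702080900a00d270eb92d), (nat_lit 0)⟩) (BT.leaf ⟨(nat_lit 1), (nat_lit 0), (nat_lit 0), (nat_lit 0x13c692f00202080080041003a3473), (nat_lit 0x13c692f00202080080041003a3473), (nat_lit 0)⟩))) (BT.node (nat_lit 38) (BT.node (nat_lit 37) (BT.leaf ⟨(nat_lit 1), (nat_lit 0), (nat_lit 0), (nat_lit 0x1722f519b98f5a2fc5e0bd96a18e2d2), (nat_lit 0x1722f519b98f5a2fc5e0bd96a18e2d2), (nat_lit 0)⟩) (BT.leaf ⟨(nat_lit 1), (nat_lit 0), (nat_lit 0), (nat_lit 0x1bbf1d583a75ced9d73aaca73bbd2d2), (nat_lit 0x1bbf1d583a75ced9d73aaca73bbd2d2), (nat_lit 0)⟩)) (BT.node (nat_lit 39) (BT.leaf ⟨(nat_lit 1), (nat_lit 0), (nat_lit 0), (nat_lit 0x1d1c08c9f3a84b820de97c48055c78c), (nat_lit 0x1d1c08c9f3a84b820de97c48055c78c), (nat_lit 0)⟩) (BT.leaf ⟨(nat_lit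 1), (nat_lit 0), (nat_lit 0), (nat_lit 0x107a407c6140a033a7bae1a6be79b63), (nat_lit 0x107a407c6140a033a7bae1a6be79b63), (nat_lit 0)⟩)))) (BT.node (nat_lit 44) (BT.node (nat_lit 42) (BT.node (nat_lit 41) (BT.leaf ⟨(nat_lit 1), (nat_lit 0), (nat_lit 0), (nat_lit 0x1020246fc018775040090151ef99257), (nat_lit 0x1020246fc018775040090151ef99257), (nat_lit 0)⟩) (BT.leaf ⟨(nat_lit 1), (nat_lit 0), (nat_lit 0), (nat_lit 0x437a0404be08097880200ae6f4004), (nat_lit 0x437a0404be08097880200ae6f4004), (nat_lit 0)⟩)) (BT.node (nat_lit 43) (BT.leaf ⟨(nat_lit 1), (nat_lit 0), (nat_lit 0), (nat_lit 0x13a3f4751c177b0cdde0bf05d932dc8), (nat_lit 0x13a3f4751c177b0cdde0bf05d932dc8), (nat_lit 0)⟩) (BT.leaf ⟨(nat_lit 1), (nat_lit 0), (nat_lit 0), (nat_lit 0x1ce30ab4916f596c1f3a6741f26ceef), (nat_lit 0x1ce30ab4916f596c1f3a6741f26ceef), (nat_lit 0)⟩))) (BT.node (nat_lit 46) (BT.node (nat_lit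 45) (BT.leaf ⟨(nat_lit 1), (nat_lit 0), (nat_lit 0), (nat_lit 0x63973b006f8a4fde9083bd52f747), (nat_lit 0x63973b006f8a4fde9083bd52f747), (nat_lit 0)⟩) (BT.leaf ⟨(nat_lit 1), (nat_lit 0), (nat_lit 0), (nat_lit 0x131f0a92e25edc297ea272ccbd667db), (nat_lit 0x131f0a92e25edc297ea272ccbd667db), (nat_lit 0)⟩)) (BT.node (nat_lit 47) (BT.leaf ⟨(nat_lit 1), (nat_lit 0), (nat_lit 0), (nat_lit 0x14ebf4280410811081e3ce6cbec6a40), (nat_lit 0x14ebf4280410811081e3ce6cbec6a40), (nat_lit 0)⟩) (BT.leaf ⟨(nat_lit 1), (nat_lit 0), (nat_lit 0), (nat_lit 0x1e42393fe8671c639b49ce63b679c7b), (nat_lit 0x1e42393fe8671c639b49ce63b679c7b), (nat_lit 0)⟩))))) (BT.node (nat_lit 56) (BT.node (nat_lit 52) (BT.node (nat_lit 50) (BT.node (nat_lit 49) (BT.leaf ⟨(nat_lit 3), (nat_lit 0), (nat_lit 1), (nat_lit 0x1001001001001001001001001001001), (nat_lit 0x1001001001001001001001001001001), (nat_lit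 0x1001001001001001001001001001001)⟩) (BT.leaf ⟨(nat_lit 3), (nat_lit 1), (nat_lit 0), (nat_lit 0x1001001001001001001001001001001), (nat_lit 0x1001001001001001001001001001001), (nat_lit 0x1001001001001001001001001001001)⟩)) (BT.node (nat_lit 51) (BT.leaf ⟨(nat_lit 2), (nat_lit 1), (nat_lit 1), (nat_lit 0x609380a013bf0eec0801095c84088), (nat_lit 0), (nat_lit 0x609380a013bf0eec0801095c84088)⟩) (BT.leaf ⟨(nat_lit 2), (nat_lit 1), (nat_lit 1), (nat_lit 0x16a21edf8bc1d46f64e8ad1722f44c7), (nat_lit 0), (nat_lit 0x12737b0120150080310210408bc7f38)⟩))) (BT.node (nat_lit 54) (BT.node (nat_lit 53) (BT.leaf ⟨(nat_lit 2), (nat_lit 1), (nat_lit 1), (nat_lit 0x73b8d33ae74d26b2f38e77bbf9953a), (nat_lit 0), (nat_lit 0x60040f0df75f194041e104d8c48088)⟩) (BT.leaf ⟨(nat_lit 2), (nat_lit 1), (nat_lit 1), (nat_lit 0x80402841bd3cedf100125dd1c409d4), (nat_lit 0), (nat_lit 0x7160848e024441f9f9de5484127810)⟩))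 (BT.node (nat_lit 55) (BT.leaf ⟨(nat_lit 2), (nat_lit 1), (nat_lit 1), (nat_lit 0x3e887b96d444b9b84c7ab9f6c93e69), (nat_lit 0), (nat_lit 0xdc0735d2acae282fec14ba6f31621f)⟩) (BT.leaf ⟨(nat_lit 2), (nat_lit 1), (nat_lit 1), (nat_lit 0xcd63b8ed8e3573c83fe6939ce79a87), (nat_lit 0), (nat_lit 0xcd63b8ed8e3573c83fe6939ce79a87)⟩)))) (BT.node (nat_lit 60) (BT.node (nat_lit 58) (BT.node (nat_lit 57) (BT.leaf ⟨(nat_lit 2), (nat_lit 1), (nat_lit 1), (nat_lit 0x189c735ff7722e69a15aea2e595c2f9), (nat_lit 0), (nat_lit 0x2dfbd7ba39dceec187c692b49d2738)⟩) (BT.leaf ⟨(nat_lit 2), (nat_lit 1), (nat_lit 1), (nat_lit 0x27bbea6a91d52e4e6c16263b6d8e27), (nat_lit 0), (nat_lit 0x27ad8bd81dac4cbb41e4d589e5f6c1)⟩)) (BT.node (nat_lit 59) (BT.leaf ⟨(nat_lit 2), (nat_lit 1), (nat_lit 1), (nat_lit 0x1d5865f0668dd9b2374294b7fea3335), (nat_lit 0), (nat_lit 0x19d37b6d4957fd35a2f44d5b90d9287)⟩) (BT.leaf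 ⟨(nat_lit 2), (nat_lit 1), (nat_lit 1), (nat_lit 0x1fd37b44dd69bc3726d49569ab909ce), (nat_lit 0), (nat_lit 0x129465b467b1f1bab766a33c1aa307c)⟩))) (BT.node (nat_lit 62) (BT.node (nat_lit 61) (BT.leaf ⟨(nat_lit 2), (nat_lit 1), (nat_lit 1), (nat_lit 0x8410069e172881802043c7802a3201), (nat_lit 0), (nat_lit 0x811002200be78d20600d3c841eaa01)⟩) (BT.leaf ⟨(nat_lit 2), (nat_lit 1), (nat_lit 1), (nat_lit 0x14bc93e69ab83e896b70d444fed89af), (nat_lit 0), (nat_lit 0x279d254b93e5d989c9ad3d89e5f6c1)⟩)) (BT.node (nat_lit 63) (BT.leaf ⟨(nat_lit 2), (nat_lit 1), (nat_lit 1), (nat_lit 0x10ce79a87692cd639f908e35cc39c7b), (nat_lit 0), (nat_lit 0x89e18244410814c9f5043eb414766)⟩) (BT.leaf ⟨(nat_lit 2), (nat_lit 1), (nat_lit 1), (nat_lit 0x160f9953ae7673969565e75cabbd7ba), (nat_lit 0), (nat_lit 0x11ec841dd01202bc280c410ac493888)⟩)))))))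
noncomputable def xP0 : BT Pf := (BT.node (nat_lit 32) (BT.node (nat_lit 16) (BT.node (nat_lit 8) (BT.node (nat_lit 4) (BT.node (nat_lit 2) (BT.node (nat_lit 1) (BT.leaf (.base (nat_lit 0))) (BT.leaf (.base (nat_lit 1)))) (BT.node (nat_lit 3) (BT.leaf (.nmul (nat_lit 1) [(nat_lit 1)])) (BT.leaf (.nmul (nat_lit 2) [(nat_lit 0)])))) (BT.node (nat_lit 6) (BT.node (nat_lit 5) (BT.leaf (.nmul (nat_lit 3) [(nat_lit 1)])) (BT.leaf (.nmul (nat_lit 4) [(nat_lit 1)]))) (BT.node (nat_lit 7) (BT.leaf (.nmul (nat_lit 5) [(nat_lit 0)])) (BT.leaf (.nmul (nat_lit 6) [(nat_lit 1)]))))) (BT.node (nat_lit 12) (BT.node (nat_lit 10) (BT.node (nat_lit 9) (BT.leaf (.nmul (nat_lit 7) [(nat_lit 0)])) (BT.leaf (.nmul (nat_lit 8) [(nat_lit 1)]))) (BT.node (nat_lit 11) (BT.leaf (.nmul (nat_lit 9) [(nat_lit 1)])) (BT.leaf (.nmul (nat_lit 10) [(nat_lit 0)])))) (BT.node (nat_lit 14) (BT.node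 (nat_lit 13) (BT.leaf (.nmul (nat_lit 11) [(nat_lit 1)])) (BT.leaf (.nmul (nat_lit 12) [(nat_lit 0)]))) (BT.node (nat_lit 15) (BT.leaf (.nmul (nat_lit 13) [(nat_lit 1)])) (BT.leaf (.nmul (nat_lit 14) [(nat_lit 1)])))))) (BT.node (nat_lit 24) (BT.node (nat_lit 20) (BT.node (nat_lit 18) (BT.node (nat_lit 17) (BT.leaf (.nmul (nat_lit 15) [(nat_lit 0)])) (BT.leaf (.nmul (nat_lit 16) [(nat_lit 1)]))) (BT.node (nat_lit 19) (BT.leaf (.nmul (nat_lit 17) [(nat_lit 1)])) (BT.leaf (.nmul (nat_lit 18) [(nat_lit 0)])))) (BT.node (nat_lit 22) (BT.node (nat_lit 21) (BT.leaf (.nmul (nat_lit 19) [(nat_lit 1)])) (BT.leaf (.nmul (nat_lit 20) [(nat_lit 0)]))) (BT.node (nat_lit 23) (BT.leaf (.nmul (nat_lit 21) [(nat_lit 1)])) (BT.leaf (.nmul (nat_lit 0) [(nat_lit 22)]))))) (BT.node (nat_lit 28) (BT.node (nat_lit 26) (BT.node (nat_lit 25) (BT.leaf (.nmul (nat_lit 4) [(nat_lit 0)]))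 (BT.leaf (.nmul (nat_lit 24) [(nat_lit 1)]))) (BT.node (nat_lit 27) (BT.leaf (.nmul (nat_lit 25) [(nat_lit 1)])) (BT.leaf (.nmul (nat_lit 26) [(nat_lit 0)])))) (BT.node (nat_lit 30) (BT.node (nat_lit 29) (BT.leaf (.nmul (nat_lit 27) [(nat_lit 1)])) (BT.leaf (.nmul (nat_lit 28) [(nat_lit 0)]))) (BT.node (nat_lit 31) (BT.leaf (.nmul (nat_lit 29) [(nat_lit 1)])) (BT.leaf (.nmul (nat_lit 30) [(nat_lit 0)]))))))) (BT.node (nat_lit 48) (BT.node (nat_lit 40) (BT.node (nat_lit 36) (BT.node (nat_lit 34) (BT.node (nat_lit 33) (BT.leaf (.nmul (nat_lit 31) [(nat_lit 1)])) (BT.leaf (.nmul (nat_lit 32) [(nat_lit 1)]))) (BT.node (nat_lit 35) (BT.leaf (.nmul (nat_lit 33) [(nat_lit 0)])) (BT.leaf (.nmul (nat_lit 34) [(nat_lit 1)])))) (BT.node (nat_lit 38) (BT.node (nat_lit 37) (BT.leaf (.nmul (nat_lit 35) [(nat_lit 1)])) (BT.leaf (.nmul (nat_lit 36) [(nat_lit 0)]))) (BT.node (nat_lit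 39) (BT.leaf (.nmul (nat_lit 37) [(nat_lit 1)])) (BT.leaf (.nmul (nat_lit 38) [(nat_lit 0)]))))) (BT.node (nat_lit 44) (BT.node (nat_lit 42) (BT.node (nat_lit 41) (BT.leaf (.nmul (nat_lit 39) [(nat_lit 1)])) (BT.leaf (.nmul (nat_lit 40) [(nat_lit 0)]))) (BT.node (nat_lit 43) (BT.leaf (.nmul (nat_lit 41) [(nat_lit 1)])) (BT.leaf (.nmul (nat_lit 42) [(nat_lit 0)])))) (BT.node (nat_lit 46) (BT.node (nat_lit 45) (BT.leaf (.nmul (nat_lit 43) [(nat_lit 1)])) (BT.leaf (.nmul (nat_lit 44) [(nat_lit 1)]))) (BT.node (nat_lit 47) (BT.leaf (.nmul (nat_lit 45) [(nat_lit 0)])) (BT.leaf (.nmul (nat_lit 0) [(nat_lit 46)])))))) (BT.node (nat_lit 56) (BT.node (nat_lit 52) (BT.node (nat_lit 50) (BT.node (nat_lit 49) (BT.leaf (.dfn [])) (BT.leaf (.inv (nat_lit 48)))) (BT.node (nat_lit 51) (BT.leaf (.ne (nat_lit 0))) (BT.leaf (.ne (nat_lit 1))))) (BT.node (nat_lit 54) (BT.node (nat_lit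 53) (BT.leaf (.emul [(nat_lit 50), (nat_lit 51)])) (BT.leaf (.emul [(nat_lit 51), (nat_lit 52)]))) (BT.node (nat_lit 55) (BT.leaf (.emul [(nat_lit 51), (nat_lit 53)])) (BT.leaf (.emul [(nat_lit 51), (nat_lit 54)]))))) (BT.node (nat_lit 60) (BT.node (nat_lit 58) (BT.node (nat_lit 57) (BT.leaf (.emul [(nat_lit 50), (nat_lit 55)])) (BT.leaf (.emul [(nat_lit 51), (nat_lit 56)]))) (BT.node (nat_lit 59) (BT.leaf (.emul [(nat_lit 50), (nat_lit 57)])) (BT.leaf (.emul [(nat_lit 51), (nat_lit 58)])))) (BT.node (nat_lit 62) (BT.node (nat_lit 61) (BT.leaf (.emul [(nat_lit 51), (nat_lit 59)])) (BT.leaf (.emul [(nat_lit 50), (nat_lit 60)]))) (BT.node (nat_lit 63) (BT.leaf (.emul [(nat_lit 51), (nat_lit 61)])) (BT.leaf (.emul [(nat_lit 51), (nat_lit 62)]))))))))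
noncomputable def xF64 : BT Fc := (BT.node (nat_lit 96) (BT.node (nat_lit 80) (BT.node (nat_lit 72) (BT.node (nat_lit 68) (BT.node (nat_lit 66) (BT.node (nat_lit 65) (BT.leaf ⟨(nat_lit 2), (nat_lit 1), (nat_lit 1), (nat_lit 0x127c409d425c807c63e2bd24055c009), (nat_lit 0), (nat_lit 0x131cb792b65f571cb0fa25da8ad892f)⟩) (BT.leaf ⟨(nat_lit 2), (nat_lit 1), (nat_lit 1), (nat_lit 0x1f18408a05006bdb1f0df7420a79880), (nat_lit 0), (nat_lit 0x75040c9f003cec80de925dbd402a01)⟩)) (BT.node (nat_lit 67) (BT.leaf ⟨(nat_lit 2), (nat_lit 1), (nat_lit 1), (nat_lit 0x1bf09380c3bb1ed2b80a012023995e0), (nat_lit 0), (nat_lit 0xf9e3bdec2567477849a0084100a00c)⟩) (BT.leaf ⟨(nat_lit 2), (nat_lit 1), (nat_lit 1), (nat_lit 0xa02798a0f8dee9b188035f5a040f0d), (nat_lit 0), (nat_lit 0x1d5a0848e020fcc885f827fb9127812)⟩))) (BT.node (nat_lit 70) (BT.node (nat_lit 69) (BT.leaf ⟨(nat_lit 2), (nat_lit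 1), (nat_lit 1), (nat_lit 0x4b95c1d493f7a7c6009403cec40be2), (nat_lit 0), (nat_lit 0x131c93b7025ae5aae66927fa8ad892f)⟩) (BT.leaf ⟨(nat_lit 2), (nat_lit 1), (nat_lit 1), (nat_lit 0x1572d8e69a5fa88969af1f44b893b70), (nat_lit 0), (nat_lit 0x107bbebd891c5d989ec19383b65f49a)⟩)) (BT.node (nat_lit 71) (BT.leaf ⟨(nat_lit 2), (nat_lit 1), (nat_lit 1), (nat_lit 0x2e6a369e42078d80201440a0100204), (nat_lit 0), (nat_lit 0x9740102200dce00508293800fa2012)⟩) (BT.leaf ⟨(nat_lit 2), (nat_lit 1), (nat_lit 1), (nat_lit 0x14d065e8de1ac4fd6f9df0be2532bfe), (nat_lit 0), (nat_lit 0x14d065e8de1ac4fd6f9df0be2532bfe)⟩)))) (BT.node (nat_lit 76) (BT.node (nat_lit 74) (BT.node (nat_lit 73) (BT.leaf ⟨(nat_lit 2), (nat_lit 1), (nat_lit 1), (nat_lit 0x1e43bebe17c52951b7e37c66f26c95a), (nat_lit 0), (nat_lit 0x63995e08f67777e2b1f0a95c84088)⟩) (BT.leaf ⟨(nat_lit 2), (nat_lit 1), (nat_lit 1), (nat_lit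 0x15972fa5f6e12ae8ca1ff6e6f12f6c1), (nat_lit 0), (nat_lit 0xc02cf3b9d1a441afce8ae7fd171902)⟩)) (BT.node (nat_lit 75) (BT.leaf ⟨(nat_lit 2), (nat_lit 1), (nat_lit 1), (nat_lit 0xf89d1e0bf2078e8b95a8dc6f1667e3), (nat_lit 0), (nat_lit 0xf89d1e0bf2078e8b95a8dc6f1667e3)⟩) (BT.leaf ⟨(nat_lit 2), (nat_lit 1), (nat_lit 1), (nat_lit 0xdc0735d2acae282fec14ba6f31621f), (nat_lit 0), (nat_lit 0x3e887b96d444b9b84c7ab9f6c93e69)⟩))) (BT.node (nat_lit 78) (BT.node (nat_lit 77) (BT.leaf ⟨(nat_lit 2), (nat_lit 1), (nat_lit 1), (nat_lit 0x8123bbe7bd809095f42209e255eef0), (nat_lit 0), (nat_lit 0x66c39c7b66ad2619da6ab91cf653fe)⟩) (BT.leaf ⟨(nat_lit 2), (nat_lit 1), (nat_lit 1), (nat_lit 0x7d78d27ff5a09229ed406008a5f220), (nat_lit 0), (nat_lit 0x189d5c36c72dd455cab1bfebe55e95a)⟩)) (BT.node (nat_lit 79) (BT.leaf ⟨(nat_lit 2), (nat_lit 1), (nat_lit 1), (nat_lit 0x1d0802be700c0939f204208012021d1),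 (nat_lit 0), (nat_lit 0x180a00ce85268221d125601042204)⟩) (BT.leaf ⟨(nat_lit 2), (nat_lit 1), (nat_lit 1), (nat_lit 0x1b056fdd26bee2bdbb704ba95d27a7f), (nat_lit 0), (nat_lit 0x3e9661af65edc09712d257f6c93e69)⟩))))) (BT.node (nat_lit 88) (BT.node (nat_lit 84) (BT.node (nat_lit 82) (BT.node (nat_lit 81) (BT.leaf ⟨(nat_lit 2), (nat_lit 1), (nat_lit 1), (nat_lit 0x1f8df5be17e7296377907c6d8d71be7), (nat_lit 0), (nat_lit 0x10224b00a0187777e088410024842b1)⟩) (BT.leaf ⟨(nat_lit 2), (nat_lit 1), (nat_lit 1), (nat_lit 0x1e77c6e8d71ac4e37534f0be33c7dd2), (nat_lit 0), (nat_lit 0xa02a33001734e8f1e004119cd01204)⟩)) (BT.node (nat_lit 83) (BT.leaf ⟨(nat_lit 2), (nat_lit 1), (nat_lit 1), (nat_lit 0x40af50120850092ec9c1044b4013e1), (nat_lit 0), (nat_lit 0x108ebc0201420a38902576f840112d)⟩) (BT.leaf ⟨(nat_lit 2), (nat_lit 1), (nat_lit 1), (nat_lit 0x40b1d500fe844082646202c008468d),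 (nat_lit 0), (nat_lit 0xee55eab972d4d2ffaf9576a675cab1)⟩))) (BT.node (nat_lit 86) (BT.node (nat_lit 85) (BT.leaf ⟨(nat_lit 2), (nat_lit 1), (nat_lit 1), (nat_lit 0x4008850420440186e427e71448012), (nat_lit 0), (nat_lit 0xbd24044080540210400a5ed1a00e00)⟩) (BT.leaf ⟨(nat_lit 2), (nat_lit 1), (nat_lit 1), (nat_lit 0x1022402f4a5f00aeac40c0108200d00), (nat_lit 0), (nat_lit 0x4bc9392e65e4fc95fdba5f31cb792d)⟩)) (BT.node (nat_lit 87) (BT.leaf ⟨(nat_lit 2), (nat_lit 1), (nat_lit 1), (nat_lit 0x30024240866103832f932a110b7850), (nat_lit 0), (nat_lit 0x10cca06b4880102d4041480111d1af9)⟩) (BT.leaf ⟨(nat_lit 2), (nat_lit 1), (nat_lit 1), (nat_lit 0x1bd77a7db89bbf135287da92ae7a2f4), (nat_lit 0), (nat_lit 0x805011e3173a790467348017e7a600)⟩)))) (BT.node (nat_lit 92) (BT.node (nat_lit 90) (BT.node (nat_lit 89) (BT.leaf ⟨(nat_lit 2), (nat_lit 1), (nat_lit 1), (nat_lit 0xcbff4673d3ca030053a40878deaa40),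 (nat_lit 0), (nat_lit 0x1b537a287d69bd655d1789bbf0d97db)⟩) (BT.leaf ⟨(nat_lit 2), (nat_lit 1), (nat_lit 1), (nat_lit 0x169b2c6efbaa774ca9d43eae2b49b6c), (nat_lit 0), (nat_lit 0x1f1b49ca5bffd9ba7335e0d46465f56)⟩)) (BT.node (nat_lit 91) (BT.leaf ⟨(nat_lit 2), (nat_lit 1), (nat_lit 1), (nat_lit 0x1f3a2747e0df1affe69e85294d93d8), (nat_lit 0), (nat_lit 0xc4d32bfef9bc36e946ea69e16c6e8d)⟩) (BT.leaf ⟨(nat_lit 2), (nat_lit 1), (nat_lit 1), (nat_lit 0x5dacf41e4d527c76e9ed82c4e6f3d8), (nat_lit 0), (nat_lit 0x569548b9772aedb6627a6960f652f9)⟩))) (BT.node (nat_lit 94) (BT.node (nat_lit 93) (BT.leaf ⟨(nat_lit 2), (nat_lit 1), (nat_lit 1), (nat_lit 0xe3608408c014bd9d5d5fc700b5caf4), (nat_lit 0), (nat_lit 0x11ce798ed7fde41a4e73ae769a3bb35)⟩) (BT.leaf ⟨(nat_lit 2), (nat_lit 1), (nat_lit 1), (nat_lit 0x108a00c032b0cc20f0643e1026f240), (nat_lit 0), (nat_lit 0x4ac02a04208010e8c9af13cfa02024)⟩))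 (BT.node (nat_lit 95) (BT.leaf ⟨(nat_lit 2), (nat_lit 1), (nat_lit 1), (nat_lit 0x1fd37b6f5da91373a26ade1bf0d97db), (nat_lit 0), (nat_lit 0xc4c65b8df5b74b86ea2f13e16c6e8d)⟩) (BT.leaf ⟨(nat_lit 1), (nat_lit 0), (nat_lit 0), (nat_lit 0x73b8d33ae74d26b2f38e77bbf9953a), (nat_lit 0x73b8d33ae74d26b2f38e77bbf9953a), (nat_lit 0)⟩)))))) (BT.node (nat_lit 112) (BT.node (nat_lit 104) (BT.node (nat_lit 100) (BT.node (nat_lit 98) (BT.node (nat_lit 97) (BT.leaf ⟨(nat_lit 1), (nat_lit 0), (nat_lit 0), (nat_lit 0x412cf4e82024086ad7360044090180), (nat_lit 0x412cf4e82024086ad7360044090180), (nat_lit 0)⟩) (BT.leaf ⟨(nat_lit 1), (nat_lit 0), (nat_lit 0), (nat_lit 0x977a2738104408112bb25b008eb803), (nat_lit 0x977a2738104408112bb25b008eb803), (nat_lit 0)⟩)) (BT.node (nat_lit 99) (BT.leaf ⟨(nat_lit 1), (nat_lit 0), (nat_lit 0), (nat_lit 0xf8f7a0010100400249e8e6103a312f), (nat_lit 0xf8f7a0010100400249e8e6103a312f),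 (nat_lit 0)⟩) (BT.leaf ⟨(nat_lit 1), (nat_lit 0), (nat_lit 0), (nat_lit 0xcd63bc7bce6d2476a878a71c43999b), (nat_lit 0xcd63bc7bce6d2476a878a71c43999b), (nat_lit 0)⟩))) (BT.node (nat_lit 102) (BT.node (nat_lit 101) (BT.leaf ⟨(nat_lit 1), (nat_lit 0), (nat_lit 0), (nat_lit 0x1ce10125d0851c40190210402b7b022), (nat_lit 0x1ce10125d0851c40190210402b7b022), (nat_lit 0)⟩) (BT.leaf ⟨(nat_lit 1), (nat_lit 0), (nat_lit 0), (nat_lit 0x554409af1042804470d180a0042080), (nat_lit 0x554409af1042804470d180a0042080), (nat_lit 0)⟩)) (BT.node (nat_lit 103) (BT.leaf ⟨(nat_lit 1), (nat_lit 0), (nat_lit 0), (nat_lit 0x1b927a7db50e9ab6a4abd699d37a6f5), (nat_lit 0x1b927a7db50e9ab6a4abd699d37a6f5), (nat_lit 0)⟩) (BT.leaf ⟨(nat_lit 1), (nat_lit 0), (nat_lit 0), (nat_lit 0x1d084212b00c0324d1d1089bc002a04), (nat_lit 0x1d084212b00c0324d1d1089bc002a04), (nat_lit 0)⟩)))) (BT.node (nat_lit 108)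 (BT.node (nat_lit 106) (BT.node (nat_lit 105) (BT.leaf ⟨(nat_lit 1), (nat_lit 0), (nat_lit 0), (nat_lit 0x27a6f17683da793548e93926a4b49f), (nat_lit 0x27a6f17683da793548e93926a4b49f), (nat_lit 0)⟩) (BT.leaf ⟨(nat_lit 1), (nat_lit 0), (nat_lit 0), (nat_lit 0x178024408df82200674e8f602014208), (nat_lit 0x178024408df82200674e8f602014208), (nat_lit 0)⟩)) (BT.node (nat_lit 107) (BT.leaf ⟨(nat_lit 3), (nat_lit 1), (nat_lit 1), (nat_lit 0x151865e46f8cf6383744e9dd0957747), (nat_lit 0xf63bec9e2ec27a4749fd3c3b66f49a), (nat_lit 0x102039dd5d730020109e68d00640410)⟩) (BT.leaf ⟨(nat_lit 3), (nat_lit 1), (nat_lit 2), (nat_lit 0x107989c9f1db37a5f49c9345d9d23d8), (nat_lit 0x1001001001001001001001001001001), (nat_lit 0x1001001001001001001001001001001)⟩))) (BT.node (nat_lit 110) (BT.node (nat_lit 109) (BT.leaf ⟨(nat_lit 2), (nat_lit 1), (nat_lit 1), (nat_lit 0x6027988035ea03e30c0ad0d8c48088),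 (nat_lit 0), (nat_lit 0x1918a0500200441af90220235571ce8)⟩) (BT.leaf ⟨(nat_lit 2), (nat_lit 1), (nat_lit 1), (nat_lit 0xd5c0094024ba4fef5e77e3200801), (nat_lit 0), (nat_lit 0xc40be2bd327c97747203e3200801)⟩)) (BT.node (nat_lit 111) (BT.leaf ⟨(nat_lit 2), (nat_lit 1), (nat_lit 1), (nat_lit 0x4bed89af1f557297b2f25c4b4b7cc7), (nat_lit 0), (nat_lit 0x108208346a01009c6fe33d14be02408)⟩) (BT.leaf ⟨(nat_lit 2), (nat_lit 1), (nat_lit 1), (nat_lit 0x822a32014402e50832f500c027a53a), (nat_lit 0), (nat_lit 0x182ef45ecbc066eb45c83d0b49574e8)⟩))))) (BT.node (nat_lit 120) (BT.node (nat_lit 116) (BT.node (nat_lit 114) (BT.node (nat_lit 113) (BT.leaf ⟨(nat_lit 2), (nat_lit 1), (nat_lit 1), (nat_lit 0x1d9ba2742c8ccd7a387ceacf6065f06), (nat_lit 0), (nat_lit 0x19a5577c60f9d1da374ea3391aa3766)⟩) (BT.leaf ⟨(nat_lit 2), (nat_lit 1), (nat_lit 1), (nat_lit 0x1e3065ea2e1b1bbd6b8df0be26c6f9d),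 (nat_lit 0), (nat_lit 0x1b937b26ace873b6a6f5df9bc0d92f4)⟩)) (BT.node (nat_lit 115) (BT.leaf ⟨(nat_lit 2), (nat_lit 1), (nat_lit 1), (nat_lit 0x744ebeef38a3e86ab6c3ea557499d4), (nat_lit 0), (nat_lit 0xcd4d9766e85297a77c6cd2d1aa3747)⟩) (BT.leaf ⟨(nat_lit 2), (nat_lit 1), (nat_lit 1), (nat_lit 0x15a2f45a8bd2b48bb19b9d17e2f55ec), (nat_lit 0), (nat_lit 0x2e6a3208c00c0197a04d3c80501280)⟩))) (BT.node (nat_lit 118) (BT.node (nat_lit 117) (BT.leaf ⟨(nat_lit 2), (nat_lit 1), (nat_lit 1), (nat_lit 0x17218e75198fedcf42d2bd25d9575e0), (nat_lit 0), (nat_lit 0x17218e75198fedcf42d2bd25d9575e0)⟩) (BT.leaf ⟨(nat_lit 2), (nat_lit 1), (nat_lit 1), (nat_lit 0x1fd0bca8739cbd226eb4de1bf37b6d4), (nat_lit 0), (nat_lit 0x1c19573467b1d5ba3e69e85d3ba207c)⟩)) (BT.node (nat_lit 119) (BT.leaf ⟨(nat_lit 2), (nat_lit 1), (nat_lit 1), (nat_lit 0x1e33c68b7ba5a3637534f0be2465f0d), (nat_lit 0), (nat_lit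 0x2e67a24040278f4f673410813f4600)⟩) (BT.leaf ⟨(nat_lit 2), (nat_lit 1), (nat_lit 1), (nat_lit 0x4bf7a25f08000639be300802100020), (nat_lit 0), (nat_lit 0x4bc012b993c20000f3a0080237a040)⟩)))) (BT.node (nat_lit 124) (BT.node (nat_lit 122) (BT.node (nat_lit 121) (BT.leaf ⟨(nat_lit 1), (nat_lit 0), (nat_lit 0), (nat_lit 0x6027988035ea03e30c0ad0d8c48088), (nat_lit 0x6027988035ea03e30c0ad0d8c48088), (nat_lit 0)⟩) (BT.leaf ⟨(nat_lit 1), (nat_lit 0), (nat_lit 0), (nat_lit 0xd5c0094024ba4fef5e77e3200801), (nat_lit 0xd5c0094024ba4fef5e77e3200801), (nat_lit 0)⟩)) (BT.node (nat_lit 123) (BT.leaf ⟨(nat_lit 1), (nat_lit 0), (nat_lit 0), (nat_lit 0x19cec6a20500cbd0420460017ff4201), (nat_lit 0x19cec6a20500cbd0420460017ff4201), (nat_lit 0)⟩) (BT.leaf ⟨(nat_lit 1), (nat_lit 0), (nat_lit 0), (nat_lit 0x1bbceb9d13bb698aa9f538a8db2c0fa), (nat_lit 0x1bbceb9d13bb698aa9f538a8db2c0fa),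 (nat_lit 0)⟩))) (BT.node (nat_lit 126) (BT.node (nat_lit 125) (BT.leaf ⟨(nat_lit 1), (nat_lit 0), (nat_lit 0), (nat_lit 0x4423181006004b7248eeadca92793f), (nat_lit 0x4423181006004b7248eeadca92793f), (nat_lit 0)⟩) (BT.leaf ⟨(nat_lit 1), (nat_lit 0), (nat_lit 0), (nat_lit 0x100b5cc08bab4022034613c7a202600), (nat_lit 0x100b5cc08bab4022034613c7a202600), (nat_lit 0)⟩)) (BT.node (nat_lit 127) (BT.leaf ⟨(nat_lit 1), (nat_lit 0), (nat_lit 0), (nat_lit 0x18027a53a408901040b9d3c80501280), (nat_lit 0x18027a53a408901040b9d3c80501280), (nat_lit 0)⟩) (BT.leaf ⟨(nat_lit 1), (nat_lit 0), (nat_lit 0), (nat_lit 0xf88029d493e00d00901dea02440841), (nat_lit 0xf88029d493e00d00901dea02440841), (nat_lit 0)⟩)))))))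
noncomputable def xP64 : BT Pf := (BT.node (nat_lit 96) (BT.node (nat_lit 80) (BT.node (nat_lit 72) (BT.node (nat_lit 68) (BT.node (nat_lit 66) (BT.node (nat_lit 65) (BT.leaf (.emul [(nat_lit 51), (nat_lit 63)])) (BT.leaf (.emul [(nat_lit 50), (nat_lit 64)]))) (BT.node (nat_lit 67) (BT.leaf (.emul [(nat_lit 51), (nat_lit 65)])) (BT.leaf (.emul [(nat_lit 51), (nat_lit 66)])))) (BT.node (nat_lit 70) (BT.node (nat_lit 69) (BT.leaf (.emul [(nat_lit 50), (nat_lit 67)])) (BT.leaf (.emul [(nat_lit 51), (nat_lit 68)]))) (BT.node (nat_lit 71) (BT.leaf (.emul [(nat_lit 50), (nat_lit 69)])) (BT.leaf (.emul [(nat_lit 51), (nat_lit 51)]))))) (BT.node (nat_lit 76) (BT.node (nat_lit 74) (BT.node (nat_lit 73) (BT.leaf (.emul [(nat_lit 50), (nat_lit 71)])) (BT.leaf (.emul [(nat_lit 51), (nat_lit 72)]))) (BT.node (nat_lit 75) (BT.leaf (.emul [(nat_lit 51), (nat_lit 73)])) (BT.leaf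 (.emul [(nat_lit 51), (nat_lit 74)])))) (BT.node (nat_lit 78) (BT.node (nat_lit 77) (BT.leaf (.emul [(nat_lit 50), (nat_lit 75)])) (BT.leaf (.emul [(nat_lit 51), (nat_lit 76)]))) (BT.node (nat_lit 79) (BT.leaf (.emul [(nat_lit 51), (nat_lit 77)])) (BT.leaf (.emul [(nat_lit 50), (nat_lit 78)])))))) (BT.node (nat_lit 88) (BT.node (nat_lit 84) (BT.node (nat_lit 82) (BT.node (nat_lit 81) (BT.leaf (.emul [(nat_lit 51), (nat_lit 79)])) (BT.leaf (.emul [(nat_lit 50), (nat_lit 80)]))) (BT.node (nat_lit 83) (BT.leaf (.emul [(nat_lit 51), (nat_lit 81)])) (BT.leaf (.emul [(nat_lit 50), (nat_lit 82)])))) (BT.node (nat_lit 86) (BT.node (nat_lit 85) (BT.leaf (.emul [(nat_lit 51), (nat_lit 83)])) (BT.leaf (.emul [(nat_lit 50), (nat_lit 84)]))) (BT.node (nat_lit 87) (BT.leaf (.emul [(nat_lit 51), (nat_lit 85)])) (BT.leaf (.emul [(nat_lit 50), (nat_lit 86)]))))) (BT.node (nat_lit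 92) (BT.node (nat_lit 90) (BT.node (nat_lit 89) (BT.leaf (.emul [(nat_lit 51), (nat_lit 87)])) (BT.leaf (.emul [(nat_lit 51), (nat_lit 88)]))) (BT.node (nat_lit 91) (BT.leaf (.emul [(nat_lit 51), (nat_lit 89)])) (BT.leaf (.emul [(nat_lit 50), (nat_lit 90)])))) (BT.node (nat_lit 94) (BT.node (nat_lit 93) (BT.leaf (.emul [(nat_lit 51), (nat_lit 91)])) (BT.leaf (.emul [(nat_lit 51), (nat_lit 92)]))) (BT.node (nat_lit 95) (BT.leaf (.emul [(nat_lit 50), (nat_lit 93)])) (BT.leaf (.nmul (nat_lit 1) [(nat_lit 0)]))))))) (BT.node (nat_lit 112) (BT.node (nat_lit 104) (BT.node (nat_lit 100) (BT.node (nat_lit 98) (BT.node (nat_lit 97) (BT.leaf (.nmul (nat_lit 95) [(nat_lit 23)])) (BT.leaf (.nmul (nat_lit 96) [(nat_lit 0)]))) (BT.node (nat_lit 99) (BT.leaf (.nmul (nat_lit 97) [(nat_lit 1)])) (BT.leaf (.nmul (nat_lit 98) [(nat_lit 47)])))) (BT.node (nat_lit 102) (BT.node (nat_lit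 101) (BT.leaf (.nmul (nat_lit 47) [(nat_lit 23)])) (BT.leaf (.nmul (nat_lit 100) [(nat_lit 47)]))) (BT.node (nat_lit 103) (BT.leaf (.nmul (nat_lit 101) [(nat_lit 23)])) (BT.leaf (.nmul (nat_lit 102) [(nat_lit 23)]))))) (BT.node (nat_lit 108) (BT.node (nat_lit 106) (BT.node (nat_lit 105) (BT.leaf (.nmul (nat_lit 103) [(nat_lit 47)])) (BT.leaf (.nmul (nat_lit 104) [(nat_lit 23)]))) (BT.node (nat_lit 107) (BT.leaf (.rel (nat_lit 49) (nat_lit 1) [(nat_lit 105), (nat_lit 99)] [⟨(nat_lit 0), [], []⟩])) (BT.leaf (.dfn [(nat_lit 3), (nat_lit 1), (nat_lit 3), (nat_lit 1), (nat_lit 3), (nat_lit 1), (nat_lit 3), (nat_lit 1), (nat_lit 4), (nat_lit 1), (nat_lit 3), (nat_lit 1), (nat_lit 3), (nat_lit 1), (nat_lit 4), (nat_lit 1), (nat_lit 4), (nat_lit 1), (nat_lit 4), (nat_lit 1), (nat_lit 4)])))) (BT.node (nat_lit 110) (BT.node (nat_lit 109) (BT.leaf (.emul [(nat_lit 51), (nat_lit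 50)])) (BT.leaf (.emul [(nat_lit 50), (nat_lit 108)]))) (BT.node (nat_lit 111) (BT.leaf (.emul [(nat_lit 51), (nat_lit 109)])) (BT.leaf (.emul [(nat_lit 50), (nat_lit 110)])))))) (BT.node (nat_lit 120) (BT.node (nat_lit 116) (BT.node (nat_lit 114) (BT.node (nat_lit 113) (BT.leaf (.emul [(nat_lit 70), (nat_lit 111)])) (BT.leaf (.emul [(nat_lit 94), (nat_lit 94)]))) (BT.node (nat_lit 115) (BT.leaf (.emul [(nat_lit 70), (nat_lit 113)])) (BT.leaf (.emul [(nat_lit 70), (nat_lit 114)])))) (BT.node (nat_lit 118) (BT.node (nat_lit 117) (BT.leaf (.emul [(nat_lit 94), (nat_lit 115)])) (BT.leaf (.emul [(nat_lit 70), (nat_lit 116)]))) (BT.node (nat_lit 119) (BT.leaf (.emul [(nat_lit 94), (nat_lit 117)])) (BT.leaf (.emul [(nat_lit 94), (nat_lit 118)]))))) (BT.node (nat_lit 124) (BT.node (nat_lit 122) (BT.node (nat_lit 121) (BT.leaf (.nmul (nat_lit 0) [(nat_lit 1)])) (BT.leaf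 (.nmul (nat_lit 120) [(nat_lit 0)]))) (BT.node (nat_lit 123) (BT.leaf (.nmul (nat_lit 121) [(nat_lit 23)])) (BT.leaf (.nmul (nat_lit 122) [(nat_lit 1)])))) (BT.node (nat_lit 126) (BT.node (nat_lit 125) (BT.leaf (.nmul (nat_lit 123) [(nat_lit 23)])) (BT.leaf (.nmul (nat_lit 124) [(nat_lit 0)]))) (BT.node (nat_lit 127) (BT.leaf (.nmul (nat_lit 23) [(nat_lit 23)])) (BT.leaf (.nmul (nat_lit 126) [(nat_lit 47)]))))))))
noncomputable def xF128 : BT Fc := (BT.node (nat_lit 160) (BT.node (nat_lit 144) (BT.node (nat_lit 136) (BT.node (nat_lit 132) (BT.node (nat_lit 130) (BT.node (nat_lit 129) (BT.leaf ⟨(nat_lit 1), (nat_lit 0), (nat_lit 0), (nat_lit 0x14e9002104119cd401e34088827a240), (nat_lit 0x14e9002104119cd401e34088827a240), (nat_lit 0)⟩) (BT.leaf ⟨(nat_lit 1), (nat_lit 0), (nat_lit 0), (nat_lit 0x60040fc614020b3a7ba101078420c0), (nat_lit 0x60040fc614020b3a7ba101078420c0),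 (nat_lit 0)⟩)) (BT.node (nat_lit 131) (BT.leaf ⟨(nat_lit 1), (nat_lit 0), (nat_lit 0), (nat_lit 0x145e7a44d4d4a1f787f4debbf37a6b4), (nat_lit 0x145e7a44d4d4a1f787f4debbf37a6b4), (nat_lit 0)⟩) (BT.leaf ⟨(nat_lit 1), (nat_lit 0), (nat_lit 0), (nat_lit 0x1d0802904de00924d7890188123b806), (nat_lit 0x1d0802904de00924d7890188123b806), (nat_lit 0)⟩))) (BT.node (nat_lit 134) (BT.node (nat_lit 133) (BT.leaf ⟨(nat_lit 2), (nat_lit 2), (nat_lit 2), (nat_lit 0x1edff45e0ad16a305df82edd46f45ec), (nat_lit 0), (nat_lit 0x7a132976f6f6a263dec9d1d46f55e9)⟩) (BT.leaf ⟨(nat_lit 3), (nat_lit 2), (nat_lit 1), (nat_lit 0x1001001001001001001001001001001), (nat_lit 0x107989c9f1db37a5f49c9345d9d23d8), (nat_lit 0x1001001001001001001001001001001)⟩)) (BT.node (nat_lit 135) (BT.leaf ⟨(nat_lit 2), (nat_lit 1), (nat_lit 1), (nat_lit 0xc4fc6f89d1affbcef85e1beb7c78b7), (nat_lit 0), (nat_lit 0x14eac6a804119cd02220420c010132f)⟩)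 (BT.leaf ⟨(nat_lit 2), (nat_lit 1), (nat_lit 1), (nat_lit 0x10037a008003cea4f004040203a325f), (nat_lit 0), (nat_lit 0x1003a373a008f8c042b9200043c6880)⟩)))) (BT.node (nat_lit 140) (BT.node (nat_lit 138) (BT.node (nat_lit 137) (BT.leaf ⟨(nat_lit 2), (nat_lit 1), (nat_lit 1), (nat_lit 0x2e6c6a204089010428060084101600), (nat_lit 0), (nat_lit 0x1e33c6f85f3bf3746f89f5bc37c7d34)⟩) (BT.leaf ⟨(nat_lit 2), (nat_lit 1), (nat_lit 1), (nat_lit 0xf8401082014aec03022007273a2102), (nat_lit 0), (nat_lit 0x14eaa320160017d0869e50088100208)⟩)) (BT.node (nat_lit 139) (BT.leaf ⟨(nat_lit 2), (nat_lit 1), (nat_lit 1), (nat_lit 0xcd4d9766e85297a77c6cd2d1aa3747), (nat_lit 0), (nat_lit 0x744ebeef38a3e86ab6c3ea557499d4)⟩) (BT.leaf ⟨(nat_lit 2), (nat_lit 1), (nat_lit 1), (nat_lit 0x977c79021044b411012e70aefa2006), (nat_lit 0), (nat_lit 0xcd749e46f8d297b37567b1d1fa35ff)⟩))) (BT.node (nat_lit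 142) (BT.node (nat_lit 141) (BT.leaf ⟨(nat_lit 2), (nat_lit 1), (nat_lit 1), (nat_lit 0x1000eac9e021ce8800010811cc01080), (nat_lit 0), (nat_lit 0x1003a30200020224f080e74ae401010)⟩) (BT.leaf ⟨(nat_lit 2), (nat_lit 1), (nat_lit 1), (nat_lit 0x1fd390af44d52af7afdb89a738d96d4), (nat_lit 0), (nat_lit 0x1fd390af44d52af7afdb89a738d96d4)⟩)) (BT.node (nat_lit 143) (BT.leaf ⟨(nat_lit 2), (nat_lit 1), (nat_lit 1), (nat_lit 0xc4d32d34f0ae37c48b77fdf37c7e8d), (nat_lit 0), (nat_lit 0x1c18d97470f9d0affbd8f8dd9ba2669)⟩) (BT.leaf ⟨(nat_lit 1), (nat_lit 0), (nat_lit 0), (nat_lit 0x14d065e8de1ac4fd6f9df0be2532bfe), (nat_lit 0x14d065e8de1ac4fd6f9df0be2532bfe), (nat_lit 0)⟩))))) (BT.node (nat_lit 152) (BT.node (nat_lit 148) (BT.node (nat_lit 146) (BT.node (nat_lit 145) (BT.leaf ⟨(nat_lit 1), (nat_lit 0), (nat_lit 0), (nat_lit 0x1e43bebe17c52951b7e37c66f26c95a), (nat_lit 0x1e43bebe17c52951b7e37c66f26c95a),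 (nat_lit 0)⟩) (BT.leaf ⟨(nat_lit 1), (nat_lit 0), (nat_lit 0), (nat_lit 0x1d9814299044282299f5043b5030220), (nat_lit 0x1d9814299044282299f5043b5030220), (nat_lit 0)⟩)) (BT.node (nat_lit 147) (BT.leaf ⟨(nat_lit 1), (nat_lit 0), (nat_lit 0), (nat_lit 0x189e5f3131da9aa4e48ed3d26a6f41e), (nat_lit 0x189e5f3131da9aa4e48ed3d26a6f41e), (nat_lit 0)⟩) (BT.leaf ⟨(nat_lit 1), (nat_lit 0), (nat_lit 0), (nat_lit 0x1fd37a44dda9bc33a1cedea9ab7b6b4), (nat_lit 0x1fd37a44dda9bc33a1cedea9ab7b6b4), (nat_lit 0)⟩))) (BT.node (nat_lit 150) (BT.node (nat_lit 149) (BT.leaf ⟨(nat_lit 1), (nat_lit 0), (nat_lit 0), (nat_lit 0x1e263b904009268221d1019bc042006), (nat_lit 0x1e263b904009268221d1019bc042006), (nat_lit 0)⟩) (BT.leaf ⟨(nat_lit 1), (nat_lit 0), (nat_lit 0), (nat_lit 0x97c013e3002020200100400137a473), (nat_lit 0x97c013e3002020200100400137a473), (nat_lit 0)⟩)) (BT.node (nat_lit 151)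 (BT.leaf ⟨(nat_lit 1), (nat_lit 0), (nat_lit 0), (nat_lit 0x157279b358f79ce38b498e63b63bc53), (nat_lit 0x157279b358f79ce38b498e63b63bc53), (nat_lit 0)⟩) (BT.leaf ⟨(nat_lit 2), (nat_lit 2), (nat_lit 2), (nat_lit 0x15a0409af10107bdd2806c79d16f955), (nat_lit 0), (nat_lit 0xbe66f1950821082021f4810cc300c0)⟩)))) (BT.node (nat_lit 156) (BT.node (nat_lit 154) (BT.node (nat_lit 153) (BT.leaf ⟨(nat_lit 2), (nat_lit 1), (nat_lit 1), (nat_lit 0x878d020049eb6e42994410825f030), (nat_lit 0), (nat_lit 0x410840d56bf3a080101c8c602cf500)⟩) (BT.leaf ⟨(nat_lit 2), (nat_lit 1), (nat_lit 1), (nat_lit 0x6bd6fe74110202b43631046024041e), (nat_lit 0), (nat_lit 0x108b7844080be50ffcd181c1824195)⟩)) (BT.node (nat_lit 155) (BT.leaf ⟨(nat_lit 2), (nat_lit 1), (nat_lit 1), (nat_lit 0x11edf5a08111783c2a5701006024408), (nat_lit 0), (nat_lit 0x248478511002ba700c01095f9947b)⟩) (BT.leaf ⟨(nat_lit 2),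 (nat_lit 1), (nat_lit 1), (nat_lit 0x1ee96f955111c3441363ad06011c8c0), (nat_lit 0), (nat_lit 0xb49d273ee75ceeb28b7f741f38d1ce)⟩))) (BT.node (nat_lit 158) (BT.node (nat_lit 157) (BT.leaf ⟨(nat_lit 2), (nat_lit 1), (nat_lit 1), (nat_lit 0x77749b8aa96714ea2362aa7d5ea8fa), (nat_lit 0), (nat_lit 0xc4fc7bfef0b4d3c4fcd71ba88bcfad)⟩) (BT.leaf ⟨(nat_lit 2), (nat_lit 1), (nat_lit 1), (nat_lit 0x745ea995bab52c7d5a63ea554eb9c5), (nat_lit 0), (nat_lit 0x15a3f4176bd93a2f05e998e7a2f519b)⟩)) (BT.node (nat_lit 159) (BT.leaf ⟨(nat_lit 2), (nat_lit 1), (nat_lit 1), (nat_lit 0x15a15760bea3781697b79d17e2f45e9), (nat_lit 0), (nat_lit 0x976f500a805ce0968060851c77b003)⟩) (BT.leaf ⟨(nat_lit 2), (nat_lit 1), (nat_lit 1), (nat_lit 0x1723f419bc177b3dbda8bd25d98e4c7), (nat_lit 0), (nat_lit 0xc4ec6dd2d45e75c6c6e7fdf3532f85)⟩)))))) (BT.node (nat_lit 176) (BT.node (nat_lit 168) (BT.node (nat_lit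 164) (BT.node (nat_lit 162) (BT.node (nat_lit 161) (BT.leaf ⟨(nat_lit 2), (nat_lit 1), (nat_lit 1), (nat_lit 0x15a2f52d2337782d475198e7a132df8), (nat_lit 0), (nat_lit 0x74790d4bbaa7d47d1d432b699eab8a)⟩) (BT.leaf ⟨(nat_lit 2), (nat_lit 1), (nat_lit 1), (nat_lit 0x1721577b75a57b3a8e0bbf13a2f4176), (nat_lit 0), (nat_lit 0xf86f500625aaee0100a8e210b7b49c)⟩)) (BT.node (nat_lit 163) (BT.leaf ⟨(nat_lit 1), (nat_lit 0), (nat_lit 0), (nat_lit 0x15ce79da68671c739f9050f14e3b8ed), (nat_lit 0x15ce79da68671c739f9050f14e3b8ed), (nat_lit 0)⟩) (BT.leaf ⟨(nat_lit 1), (nat_lit 0), (nat_lit 0), (nat_lit 0x1eb43003004428010f660480825f6d4), (nat_lit 0x1eb43003004428010f660480825f6d4), (nat_lit 0)⟩))) (BT.node (nat_lit 166) (BT.node (nat_lit 165) (BT.leaf ⟨(nat_lit 2), (nat_lit 2), (nat_lit 2), (nat_lit 0x77749dd5dde751b60fa7148db909f5), (nat_lit 0), (nat_lit 0x200408c0105078c070d35ea0240155)⟩)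 (BT.leaf ⟨(nat_lit 1), (nat_lit 0), (nat_lit 0), (nat_lit 0x1d9887c53440090185c80427d5e1ed4), (nat_lit 0x1d9887c53440090185c80427d5e1ed4), (nat_lit 0)⟩)) (BT.node (nat_lit 167) (BT.leaf ⟨(nat_lit 1), (nat_lit 0), (nat_lit 0), (nat_lit 0x1bc23bf3e3a209082789257d092da04), (nat_lit 0x1bc23bf3e3a209082789257d092da04), (nat_lit 0)⟩) (BT.leaf ⟨(nat_lit 1), (nat_lit 0), (nat_lit 0), (nat_lit 0x126a5f54b91d27989e272ec27ad8c9f), (nat_lit 0x126a5f54b91d27989e272ec27ad8c9f), (nat_lit 0)⟩)))) (BT.node (nat_lit 172) (BT.node (nat_lit 170) (BT.node (nat_lit 169) (BT.leaf ⟨(nat_lit 1), (nat_lit 0), (nat_lit 0), (nat_lit 0x108202346a007a20109e71b10039d2f), (nat_lit 0x108202346a007a20109e71b10039d2f), (nat_lit 0)⟩) (BT.leaf ⟨(nat_lit 1), (nat_lit 0), (nat_lit 0), (nat_lit 0x95c2474e01802b7e4080111ec14009), (nat_lit 0x95c2474e01802b7e4080111ec14009), (nat_lit 0)⟩)) (BT.node (nat_lit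 171) (BT.leaf ⟨(nat_lit 1), (nat_lit 0), (nat_lit 0), (nat_lit 0xcbd01600d3ca01021e3ce688100208), (nat_lit 0xcbd01600d3ca01021e3ce688100208), (nat_lit 0)⟩) (BT.leaf ⟨(nat_lit 1), (nat_lit 0), (nat_lit 0), (nat_lit 0x6be79d681119d0407ba105078408a0), (nat_lit 0x6be79d681119d0407ba105078408a0), (nat_lit 0)⟩))) (BT.node (nat_lit 174) (BT.node (nat_lit 173) (BT.leaf ⟨(nat_lit 1), (nat_lit 0), (nat_lit 0), (nat_lit 0x1f6f7b2f4da9bc37aff450fbf27a26a), (nat_lit 0x1f6f7b2f4da9bc37aff450fbf27a26a), (nat_lit 0)⟩) (BT.leaf ⟨(nat_lit 1), (nat_lit 0), (nat_lit 0), (nat_lit 0x4ae3bdec934011023e700c0904200c), (nat_lit 0x4ae3bdec934011023e700c0904200c), (nat_lit 0)⟩)) (BT.node (nat_lit 175) (BT.leaf ⟨(nat_lit 1), (nat_lit 0), (nat_lit 0), (nat_lit 0x4bc014000100044073a8e727b7a020), (nat_lit 0x4bc014000100044073a8e727b7a020), (nat_lit 0)⟩) (BT.leaf ⟨(nat_lit 1), (nat_lit 0), (nat_lit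 0), (nat_lit 0x66e79f90ce71ee19da68a6a1e3bc73), (nat_lit 0x66e79f90ce71ee19da68a6a1e3bc73), (nat_lit 0)⟩))))) (BT.node (nat_lit 184) (BT.node (nat_lit 180) (BT.node (nat_lit 178) (BT.node (nat_lit 177) (BT.leaf ⟨(nat_lit 2), (nat_lit 1), (nat_lit 1), (nat_lit 0x73b8d33ae74d26b2f38e77bbf9953a), (nat_lit 0), (nat_lit 0x60040f0df75f194041e104d8c48088)⟩) (BT.leaf ⟨(nat_lit 2), (nat_lit 1), (nat_lit 1), (nat_lit 0x80402841bd3cedf100125dd1c409d4), (nat_lit 0), (nat_lit 0x7160848e024441f9f9de5484127810)⟩)) (BT.node (nat_lit 179) (BT.leaf ⟨(nat_lit 2), (nat_lit 1), (nat_lit 1), (nat_lit 0x3e887b96d444b9b84c7ab9f6c93e69), (nat_lit 0), (nat_lit 0xdc0735d2acae282fec14ba6f31621f)⟩) (BT.leaf ⟨(nat_lit 2), (nat_lit 1), (nat_lit 1), (nat_lit 0xcd63b8ed8e3573c83fe6939ce79a87), (nat_lit 0), (nat_lit 0xcd63b8ed8e3573c83fe6939ce79a87)⟩))) (BT.node (nat_lit 182) (BT.node (nat_lit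 181) (BT.leaf ⟨(nat_lit 1), (nat_lit 0), (nat_lit 0), (nat_lit 0x110208346840e36007e35e827a00d2f), (nat_lit 0x110208346840e36007e35e827a00d2f), (nat_lit 0)⟩) (BT.leaf ⟨(nat_lit 1), (nat_lit 0), (nat_lit 0), (nat_lit 0x1b920848e38afcc0c79d0a1d5848210), (nat_lit 0x1b920848e38afcc0c79d0a1d5848210), (nat_lit 0)⟩)) (BT.node (nat_lit 183) (BT.leaf ⟨(nat_lit 1), (nat_lit 0), (nat_lit 0), (nat_lit 0xc00a0500c8cd7cc0102773fd0840d5), (nat_lit 0xc00a0500c8cd7cc0102773fd0840d5), (nat_lit 0)⟩) (BT.leaf ⟨(nat_lit 3), (nat_lit 2), (nat_lit 2), (nat_lit 0x1400841046be403fa4e830035571e46), (nat_lit 0x2484257018820051dd03178014785), (nat_lit 0xcd63b8ed8e3573c83fe6939ce79a87)⟩)))) (BT.node (nat_lit 188) (BT.node (nat_lit 186) (BT.node (nat_lit 185) (BT.leaf ⟨(nat_lit 1), (nat_lit 0), (nat_lit 0), (nat_lit 0x1001100021279f1a5f25eae4ea880), (nat_lit 0x1001100021279f1a5f25eae4ea880),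 (nat_lit 0)⟩) (BT.leaf ⟨(nat_lit 1), (nat_lit 0), (nat_lit 0), (nat_lit 0x6393e2e8e0279d9d425de3008ef5), (nat_lit 0x6393e2e8e0279d9d425de3008ef5), (nat_lit 0)⟩)) (BT.node (nat_lit 187) (BT.leaf ⟨(nat_lit 1), (nat_lit 0), (nat_lit 0), (nat_lit 0x131f0ab70fb66bc97669ab84b417b2f), (nat_lit 0x131f0ab70fb66bc97669ab84b417b2f), (nat_lit 0)⟩) (BT.leaf ⟨(nat_lit 1), (nat_lit 0), (nat_lit 0), (nat_lit 0x15a0421801003005070d110a0279e74), (nat_lit 0x15a0421801003005070d110a0279e74), (nat_lit 0)⟩))) (BT.node (nat_lit 190) (BT.node (nat_lit 189) (BT.leaf ⟨(nat_lit 1), (nat_lit 0), (nat_lit 0), (nat_lit 0xbd37a517debad1354abda99d37b6f0), (nat_lit 0xbd37a517debad1354abda99d37b6f0), (nat_lit 0)⟩) (BT.leaf ⟨(nat_lit 1), (nat_lit 0), (nat_lit 0), (nat_lit 0xf9e3bf4201801b7812b0081104249a), (nat_lit 0xf9e3bf4201801b7812b0081104249a), (nat_lit 0)⟩)) (BT.node (nat_lit 191) (BT.leaf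 ⟨(nat_lit 1), (nat_lit 0), (nat_lit 0), (nat_lit 0x1ce8012b90411cc0212f0021037a008), (nat_lit 0x1ce8012b90411cc0212f0021037a008), (nat_lit 0)⟩) (BT.leaf ⟨(nat_lit 1), (nat_lit 0), (nat_lit 0), (nat_lit 0x169a79d738e714c7699b8f71c63be73), (nat_lit 0x169a79d738e714c7699b8f71c63be73), (nat_lit 0)⟩)))))))
noncomputable def xP128 : BT Pf := (BT.node (nat_lit 160) (BT.node (nat_lit 144) (BT.node (nat_lit 136) (BT.node (nat_lit 132) (BT.node (nat_lit 130) (BT.node (nat_lit 129) (BT.leaf (.nmul (nat_lit 127) [(nat_lit 23)])) (BT.leaf (.nmul (nat_lit 128) [(nat_lit 23)]))) (BT.node (nat_lit 131) (BT.leaf (.nmul (nat_lit 129) [(nat_lit 23)])) (BT.leaf (.nmul (nat_lit 130) [(nat_lit 47)])))) (BT.node (nat_lit 134) (BT.node (nat_lit 133) (BT.leaf (.cmp (nat_lit 107) ⟨(nat_lit 107), [(nat_lit 112), (nat_lit 119)], [(nat_lit 131), (nat_lit 125)]⟩)) (BT.leaf (.inv (nat_lit 107))))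 (BT.node (nat_lit 135) (BT.leaf (.emul [(nat_lit 70), (nat_lit 94)])) (BT.leaf (.emul [(nat_lit 94), (nat_lit 134)]))))) (BT.node (nat_lit 140) (BT.node (nat_lit 138) (BT.node (nat_lit 137) (BT.leaf (.emul [(nat_lit 70), (nat_lit 135)])) (BT.leaf (.emul [(nat_lit 94), (nat_lit 136)]))) (BT.node (nat_lit 139) (BT.leaf (.emul [(nat_lit 94), (nat_lit 137)])) (BT.leaf (.emul [(nat_lit 70), (nat_lit 138)])))) (BT.node (nat_lit 142) (BT.node (nat_lit 141) (BT.leaf (.emul [(nat_lit 70), (nat_lit 139)])) (BT.leaf (.emul [(nat_lit 94), (nat_lit 140)]))) (BT.node (nat_lit 143) (BT.leaf (.emul [(nat_lit 70), (nat_lit 141)])) (BT.leaf (.nmul (nat_lit 1) [(nat_lit 1)])))))) (BT.node (nat_lit 152) (BT.node (nat_lit 148) (BT.node (nat_lit 146) (BT.node (nat_lit 145) (BT.leaf (.nmul (nat_lit 143) [(nat_lit 0)])) (BT.leaf (.nmul (nat_lit 47) [(nat_lit 47)]))) (BT.node (nat_lit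 147) (BT.leaf (.nmul (nat_lit 145) [(nat_lit 23)])) (BT.leaf (.nmul (nat_lit 146) [(nat_lit 47)])))) (BT.node (nat_lit 150) (BT.node (nat_lit 149) (BT.leaf (.nmul (nat_lit 147) [(nat_lit 47)])) (BT.leaf (.nmul (nat_lit 148) [(nat_lit 23)]))) (BT.node (nat_lit 151) (BT.leaf (.nmul (nat_lit 149) [(nat_lit 47)])) (BT.leaf (.cmp (nat_lit 107) ⟨(nat_lit 107), [(nat_lit 110), (nat_lit 142)], [(nat_lit 150), (nat_lit 144)]⟩))))) (BT.node (nat_lit 156) (BT.node (nat_lit 154) (BT.node (nat_lit 153) (BT.leaf (.emul [(nat_lit 70), (nat_lit 50)])) (BT.leaf (.emul [(nat_lit 94), (nat_lit 152)]))) (BT.node (nat_lit 155) (BT.leaf (.emul [(nat_lit 51), (nat_lit 153)])) (BT.leaf (.emul [(nat_lit 51), (nat_lit 154)])))) (BT.node (nat_lit 158) (BT.node (nat_lit 157) (BT.leaf (.emul [(nat_lit 94), (nat_lit 114)])) (BT.leaf (.emul [(nat_lit 94), (nat_lit 156)]))) (BT.node (nat_lit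 159) (BT.leaf (.emul [(nat_lit 70), (nat_lit 157)])) (BT.leaf (.emul [(nat_lit 94), (nat_lit 158)]))))))) (BT.node (nat_lit 176) (BT.node (nat_lit 168) (BT.node (nat_lit 164) (BT.node (nat_lit 162) (BT.node (nat_lit 161) (BT.leaf (.emul [(nat_lit 94), (nat_lit 159)])) (BT.leaf (.emul [(nat_lit 94), (nat_lit 160)]))) (BT.node (nat_lit 163) (BT.leaf (.nmul (nat_lit 100) [(nat_lit 23)])) (BT.leaf (.nmul (nat_lit 162) [(nat_lit 47)])))) (BT.node (nat_lit 166) (BT.node (nat_lit 165) (BT.leaf (.cmp (nat_lit 107) ⟨(nat_lit 107), [(nat_lit 155), (nat_lit 161)], [(nat_lit 163), (nat_lit 144)]⟩)) (BT.leaf (.nmul (nat_lit 0) [(nat_lit 23)]))) (BT.node (nat_lit 167) (BT.leaf (.nmul (nat_lit 165) [(nat_lit 1)])) (BT.leaf (.nmul (nat_lit 166) [(nat_lit 47)]))))) (BT.node (nat_lit 172) (BT.node (nat_lit 170) (BT.node (nat_lit 169) (BT.leaf (.nmul (nat_lit 167) [(nat_lit 1)]))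 (BT.leaf (.nmul (nat_lit 23) [(nat_lit 47)]))) (BT.node (nat_lit 171) (BT.leaf (.nmul (nat_lit 169) [(nat_lit 47)])) (BT.leaf (.nmul (nat_lit 170) [(nat_lit 23)])))) (BT.node (nat_lit 174) (BT.node (nat_lit 173) (BT.leaf (.nmul (nat_lit 171) [(nat_lit 23)])) (BT.leaf (.nmul (nat_lit 172) [(nat_lit 23)]))) (BT.node (nat_lit 175) (BT.leaf (.nmul (nat_lit 173) [(nat_lit 23)])) (BT.leaf (.nmul (nat_lit 174) [(nat_lit 47)])))))) (BT.node (nat_lit 184) (BT.node (nat_lit 180) (BT.node (nat_lit 178) (BT.node (nat_lit 177) (BT.leaf (.emul [(nat_lit 50), (nat_lit 51)])) (BT.leaf (.emul [(nat_lit 51), (nat_lit 176)]))) (BT.node (nat_lit 179) (BT.leaf (.emul [(nat_lit 51), (nat_lit 177)])) (BT.leaf (.emul [(nat_lit 51), (nat_lit 178)])))) (BT.node (nat_lit 182) (BT.node (nat_lit 181) (BT.leaf (.nmul (nat_lit 1) [(nat_lit 23)])) (BT.leaf (.nmul (nat_lit 180) [(nat_lit 0)])))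 (BT.node (nat_lit 183) (BT.leaf (.nmul (nat_lit 181) [(nat_lit 1)])) (BT.leaf (.rel (nat_lit 133) (nat_lit 1) [(nat_lit 175), (nat_lit 168)] [⟨(nat_lit 107), [(nat_lit 179)], [(nat_lit 149), (nat_lit 182)]⟩]))))) (BT.node (nat_lit 188) (BT.node (nat_lit 186) (BT.node (nat_lit 185) (BT.leaf (.nmul (nat_lit 166) [(nat_lit 23)])) (BT.leaf (.nmul (nat_lit 184) [(nat_lit 23)]))) (BT.node (nat_lit 187) (BT.leaf (.nmul (nat_lit 185) [(nat_lit 1)])) (BT.leaf (.nmul (nat_lit 126) [(nat_lit 23)])))) (BT.node (nat_lit 190) (BT.node (nat_lit 189) (BT.leaf (.nmul (nat_lit 187) [(nat_lit 23)])) (BT.leaf (.nmul (nat_lit 188) [(nat_lit 47)]))) (BT.node (nat_lit 191) (BT.leaf (.nmul (nat_lit 189) [(nat_lit 23)])) (BT.leaf (.nmul (nat_lit 190) [(nat_lit 47)]))))))))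
noncomputable def xF192 : BT Fc := (BT.node (nat_lit 224) (BT.node (nat_lit 208) (BT.node (nat_lit 200) (BT.node (nat_lit 196) (BT.node (nat_lit 194) (BT.node (nat_lit 193) (BT.leaf ⟨(nat_lit 1), (nat_lit 0), (nat_lit 0), (nat_lit 0x4b7b3e1007270054020451c401082), (nat_lit 0x4b7b3e1007270054020451c401082), (nat_lit 0)⟩) (BT.leaf ⟨(nat_lit 1), (nat_lit 0), (nat_lit 0), (nat_lit 0xcd63bb49ce71ee2999b1db1c639287), (nat_lit 0xcd63bb49ce71ee2999b1db1c639287), (nat_lit 0)⟩)) (BT.node (nat_lit 195) (BT.leaf ⟨(nat_lit 2), (nat_lit 1), (nat_lit 1), (nat_lit 0x878d6d406008910299b9114e5f024), (nat_lit 0), (nat_lit 0xd278d07caca2df9d7baddfcefbd33a)⟩) (BT.leaf ⟨(nat_lit 2), (nat_lit 1), (nat_lit 1), (nat_lit 0x1722f51e8bc17a6f64c7bf13a1572d2), (nat_lit 0), (nat_lit 0x1fd0bcef0fb72ad7a6fcce9b527a6b4)⟩))) (BT.node (nat_lit 198) (BT.node (nat_lit 197) (BT.leaf ⟨(nat_lit 2), (nat_lit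 1), (nat_lit 1), (nat_lit 0x1fd37a44dda9bc33a1cedea9ab7b6b4), (nat_lit 0), (nat_lit 0x14ea7a6004408054032fce690101208)⟩) (BT.leaf ⟨(nat_lit 2), (nat_lit 1), (nat_lit 1), (nat_lit 0xc4ec6bfed1bc37cefcdf13e17c6c6e), (nat_lit 0), (nat_lit 0xf850108208404a3882200c02bc792d)⟩)) (BT.node (nat_lit 199) (BT.leaf ⟨(nat_lit 1), (nat_lit 0), (nat_lit 0), (nat_lit 0x63995e08f67777e2b1f0a95c84088), (nat_lit 0x63995e08f67777e2b1f0a95c84088), (nat_lit 0)⟩) (BT.leaf ⟨(nat_lit 1), (nat_lit 0), (nat_lit 0), (nat_lit 0x1002f473a572080204737c601001001), (nat_lit 0x1002f473a572080204737c601001001), (nat_lit 0)⟩)))) (BT.node (nat_lit 204) (BT.node (nat_lit 202) (BT.node (nat_lit 201) (BT.leaf ⟨(nat_lit 1), (nat_lit 0), (nat_lit 0), (nat_lit 0x17a600901f1927c20803e7600639201), (nat_lit 0x17a600901f1927c20803e7600639201), (nat_lit 0)⟩) (BT.leaf ⟨(nat_lit 1), (nat_lit 0), (nat_lit 0), (nat_lit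 0x1803f41e30be8212067360080501280), (nat_lit 0x1803f41e30be8212067360080501280), (nat_lit 0)⟩)) (BT.node (nat_lit 203) (BT.leaf ⟨(nat_lit 1), (nat_lit 0), (nat_lit 0), (nat_lit 0x6572c38a46c555b66ef38a3e8ea9dd), (nat_lit 0x6572c38a46c555b66ef38a3e8ea9dd), (nat_lit 0)⟩) (BT.leaf ⟨(nat_lit 1), (nat_lit 0), (nat_lit 0), (nat_lit 0xae40173a1001000440093d1cf7a004), (nat_lit 0xae40173a1001000440093d1cf7a004), (nat_lit 0)⟩))) (BT.node (nat_lit 206) (BT.node (nat_lit 205) (BT.leaf ⟨(nat_lit 1), (nat_lit 0), (nat_lit 0), (nat_lit 0x1e3239101dea10410de901200c02801), (nat_lit 0x1e3239101dea10410de901200c02801), (nat_lit 0)⟩) (BT.leaf ⟨(nat_lit 1), (nat_lit 0), (nat_lit 0), (nat_lit 0xac414785018028042574102224b47b), (nat_lit 0xac414785018028042574102224b47b), (nat_lit 0)⟩)) (BT.node (nat_lit 207) (BT.leaf ⟨(nat_lit 1), (nat_lit 0), (nat_lit 0), (nat_lit 0xc01000b9d3ca0339b2f4029027a220),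 (nat_lit 0xc01000b9d3ca0339b2f4029027a220), (nat_lit 0)⟩) (BT.leaf ⟨(nat_lit 1), (nat_lit 0), (nat_lit 0), (nat_lit 0xd8c40f0d1119d0411af5003004241e), (nat_lit 0xd8c40f0d1119d0411af5003004241e), (nat_lit 0)⟩))))) (BT.node (nat_lit 216) (BT.node (nat_lit 212) (BT.node (nat_lit 210) (BT.node (nat_lit 209) (BT.leaf ⟨(nat_lit 1), (nat_lit 0), (nat_lit 0), (nat_lit 0x1c18242f9480110605a808210a6f6b4), (nat_lit 0x1c18242f9480110605a808210a6f6b4), (nat_lit 0)⟩) (BT.leaf ⟨(nat_lit 3), (nat_lit 2), (nat_lit 1), (nat_lit 0x20ab441e501ee8d7c801108e679890), (nat_lit 0x17e15481027e24231f9d02844127f2a), (nat_lit 0x11bae978d16fe3386fadb1ac4d32f85)⟩)) (BT.node (nat_lit 211) (BT.leaf ⟨(nat_lit 3), (nat_lit 1), (nat_lit 2), (nat_lit 0x17e15481027e24231f9d02844127f2a), (nat_lit 0x20ab441e501ee8d7c801108e679890), (nat_lit 0x3548435f240ee48868d202b8ecf140)⟩) (BT.leaf ⟨(nat_lit 2), (nat_lit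 1), (nat_lit 1), (nat_lit 0x63995e08f67777e2b1f0a95c84088), (nat_lit 0), (nat_lit 0x1e43bebe17c52951b7e37c66f26c95a)⟩))) (BT.node (nat_lit 214) (BT.node (nat_lit 213) (BT.leaf ⟨(nat_lit 2), (nat_lit 1), (nat_lit 1), (nat_lit 0x1002f473a572080204737c601001001), (nat_lit 0), (nat_lit 0x1002f473a572080204737c601001001)⟩) (BT.leaf ⟨(nat_lit 1), (nat_lit 0), (nat_lit 0), (nat_lit 0x71554850dc8fcc0c01091c84048756), (nat_lit 0x71554850dc8fcc0c01091c84048756), (nat_lit 0)⟩)) (BT.node (nat_lit 215) (BT.leaf ⟨(nat_lit 2), (nat_lit 2), (nat_lit 2), (nat_lit 0x7d4140304400881027f04828087c53), (nat_lit 0), (nat_lit 0x1e16e978dd1be329a7cd4cba8ac6c6e)⟩) (BT.leaf ⟨(nat_lit 3), (nat_lit 2), (nat_lit 3), (nat_lit 0x107989c9f1db37a5f49c9345d9d23d8), (nat_lit 0x1001001001001001001001001001001), (nat_lit 0x1001001001001001001001001001001)⟩)))) (BT.node (nat_lit 220) (BT.node (nat_lit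 218) (BT.node (nat_lit 217) (BT.leaf ⟨(nat_lit 2), (nat_lit 2), (nat_lit 2), (nat_lit 0xc4c65dd216fe27c67ad7fda8b2c46e), (nat_lit 0), (nat_lit 0x11cf654533363b5a4e73866a1c39da6)⟩) (BT.leaf ⟨(nat_lit 2), (nat_lit 2), (nat_lit 2), (nat_lit 0x923b806089bc0e8f3ee840300a104), (nat_lit 0), (nat_lit 0xc4ed8c9aa9627876bd8c4f271d2176)⟩)) (BT.node (nat_lit 219) (BT.leaf ⟨(nat_lit 2), (nat_lit 2), (nat_lit 2), (nat_lit 0x208420a0ad0603dd28035e55679f0d), (nat_lit 0), (nat_lit 0xe5817fdb27e4b734d5c1f54bc879af)⟩) (BT.leaf ⟨(nat_lit 2), (nat_lit 2), (nat_lit 2), (nat_lit 0x2011cb63104223dd280141c3640674), (nat_lit 0), (nat_lit 0x569f59e37cef8705fe3a2e6f1e1b63)⟩))) (BT.node (nat_lit 222) (BT.node (nat_lit 221) (BT.leaf ⟨(nat_lit 2), (nat_lit 2), (nat_lit 2), (nat_lit 0x203c69004bef8c20001e74012f42b9), (nat_lit 0), (nat_lit 0x11c4ebf38104089f080301404af5006)⟩) (BT.leaf ⟨(nat_lit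 2), (nat_lit 2), (nat_lit 2), (nat_lit 0x15a18e5e033731ed45ec5a5d46f55e9), (nat_lit 0), (nat_lit 0x11cd0010080008097810e74ae6f4004)⟩)) (BT.node (nat_lit 223) (BT.leaf ⟨(nat_lit 2), (nat_lit 2), (nat_lit 2), (nat_lit 0x10035cfe368d0204f2f4880e372fdd5), (nat_lit 0), (nat_lit 0x84147ad0497201027f44028087c20)⟩) (BT.leaf ⟨(nat_lit 2), (nat_lit 2), (nat_lit 2), (nat_lit 0x1edd2f370a33b05afb8a43f2af165d2), (nat_lit 0), (nat_lit 0x104a01950a16a0210c0f9b0ccb7c40)⟩)))))) (BT.node (nat_lit 240) (BT.node (nat_lit 232) (BT.node (nat_lit 228) (BT.node (nat_lit 226) (BT.node (nat_lit 225) (BT.leaf ⟨(nat_lit 1), (nat_lit 0), (nat_lit 0), (nat_lit 0x87c737b74fee292e9bc0bfb052db70), (nat_lit 0x87c737b74fee292e9bc0bfb052db70), (nat_lit 0)⟩) (BT.leaf ⟨(nat_lit 1), (nat_lit 0), (nat_lit 0), (nat_lit 0x56bbec6e7cf295f19bc46df8de1f90), (nat_lit 0x56bbec6e7cf295f19bc46df8de1f90), (nat_lit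 0)⟩)) (BT.node (nat_lit 227) (BT.leaf ⟨(nat_lit 1), (nat_lit 0), (nat_lit 0), (nat_lit 0x87e6f7cd866108202f948010430044), (nat_lit 0x87e6f7cd866108202f948010430044), (nat_lit 0)⟩) (BT.leaf ⟨(nat_lit 1), (nat_lit 0), (nat_lit 0), (nat_lit 0x6542421f0850cc20fcd1809026f040), (nat_lit 0x6542421f0850cc20fcd1809026f040), (nat_lit 0)⟩))) (BT.node (nat_lit 230) (BT.node (nat_lit 229) (BT.leaf ⟨(nat_lit 1), (nat_lit 0), (nat_lit 0), (nat_lit 0x490112d104088052bb08400f7b471), (nat_lit 0x490112d104088052bb08400f7b471), (nat_lit 0)⟩) (BT.leaf ⟨(nat_lit 1), (nat_lit 0), (nat_lit 0), (nat_lit 0x1ee840d6818020140180104220420a0), (nat_lit 0x1ee840d6818020140180104220420a0), (nat_lit 0)⟩)) (BT.node (nat_lit 231) (BT.leaf ⟨(nat_lit 1), (nat_lit 0), (nat_lit 0), (nat_lit 0x1fd27a2f4d69bd73a51750fb537a26a), (nat_lit 0x1fd27a2f4d69bd73a51750fb537a26a), (nat_lit 0)⟩) (BT.leaf ⟨(nat_lit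 1), (nat_lit 0), (nat_lit 0), (nat_lit 0xf9c425ec0888137873e00d2680280c), (nat_lit 0xf9c425ec0888137873e00d2680280c), (nat_lit 0)⟩)))) (BT.node (nat_lit 236) (BT.node (nat_lit 234) (BT.node (nat_lit 233) (BT.leaf ⟨(nat_lit 2), (nat_lit 3), (nat_lit 3), (nat_lit 0x100a0244068c2799d600840bd039dd5), (nat_lit 0), (nat_lit 0x14eaa3673d3c805022200becbe7a1e3)⟩) (BT.leaf ⟨(nat_lit 3), (nat_lit 3), (nat_lit 2), (nat_lit 0x1001001001001001001001001001001), (nat_lit 0x107989c9f1db37a5f49c9345d9d23d8), (nat_lit 0x1001001001001001001001001001001)⟩)) (BT.node (nat_lit 235) (BT.leaf ⟨(nat_lit 2), (nat_lit 2), (nat_lit 2), (nat_lit 0xaec73396bff135b63b92b560d5ee27), (nat_lit 0), (nat_lit 0x1a357190160040880573220d7c84500)⟩) (BT.leaf ⟨(nat_lit 2), (nat_lit 2), (nat_lit 2), (nat_lit 0x1ad0a0044f9a100214400a10cdd18c0), (nat_lit 0), (nat_lit 0xc03002024102e500a20a8c78ec6b2f)⟩))) (BT.node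 (nat_lit 238) (BT.node (nat_lit 237) (BT.leaf ⟨(nat_lit 2), (nat_lit 2), (nat_lit 2), (nat_lit 0x100a00fe380027a80600840e36402f4), (nat_lit 0), (nat_lit 0x1402419508210ad4433f9a300b7a1f)⟩) (BT.leaf ⟨(nat_lit 2), (nat_lit 2), (nat_lit 2), (nat_lit 0x97d2db70f6ed7d2b85f3792ad6fb8a), (nat_lit 0), (nat_lit 0xfcfbe9e37cef85f1b6346df8d661bc)⟩)) (BT.node (nat_lit 239) (BT.leaf ⟨(nat_lit 1), (nat_lit 0), (nat_lit 0), (nat_lit 0xc4cbcdd2f0bc37cefadf182dfc6fcd), (nat_lit 0xc4cbcdd2f0bc37cefadf182dfc6fcd), (nat_lit 0)⟩) (BT.leaf ⟨(nat_lit 1), (nat_lit 0), (nat_lit 0), (nat_lit 0x1009013e11040288100625a00ef52bb), (nat_lit 0x1009013e11040288100625a00ef52bb), (nat_lit 0)⟩))))) (BT.node (nat_lit 248) (BT.node (nat_lit 244) (BT.node (nat_lit 242) (BT.node (nat_lit 241) (BT.leaf ⟨(nat_lit 1), (nat_lit 0), (nat_lit 0), (nat_lit 0x4063978c93e00c0092e40210402821), (nat_lit 0x4063978c93e00c0092e40210402821),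 (nat_lit 0)⟩) (BT.leaf ⟨(nat_lit 2), (nat_lit 3), (nat_lit 3), (nat_lit 0x5687344d5f3d455de27172ac55c3b9), (nat_lit 0), (nat_lit 0x1a7a475b1a963b760c9e9bc5dacf3d8)⟩)) (BT.node (nat_lit 243) (BT.leaf ⟨(nat_lit 2), (nat_lit 2), (nat_lit 2), (nat_lit 0x639021e8e753c600925dced5c101), (nat_lit 0), (nat_lit 0xc4e5f627a97271ec6c193f07a4b09e)⟩) (BT.leaf ⟨(nat_lit 2), (nat_lit 2), (nat_lit 2), (nat_lit 0x11c50149c1041089681220400ef52bb), (nat_lit 0), (nat_lit 0xd18d974e66bc1a52dff7b1d5ba2747)⟩))) (BT.node (nat_lit 246) (BT.node (nat_lit 245) (BT.leaf ⟨(nat_lit 2), (nat_lit 2), (nat_lit 2), (nat_lit 0x14652f27f4bfb052b85f6e0e2b2fdd2), (nat_lit 0), (nat_lit 0x110a019508210b830c0d6887dd1c33)⟩) (BT.leaf ⟨(nat_lit 2), (nat_lit 2), (nat_lit 2), (nat_lit 0xcd63bf903375cc76e738a6ffb16287), (nat_lit 0), (nat_lit 0x90147ad53208ae427f3eb081e1c53)⟩)) (BT.node (nat_lit 247) (BT.leaf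 ⟨(nat_lit 2), (nat_lit 2), (nat_lit 2), (nat_lit 0xcd4d964668d9a7b37470f9d0ba25ff), (nat_lit 0), (nat_lit 0x20b7b7388e2f841101201400ef52bb)⟩) (BT.leaf ⟨(nat_lit 2), (nat_lit 2), (nat_lit 2), (nat_lit 0xcd76555c3371eda4da6866a1f163fe), (nat_lit 0), (nat_lit 0xf9d719e32b582df09bca2ff8de1f90)⟩)))) (BT.node (nat_lit 252) (BT.node (nat_lit 250) (BT.node (nat_lit 249) (BT.leaf ⟨(nat_lit 2), (nat_lit 2), (nat_lit 2), (nat_lit 0xd1a00c208042799d38d88175439af4), (nat_lit 0), (nat_lit 0x113bd1950a16a38344048030030433)⟩) (BT.leaf ⟨(nat_lit 1), (nat_lit 0), (nat_lit 0), (nat_lit 0x7d43029904114c125c804208a5f220), (nat_lit 0x7d43029904114c125c804208a5f220), (nat_lit 0)⟩)) (BT.node (nat_lit 251) (BT.leaf ⟨(nat_lit 1), (nat_lit 0), (nat_lit 0), (nat_lit 0x123a6f31393f2724f09ed3c3b64b41e), (nat_lit 0x123a6f31393f2724f09ed3c3b64b41e), (nat_lit 0)⟩) (BT.leaf ⟨(nat_lit 1), (nat_lit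 0), (nat_lit 0), (nat_lit 0x1d38242574111ec04de0110028146fc), (nat_lit 0x1d38242574111ec04de0110028146fc), (nat_lit 0)⟩))) (BT.node (nat_lit 254) (BT.node (nat_lit 253) (BT.leaf ⟨(nat_lit 1), (nat_lit 0), (nat_lit 0), (nat_lit 0x18010132f4028810405f480a0100204), (nat_lit 0x18010132f4028810405f480a0100204), (nat_lit 0)⟩) (BT.leaf ⟨(nat_lit 1), (nat_lit 0), (nat_lit 0), (nat_lit 0x15a2799af501078501551819d040880), (nat_lit 0x15a2799af501078501551819d040880), (nat_lit 0)⟩)) (BT.node (nat_lit 255) (BT.leaf ⟨(nat_lit 1), (nat_lit 0), (nat_lit 0), (nat_lit 0xbd37b7dbce9bf1356e4d69bc27a6f5), (nat_lit 0xbd37b7dbce9bf1356e4d69bc27a6f5), (nat_lit 0)⟩) (BT.leaf ⟨(nat_lit 1), (nat_lit 0), (nat_lit 0), (nat_lit 0x17b23b92bde00900674208801042204), (nat_lit 0x17b23b92bde00900674208801042204), (nat_lit 0)⟩)))))))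
noncomputable def xP192 : BT Pf := (BT.node (nat_lit 224) (BT.node (nat_lit 208) (BT.node (nat_lit 200) (BT.node (nat_lit 196) (BT.node (nat_lit 194) (BT.node (nat_lit 193) (BT.leaf (.nmul (nat_lit 191) [(nat_lit 23)])) (BT.leaf (.nmul (nat_lit 192) [(nat_lit 23)]))) (BT.node (nat_lit 195) (BT.leaf (.emul [(nat_lit 94), (nat_lit 108)])) (BT.leaf (.emul [(nat_lit 70), (nat_lit 156)])))) (BT.node (nat_lit 198) (BT.node (nat_lit 197) (BT.leaf (.emul [(nat_lit 70), (nat_lit 195)])) (BT.leaf (.emul [(nat_lit 70), (nat_lit 196)]))) (BT.node (nat_lit 199) (BT.leaf (.nmul (nat_lit 120) [(nat_lit 1)])) (BT.leaf (.nmul (nat_lit 198) [(nat_lit 0)]))))) (BT.node (nat_lit 204) (BT.node (nat_lit 202) (BT.node (nat_lit 201) (BT.leaf (.nmul (nat_lit 199) [(nat_lit 23)])) (BT.leaf (.nmul (nat_lit 200) [(nat_lit 23)]))) (BT.node (nat_lit 203) (BT.leaf (.nmul (nat_lit 201) [(nat_lit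 1)])) (BT.leaf (.nmul (nat_lit 163) [(nat_lit 47)])))) (BT.node (nat_lit 206) (BT.node (nat_lit 205) (BT.leaf (.nmul (nat_lit 203) [(nat_lit 23)])) (BT.leaf (.nmul (nat_lit 204) [(nat_lit 47)]))) (BT.node (nat_lit 207) (BT.leaf (.nmul (nat_lit 205) [(nat_lit 47)])) (BT.leaf (.nmul (nat_lit 206) [(nat_lit 23)])))))) (BT.node (nat_lit 216) (BT.node (nat_lit 212) (BT.node (nat_lit 210) (BT.node (nat_lit 209) (BT.leaf (.nmul (nat_lit 207) [(nat_lit 47)])) (BT.leaf (.rel (nat_lit 106) (nat_lit 0) [(nat_lit 193), (nat_lit 186)] [⟨(nat_lit 107), [(nat_lit 194), (nat_lit 197)], [(nat_lit 208), (nat_lit 202)]⟩]))) (BT.node (nat_lit 211) (BT.leaf (.inv (nat_lit 209))) (BT.leaf (.emul [(nat_lit 51), (nat_lit 108)])))) (BT.node (nat_lit 214) (BT.node (nat_lit 213) (BT.leaf (.emul [(nat_lit 50), (nat_lit 211)])) (BT.leaf (.nmul (nat_lit 182) [(nat_lit 1)]))) (BT.node (nat_lit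 215) (BT.leaf (.cmp (nat_lit 210) ⟨(nat_lit 107), [(nat_lit 212)], [(nat_lit 146), (nat_lit 213)]⟩)) (BT.leaf (.dfn [(nat_lit 3), (nat_lit 1), (nat_lit 3), (nat_lit 1), (nat_lit 3), (nat_lit 1), (nat_lit 3), (nat_lit 1), (nat_lit 4), (nat_lit 1), (nat_lit 3), (nat_lit 1), (nat_lit 3), (nat_lit 1), (nat_lit 4), (nat_lit 1), (nat_lit 4), (nat_lit 1), (nat_lit 4), (nat_lit 1), (nat_lit 4)]))))) (BT.node (nat_lit 220) (BT.node (nat_lit 218) (BT.node (nat_lit 217) (BT.leaf (.emul [(nat_lit 132), (nat_lit 164)])) (BT.leaf (.emul [(nat_lit 151), (nat_lit 216)]))) (BT.node (nat_lit 219) (BT.leaf (.emul [(nat_lit 132), (nat_lit 151)])) (BT.leaf (.emul [(nat_lit 132), (nat_lit 218)])))) (BT.node (nat_lit 222) (BT.node (nat_lit 221) (BT.leaf (.emul [(nat_lit 151), (nat_lit 219)])) (BT.leaf (.emul [(nat_lit 132), (nat_lit 220)]))) (BT.node (nat_lit 223) (BT.leaf (.emul [(nat_lit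 151), (nat_lit 221)])) (BT.leaf (.emul [(nat_lit 132), (nat_lit 222)]))))))) (BT.node (nat_lit 240) (BT.node (nat_lit 232) (BT.node (nat_lit 228) (BT.node (nat_lit 226) (BT.node (nat_lit 225) (BT.leaf (.nmul (nat_lit 166) [(nat_lit 0)])) (BT.leaf (.nmul (nat_lit 224) [(nat_lit 1)]))) (BT.node (nat_lit 227) (BT.leaf (.nmul (nat_lit 187) [(nat_lit 47)])) (BT.leaf (.nmul (nat_lit 226) [(nat_lit 23)])))) (BT.node (nat_lit 230) (BT.node (nat_lit 229) (BT.leaf (.nmul (nat_lit 227) [(nat_lit 47)])) (BT.leaf (.nmul (nat_lit 228) [(nat_lit 47)]))) (BT.node (nat_lit 231) (BT.leaf (.nmul (nat_lit 229) [(nat_lit 23)])) (BT.leaf (.nmul (nat_lit 230) [(nat_lit 23)]))))) (BT.node (nat_lit 236) (BT.node (nat_lit 234) (BT.node (nat_lit 233) (BT.leaf (.cmp (nat_lit 215) ⟨(nat_lit 215), [(nat_lit 217), (nat_lit 223)], [(nat_lit 231), (nat_lit 225)]⟩)) (BT.leaf (.inv (nat_lit 215))))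 (BT.node (nat_lit 235) (BT.leaf (.emul [(nat_lit 164), (nat_lit 214)])) (BT.leaf (.emul [(nat_lit 164), (nat_lit 234)])))) (BT.node (nat_lit 238) (BT.node (nat_lit 237) (BT.leaf (.emul [(nat_lit 151), (nat_lit 132)])) (BT.leaf (.emul [(nat_lit 132), (nat_lit 236)]))) (BT.node (nat_lit 239) (BT.leaf (.nmul (nat_lit 96) [(nat_lit 47)])) (BT.leaf (.nmul (nat_lit 238) [(nat_lit 1)])))))) (BT.node (nat_lit 248) (BT.node (nat_lit 244) (BT.node (nat_lit 242) (BT.node (nat_lit 241) (BT.leaf (.nmul (nat_lit 190) [(nat_lit 23)])) (BT.leaf (.cmp (nat_lit 215) ⟨(nat_lit 215), [(nat_lit 235), (nat_lit 237)], [(nat_lit 240), (nat_lit 239)]⟩))) (BT.node (nat_lit 243) (BT.leaf (.emul [(nat_lit 132), (nat_lit 234)])) (BT.leaf (.emul [(nat_lit 132), (nat_lit 132)])))) (BT.node (nat_lit 246) (BT.node (nat_lit 245) (BT.leaf (.emul [(nat_lit 151), (nat_lit 243)])) (BT.leaf (.emul [(nat_lit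 132), (nat_lit 244)]))) (BT.node (nat_lit 247) (BT.leaf (.emul [(nat_lit 151), (nat_lit 245)])) (BT.leaf (.emul [(nat_lit 151), (nat_lit 246)]))))) (BT.node (nat_lit 252) (BT.node (nat_lit 250) (BT.node (nat_lit 249) (BT.leaf (.emul [(nat_lit 132), (nat_lit 247)])) (BT.leaf (.nmul (nat_lit 169) [(nat_lit 23)]))) (BT.node (nat_lit 251) (BT.leaf (.nmul (nat_lit 249) [(nat_lit 23)])) (BT.leaf (.nmul (nat_lit 250) [(nat_lit 23)])))) (BT.node (nat_lit 254) (BT.node (nat_lit 253) (BT.leaf (.nmul (nat_lit 251) [(nat_lit 47)])) (BT.leaf (.nmul (nat_lit 252) [(nat_lit 23)]))) (BT.node (nat_lit 255) (BT.leaf (.nmul (nat_lit 253) [(nat_lit 23)])) (BT.leaf (.nmul (nat_lit 254) [(nat_lit 23)]))))))))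
noncomputable def xF256 : BT Fc := (BT.node (nat_lit 288) (BT.node (nat_lit 272) (BT.node (nat_lit 264) (BT.node (nat_lit 260) (BT.node (nat_lit 258) (BT.node (nat_lit 257) (BT.leaf ⟨(nat_lit 1), (nat_lit 0), (nat_lit 0), (nat_lit 0x10000112f009278102b90800077a080), (nat_lit 0x10000112f009278102b90800077a080), (nat_lit 0)⟩) (BT.leaf ⟨(nat_lit 2), (nat_lit 3), (nat_lit 3), (nat_lit 0x100a0233a3d1f8e202f4a01802405d5), (nat_lit 0), (nat_lit 0x1bf0d94ab4d5b528bef550fb927a6f0)⟩)) (BT.node (nat_lit 259) (BT.leaf ⟨(nat_lit 1), (nat_lit 0), (nat_lit 0), (nat_lit 0x1ce399349a7560f952d2e77bbf1d0b7), (nat_lit 0x1ce399349a7560f952d2e77bbf1d0b7), (nat_lit 0)⟩) (BT.leaf ⟨(nat_lit 1), (nat_lit 0), (nat_lit 0), (nat_lit 0x15cc90102301a372350060044171b5f), (nat_lit 0x15cc90102301a372350060044171b5f), (nat_lit 0)⟩))) (BT.node (nat_lit 262) (BT.node (nat_lit 261) (BT.leaf ⟨(nat_lit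 1), (nat_lit 0), (nat_lit 0), (nat_lit 0x4b77b2bb04420a389020060280149c), (nat_lit 0x4b77b2bb04420a389020060280149c), (nat_lit 0)⟩) (BT.leaf ⟨(nat_lit 1), (nat_lit 0), (nat_lit 0), (nat_lit 0x15723bbfe1daa1e38f90ce714e3947b), (nat_lit 0x15723bbfe1daa1e38f90ce714e3947b), (nat_lit 0)⟩)) (BT.node (nat_lit 263) (BT.leaf ⟨(nat_lit 1), (nat_lit 0), (nat_lit 0), (nat_lit 0x4b40125d01401a38f3810527101022), (nat_lit 0x4b40125d01401a38f3810527101022), (nat_lit 0)⟩) (BT.leaf ⟨(nat_lit 1), (nat_lit 0), (nat_lit 0), (nat_lit 0x1572395a68a71ce38d7350f1ee798ed), (nat_lit 0x1572395a68a71ce38d7350f1ee798ed), (nat_lit 0)⟩)))) (BT.node (nat_lit 268) (BT.node (nat_lit 266) (BT.node (nat_lit 265) (BT.leaf ⟨(nat_lit 1), (nat_lit 0), (nat_lit 0), (nat_lit 0x17201403004114c507ad048880306d4), (nat_lit 0x17201403004114c507ad048880306d4), (nat_lit 0)⟩) (BT.leaf ⟨(nat_lit 2), (nat_lit 2),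 (nat_lit 2), (nat_lit 0x12780225f0104bc1078d100802f46f4), (nat_lit 0), (nat_lit 0x66da4bfe8e7e4229c72b4d18f16477)⟩)) (BT.node (nat_lit 267) (BT.leaf ⟨(nat_lit 1), (nat_lit 0), (nat_lit 0), (nat_lit 0xe59660fa25ccbc97b7025a4af0a9af), (nat_lit 0xe59660fa25ccbc97b7025a4af0a9af), (nat_lit 0)⟩) (BT.leaf ⟨(nat_lit 3), (nat_lit 2), (nat_lit 3), (nat_lit 0x4ff720507e60440a5f806071527f9d), (nat_lit 0xe5a9a0b9772af51ca99576be75cab1), (nat_lit 0x97c00f8d8e6f8c2010040127ba373a)⟩))) (BT.node (nat_lit 270) (BT.node (nat_lit 269) (BT.leaf ⟨(nat_lit 3), (nat_lit 3), (nat_lit 2), (nat_lit 0xe5a9a0b9772af51ca99576be75cab1), (nat_lit 0x4ff720507e60440a5f806071527f9d), (nat_lit 0x97c040108e6081f1ef4573e36f4200)⟩) (BT.leaf ⟨(nat_lit 3), (nat_lit 2), (nat_lit 3), (nat_lit 0x4ff720507e60440a5f806071527f9d), (nat_lit 0xe5a9a0b9772af51ca99576be75cab1), (nat_lit 0x97c00f8d8e6f8c2010040127ba373a)⟩))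 (BT.node (nat_lit 271) (BT.leaf ⟨(nat_lit 1), (nat_lit 0), (nat_lit 0), (nat_lit 0xc20879d27e043ab72a38a4400a018), (nat_lit 0xc20879d27e043ab72a38a4400a018), (nat_lit 0)⟩) (BT.leaf ⟨(nat_lit 1), (nat_lit 0), (nat_lit 0), (nat_lit 0xf6157519cd3d1effe46ead297a3766), (nat_lit 0xf6157519cd3d1effe46ead297a3766), (nat_lit 0)⟩))))) (BT.node (nat_lit 280) (BT.node (nat_lit 276) (BT.node (nat_lit 274) (BT.node (nat_lit 273) (BT.leaf ⟨(nat_lit 1), (nat_lit 0), (nat_lit 0), (nat_lit 0x73b7b44ddf99d143d17debb527a6b4), (nat_lit 0x73b7b44ddf99d143d17debb527a6b4), (nat_lit 0)⟩) (BT.leaf ⟨(nat_lit 1), (nat_lit 0), (nat_lit 0), (nat_lit 0x744421044081101274201801002806), (nat_lit 0x744421044081101274201801002806), (nat_lit 0)⟩)) (BT.node (nat_lit 275) (BT.leaf ⟨(nat_lit 1), (nat_lit 0), (nat_lit 0), (nat_lit 0x437a3e31001024f2b904000500473), (nat_lit 0x437a3e31001024f2b904000500473),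 (nat_lit 0)⟩) (BT.leaf ⟨(nat_lit 2), (nat_lit 3), (nat_lit 3), (nat_lit 0x19d37e6f65e945f5a6f5de9b90bcef0), (nat_lit 0), (nat_lit 0x97c040108e6081f1ef4573e36f4200)⟩))) (BT.node (nat_lit 278) (BT.node (nat_lit 277) (BT.leaf ⟨(nat_lit 3), (nat_lit 3), (nat_lit 4), (nat_lit 0x19186a9206be0bc80ce85c640980180), (nat_lit 0x1001001001001001001001001001001), (nat_lit 0x1001001001001001001001001001001)⟩) (BT.leaf ⟨(nat_lit 2), (nat_lit 3), (nat_lit 3), (nat_lit 0x1ceb8d7ba5a5cfb9d8b7acb4eb1d1ce), (nat_lit 0), (nat_lit 0xfcdf1fe32b545e3777df20fad664d9)⟩)) (BT.node (nat_lit 279) (BT.leaf ⟨(nat_lit 2), (nat_lit 3), (nat_lit 3), (nat_lit 0x11c77b49c4baf8496806e70048012bb), (nat_lit 0), (nat_lit 0x1f1b49f4e68d29734f42c8dd59575ff)⟩) (BT.leaf ⟨(nat_lit 2), (nat_lit 3), (nat_lit 3), (nat_lit 0x11ce31f903375ce3da87ab99cc39bfe), (nat_lit 0), (nat_lit 0x152ceab8addedb0e28fab4c7d72c195)⟩))))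 (BT.node (nat_lit 284) (BT.node (nat_lit 282) (BT.node (nat_lit 281) (BT.leaf ⟨(nat_lit 1), (nat_lit 0), (nat_lit 0), (nat_lit 0x4b77b012938018019028e210801022), (nat_lit 0x4b77b012938018019028e210801022), (nat_lit 0)⟩) (BT.leaf ⟨(nat_lit 1), (nat_lit 0), (nat_lit 0), (nat_lit 0x15723bb358f71cf39f908e30ce390ed), (nat_lit 0x15723bb358f71cf39f908e30ce390ed), (nat_lit 0)⟩)) (BT.node (nat_lit 283) (BT.leaf ⟨(nat_lit 1), (nat_lit 0), (nat_lit 0), (nat_lit 0x2e473627572ac5cb5347731351cdff), (nat_lit 0x2e473627572ac5cb5347731351cdff), (nat_lit 0)⟩) (BT.leaf ⟨(nat_lit 1), (nat_lit 0), (nat_lit 0), (nat_lit 0x7523973b40208420f4793e00402803), (nat_lit 0x7523973b40208420f4793e00402803), (nat_lit 0)⟩))) (BT.node (nat_lit 286) (BT.node (nat_lit 285) (BT.leaf ⟨(nat_lit 1), (nat_lit 0), (nat_lit 0), (nat_lit 0x78d0105f4119cd00b2f5009010069e), (nat_lit 0x78d0105f4119cd00b2f5009010069e),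 (nat_lit 0)⟩) (BT.leaf ⟨(nat_lit 2), (nat_lit 3), (nat_lit 3), (nat_lit 0xceb9d0b7f75c6a6cf3e39dcedd272a), (nat_lit 0), (nat_lit 0x10015cef4100f8c2049e3aa403a3008)⟩)) (BT.node (nat_lit 287) (BT.leaf ⟨(nat_lit 2), (nat_lit 3), (nat_lit 3), (nat_lit 0x2a04009bc0120142085627764b6fc), (nat_lit 0), (nat_lit 0x746f625bf121101200c8ef2695e904)⟩) (BT.leaf ⟨(nat_lit 1), (nat_lit 0), (nat_lit 0), (nat_lit 0x140301958661092021fd6830024041), (nat_lit 0x140301958661092021fd6830024041), (nat_lit 0)⟩)))))) (BT.node (nat_lit 304) (BT.node (nat_lit 296) (BT.node (nat_lit 292) (BT.node (nat_lit 290) (BT.node (nat_lit 289) (BT.leaf ⟨(nat_lit 1), (nat_lit 0), (nat_lit 0), (nat_lit 0x1c1a6f0500850cc60195089ad030240), (nat_lit 0x1c1a6f0500850cc60195089ad030240), (nat_lit 0)⟩) (BT.leaf ⟨(nat_lit 1), (nat_lit 0), (nat_lit 0), (nat_lit 0x152deab6c1f4e2aeaeef2aa7d72c195), (nat_lit 0x152deab6c1f4e2aeaeef2aa7d72c195),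 (nat_lit 0)⟩)) (BT.node (nat_lit 291) (BT.leaf ⟨(nat_lit 1), (nat_lit 0), (nat_lit 0), (nat_lit 0x40011008e60824f25f0102037a001), (nat_lit 0x40011008e60824f25f0102037a001), (nat_lit 0)⟩) (BT.leaf ⟨(nat_lit 1), (nat_lit 0), (nat_lit 0), (nat_lit 0x1d1e393e200727c049d4043bd402a01), (nat_lit 0x1d1e393e200727c049d4043bd402a01), (nat_lit 0)⟩))) (BT.node (nat_lit 294) (BT.node (nat_lit 293) (BT.leaf ⟨(nat_lit 1), (nat_lit 0), (nat_lit 0), (nat_lit 0x2e50153ace682110210d3c81100280), (nat_lit 0x2e50153ace682110210d3c81100280), (nat_lit 0)⟩) (BT.leaf ⟨(nat_lit 1), (nat_lit 0), (nat_lit 0), (nat_lit 0x1c36799801042820f7c611020040e74), (nat_lit 0x1c36799801042820f7c611020040e74), (nat_lit 0)⟩)) (BT.node (nat_lit 295) (BT.leaf ⟨(nat_lit 1), (nat_lit 0), (nat_lit 0), (nat_lit 0xbe4307cd1801035a4404810cc24044), (nat_lit 0xbe4307cd1801035a4404810cc24044), (nat_lit 0)⟩) (BT.leaf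 ⟨(nat_lit 3), (nat_lit 4), (nat_lit 5), (nat_lit 0x107989c9f1db37a5f49c9345d9d23d8), (nat_lit 0x1001001001001001001001001001001), (nat_lit 0x1001001001001001001001001001001)⟩)))) (BT.node (nat_lit 300) (BT.node (nat_lit 298) (BT.node (nat_lit 297) (BT.leaf ⟨(nat_lit 1), (nat_lit 0), (nat_lit 0), (nat_lit 0x6572c5d5a96716d36ef2aa774ea8fa), (nat_lit 0x6572c5d5a96716d36ef2aa774ea8fa), (nat_lit 0)⟩) (BT.leaf ⟨(nat_lit 1), (nat_lit 0), (nat_lit 0), (nat_lit 0x1b51e1830ecd0814cdc804208014220), (nat_lit 0x1b51e1830ecd0814cdc804208014220), (nat_lit 0)⟩)) (BT.node (nat_lit 299) (BT.leaf ⟨(nat_lit 1), (nat_lit 0), (nat_lit 0), (nat_lit 0x404409d404280400f3bdeb27e39041), (nat_lit 0x404409d404280400f3bdeb27e39041), (nat_lit 0)⟩) (BT.leaf ⟨(nat_lit 1), (nat_lit 0), (nat_lit 0), (nat_lit 0x220842080137837e00c3baac5f5c7b), (nat_lit 0x220842080137837e00c3baac5f5c7b), (nat_lit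 0)⟩))) (BT.node (nat_lit 302) (BT.node (nat_lit 301) (BT.leaf ⟨(nat_lit 1), (nat_lit 0), (nat_lit 0), (nat_lit 0x14ebf4280410811081e3ce6cbec6a40), (nat_lit 0x14ebf4280410811081e3ce6cbec6a40), (nat_lit 0)⟩) (BT.leaf ⟨(nat_lit 1), (nat_lit 0), (nat_lit 0), (nat_lit 0x7532c1dd2aa7d46ab8addf698ebb6c), (nat_lit 0x7532c1dd2aa7d46ab8addf698ebb6c), (nat_lit 0)⟩)) (BT.node (nat_lit 303) (BT.leaf ⟨(nat_lit 1), (nat_lit 0), (nat_lit 0), (nat_lit 0x19a7a27c6e9dd0bab4a5e8e1f3a33d8), (nat_lit 0x19a7a27c6e9dd0bab4a5e8e1f3a33d8), (nat_lit 0)⟩) (BT.leaf ⟨(nat_lit 1), (nat_lit 0), (nat_lit 0), (nat_lit 0xe5b6544d532ae6ffd83172ee55c2b1), (nat_lit 0xe5b6544d532ae6ffd83172ee55c2b1), (nat_lit 0)⟩))))) (BT.node (nat_lit 312) (BT.node (nat_lit 308) (BT.node (nat_lit 306) (BT.node (nat_lit 305) (BT.leaf ⟨(nat_lit 1), (nat_lit 0), (nat_lit 0), (nat_lit 0xf877b0120851c44173800d2700100a),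 (nat_lit 0xf877b0120851c44173800d2700100a), (nat_lit 0)⟩) (BT.leaf ⟨(nat_lit 1), (nat_lit 0), (nat_lit 0), (nat_lit 0x1f342444008030022195867ad26f042), (nat_lit 0x1f342444008030022195867ad26f042), (nat_lit 0)⟩)) (BT.node (nat_lit 307) (BT.leaf ⟨(nat_lit 1), (nat_lit 0), (nat_lit 0), (nat_lit 0x1b51e18a044108012020061eb78d022), (nat_lit 0x1b51e18a044108012020061eb78d022), (nat_lit 0)⟩) (BT.leaf ⟨(nat_lit 1), (nat_lit 0), (nat_lit 0), (nat_lit 0x6572c1d41f4715c51ddbaa8da1e8d5), (nat_lit 0x6572c1d41f4715c51ddbaa8da1e8d5), (nat_lit 0)⟩))) (BT.node (nat_lit 310) (BT.node (nat_lit 309) (BT.leaf ⟨(nat_lit 1), (nat_lit 0), (nat_lit 0), (nat_lit 0x14127a1027fd58e2830bf1caa083f3), (nat_lit 0x14127a1027fd58e2830bf1caa083f3), (nat_lit 0)⟩) (BT.leaf ⟨(nat_lit 1), (nat_lit 0), (nat_lit 0), (nat_lit 0xa64301f514008910420da914e5f024), (nat_lit 0xa64301f514008910420da914e5f024),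 (nat_lit 0)⟩)) (BT.node (nat_lit 311) (BT.leaf ⟨(nat_lit 1), (nat_lit 0), (nat_lit 0), (nat_lit 0x97527d650bed7f60dd243e97f167b7), (nat_lit 0x97527d650bed7f60dd243e97f167b7), (nat_lit 0)⟩) (BT.leaf ⟨(nat_lit 1), (nat_lit 0), (nat_lit 0), (nat_lit 0x169b498d52aa8d8eeb8a32a750ebdd5), (nat_lit 0x169b498d52aa8d8eeb8a32a750ebdd5), (nat_lit 0)⟩)))) (BT.node (nat_lit 316) (BT.node (nat_lit 314) (BT.node (nat_lit 313) (BT.leaf ⟨(nat_lit 1), (nat_lit 0), (nat_lit 0), (nat_lit 0x4954bf3dc9ca8181c50a084231df8), (nat_lit 0x4954bf3dc9ca8181c50a084231df8), (nat_lit 0)⟩) (BT.leaf ⟨(nat_lit 1), (nat_lit 0), (nat_lit 0), (nat_lit 0x1d3a4b018df822004f850188202400a), (nat_lit 0x1d3a4b018df822004f850188202400a), (nat_lit 0)⟩)) (BT.node (nat_lit 315) (BT.leaf ⟨(nat_lit 1), (nat_lit 0), (nat_lit 0), (nat_lit 0xa6414766049b511027f04028030453), (nat_lit 0xa6414766049b511027f04028030453),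 (nat_lit 0)⟩) (BT.leaf ⟨(nat_lit 1), (nat_lit 0), (nat_lit 0), (nat_lit 0x4010040093c0100092f8e610001020), (nat_lit 0x4010040093c0100092f8e610001020), (nat_lit 0)⟩))) (BT.node (nat_lit 318) (BT.node (nat_lit 317) (BT.leaf ⟨(nat_lit 1), (nat_lit 0), (nat_lit 0), (nat_lit 0x80402841bd3cedf100125dd1c409d4), (nat_lit 0x80402841bd3cedf100125dd1c409d4), (nat_lit 0)⟩) (BT.leaf ⟨(nat_lit 1), (nat_lit 0), (nat_lit 0), (nat_lit 0x264b00a4ae777a747bbc102024018), (nat_lit 0x264b00a4ae777a747bbc102024018), (nat_lit 0)⟩)) (BT.node (nat_lit 319) (BT.leaf ⟨(nat_lit 1), (nat_lit 0), (nat_lit 0), (nat_lit 0x7144848e4200c028010e55d5954df8), (nat_lit 0x7144848e4200c028010e55d5954df8), (nat_lit 0)⟩) (BT.leaf ⟨(nat_lit 1), (nat_lit 0), (nat_lit 0), (nat_lit 0xcd679d5c50e3b629bfe8679ce3bc71), (nat_lit 0xcd679d5c50e3b629bfe8679ce3bc71), (nat_lit 0)⟩)))))))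
noncomputable def xP256 : BT Pf := (BT.node (nat_lit 288) (BT.node (nat_lit 272) (BT.node (nat_lit 264) (BT.node (nat_lit 260) (BT.node (nat_lit 258) (BT.node (nat_lit 257) (BT.leaf (.nmul (nat_lit 255) [(nat_lit 23)])) (BT.leaf (.cmp (nat_lit 215) ⟨(nat_lit 215), [(nat_lit 242), (nat_lit 248)], [(nat_lit 256), (nat_lit 125)]⟩))) (BT.node (nat_lit 259) (BT.leaf (.nmul (nat_lit 144) [(nat_lit 23)])) (BT.leaf (.nmul (nat_lit 258) [(nat_lit 23)])))) (BT.node (nat_lit 262) (BT.node (nat_lit 261) (BT.leaf (.nmul (nat_lit 226) [(nat_lit 47)])) (BT.leaf (.nmul (nat_lit 260) [(nat_lit 23)]))) (BT.node (nat_lit 263) (BT.leaf (.nmul (nat_lit 261) [(nat_lit 23)])) (BT.leaf (.nmul (nat_lit 262) [(nat_lit 23)]))))) (BT.node (nat_lit 268) (BT.node (nat_lit 266) (BT.node (nat_lit 265) (BT.leaf (.nmul (nat_lit 263) [(nat_lit 47)])) (BT.leaf (.emul [(nat_lit 214), (nat_lit 214)])))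 (BT.node (nat_lit 267) (BT.leaf (.nmul (nat_lit 122) [(nat_lit 0)])) (BT.leaf (.rel (nat_lit 233) (nat_lit 0) [(nat_lit 264), (nat_lit 259)] [⟨(nat_lit 183), [(nat_lit 265)], [(nat_lit 191), (nat_lit 266)]⟩])))) (BT.node (nat_lit 270) (BT.node (nat_lit 269) (BT.leaf (.inv (nat_lit 267))) (BT.leaf (.inv (nat_lit 268)))) (BT.node (nat_lit 271) (BT.leaf (.nmul (nat_lit 96) [(nat_lit 1)])) (BT.leaf (.nmul (nat_lit 270) [(nat_lit 23)])))))) (BT.node (nat_lit 280) (BT.node (nat_lit 276) (BT.node (nat_lit 274) (BT.node (nat_lit 273) (BT.leaf (.nmul (nat_lit 250) [(nat_lit 47)])) (BT.leaf (.nmul (nat_lit 272) [(nat_lit 47)]))) (BT.node (nat_lit 275) (BT.leaf (.nmul (nat_lit 273) [(nat_lit 23)])) (BT.leaf (.cmp (nat_lit 269) ⟨(nat_lit 215), [], [(nat_lit 274), (nat_lit 271)]⟩)))) (BT.node (nat_lit 278) (BT.node (nat_lit 277) (BT.leaf (.dfn [(nat_lit 3), (nat_lit 1), (nat_lit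 3), (nat_lit 1), (nat_lit 3), (nat_lit 1), (nat_lit 4), (nat_lit 1), (nat_lit 4), (nat_lit 1), (nat_lit 4), (nat_lit 1), (nat_lit 3), (nat_lit 1), (nat_lit 3), (nat_lit 1), (nat_lit 4), (nat_lit 1), (nat_lit 4), (nat_lit 1), (nat_lit 4), (nat_lit 1), (nat_lit 4)])) (BT.leaf (.emul [(nat_lit 241), (nat_lit 241)]))) (BT.node (nat_lit 279) (BT.leaf (.emul [(nat_lit 232), (nat_lit 232)])) (BT.leaf (.emul [(nat_lit 232), (nat_lit 278)]))))) (BT.node (nat_lit 284) (BT.node (nat_lit 282) (BT.node (nat_lit 281) (BT.leaf (.nmul (nat_lit 182) [(nat_lit 0)])) (BT.leaf (.nmul (nat_lit 280) [(nat_lit 23)]))) (BT.node (nat_lit 283) (BT.leaf (.nmul (nat_lit 281) [(nat_lit 0)])) (BT.leaf (.nmul (nat_lit 128) [(nat_lit 47)])))) (BT.node (nat_lit 286) (BT.node (nat_lit 285) (BT.leaf (.nmul (nat_lit 240) [(nat_lit 23)])) (BT.leaf (.emul [(nat_lit 275), (nat_lit 275)]))) (BT.node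 (nat_lit 287) (BT.leaf (.emul [(nat_lit 257), (nat_lit 285)])) (BT.leaf (.nmul (nat_lit 227) [(nat_lit 23)]))))))) (BT.node (nat_lit 304) (BT.node (nat_lit 296) (BT.node (nat_lit 292) (BT.node (nat_lit 290) (BT.node (nat_lit 289) (BT.leaf (.nmul (nat_lit 287) [(nat_lit 23)])) (BT.leaf (.nmul (nat_lit 165) [(nat_lit 0)]))) (BT.node (nat_lit 291) (BT.leaf (.nmul (nat_lit 249) [(nat_lit 47)])) (BT.leaf (.nmul (nat_lit 290) [(nat_lit 23)])))) (BT.node (nat_lit 294) (BT.node (nat_lit 293) (BT.leaf (.nmul (nat_lit 291) [(nat_lit 23)])) (BT.leaf (.nmul (nat_lit 292) [(nat_lit 23)]))) (BT.node (nat_lit 295) (BT.leaf (.nmul (nat_lit 293) [(nat_lit 47)])) (BT.leaf (.dfn [(nat_lit 3), (nat_lit 1), (nat_lit 3), (nat_lit 1), (nat_lit 3), (nat_lit 1), (nat_lit 3), (nat_lit 1), (nat_lit 4), (nat_lit 1), (nat_lit 3), (nat_lit 1), (nat_lit 3), (nat_lit 1), (nat_lit 4), (nat_lit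 1), (nat_lit 4), (nat_lit 1), (nat_lit 4), (nat_lit 1), (nat_lit 4)]))))) (BT.node (nat_lit 300) (BT.node (nat_lit 298) (BT.node (nat_lit 297) (BT.leaf (.nmul (nat_lit 224) [(nat_lit 23)])) (BT.leaf (.nmul (nat_lit 296) [(nat_lit 0)]))) (BT.node (nat_lit 299) (BT.leaf (.nmul (nat_lit 292) [(nat_lit 47)])) (BT.leaf (.nmul (nat_lit 121) [(nat_lit 47)])))) (BT.node (nat_lit 302) (BT.node (nat_lit 301) (BT.leaf (.nmul (nat_lit 0) [(nat_lit 47)])) (BT.leaf (.nmul (nat_lit 300) [(nat_lit 1)]))) (BT.node (nat_lit 303) (BT.leaf (.nmul (nat_lit 301) [(nat_lit 1)])) (BT.leaf (.nmul (nat_lit 302) [(nat_lit 23)])))))) (BT.node (nat_lit 312) (BT.node (nat_lit 308) (BT.node (nat_lit 306) (BT.node (nat_lit 305) (BT.leaf (.nmul (nat_lit 162) [(nat_lit 23)])) (BT.leaf (.nmul (nat_lit 129) [(nat_lit 47)]))) (BT.node (nat_lit 307) (BT.leaf (.nmul (nat_lit 299) [(nat_lit 23)])) (BT.leaf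 (.nmul (nat_lit 306) [(nat_lit 0)])))) (BT.node (nat_lit 310) (BT.node (nat_lit 309) (BT.leaf (.nmul (nat_lit 307) [(nat_lit 23)])) (BT.leaf (.nmul (nat_lit 251) [(nat_lit 23)]))) (BT.node (nat_lit 311) (BT.leaf (.nmul (nat_lit 1) [(nat_lit 47)])) (BT.leaf (.nmul (nat_lit 310) [(nat_lit 23)]))))) (BT.node (nat_lit 316) (BT.node (nat_lit 314) (BT.node (nat_lit 313) (BT.leaf (.nmul (nat_lit 311) [(nat_lit 23)])) (BT.leaf (.nmul (nat_lit 127) [(nat_lit 47)]))) (BT.node (nat_lit 315) (BT.leaf (.nmul (nat_lit 313) [(nat_lit 23)])) (BT.leaf (.nmul (nat_lit 314) [(nat_lit 47)])))) (BT.node (nat_lit 318) (BT.node (nat_lit 317) (BT.leaf (.nmul (nat_lit 95) [(nat_lit 1)])) (BT.leaf (.nmul (nat_lit 316) [(nat_lit 47)]))) (BT.node (nat_lit 319) (BT.leaf (.nmul (nat_lit 123) [(nat_lit 47)])) (BT.leaf (.nmul (nat_lit 228) [(nat_lit 23)]))))))))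
noncomputable def xF320 : BT Fc := (BT.node (nat_lit 352) (BT.node (nat_lit 336) (BT.node (nat_lit 328) (BT.node (nat_lit 324) (BT.node (nat_lit 322) (BT.node (nat_lit 321) (BT.leaf ⟨(nat_lit 1), (nat_lit 0), (nat_lit 0), (nat_lit 0x17b002f3e408110061d1935bc23b804), (nat_lit 0x17b002f3e408110061d1935bc23b804), (nat_lit 0)⟩) (BT.leaf ⟨(nat_lit 1), (nat_lit 0), (nat_lit 0), (nat_lit 0x1b064b54b93f2734f48e4d526a5f0ed), (nat_lit 0x1b064b54b93f2734f48e4d526a5f0ed), (nat_lit 0)⟩)) (BT.node (nat_lit 323) (BT.leaf ⟨(nat_lit 1), (nat_lit 0), (nat_lit 0), (nat_lit 0x1f6e7a6e4df99d37a9cede09ab7a6d4), (nat_lit 0x1f6e7a6e4df99d37a9cede09ab7a6d4), (nat_lit 0)⟩) (BT.leaf ⟨(nat_lit 1), (nat_lit 0), (nat_lit 0), (nat_lit 0x4ac42742049bc10210400803002c9a), (nat_lit 0x4ac42742049bc10210400803002c9a), (nat_lit 0)⟩))) (BT.node (nat_lit 326) (BT.node (nat_lit 325) (BT.leaf ⟨(nat_lit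 1), (nat_lit 0), (nat_lit 0), (nat_lit 0xae77a12f8e60800401008001100080), (nat_lit 0xae77a12f8e60800401008001100080), (nat_lit 0)⟩) (BT.leaf ⟨(nat_lit 1), (nat_lit 0), (nat_lit 0), (nat_lit 0x15ce3b99b8a71cf39b498e23b639433), (nat_lit 0x15ce3b99b8a71cf39b498e23b639433), (nat_lit 0)⟩)) (BT.node (nat_lit 327) (BT.leaf ⟨(nat_lit 1), (nat_lit 0), (nat_lit 0), (nat_lit 0x16a1577512ededef4ad2bd9783f44c7), (nat_lit 0x16a1577512ededef4ad2bd9783f44c7), (nat_lit 0)⟩) (BT.leaf ⟨(nat_lit 1), (nat_lit 0), (nat_lit 0), (nat_lit 0x739d23490f9cfbdd2d2acbceb0ad3a), (nat_lit 0x739d23490f9cfbdd2d2acbceb0ad3a), (nat_lit 0)⟩)))) (BT.node (nat_lit 332) (BT.node (nat_lit 330) (BT.node (nat_lit 329) (BT.leaf ⟨(nat_lit 1), (nat_lit 0), (nat_lit 0), (nat_lit 0x4bf7a2b993c010403e300208100008), (nat_lit 0x4bf7a2b993c010403e300208100008), (nat_lit 0)⟩) (BT.leaf ⟨(nat_lit 1), (nat_lit 0), (nat_lit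 0), (nat_lit 0x4b802f8c0120077af3b40327c40821), (nat_lit 0x4b802f8c0120077af3b40327c40821), (nat_lit 0)⟩)) (BT.node (nat_lit 331) (BT.leaf ⟨(nat_lit 1), (nat_lit 0), (nat_lit 0), (nat_lit 0x1cf842789018018023e740809002844), (nat_lit 0x1cf842789018018023e740809002844), (nat_lit 0)⟩) (BT.leaf ⟨(nat_lit 1), (nat_lit 0), (nat_lit 0), (nat_lit 0x152e6f627d3d07876bd893f27a4b49c), (nat_lit 0x152e6f627d3d07876bd893f27a4b49c), (nat_lit 0)⟩))) (BT.node (nat_lit 334) (BT.node (nat_lit 333) (BT.leaf ⟨(nat_lit 1), (nat_lit 0), (nat_lit 0), (nat_lit 0x6024785111bf0052b14100241447b), (nat_lit 0x6024785111bf0052b14100241447b), (nat_lit 0)⟩) (BT.leaf ⟨(nat_lit 1), (nat_lit 0), (nat_lit 0), (nat_lit 0x1d983027fda809229fad1408825f022), (nat_lit 0x1d983027fda809229fad1408825f022), (nat_lit 0)⟩)) (BT.node (nat_lit 335) (BT.leaf ⟨(nat_lit 1), (nat_lit 0), (nat_lit 0), (nat_lit 0x60240674140203e37ba1046bd6f8c0),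 (nat_lit 0x60240674140203e37ba1046bd6f8c0), (nat_lit 0)⟩) (BT.leaf ⟨(nat_lit 1), (nat_lit 0), (nat_lit 0), (nat_lit 0xbe42470686610b5a0500801126f0c0), (nat_lit 0xbe42470686610b5a0500801126f0c0), (nat_lit 0)⟩))))) (BT.node (nat_lit 344) (BT.node (nat_lit 340) (BT.node (nat_lit 338) (BT.node (nat_lit 337) (BT.leaf ⟨(nat_lit 1), (nat_lit 0), (nat_lit 0), (nat_lit 0x4000101008020000be30080837a49e), (nat_lit 0x4000101008020000be30080837a49e), (nat_lit 0)⟩) (BT.leaf ⟨(nat_lit 1), (nat_lit 0), (nat_lit 0), (nat_lit 0xf625f09ed3d07a4d1761db2726f26a), (nat_lit 0xf625f09ed3d07a4d1761db2726f26a), (nat_lit 0)⟩)) (BT.node (nat_lit 339) (BT.leaf ⟨(nat_lit 1), (nat_lit 0), (nat_lit 0), (nat_lit 0x1f34302f90850cc22706082100246b4), (nat_lit 0x1f34302f90850cc22706082100246b4), (nat_lit 0)⟩) (BT.leaf ⟨(nat_lit 1), (nat_lit 0), (nat_lit 0), (nat_lit 0x13a1575f8bc17a4cdcc7ad05da1eda8),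 (nat_lit 0x13a1575f8bc17a4cdcc7ad05da1eda8), (nat_lit 0)⟩))) (BT.node (nat_lit 342) (BT.node (nat_lit 341) (BT.leaf ⟨(nat_lit 1), (nat_lit 0), (nat_lit 0), (nat_lit 0x13a2f475198e66cf42d2ad1722f560b), (nat_lit 0x13a2f475198e66cf42d2ad1722f560b), (nat_lit 0)⟩) (BT.leaf ⟨(nat_lit 1), (nat_lit 0), (nat_lit 0), (nat_lit 0x1e7532b137fc2dfe6f8cf0be27c6dd2), (nat_lit 0x1e7532b137fc2dfe6f8cf0be27c6dd2), (nat_lit 0)⟩)) (BT.node (nat_lit 343) (BT.leaf ⟨(nat_lit 3), (nat_lit 1), (nat_lit 6), (nat_lit 0x14bdcb12e35e4b495fdb2dfa88938fa), (nat_lit 0x1001001001001001001001001001001), (nat_lit 0x1001001001001001001001001001001)⟩) (BT.leaf ⟨(nat_lit 3), (nat_lit 6), (nat_lit 1), (nat_lit 0x1001001001001001001001001001001), (nat_lit 0x14bdcb12e35e4b495fdb2dfa88938fa), (nat_lit 0x1001001001001001001001001001001)⟩)))) (BT.node (nat_lit 348) (BT.node (nat_lit 346) (BT.node (nat_lit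 345) (BT.leaf ⟨(nat_lit 1), (nat_lit 0), (nat_lit 0), (nat_lit 0x8838d021ecc090180228a7b51e19f5), (nat_lit 0x8838d021ecc090180228a7b51e19f5), (nat_lit 0)⟩) (BT.leaf ⟨(nat_lit 1), (nat_lit 0), (nat_lit 0), (nat_lit 0x3ea1e955a96e2aea8d56d86572c1f5), (nat_lit 0x3ea1e955a96e2aea8d56d86572c1f5), (nat_lit 0)⟩)) (BT.node (nat_lit 347) (BT.leaf ⟨(nat_lit 1), (nat_lit 0), (nat_lit 0), (nat_lit 0x4fe086e4030716fc3f3f3a14127c8e), (nat_lit 0x4fe086e4030716fc3f3f3a14127c8e), (nat_lit 0)⟩) (BT.leaf ⟨(nat_lit 2), (nat_lit 1), (nat_lit 1), (nat_lit 0x4ac02dec04801bc4c9a3a211202104), (nat_lit 0), (nat_lit 0x1271d249f7b126a0f54bd8327a6f69e)⟩))) (BT.node (nat_lit 350) (BT.node (nat_lit 349) (BT.leaf ⟨(nat_lit 2), (nat_lit 1), (nat_lit 1), (nat_lit 0x17d6fd65714d7cde5194ff2ad27a5d), (nat_lit 0), (nat_lit 0xe2b2fa1f0bedc12ba5dd832ad2f519)⟩) (BT.leaf ⟨(nat_lit 2), (nat_lit 1), (nat_lit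 1), (nat_lit 0xcd7a274ee8f9a5ec742c8dd5aa37c6), (nat_lit 0), (nat_lit 0xcd7a274ee8f9a5ec742c8dd5aa37c6)⟩)) (BT.node (nat_lit 351) (BT.leaf ⟨(nat_lit 2), (nat_lit 1), (nat_lit 1), (nat_lit 0x9740102200dce00508293800fa2012), (nat_lit 0), (nat_lit 0x2e6a369e42078d80201440a0100204)⟩) (BT.leaf ⟨(nat_lit 2), (nat_lit 1), (nat_lit 1), (nat_lit 0x1c18d97c6e9d467a176668d9a6a33d8), (nat_lit 0), (nat_lit 0x774ebb6c1ab754e2eef2aa7d749d4b)⟩)))))) (BT.node (nat_lit 368) (BT.node (nat_lit 360) (BT.node (nat_lit 356) (BT.node (nat_lit 354) (BT.node (nat_lit 353) (BT.leaf ⟨(nat_lit 2), (nat_lit 1), (nat_lit 1), (nat_lit 0xf87c781204500841102577ce3a200a), (nat_lit 0), (nat_lit 0x1c1b49f56ecd467e3646e8ef63a307c)⟩) (BT.leaf ⟨(nat_lit 2), (nat_lit 1), (nat_lit 1), (nat_lit 0x4ac02a04208010e8c9af13cfa02024), (nat_lit 0), (nat_lit 0x108a00c032b0cc20f0643e1026f240)⟩)) (BT.node (nat_lit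 355) (BT.leaf ⟨(nat_lit 2), (nat_lit 1), (nat_lit 1), (nat_lit 0x114c879f5061723b342004408430024), (nat_lit 0), (nat_lit 0x123bbebd8d832724f41ea9727e4b49a)⟩) (BT.leaf ⟨(nat_lit 2), (nat_lit 1), (nat_lit 1), (nat_lit 0xf85014029391c40192d10408b7b00a), (nat_lit 0), (nat_lit 0x1fd27a4abdf8a1f78517dea9ab7a6d4)⟩))) (BT.node (nat_lit 358) (BT.node (nat_lit 357) (BT.leaf ⟨(nat_lit 2), (nat_lit 1), (nat_lit 1), (nat_lit 0xcd7a264668c1f334f56ecdf1865f42), (nat_lit 0), (nat_lit 0x15a1574e8bd931ef05f82ed7a7f47b7)⟩) (BT.leaf ⟨(nat_lit 2), (nat_lit 1), (nat_lit 1), (nat_lit 0x9740149c57610b9c003204048eb882), (nat_lit 0), (nat_lit 0x2e7f42084029034f2043c617d00210)⟩)) (BT.node (nat_lit 359) (BT.leaf ⟨(nat_lit 2), (nat_lit 1), (nat_lit 1), (nat_lit 0x1c18d934694b7fe8ce69e8ef6349f66), (nat_lit 0), (nat_lit 0x1fd0d944d4d4bd37a9ce95745d8e6fc)⟩) (BT.leaf ⟨(nat_lit 2), (nat_lit 1),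 (nat_lit 1), (nat_lit 0xf87c7abb25b1c60173800c02af5102), (nat_lit 0), (nat_lit 0x17218e5e9c1666fdb976bd9782f42d2)⟩)))) (BT.node (nat_lit 364) (BT.node (nat_lit 362) (BT.node (nat_lit 361) (BT.leaf ⟨(nat_lit 2), (nat_lit 1), (nat_lit 1), (nat_lit 0x4bceac73e7497d5c8401000837a49e), (nat_lit 0), (nat_lit 0x4bef425f010040023e3573ceba349e)⟩) (BT.leaf ⟨(nat_lit 2), (nat_lit 1), (nat_lit 1), (nat_lit 0x1b93909ce957ad28bc4dda99d0bcaf4), (nat_lit 0), (nat_lit 0x1e30bcea2f13f37c2b8d16f4d132dd2)⟩)) (BT.node (nat_lit 363) (BT.leaf ⟨(nat_lit 2), (nat_lit 1), (nat_lit 1), (nat_lit 0x1e3132fcd71b1bb513fed1be772c534), (nat_lit 0), (nat_lit 0x15a132de0ea33a1695ecc17edd571e8)⟩) (BT.leaf ⟨(nat_lit 1), (nat_lit 0), (nat_lit 0), (nat_lit 0x17225f299da80905076604208014220), (nat_lit 0x17225f299da80905076604208014220), (nat_lit 0)⟩))) (BT.node (nat_lit 366) (BT.node (nat_lit 365) (BT.leaf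 ⟨(nat_lit 1), (nat_lit 0), (nat_lit 0), (nat_lit 0x97f7a100009278204000111cd00001), (nat_lit 0x97f7a100009278204000111cd00001), (nat_lit 0)⟩) (BT.leaf ⟨(nat_lit 2), (nat_lit 6), (nat_lit 6), (nat_lit 0x1e74483f3420443950120a1d5954df8), (nat_lit 0), (nat_lit 0x4acb7fdbab99a663b9625b4bd66370)⟩)) (BT.node (nat_lit 367) (BT.leaf ⟨(nat_lit 2), (nat_lit 1), (nat_lit 1), (nat_lit 0x14d065e8de1ac4fd6f9df0be2532bfe), (nat_lit 0), (nat_lit 0x14d065e8de1ac4fd6f9df0be2532bfe)⟩) (BT.leaf ⟨(nat_lit 1), (nat_lit 0), (nat_lit 0), (nat_lit 0x60242080197837e0090111edf5ab1), (nat_lit 0x60242080197837e0090111edf5ab1), (nat_lit 0)⟩))))) (BT.node (nat_lit 376) (BT.node (nat_lit 372) (BT.node (nat_lit 370) (BT.node (nat_lit 369) (BT.leaf ⟨(nat_lit 1), (nat_lit 0), (nat_lit 0), (nat_lit 0x140245a8180101202f90841066f433), (nat_lit 0x140245a8180101202f90841066f433), (nat_lit 0)⟩) (BT.leaf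 ⟨(nat_lit 1), (nat_lit 0), (nat_lit 0), (nat_lit 0x1c1830440d68104607cd86690024042), (nat_lit 0x1c1830440d68104607cd86690024042), (nat_lit 0)⟩)) (BT.node (nat_lit 371) (BT.leaf ⟨(nat_lit 2), (nat_lit 1), (nat_lit 1), (nat_lit 0x774ebb6c1ab754e2eef2aa7d749d4b), (nat_lit 0), (nat_lit 0x1c18d97c6e9d467a176668d9a6a33d8)⟩) (BT.leaf ⟨(nat_lit 2), (nat_lit 1), (nat_lit 1), (nat_lit 0x74749a363a8356a5b8a3ea555eadd5), (nat_lit 0), (nat_lit 0x1e33c7fcdf122dfc2bfed44e34bcf0d)⟩))) (BT.node (nat_lit 374) (BT.node (nat_lit 373) (BT.leaf ⟨(nat_lit 1), (nat_lit 0), (nat_lit 0), (nat_lit 0x1d58d974ef8cf6383747c8d7fc65b46), (nat_lit 0x1d58d974ef8cf6383747c8d7fc65b46), (nat_lit 0)⟩) (BT.leaf ⟨(nat_lit 1), (nat_lit 0), (nat_lit 0), (nat_lit 0x60141dd01202005408df91ee4b088), (nat_lit 0x60141dd01202005408df91ee4b088), (nat_lit 0)⟩)) (BT.node (nat_lit 375) (BT.leaf ⟨(nat_lit 3), (nat_lit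 6), (nat_lit 1), (nat_lit 0xa1d7a7dbce93d36a1cefe8c737a179), (nat_lit 0x1bd75a26a6386cb90af4fe873b7e179), (nat_lit 0x1297c83e2c1745db1bf39b256bbe9bc)⟩) (BT.leaf ⟨(nat_lit 3), (nat_lit 1), (nat_lit 6), (nat_lit 0x1bd75a26a6386cb90af4fe873b7e179), (nat_lit 0xa1d7a7dbce93d36a1cefe8c737a179), (nat_lit 0xd24e70b7e34e930af2adde1f16963a)⟩)))) (BT.node (nat_lit 380) (BT.node (nat_lit 378) (BT.node (nat_lit 377) (BT.leaf ⟨(nat_lit 2), (nat_lit 1), (nat_lit 1), (nat_lit 0x114c87fad04808011420ecca6430030), (nat_lit 0), (nat_lit 0x140b799543e10820041e0c30030433)⟩) (BT.leaf ⟨(nat_lit 2), (nat_lit 1), (nat_lit 1), (nat_lit 0x1cfa3b8060497b002044de12695e904), (nat_lit 0), (nat_lit 0x1721e1821ecc0c0501f54fe080907ad)⟩)) (BT.node (nat_lit 379) (BT.leaf ⟨(nat_lit 2), (nat_lit 1), (nat_lit 1), (nat_lit 0x1edc7335f7155952bcab43f4671625d), (nat_lit 0), (nat_lit 0xe2b1635fba495db87b74ff2ad2f519)⟩)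 (BT.leaf ⟨(nat_lit 2), (nat_lit 1), (nat_lit 1), (nat_lit 0x14eaa320465e84300208403a7901220), (nat_lit 0), (nat_lit 0x1722f419b2edd46f4da8bf13a2f55e0)⟩))) (BT.node (nat_lit 382) (BT.node (nat_lit 381) (BT.leaf ⟨(nat_lit 2), (nat_lit 1), (nat_lit 1), (nat_lit 0x1c1ba27c60f9d1efff66e85d3ba3646), (nat_lit 0), (nat_lit 0xf86f50032050080949c00c02901042)⟩) (BT.leaf ⟨(nat_lit 2), (nat_lit 1), (nat_lit 1), (nat_lit 0x2e6a32200becbcf1a804108127a201), (nat_lit 0), (nat_lit 0xcd7a34a5eac1f323519e9dd0957747)⟩)) (BT.node (nat_lit 383) (BT.leaf ⟨(nat_lit 2), (nat_lit 1), (nat_lit 1), (nat_lit 0xf850108208404a3882200c02bc792d), (nat_lit 0), (nat_lit 0xc4ec6bfed1bc37cefcdf13e17c6c6e)⟩) (BT.leaf ⟨(nat_lit 2), (nat_lit 1), (nat_lit 1), (nat_lit 0x4bfa30107c60052f900100080eaf3a), (nat_lit 0), (nat_lit 0x4bfc6810010ae4021004bef8ef4040)⟩)))))))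
noncomputable def xP320 : BT Pf := (BT.node (nat_lit 352) (BT.node (nat_lit 336) (BT.node (nat_lit 328) (BT.node (nat_lit 324) (BT.node (nat_lit 322) (BT.node (nat_lit 321) (BT.leaf (.nmul (nat_lit 188) [(nat_lit 23)])) (BT.leaf (.nmul (nat_lit 320) [(nat_lit 47)]))) (BT.node (nat_lit 323) (BT.leaf (.nmul (nat_lit 321) [(nat_lit 47)])) (BT.leaf (.nmul (nat_lit 322) [(nat_lit 23)])))) (BT.node (nat_lit 326) (BT.node (nat_lit 325) (BT.leaf (.nmul (nat_lit 103) [(nat_lit 23)])) (BT.leaf (.nmul (nat_lit 324) [(nat_lit 47)]))) (BT.node (nat_lit 327) (BT.leaf (.nmul (nat_lit 180) [(nat_lit 23)])) (BT.leaf (.nmul (nat_lit 326) [(nat_lit 0)]))))) (BT.node (nat_lit 332) (BT.node (nat_lit 330) (BT.node (nat_lit 329) (BT.leaf (.nmul (nat_lit 323) [(nat_lit 23)])) (BT.leaf (.nmul (nat_lit 328) [(nat_lit 23)]))) (BT.node (nat_lit 331) (BT.leaf (.nmul (nat_lit 130) [(nat_lit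 23)])) (BT.leaf (.nmul (nat_lit 330) [(nat_lit 47)])))) (BT.node (nat_lit 334) (BT.node (nat_lit 333) (BT.leaf (.nmul (nat_lit 331) [(nat_lit 23)])) (BT.leaf (.nmul (nat_lit 332) [(nat_lit 23)]))) (BT.node (nat_lit 335) (BT.leaf (.nmul (nat_lit 300) [(nat_lit 23)])) (BT.leaf (.nmul (nat_lit 288) [(nat_lit 23)])))))) (BT.node (nat_lit 344) (BT.node (nat_lit 340) (BT.node (nat_lit 338) (BT.node (nat_lit 337) (BT.leaf (.nmul (nat_lit 309) [(nat_lit 47)])) (BT.leaf (.nmul (nat_lit 189) [(nat_lit 47)]))) (BT.node (nat_lit 339) (BT.leaf (.nmul (nat_lit 335) [(nat_lit 23)])) (BT.leaf (.nmul (nat_lit 266) [(nat_lit 47)])))) (BT.node (nat_lit 342) (BT.node (nat_lit 341) (BT.leaf (.nmul (nat_lit 258) [(nat_lit 0)])) (BT.leaf (.nmul (nat_lit 340) [(nat_lit 1)]))) (BT.node (nat_lit 343) (BT.leaf (.dfn [(nat_lit 3)])) (BT.leaf (.inv (nat_lit 342)))))) (BT.node (nat_lit 348)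 (BT.node (nat_lit 346) (BT.node (nat_lit 345) (BT.leaf (.nmul (nat_lit 166) [(nat_lit 1)])) (BT.leaf (.nmul (nat_lit 344) [(nat_lit 0)]))) (BT.node (nat_lit 347) (BT.leaf (.nmul (nat_lit 345) [(nat_lit 23)])) (BT.leaf (.emul [(nat_lit 51), (nat_lit 152)])))) (BT.node (nat_lit 350) (BT.node (nat_lit 349) (BT.leaf (.emul [(nat_lit 50), (nat_lit 347)])) (BT.leaf (.emul [(nat_lit 70), (nat_lit 70)]))) (BT.node (nat_lit 351) (BT.leaf (.emul [(nat_lit 70), (nat_lit 349)])) (BT.leaf (.emul [(nat_lit 94), (nat_lit 350)]))))))) (BT.node (nat_lit 368) (BT.node (nat_lit 360) (BT.node (nat_lit 356) (BT.node (nat_lit 354) (BT.node (nat_lit 353) (BT.leaf (.emul [(nat_lit 70), (nat_lit 351)])) (BT.leaf (.emul [(nat_lit 51), (nat_lit 194)]))) (BT.node (nat_lit 355) (BT.leaf (.emul [(nat_lit 51), (nat_lit 353)])) (BT.leaf (.emul [(nat_lit 94), (nat_lit 70)])))) (BT.node (nat_lit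 358) (BT.node (nat_lit 357) (BT.leaf (.emul [(nat_lit 94), (nat_lit 355)])) (BT.leaf (.emul [(nat_lit 70), (nat_lit 356)]))) (BT.node (nat_lit 359) (BT.leaf (.emul [(nat_lit 94), (nat_lit 357)])) (BT.leaf (.emul [(nat_lit 70), (nat_lit 358)]))))) (BT.node (nat_lit 364) (BT.node (nat_lit 362) (BT.node (nat_lit 361) (BT.leaf (.emul [(nat_lit 70), (nat_lit 359)])) (BT.leaf (.emul [(nat_lit 94), (nat_lit 360)]))) (BT.node (nat_lit 363) (BT.leaf (.emul [(nat_lit 70), (nat_lit 361)])) (BT.leaf (.nmul (nat_lit 261) [(nat_lit 47)])))) (BT.node (nat_lit 366) (BT.node (nat_lit 365) (BT.leaf (.nmul (nat_lit 363) [(nat_lit 47)])) (BT.leaf (.cmp (nat_lit 342) ⟨(nat_lit 342), [(nat_lit 354), (nat_lit 362)], [(nat_lit 364), (nat_lit 312)]⟩))) (BT.node (nat_lit 367) (BT.leaf (.emul [(nat_lit 51), (nat_lit 51)])) (BT.leaf (.nmul (nat_lit 334) [(nat_lit 1)])))))) (BT.node (nat_lit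 376) (BT.node (nat_lit 372) (BT.node (nat_lit 370) (BT.node (nat_lit 369) (BT.leaf (.nmul (nat_lit 101) [(nat_lit 47)])) (BT.leaf (.nmul (nat_lit 368) [(nat_lit 23)]))) (BT.node (nat_lit 371) (BT.leaf (.emul [(nat_lit 94), (nat_lit 157)])) (BT.leaf (.emul [(nat_lit 94), (nat_lit 370)])))) (BT.node (nat_lit 374) (BT.node (nat_lit 373) (BT.leaf (.nmul (nat_lit 318) [(nat_lit 23)])) (BT.leaf (.nmul (nat_lit 283) [(nat_lit 47)]))) (BT.node (nat_lit 375) (BT.leaf (.rel (nat_lit 106) (nat_lit 5) [(nat_lit 363), (nat_lit 297)] [⟨(nat_lit 106), [(nat_lit 366)], [(nat_lit 369), (nat_lit 367)]⟩, ⟨(nat_lit 342), [(nat_lit 348), (nat_lit 371)], [(nat_lit 373), (nat_lit 372)]⟩])) (BT.leaf (.inv (nat_lit 374)))))) (BT.node (nat_lit 380) (BT.node (nat_lit 378) (BT.node (nat_lit 377) (BT.leaf (.emul [(nat_lit 51), (nat_lit 347)])) (BT.leaf (.emul [(nat_lit 51), (nat_lit 376)])))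 (BT.node (nat_lit 379) (BT.leaf (.emul [(nat_lit 50), (nat_lit 377)])) (BT.leaf (.emul [(nat_lit 94), (nat_lit 349)])))) (BT.node (nat_lit 382) (BT.node (nat_lit 381) (BT.leaf (.emul [(nat_lit 70), (nat_lit 379)])) (BT.leaf (.emul [(nat_lit 94), (nat_lit 380)]))) (BT.node (nat_lit 383) (BT.leaf (.emul [(nat_lit 94), (nat_lit 381)])) (BT.leaf (.emul [(nat_lit 70), (nat_lit 382)]))))))))
noncomputable def xF384 : BT Fc := (BT.node (nat_lit 416) (BT.node (nat_lit 400) (BT.node (nat_lit 392) (BT.node (nat_lit 388) (BT.node (nat_lit 386) (BT.node (nat_lit 385) (BT.leaf ⟨(nat_lit 1), (nat_lit 0), (nat_lit 0), (nat_lit 0x41084102772403fa5001aa40417980), (nat_lit 0x41084102772403fa5001aa40417980), (nat_lit 0)⟩) (BT.leaf ⟨(nat_lit 1), (nat_lit 0), (nat_lit 0), (nat_lit 0x974011028e20282101204420901003), (nat_lit 0x974011028e20282101204420901003), (nat_lit 0)⟩)) (BT.node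 (nat_lit 387) (BT.leaf ⟨(nat_lit 2), (nat_lit 6), (nat_lit 6), (nat_lit 0xf63b3546e0cd1b49f42365d1957744), (nat_lit 0), (nat_lit 0x1e40cde73ab95cd9ada6d94ffa39473)⟩) (BT.leaf ⟨(nat_lit 1), (nat_lit 0), (nat_lit 0), (nat_lit 0x19a557742ecdd59a307ca33c1b49f4e), (nat_lit 0x19a557742ecdd59a307ca33c1b49f4e), (nat_lit 0)⟩))) (BT.node (nat_lit 390) (BT.node (nat_lit 389) (BT.leaf ⟨(nat_lit 2), (nat_lit 1), (nat_lit 1), (nat_lit 0x1d461e976bd982ef05e9b915a18e5f8), (nat_lit 0), (nat_lit 0x1d461e976bd982ef05e9b915a18e5f8)⟩) (BT.leaf ⟨(nat_lit 2), (nat_lit 1), (nat_lit 1), (nat_lit 0xd278d07caca2df9d7baddfcefbd33a), (nat_lit 0), (nat_lit 0x878d6d406008910299b9114e5f024)⟩)) (BT.node (nat_lit 391) (BT.leaf ⟨(nat_lit 2), (nat_lit 1), (nat_lit 1), (nat_lit 0x1cec02ef57c400ef4809e8e4b95c041), (nat_lit 0), (nat_lit 0xc4fbee272ed27c76a6a91da7a6f49e)⟩) (BT.leaf ⟨(nat_lit 2), (nat_lit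 1), (nat_lit 1), (nat_lit 0x4b887b2f6e04bf511affb7572d8b96), (nat_lit 0), (nat_lit 0x87ca06b40a1f35202f9b510ccb7c40)⟩)))) (BT.node (nat_lit 396) (BT.node (nat_lit 394) (BT.node (nat_lit 393) (BT.leaf ⟨(nat_lit 2), (nat_lit 1), (nat_lit 1), (nat_lit 0xcd7a33d8f8d91bb374794b466a3742), (nat_lit 0), (nat_lit 0x2e501240500cbd10673d3c805eaa10)⟩) (BT.leaf ⟨(nat_lit 2), (nat_lit 1), (nat_lit 1), (nat_lit 0x14ea7a6004408054032fce690101208), (nat_lit 0), (nat_lit 0x1fd37a44dda9bc33a1cedea9ab7b6b4)⟩)) (BT.node (nat_lit 395) (BT.leaf ⟨(nat_lit 2), (nat_lit 1), (nat_lit 1), (nat_lit 0x1c1865dffc8dd0bab07ca33297a3766), (nat_lit 0), (nat_lit 0xf877b082939008018228e2108ebf38)⟩) (BT.leaf ⟨(nat_lit 2), (nat_lit 1), (nat_lit 1), (nat_lit 0xf84ebc71938208018428044b501102), (nat_lit 0), (nat_lit 0x774eb9d432a716d354b6d9bbcea9f5)⟩))) (BT.node (nat_lit 398) (BT.node (nat_lit 397) (BT.leaf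 ⟨(nat_lit 2), (nat_lit 1), (nat_lit 1), (nat_lit 0xcd74987c68dd9b34dffc8dd5ba2747), (nat_lit 0), (nat_lit 0x15a18e5e033731ed45ec5a5d46f55e9)⟩) (BT.leaf ⟨(nat_lit 1), (nat_lit 0), (nat_lit 0), (nat_lit 0x1d1fa3766f8c1f3a7742c8d467a2335), (nat_lit 0x1d1fa3766f8c1f3a7742c8d467a2335), (nat_lit 0)⟩)) (BT.node (nat_lit 399) (BT.leaf ⟨(nat_lit 1), (nat_lit 0), (nat_lit 0), (nat_lit 0x107a4b54b93e5da4f6c193926acf627), (nat_lit 0x107a4b54b93e5da4f6c193926acf627), (nat_lit 0)⟩) (BT.leaf ⟨(nat_lit 1), (nat_lit 0), (nat_lit 0), (nat_lit 0x1bf014018411020049dd8f6021f5f85), (nat_lit 0x1bf014018411020049dd8f6021f5f85), (nat_lit 0)⟩))))) (BT.node (nat_lit 408) (BT.node (nat_lit 404) (BT.node (nat_lit 402) (BT.node (nat_lit 401) (BT.leaf ⟨(nat_lit 3), (nat_lit 2), (nat_lit 6), (nat_lit 0x1fa300220403a79042806015190058d), (nat_lit 0x75d017384ba08a4e78f014aef7b402), (nat_lit 0xf9e6cca57c51b9f0bf33c6d8fbe95a)⟩)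 (BT.leaf ⟨(nat_lit 1), (nat_lit 0), (nat_lit 0), (nat_lit 0x6011c955141c35401afad1ee96fc1e), (nat_lit 0x6011c955141c35401afad1ee96fc1e), (nat_lit 0)⟩)) (BT.node (nat_lit 403) (BT.leaf ⟨(nat_lit 1), (nat_lit 0), (nat_lit 0), (nat_lit 0x1f8e6cca52b582e8bb637c66f1f5be7), (nat_lit 0x1f8e6cca52b582e8bb637c66f1f5be7), (nat_lit 0)⟩) (BT.leaf ⟨(nat_lit 1), (nat_lit 0), (nat_lit 0), (nat_lit 0xe390213a8f8897201e777a402f47), (nat_lit 0xe390213a8f8897201e777a402f47), (nat_lit 0)⟩))) (BT.node (nat_lit 406) (BT.node (nat_lit 405) (BT.leaf ⟨(nat_lit 2), (nat_lit 6), (nat_lit 6), (nat_lit 0x302225b0488123bdec80805002abd), (nat_lit 0), (nat_lit 0x554c00c0e1b9d3dd0881210796f9af)⟩) (BT.leaf ⟨(nat_lit 1), (nat_lit 0), (nat_lit 0), (nat_lit 0x774140184111ec4474e0180224b00a), (nat_lit 0x774140184111ec4474e0180224b00a), (nat_lit 0)⟩)) (BT.node (nat_lit 407) (BT.leaf ⟨(nat_lit 1), (nat_lit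 0), (nat_lit 0), (nat_lit 0xc25f76614008b6a29904008414453), (nat_lit 0xc25f76614008b6a29904008414453), (nat_lit 0)⟩) (BT.leaf ⟨(nat_lit 1), (nat_lit 0), (nat_lit 0), (nat_lit 0x1ceb7a400080200021008e602100020), (nat_lit 0x1ceb7a400080200021008e602100020), (nat_lit 0)⟩)))) (BT.node (nat_lit 412) (BT.node (nat_lit 410) (BT.node (nat_lit 409) (BT.leaf ⟨(nat_lit 1), (nat_lit 0), (nat_lit 0), (nat_lit 0x169a3bf908e30cc76bfe8a79ce39473), (nat_lit 0x169a3bf908e30cc76bfe8a79ce39473), (nat_lit 0)⟩) (BT.leaf ⟨(nat_lit 1), (nat_lit 0), (nat_lit 0), (nat_lit 0x1008013e100c028212bb04400d01082), (nat_lit 0x1008013e100c028212bb04400d01082), (nat_lit 0)⟩)) (BT.node (nat_lit 411) (BT.leaf ⟨(nat_lit 1), (nat_lit 0), (nat_lit 0), (nat_lit 0x189e6f54b93527a4e6c14d507a4b0ed), (nat_lit 0x189e6f54b93527a4e6c14d507a4b0ed), (nat_lit 0)⟩) (BT.leaf ⟨(nat_lit 1), (nat_lit 0), (nat_lit 0),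 (nat_lit 0x84127830dc9239f99c522004a31f9d), (nat_lit 0x84127830dc9239f99c522004a31f9d), (nat_lit 0)⟩))) (BT.node (nat_lit 414) (BT.node (nat_lit 413) (BT.leaf ⟨(nat_lit 3), (nat_lit 2), (nat_lit 7), (nat_lit 0xf85f3d17fc7df5f5bf32b4d8de1ca5), (nat_lit 0x1001001001001001001001001001001), (nat_lit 0x1001001001001001001001001001001)⟩) (BT.leaf ⟨(nat_lit 2), (nat_lit 2), (nat_lit 2), (nat_lit 0x5551b0d5714745b643dddfa4dea9d5), (nat_lit 0), (nat_lit 0x11cc023e34be803c6c9e081ceaf4008)⟩)) (BT.node (nat_lit 415) (BT.leaf ⟨(nat_lit 2), (nat_lit 2), (nat_lit 2), (nat_lit 0x1c37517857fd4d3c678f16e32ec6a65), (nat_lit 0), (nat_lit 0x11c55d82280480b7b7387c240af500a)⟩) (BT.leaf ⟨(nat_lit 2), (nat_lit 2), (nat_lit 2), (nat_lit 0x10063e7e85e24e8a5b0891dc02c04), (nat_lit 0), (nat_lit 0x1a7920210411fa10128017217e7a600)⟩)))))) (BT.node (nat_lit 432) (BT.node (nat_lit 424) (BT.node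 (nat_lit 420) (BT.node (nat_lit 418) (BT.node (nat_lit 417) (BT.leaf ⟨(nat_lit 2), (nat_lit 2), (nat_lit 2), (nat_lit 0x66f654538e31ec76e73ab969a79bfe), (nat_lit 0), (nat_lit 0xc0907ad53208bb342044114c87a7f)⟩) (BT.leaf ⟨(nat_lit 2), (nat_lit 2), (nat_lit 2), (nat_lit 0xd186587ca33297b3747e9dd5ba3742), (nat_lit 0), (nat_lit 0x208ebf384ba4b41100320401ba22bb)⟩)) (BT.node (nat_lit 419) (BT.leaf ⟨(nat_lit 2), (nat_lit 2), (nat_lit 2), (nat_lit 0x1464d907c66b9a652f427b1d59575ff), (nat_lit 0), (nat_lit 0x15a1329763d131f05dec5a57e157751)⟩) (BT.leaf ⟨(nat_lit 2), (nat_lit 2), (nat_lit 2), (nat_lit 0x11c76543366b1eeb9a878a79cc39bfe), (nat_lit 0), (nat_lit 0x4b817fdb72d9a663d5cd44dc16652f)⟩))) (BT.node (nat_lit 422) (BT.node (nat_lit 421) (BT.leaf ⟨(nat_lit 1), (nat_lit 0), (nat_lit 0), (nat_lit 0xf9c02f89934013781044080323b844), (nat_lit 0xf9c02f89934013781044080323b844),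 (nat_lit 0)⟩) (BT.leaf ⟨(nat_lit 1), (nat_lit 0), (nat_lit 0), (nat_lit 0xf624b6274d43b64d31393fa7a5f49c), (nat_lit 0xf624b6274d43b64d31393fa7a5f49c), (nat_lit 0)⟩)) (BT.node (nat_lit 423) (BT.leaf ⟨(nat_lit 1), (nat_lit 0), (nat_lit 0), (nat_lit 0xbd27a7f4de1b513544ddf9bd77a674), (nat_lit 0xbd27a7f4de1b513544ddf9bd77a674), (nat_lit 0)⟩) (BT.leaf ⟨(nat_lit 2), (nat_lit 7), (nat_lit 7), (nat_lit 0x4b7b00a576109f0c7120500ba2082), (nat_lit 0), (nat_lit 0x35723573d1a50171bb93004131d101)⟩)))) (BT.node (nat_lit 428) (BT.node (nat_lit 426) (BT.node (nat_lit 425) (BT.leaf ⟨(nat_lit 2), (nat_lit 2), (nat_lit 2), (nat_lit 0x20b7b00a8044b5f0803204aec01012), (nat_lit 0), (nat_lit 0x11c7c7f384ba4b5f0abb93800c01006)⟩) (BT.leaf ⟨(nat_lit 2), (nat_lit 2), (nat_lit 2), (nat_lit 0x97c731bcf6e95dafb8a6e17496f85f), (nat_lit 0), (nat_lit 0x4fc93fdb2564bc969afd454bd66370)⟩)) (BT.node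 (nat_lit 427) (BT.leaf ⟨(nat_lit 2), (nat_lit 2), (nat_lit 2), (nat_lit 0x66e3955c8e23b63dbfe8a6a1e79e73), (nat_lit 0), (nat_lit 0x143bd1955f2102d4440d690cdd1a1f)⟩) (BT.leaf ⟨(nat_lit 2), (nat_lit 7), (nat_lit 7), (nat_lit 0x19cc398edb4d1eeae471866a1e31b35), (nat_lit 0), (nat_lit 0xc4d32f0dd1b1bb5178cba54d0bcf9d)⟩))) (BT.node (nat_lit 430) (BT.node (nat_lit 429) (BT.leaf ⟨(nat_lit 1), (nat_lit 0), (nat_lit 0), (nat_lit 0x1e164b2570140323df4e110020246fc), (nat_lit 0x1e164b2570140323df4e110020246fc), (nat_lit 0)⟩) (BT.leaf ⟨(nat_lit 1), (nat_lit 0), (nat_lit 0), (nat_lit 0x1080305c8049b50102990440865f0a0), (nat_lit 0x1080305c8049b50102990440865f0a0), (nat_lit 0)⟩)) (BT.node (nat_lit 431) (BT.leaf ⟨(nat_lit 3), (nat_lit 7), (nat_lit 3), (nat_lit 0x151b49f66a33297837567b17ffa3f46), (nat_lit 0x9aa4b62783d52cbb69e62727e5f0ed), (nat_lit 0x100a024208014004f2f4fc775640600)⟩)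 (BT.leaf ⟨(nat_lit 3), (nat_lit 3), (nat_lit 7), (nat_lit 0x9aa4b62783d52cbb69e62727e5f0ed), (nat_lit 0x151b49f66a33297837567b17ffa3f46), (nat_lit 0x200408c0105078c070d35ea0240155)⟩))))) (BT.node (nat_lit 440) (BT.node (nat_lit 436) (BT.node (nat_lit 434) (BT.node (nat_lit 433) (BT.leaf ⟨(nat_lit 2), (nat_lit 3), (nat_lit 3), (nat_lit 0xdb0eb9953a27746add53eae2b90955), (nat_lit 0), (nat_lit 0x2020f28010420442363ce8302400a0)⟩) (BT.leaf ⟨(nat_lit 2), (nat_lit 3), (nat_lit 3), (nat_lit 0x14d36562789aa657cabbb07d4554dff), (nat_lit 0), (nat_lit 0xc4f60bd8a972fa6f49a2ed239d2627)⟩)) (BT.node (nat_lit 435) (BT.leaf ⟨(nat_lit 2), (nat_lit 3), (nat_lit 3), (nat_lit 0x1e33c6c6ef3a2dd89bfed45c36c6dd2), (nat_lit 0), (nat_lit 0x975afcab4be39927a1f0be6f316370)⟩) (BT.leaf ⟨(nat_lit 1), (nat_lit 0), (nat_lit 0), (nat_lit 0x14be025d5880d19c6c208054035cfe3), (nat_lit 0x14be025d5880d19c6c208054035cfe3),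 (nat_lit 0)⟩))) (BT.node (nat_lit 438) (BT.node (nat_lit 437) (BT.leaf ⟨(nat_lit 2), (nat_lit 7), (nat_lit 7), (nat_lit 0x1841022405ce02174425a00fc7a5d), (nat_lit 0), (nat_lit 0x1e3e38f383ae00d5dbe19384b401022)⟩) (BT.leaf ⟨(nat_lit 2), (nat_lit 3), (nat_lit 3), (nat_lit 0x1c34487c62aa281b1fba10422240180), (nat_lit 0), (nat_lit 0x1fd143ef539d45f5a6f689ac70bc9b2)⟩)) (BT.node (nat_lit 439) (BT.leaf ⟨(nat_lit 2), (nat_lit 3), (nat_lit 3), (nat_lit 0x27a00e00a011021034671b00240402), (nat_lit 0), (nat_lit 0x1bf226ef64d5ad36a2f4de92af90a87)⟩) (BT.leaf ⟨(nat_lit 2), (nat_lit 3), (nat_lit 3), (nat_lit 0x1270eb806e70f842125d00700af5082), (nat_lit 0), (nat_lit 0x43ce910bf00c1f9c63e5504154a4f)⟩)))) (BT.node (nat_lit 444) (BT.node (nat_lit 442) (BT.node (nat_lit 441) (BT.leaf ⟨(nat_lit 1), (nat_lit 0), (nat_lit 0), (nat_lit 0x1b9008910bf04fdf99c50a004154812), (nat_lit 0x1b9008910bf04fdf99c50a004154812),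 (nat_lit 0)⟩) (BT.leaf ⟨(nat_lit 1), (nat_lit 0), (nat_lit 0), (nat_lit 0xc0017910d1b5cdafe467733a2cf100), (nat_lit 0xc0017910d1b5cdafe467733a2cf100), (nat_lit 0)⟩)) (BT.node (nat_lit 443) (BT.leaf ⟨(nat_lit 3), (nat_lit 4), (nat_lit 7), (nat_lit 0xf9ce8c04e7c8100300c4b61123bc9a), (nat_lit 0x19021d10890100a49a57a4ac06004), (nat_lit 0x6cbab766a8d9183e519e0df1ba2346)⟩) (BT.leaf ⟨(nat_lit 3), (nat_lit 7), (nat_lit 4), (nat_lit 0x19021d10890100a49a57a4ac06004), (nat_lit 0xf9ce8c04e7c8100300c4b61123bc9a), (nat_lit 0x1d1fe3706e85d3b2354694a32fa21b2)⟩))) (BT.node (nat_lit 446) (BT.node (nat_lit 445) (BT.leaf ⟨(nat_lit 3), (nat_lit 2), (nat_lit 8), (nat_lit 0x1cf9f3c9ae85bc00a00c4084112dc04), (nat_lit 0x1001001001001001001001001001001), (nat_lit 0x1001001001001001001001001001001)⟩) (BT.leaf ⟨(nat_lit 2), (nat_lit 2), (nat_lit 2), (nat_lit 0x126a6f54bc4e3b44f176626f62cf49e),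 (nat_lit 0), (nat_lit 0xe5ba8a395f2db226e27d9560d5c2b1)⟩)) (BT.node (nat_lit 447) (BT.leaf ⟨(nat_lit 2), (nat_lit 2), (nat_lit 2), (nat_lit 0x20401c9f803bd4ea3e2e7610408821), (nat_lit 0), (nat_lit 0xcd652dfff8dd3b23693e8432d57546)⟩) (BT.leaf ⟨(nat_lit 3), (nat_lit 8), (nat_lit 2), (nat_lit 0x1001001001001001001001001001001), (nat_lit 0x1cf9f3c9ae85bc00a00c4084112dc04), (nat_lit 0x1001001001001001001001001001001)⟩)))))))
noncomputable def xP384 : BT Pf := (BT.node (nat_lit 416) (BT.node (nat_lit 400) (BT.node (nat_lit 392) (BT.node (nat_lit 388) (BT.node (nat_lit 386) (BT.node (nat_lit 385) (BT.leaf (.nmul (nat_lit 327) [(nat_lit 23)])) (BT.leaf (.nmul (nat_lit 384) [(nat_lit 0)]))) (BT.node (nat_lit 387) (BT.leaf (.cmp (nat_lit 375) ⟨(nat_lit 342), [(nat_lit 378), (nat_lit 383)], [(nat_lit 145), (nat_lit 385)]⟩)) (BT.leaf (.nmul (nat_lit 346) [(nat_lit 23)]))))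 (BT.node (nat_lit 390) (BT.node (nat_lit 389) (BT.leaf (.emul [(nat_lit 94), (nat_lit 51)])) (BT.leaf (.emul [(nat_lit 50), (nat_lit 388)]))) (BT.node (nat_lit 391) (BT.leaf (.emul [(nat_lit 51), (nat_lit 389)])) (BT.leaf (.emul [(nat_lit 51), (nat_lit 390)]))))) (BT.node (nat_lit 396) (BT.node (nat_lit 394) (BT.node (nat_lit 393) (BT.leaf (.emul [(nat_lit 94), (nat_lit 352)])) (BT.leaf (.emul [(nat_lit 94), (nat_lit 392)]))) (BT.node (nat_lit 395) (BT.leaf (.emul [(nat_lit 70), (nat_lit 393)])) (BT.leaf (.emul [(nat_lit 70), (nat_lit 394)])))) (BT.node (nat_lit 398) (BT.node (nat_lit 397) (BT.leaf (.emul [(nat_lit 94), (nat_lit 395)])) (BT.leaf (.nmul (nat_lit 123) [(nat_lit 1)]))) (BT.node (nat_lit 399) (BT.leaf (.nmul (nat_lit 397) [(nat_lit 0)])) (BT.leaf (.nmul (nat_lit 398) [(nat_lit 23)])))))) (BT.node (nat_lit 408) (BT.node (nat_lit 404) (BT.node (nat_lit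 402) (BT.node (nat_lit 401) (BT.leaf (.rel (nat_lit 343) (nat_lit 0) [(nat_lit 338), (nat_lit 387)] [⟨(nat_lit 107), [(nat_lit 391), (nat_lit 396)], [(nat_lit 298), (nat_lit 399)]⟩])) (BT.leaf (.nmul (nat_lit 367) [(nat_lit 1)]))) (BT.node (nat_lit 403) (BT.leaf (.nmul (nat_lit 341) [(nat_lit 0)])) (BT.leaf (.nmul (nat_lit 401) [(nat_lit 0)])))) (BT.node (nat_lit 406) (BT.node (nat_lit 405) (BT.leaf (.emul [(nat_lit 386), (nat_lit 365)])) (BT.leaf (.nmul (nat_lit 321) [(nat_lit 23)]))) (BT.node (nat_lit 407) (BT.leaf (.nmul (nat_lit 405) [(nat_lit 23)])) (BT.leaf (.nmul (nat_lit 406) [(nat_lit 47)]))))) (BT.node (nat_lit 412) (BT.node (nat_lit 410) (BT.node (nat_lit 409) (BT.leaf (.nmul (nat_lit 407) [(nat_lit 47)])) (BT.leaf (.nmul (nat_lit 369) [(nat_lit 47)]))) (BT.node (nat_lit 411) (BT.leaf (.nmul (nat_lit 333) [(nat_lit 23)])) (BT.leaf (.nmul (nat_lit 301)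 [(nat_lit 23)])))) (BT.node (nat_lit 414) (BT.node (nat_lit 413) (BT.leaf (.dfn [(nat_lit 1), (nat_lit 4), (nat_lit 1), (nat_lit 4), (nat_lit 1), (nat_lit 4), (nat_lit 1), (nat_lit 3)])) (BT.leaf (.emul [(nat_lit 164), (nat_lit 265)]))) (BT.node (nat_lit 415) (BT.leaf (.emul [(nat_lit 132), (nat_lit 413)])) (BT.leaf (.emul [(nat_lit 151), (nat_lit 414)]))))))) (BT.node (nat_lit 432) (BT.node (nat_lit 424) (BT.node (nat_lit 420) (BT.node (nat_lit 418) (BT.node (nat_lit 417) (BT.leaf (.emul [(nat_lit 132), (nat_lit 237)])) (BT.leaf (.emul [(nat_lit 151), (nat_lit 416)]))) (BT.node (nat_lit 419) (BT.leaf (.emul [(nat_lit 132), (nat_lit 417)])) (BT.leaf (.emul [(nat_lit 151), (nat_lit 418)])))) (BT.node (nat_lit 422) (BT.node (nat_lit 421) (BT.leaf (.nmul (nat_lit 147) [(nat_lit 23)])) (BT.leaf (.nmul (nat_lit 420) [(nat_lit 47)]))) (BT.node (nat_lit 423) (BT.leaf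 (.nmul (nat_lit 421) [(nat_lit 47)])) (BT.leaf (.cmp (nat_lit 412) ⟨(nat_lit 412), [(nat_lit 415), (nat_lit 419)], [(nat_lit 422), (nat_lit 372)]⟩))))) (BT.node (nat_lit 428) (BT.node (nat_lit 426) (BT.node (nat_lit 425) (BT.leaf (.emul [(nat_lit 151), (nat_lit 237)])) (BT.leaf (.emul [(nat_lit 151), (nat_lit 424)]))) (BT.node (nat_lit 427) (BT.leaf (.emul [(nat_lit 132), (nat_lit 425)])) (BT.leaf (.cmp (nat_lit 412) ⟨(nat_lit 412), [(nat_lit 242), (nat_lit 426)], [(nat_lit 313), (nat_lit 98)]⟩)))) (BT.node (nat_lit 430) (BT.node (nat_lit 429) (BT.leaf (.nmul (nat_lit 146) [(nat_lit 23)])) (BT.leaf (.nmul (nat_lit 319) [(nat_lit 47)]))) (BT.node (nat_lit 431) (BT.leaf (.rel (nat_lit 233) (nat_lit 0) [(nat_lit 429), (nat_lit 385)] [⟨(nat_lit 412), [(nat_lit 164)], [(nat_lit 127), (nat_lit 144)]⟩])) (BT.leaf (.inv (nat_lit 430))))))) (BT.node (nat_lit 440) (BT.node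 (nat_lit 436) (BT.node (nat_lit 434) (BT.node (nat_lit 433) (BT.leaf (.emul [(nat_lit 241), (nat_lit 277)])) (BT.leaf (.emul [(nat_lit 232), (nat_lit 432)]))) (BT.node (nat_lit 435) (BT.leaf (.emul [(nat_lit 232), (nat_lit 433)])) (BT.leaf (.nmul (nat_lit 411) [(nat_lit 0)])))) (BT.node (nat_lit 438) (BT.node (nat_lit 437) (BT.leaf (.cmp (nat_lit 431) ⟨(nat_lit 431), [(nat_lit 286), (nat_lit 434), (nat_lit 279)], [(nat_lit 174), (nat_lit 435)]⟩)) (BT.leaf (.emul [(nat_lit 275), (nat_lit 257)]))) (BT.node (nat_lit 439) (BT.leaf (.emul [(nat_lit 275), (nat_lit 437)])) (BT.leaf (.emul [(nat_lit 257), (nat_lit 438)]))))) (BT.node (nat_lit 444) (BT.node (nat_lit 442) (BT.node (nat_lit 441) (BT.leaf (.nmul (nat_lit 289) [(nat_lit 47)])) (BT.leaf (.nmul (nat_lit 440) [(nat_lit 1)]))) (BT.node (nat_lit 443) (BT.leaf (.rel (nat_lit 430) (nat_lit 0) [(nat_lit 254), (nat_lit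 120)] [⟨(nat_lit 276), [(nat_lit 439), (nat_lit 278)], [(nat_lit 337), (nat_lit 441)]⟩])) (BT.leaf (.inv (nat_lit 442))))) (BT.node (nat_lit 446) (BT.node (nat_lit 445) (BT.leaf (.dfn [(nat_lit 1), (nat_lit 4), (nat_lit 1), (nat_lit 4), (nat_lit 1), (nat_lit 4), (nat_lit 1), (nat_lit 4), (nat_lit 1), (nat_lit 4)])) (BT.leaf (.emul [(nat_lit 214), (nat_lit 164)]))) (BT.node (nat_lit 447) (BT.leaf (.emul [(nat_lit 214), (nat_lit 445)])) (BT.leaf (.inv (nat_lit 444)))))))))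
noncomputable def xF448 : BT Fc := (BT.node (nat_lit 474) (BT.node (nat_lit 461) (BT.node (nat_lit 454) (BT.node (nat_lit 451) (BT.node (nat_lit 449) (BT.leaf ⟨(nat_lit 1), (nat_lit 0), (nat_lit 0), (nat_lit 0x3b716335ab9698cdf908e714e3947b), (nat_lit 0x3b716335ab9698cdf908e714e3947b), (nat_lit 0)⟩) (BT.node (nat_lit 450) (BT.leaf ⟨(nat_lit 1), (nat_lit 0), (nat_lit 0), (nat_lit 0x8410053a40288120600d3d9ce7a280), (nat_lit 0x8410053a40288120600d3d9ce7a280), (nat_lit 0)⟩) (BT.leaf ⟨(nat_lit 1), (nat_lit 0), (nat_lit 0), (nat_lit 0x1f18409805010786056811020842674), (nat_lit 0x1f18409805010786056811020842674), (nat_lit 0)⟩))) (BT.node (nat_lit 452) (BT.leaf ⟨(nat_lit 1), (nat_lit 0), (nat_lit 0), (nat_lit 0x11367a517ce9bf35a2f4da8a1f7a6f0), (nat_lit 0x11367a517ce9bf35a2f4da8a1f7a6f0), (nat_lit 0)⟩) (BT.node (nat_lit 453) (BT.leaf ⟨(nat_lit 1), (nat_lit 0), (nat_lit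 0), (nat_lit 0x41002f42088810033e70080923bc9a), (nat_lit 0x41002f42088810033e70080923bc9a), (nat_lit 0)⟩) (BT.leaf ⟨(nat_lit 1), (nat_lit 0), (nat_lit 0), (nat_lit 0xf8d002b908020239f3a00327801008), (nat_lit 0xf8d002b908020239f3a00327801008), (nat_lit 0)⟩)))) (BT.node (nat_lit 457) (BT.node (nat_lit 455) (BT.leaf ⟨(nat_lit 2), (nat_lit 3), (nat_lit 3), (nat_lit 0x1d5818463024442471c582084008ee4), (nat_lit 0), (nat_lit 0x2405088018823c2beb81049e4b048)⟩) (BT.node (nat_lit 456) (BT.leaf ⟨(nat_lit 2), (nat_lit 3), (nat_lit 3), (nat_lit 0x80420a5ef1800ef490110202402f3b), (nat_lit 0), (nat_lit 0x62043eb563e14eef4e0517808400a)⟩) (BT.leaf ⟨(nat_lit 2), (nat_lit 3), (nat_lit 3), (nat_lit 0xd7e74120a00404827f4280c00840d5), (nat_lit 0), (nat_lit 0x14bf34fdbab84ac97127d45855665b1)⟩))) (BT.node (nat_lit 459) (BT.node (nat_lit 458) (BT.leaf ⟨(nat_lit 1), (nat_lit 0), (nat_lit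 0), (nat_lit 0xf866cfe37c656bc84a57cf45df5e0b), (nat_lit 0xf866cfe37c656bc84a57cf45df5e0b), (nat_lit 0)⟩) (BT.leaf ⟨(nat_lit 1), (nat_lit 0), (nat_lit 0), (nat_lit 0xd271d2d2e762df9c583e75cfb8d33a), (nat_lit 0xd271d2d2e762df9c583e75cfb8d33a), (nat_lit 0)⟩)) (BT.node (nat_lit 460) (BT.leaf ⟨(nat_lit 2), (nat_lit 2), (nat_lit 2), (nat_lit 0xd1b49f4ea33d9a52f420f97ffa3747), (nat_lit 0), (nat_lit 0x203c69004bef8c20001e74012f42b9)⟩) (BT.leaf ⟨(nat_lit 2), (nat_lit 2), (nat_lit 2), (nat_lit 0x146465bd866b29734dff0f9d1d57742), (nat_lit 0), (nat_lit 0x1f1b49f4e68d29734f42c8dd59575ff)⟩))))) (BT.node (nat_lit 467) (BT.node (nat_lit 464) (BT.node (nat_lit 462) (BT.leaf ⟨(nat_lit 1), (nat_lit 0), (nat_lit 0), (nat_lit 0xae5003e30092780425f04020001473), (nat_lit 0xae5003e30092780425f04020001473), (nat_lit 0)⟩) (BT.node (nat_lit 463) (BT.leaf ⟨(nat_lit 3), (nat_lit 6), (nat_lit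 7), (nat_lit 0x1c35b19551106bd404f3f8d20048081), (nat_lit 0x110209951809026f050084e8e19af9), (nat_lit 0x4beae02f65e49ed8ea272d31d6612d)⟩) (BT.leaf ⟨(nat_lit 3), (nat_lit 7), (nat_lit 6), (nat_lit 0x110209951809026f050084e8e19af9), (nat_lit 0x1c35b19551106bd404f3f8d20048081), (nat_lit 0x7a2405005e9755c689e881f8e00d2f)⟩))) (BT.node (nat_lit 465) (BT.leaf ⟨(nat_lit 1), (nat_lit 0), (nat_lit 0), (nat_lit 0xd263bb358671c543d738e71ee39453), (nat_lit 0xd263bb358671c543d738e71ee39453), (nat_lit 0)⟩) (BT.node (nat_lit 466) (BT.leaf ⟨(nat_lit 1), (nat_lit 0), (nat_lit 0), (nat_lit 0x7d65f420044280127ad8a688014020), (nat_lit 0x7d65f420044280127ad8a688014020), (nat_lit 0)⟩) (BT.leaf ⟨(nat_lit 3), (nat_lit 7), (nat_lit 8), (nat_lit 0x1bbf1d73eb07ce9a4d65e76ceb9907c), (nat_lit 0x1d4532e0bfd1781695e89d17a8cd9e8), (nat_lit 0x1f1b49f4e68d29734f42c8dd59575ff)⟩)))) (BT.node (nat_lit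 470) (BT.node (nat_lit 468) (BT.leaf ⟨(nat_lit 1), (nat_lit 0), (nat_lit 0), (nat_lit 0x48017388e21080525d93820901003), (nat_lit 0x48017388e21080525d93820901003), (nat_lit 0)⟩) (BT.node (nat_lit 469) (BT.leaf ⟨(nat_lit 3), (nat_lit 7), (nat_lit 7), (nat_lit 0x1ca9f981022118d278300287149f818), (nat_lit 0x3b629e738f61ce393498c6ffa19d5c), (nat_lit 0x1de8b7c33090101205a828065428042)⟩) (BT.leaf ⟨(nat_lit 3), (nat_lit 4), (nat_lit 7), (nat_lit 0x10cf8316f08814220040281ad030042), (nat_lit 0xf84f1f902b4e8de1bf3efb1b8de517), (nat_lit 0xb31f0d17786faff1f7d7c7e41f11bc)⟩))) (BT.node (nat_lit 472) (BT.node (nat_lit 471) (BT.leaf ⟨(nat_lit 3), (nat_lit 7), (nat_lit 4), (nat_lit 0xf84f1f902b4e8de1bf3efb1b8de517), (nat_lit 0x10cf8316f08814220040281ad030042), (nat_lit 0xa24b2b17d7d38445e00911ed0400a)⟩) (BT.leaf ⟨(nat_lit 2), (nat_lit 7), (nat_lit 7), (nat_lit 0x480a050f3a0639501091c840089c5),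 (nat_lit 0), (nat_lit 0x1edef026533772263de9fd17e2f4751)⟩)) (BT.node (nat_lit 473) (BT.leaf ⟨(nat_lit 1), (nat_lit 0), (nat_lit 0), (nat_lit 0xd8e79fc683ca0041180100220408c0), (nat_lit 0xd8e79fc683ca0041180100220408c0), (nat_lit 0)⟩) (BT.leaf ⟨(nat_lit 2), (nat_lit 4), (nat_lit 8), (nat_lit 0x1c6b9973be702df952d2e7dce99d615), (nat_lit 0), (nat_lit 0xaf403404028810061d1e8526812104)⟩)))))) (BT.node (nat_lit 487) (BT.node (nat_lit 480) (BT.node (nat_lit 477) (BT.node (nat_lit 475) (BT.leaf ⟨(nat_lit 2), (nat_lit 8), (nat_lit 4), (nat_lit 0x1895f89bd91de0202440803042104), (nat_lit 0), (nat_lit 0x18ebbd73b748d279c7bae35cea9d07c)⟩) (BT.node (nat_lit 476) (BT.leaf ⟨(nat_lit 3), (nat_lit 4), (nat_lit 2), (nat_lit 0x1895f89bd91de0202440803042104), (nat_lit 0x1cf9f3c9ae85bc00a00c4084112dc04), (nat_lit 0xaf403404028810061d1e8526812104)⟩) (BT.leaf ⟨(nat_lit 2), (nat_lit 2),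 (nat_lit 5), (nat_lit 0xcbf00202fd13d100d3a440821eae73), (nat_lit 0), (nat_lit 0x18ebbd73b748d279c7bae35cea9d07c)⟩))) (BT.node (nat_lit 478) (BT.leaf ⟨(nat_lit 2), (nat_lit 5), (nat_lit 2), (nat_lit 0x1a7a4f26ac4fb064b176934f62cf4be), (nat_lit 0), (nat_lit 0xaf403404028810061d1e8526812104)⟩) (BT.node (nat_lit 479) (BT.leaf ⟨(nat_lit 2), (nat_lit 3), (nat_lit 3), (nat_lit 0x301400816c6202b418047307a40088), (nat_lit 0), (nat_lit 0x337812be7c21202004049d080a006)⟩) (BT.leaf ⟨(nat_lit 2), (nat_lit 3), (nat_lit 3), (nat_lit 0x1f8e04404840bd2eac02d727a240400), (nat_lit 0), (nat_lit 0x410120049350123ba04bd9e255eef0)⟩)))) (BT.node (nat_lit 483) (BT.node (nat_lit 481) (BT.leaf ⟨(nat_lit 2), (nat_lit 3), (nat_lit 3), (nat_lit 0x8881202084aec09082f1f1c6f5402), (nat_lit 0), (nat_lit 0x16a028048e0d0cc606b4ef4900307cd)⟩) (BT.node (nat_lit 482) (BT.leaf ⟨(nat_lit 2), (nat_lit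 2), (nat_lit 2), (nat_lit 0x14bdc69e88814004f41068dae640401), (nat_lit 0), (nat_lit 0xc0fa9200430805002297dd99e1dc8)⟩) (BT.leaf ⟨(nat_lit 2), (nat_lit 2), (nat_lit 2), (nat_lit 0x10f777a363ae714ea38a32b755eada6), (nat_lit 0), (nat_lit 0x9ab786d4fe8c737a2f4fb6a1f90cab)⟩))) (BT.node (nat_lit 485) (BT.node (nat_lit 484) (BT.leaf ⟨(nat_lit 3), (nat_lit 4), (nat_lit 2), (nat_lit 0x107989c9f1db37a5f49c9345d9d23d8), (nat_lit 0x1a7a4f26ac4fb064b176934f62cf4be), (nat_lit 0xaf403404028810061d1e8526812104)⟩) (BT.leaf ⟨(nat_lit 1), (nat_lit 0), (nat_lit 0), (nat_lit 0x1a8b0a93f65e6bc970faab84bc17fdb), (nat_lit 0x1a8b0a93f65e6bc970faab84bc17fdb), (nat_lit 0)⟩)) (BT.node (nat_lit 486) (BT.leaf ⟨(nat_lit 1), (nat_lit 0), (nat_lit 0), (nat_lit 0x11c639573b4d1eeae33569266e31e73), (nat_lit 0x11c639573b4d1eeae33569266e31e73), (nat_lit 0)⟩) (BT.leaf ⟨(nat_lit 1), (nat_lit 0), (nat_lit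 0), (nat_lit 0x1cf802dec049bc00212b00c1123b80c), (nat_lit 0x1cf802dec049bc00212b00c1123b80c), (nat_lit 0)⟩))))) (BT.node (nat_lit 494) (BT.node (nat_lit 490) (BT.node (nat_lit 488) (BT.leaf ⟨(nat_lit 1), (nat_lit 0), (nat_lit 0), (nat_lit 0x14d0bcb1371b1bb5178cf5bc372c3fe), (nat_lit 0x14d0bcb1371b1bb5178cf5bc372c3fe), (nat_lit 0)⟩) (BT.node (nat_lit 489) (BT.leaf ⟨(nat_lit 1), (nat_lit 0), (nat_lit 0), (nat_lit 0x17492da57f6f595b805fd832ad27a5d), (nat_lit 0x17492da57f6f595b805fd832ad27a5d), (nat_lit 0)⟩) (BT.leaf ⟨(nat_lit 1), (nat_lit 0), (nat_lit 0), (nat_lit 0xf9d2d804e7d7b10212be8411202104), (nat_lit 0xf9d2d804e7d7b10212be8411202104), (nat_lit 0)⟩))) (BT.node (nat_lit 492) (BT.node (nat_lit 491) (BT.leaf ⟨(nat_lit 1), (nat_lit 0), (nat_lit 0), (nat_lit 0x9fc141f58a608011299da808430024), (nat_lit 0x9fc141f58a608011299da808430024), (nat_lit 0)⟩) (BT.leaf ⟨(nat_lit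 1), (nat_lit 0), (nat_lit 0), (nat_lit 0x152e5f48e93927c76b13935a7a6f49e), (nat_lit 0x152e5f48e93927c76b13935a7a6f49e), (nat_lit 0)⟩)) (BT.node (nat_lit 493) (BT.leaf ⟨(nat_lit 1), (nat_lit 0), (nat_lit 0), (nat_lit 0x624b74e8f68200525701022024009), (nat_lit 0x624b74e8f68200525701022024009), (nat_lit 0)⟩) (BT.leaf ⟨(nat_lit 2), (nat_lit 3), (nat_lit 3), (nat_lit 0x7451b6933a8556d36ef87a355ea9dd), (nat_lit 0), (nat_lit 0x9ff60a5e6e0e282fa5d4b74672ffb7)⟩)))) (BT.node (nat_lit 497) (BT.node (nat_lit 495) (BT.leaf ⟨(nat_lit 1), (nat_lit 0), (nat_lit 0), (nat_lit 0x102240346a5ee34f47e38010820809e), (nat_lit 0x102240346a5ee34f47e38010820809e), (nat_lit 0)⟩) (BT.node (nat_lit 496) (BT.leaf ⟨(nat_lit 1), (nat_lit 0), (nat_lit 0), (nat_lit 0x66e393498e714e19bfe1db9ce79a87), (nat_lit 0x66e393498e714e19bfe1db9ce79a87), (nat_lit 0)⟩) (BT.leaf ⟨(nat_lit 1), (nat_lit 0), (nat_lit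 0), (nat_lit 0x17b0423e70092680678904881002ef0), (nat_lit 0x17b0423e70092680678904881002ef0), (nat_lit 0)⟩))) (BT.node (nat_lit 499) (BT.node (nat_lit 498) (BT.leaf ⟨(nat_lit 1), (nat_lit 0), (nat_lit 0), (nat_lit 0x10037a73a0020201025f93c20100004), (nat_lit 0x10037a73a0020201025f93c20100004), (nat_lit 0)⟩) (BT.leaf ⟨(nat_lit 1), (nat_lit 0), (nat_lit 0), (nat_lit 0x17a4029014020864f9d4013bd440801), (nat_lit 0x17a4029014020864f9d4013bd440801), (nat_lit 0)⟩)) (BT.node (nat_lit 500) (BT.leaf ⟨(nat_lit 1), (nat_lit 0), (nat_lit 0), (nat_lit 0xb4a6cf3ea75caab287cb07ce30a9ce), (nat_lit 0xb4a6cf3ea75caab287cb07ce30a9ce), (nat_lit 0)⟩) (BT.leaf ⟨(nat_lit 1), (nat_lit 0), (nat_lit 0), (nat_lit 0xb4932fb798e7a2f61763373a3f45a8), (nat_lit 0xb4932fb798e7a2f61763373a3f45a8), (nat_lit 0)⟩)))))))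
noncomputable def xP448 : BT Pf := (BT.node (nat_lit 474) (BT.node (nat_lit 461) (BT.node (nat_lit 454) (BT.node (nat_lit 451) (BT.node (nat_lit 449) (BT.leaf (.nmul (nat_lit 266) [(nat_lit 1)])) (BT.node (nat_lit 450) (BT.leaf (.nmul (nat_lit 405) [(nat_lit 47)])) (BT.leaf (.nmul (nat_lit 449) [(nat_lit 23)])))) (BT.node (nat_lit 452) (BT.leaf (.nmul (nat_lit 450) [(nat_lit 23)])) (BT.node (nat_lit 453) (BT.leaf (.nmul (nat_lit 451) [(nat_lit 47)])) (BT.leaf (.nmul (nat_lit 452) [(nat_lit 23)]))))) (BT.node (nat_lit 457) (BT.node (nat_lit 455) (BT.leaf (.emul [(nat_lit 232), (nat_lit 275)])) (BT.node (nat_lit 456) (BT.leaf (.emul [(nat_lit 275), (nat_lit 454)])) (BT.leaf (.emul [(nat_lit 241), (nat_lit 455)])))) (BT.node (nat_lit 459) (BT.node (nat_lit 458) (BT.leaf (.nmul (nat_lit 180) [(nat_lit 47)])) (BT.leaf (.nmul (nat_lit 457) [(nat_lit 23)]))) (BT.node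 (nat_lit 460) (BT.leaf (.emul [(nat_lit 132), (nat_lit 246)])) (BT.leaf (.emul [(nat_lit 132), (nat_lit 459)])))))) (BT.node (nat_lit 467) (BT.node (nat_lit 464) (BT.node (nat_lit 462) (BT.leaf (.nmul (nat_lit 131) [(nat_lit 23)])) (BT.node (nat_lit 463) (BT.leaf (.rel (nat_lit 430) (nat_lit 5) [(nat_lit 453), (nat_lit 125)] [⟨(nat_lit 233), [(nat_lit 456)], [(nat_lit 230), (nat_lit 458)]⟩, ⟨(nat_lit 400), [(nat_lit 446), (nat_lit 460)], [(nat_lit 461), (nat_lit 308)]⟩])) (BT.leaf (.inv (nat_lit 462))))) (BT.node (nat_lit 465) (BT.leaf (.nmul (nat_lit 304) [(nat_lit 23)])) (BT.node (nat_lit 466) (BT.leaf (.nmul (nat_lit 464) [(nat_lit 47)])) (BT.leaf (.rel (nat_lit 447) (nat_lit 1) [(nat_lit 465), (nat_lit 300)] [⟨(nat_lit 412), [(nat_lit 460)], [(nat_lit 325), (nat_lit 303)]⟩]))))) (BT.node (nat_lit 470) (BT.node (nat_lit 468) (BT.leaf (.nmul (nat_lit 408) [(nat_lit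 23)])) (BT.node (nat_lit 469) (BT.leaf (.rel (nat_lit 463) (nat_lit 1) [(nat_lit 294), (nat_lit 281)] [⟨(nat_lit 462), [(nat_lit 404)], [(nat_lit 315), (nat_lit 403)]⟩])) (BT.leaf (.rel (nat_lit 468) (nat_lit 1) [(nat_lit 102), (nat_lit 224)] [⟨(nat_lit 443), [], [(nat_lit 305), (nat_lit 317)]⟩])))) (BT.node (nat_lit 472) (BT.node (nat_lit 471) (BT.leaf (.inv (nat_lit 469))) (BT.leaf (.emul [(nat_lit 427), (nat_lit 423)]))) (BT.node (nat_lit 473) (BT.leaf (.nmul (nat_lit 409) [(nat_lit 47)])) (BT.leaf (.cmp (nat_lit 470) ⟨(nat_lit 466), [(nat_lit 436), (nat_lit 471)], [(nat_lit 472), (nat_lit 339)]⟩))))))) (BT.node (nat_lit 487) (BT.node (nat_lit 480) (BT.node (nat_lit 477) (BT.node (nat_lit 475) (BT.leaf (.einv (nat_lit 473))) (BT.node (nat_lit 476) (BT.leaf (.trans (nat_lit 447) [(nat_lit 474)] [])) (BT.leaf (.cmp (nat_lit 475) ⟨(nat_lit 295), [], [(nat_lit 410),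 (nat_lit 99)]⟩)))) (BT.node (nat_lit 478) (BT.leaf (.einv (nat_lit 476))) (BT.node (nat_lit 479) (BT.leaf (.emul [(nat_lit 241), (nat_lit 275)])) (BT.leaf (.emul [(nat_lit 275), (nat_lit 478)]))))) (BT.node (nat_lit 483) (BT.node (nat_lit 481) (BT.leaf (.emul [(nat_lit 257), (nat_lit 479)])) (BT.node (nat_lit 482) (BT.leaf (.emul [(nat_lit 214), (nat_lit 234)])) (BT.leaf (.emul [(nat_lit 214), (nat_lit 481)])))) (BT.node (nat_lit 485) (BT.node (nat_lit 484) (BT.leaf (.trans (nat_lit 295) [] [(nat_lit 477)])) (BT.leaf (.nmul (nat_lit 266) [(nat_lit 23)]))) (BT.node (nat_lit 486) (BT.leaf (.nmul (nat_lit 484) [(nat_lit 1)])) (BT.leaf (.nmul (nat_lit 102) [(nat_lit 47)])))))) (BT.node (nat_lit 494) (BT.node (nat_lit 490) (BT.node (nat_lit 488) (BT.leaf (.nmul (nat_lit 326) [(nat_lit 1)])) (BT.node (nat_lit 489) (BT.leaf (.nmul (nat_lit 487) [(nat_lit 23)])) (BT.leaf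 (.nmul (nat_lit 488) [(nat_lit 0)])))) (BT.node (nat_lit 492) (BT.node (nat_lit 491) (BT.leaf (.nmul (nat_lit 428) [(nat_lit 23)])) (BT.leaf (.nmul (nat_lit 490) [(nat_lit 23)]))) (BT.node (nat_lit 493) (BT.leaf (.nmul (nat_lit 491) [(nat_lit 23)])) (BT.leaf (.emul [(nat_lit 257), (nat_lit 455)]))))) (BT.node (nat_lit 497) (BT.node (nat_lit 495) (BT.leaf (.nmul (nat_lit 398) [(nat_lit 1)])) (BT.node (nat_lit 496) (BT.leaf (.nmul (nat_lit 409) [(nat_lit 23)])) (BT.leaf (.nmul (nat_lit 172) [(nat_lit 47)])))) (BT.node (nat_lit 499) (BT.node (nat_lit 498) (BT.leaf (.nmul (nat_lit 496) [(nat_lit 23)])) (BT.leaf (.nmul (nat_lit 497) [(nat_lit 23)]))) (BT.node (nat_lit 500) (BT.leaf (.nmul (nat_lit 346) [(nat_lit 47)])) (BT.leaf (.nmul (nat_lit 499) [(nat_lit 0)]))))))))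
noncomputable def xF : BT Fc := (BT.node (nat_lit 256) (BT.node (nat_lit 128) (BT.node (nat_lit 64) xF0 xF64) (BT.node (nat_lit 192) xF128 xF192)) (BT.node (nat_lit 384) (BT.node (nat_lit 320) xF256 xF320) (BT.node (nat_lit 448) xF384 xF448)))
noncomputable def xP : BT Pf := (BT.node (nat_lit 256) (BT.node (nat_lit 128) (BT.node (nat_lit 64) xP0 xP64) (BT.node (nat_lit 192) xP128 xP192)) (BT.node (nat_lit 384) (BT.node (nat_lit 320) xP256 xP320) (BT.node (nat_lit 448) xP384 xP448)))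
noncomputable def xnd : BT Nat := (BT.node (nat_lit 4) (BT.node (nat_lit 2) (BT.node (nat_lit 1) (BT.leaf (nat_lit 0)) (BT.leaf (nat_lit 48))) (BT.node (nat_lit 3) (BT.leaf (nat_lit 107)) (BT.leaf (nat_lit 215)))) (BT.node (nat_lit 6) (BT.node (nat_lit 5) (BT.leaf (nat_lit 276)) (BT.leaf (nat_lit 295))) (BT.node (nat_lit 7) (BT.leaf (nat_lit 342)) (BT.node (nat_lit 8) (BT.leaf (nat_lit 412)) (BT.leaf (nat_lit 444))))))
noncomputable def xR : List (List Nat) := [[(nat_lit 0x14d35cbb9472a6713f51562af554ab8), (nat_lit 0x14d35cbb9472a6713f51562af554ab8), (nat_lit 0x14d35cbb9472a6713f51562af554ab8)],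
  [(nat_lit 0x151865e46f8cf6383744e9dd0957747), (nat_lit 0x151865e46f8cf6383744e9dd0957747), (nat_lit 0x151865e46f8cf6383744e9dd0957747)],
  [(nat_lit 0xe8e52be1fc6fae3715a787364f1f7d), (nat_lit 0xdb06ac3d3aae2b779dd46dc85eadd5), (nat_lit 0xe8e52be1fc6fae3715a787364f1f7d), (nat_lit 0xdb06ac3d3aae2b779dd46dc85eadd5)],
  [(nat_lit 0xdb06ac3d3aae2b779dd46dc85eadd5), (nat_lit 0xe8e52be1fc6fae3715a787364f1f7d), (nat_lit 0xdb06ac3d3aae2b779dd46dc85eadd5), (nat_lit 0xe8e52be1fc6fae3715a787364f1f7d)],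
  [(nat_lit 0x107a4e26a62627a4b3a49bc5dacf0ed), (nat_lit 0x20441280f74b7f3a1af1208e6b44f3), (nat_lit 0x107a4e26a62627a4b3a49bc5dacf0ed), (nat_lit 0x20441280f74b7f3a1af1208e6b44f3)],
  [(nat_lit 0x20441280f74b7f3a1af1208e6b44f3), (nat_lit 0x107a4e26a62627a4b3a49bc5dacf0ed), (nat_lit 0x20441280f74b7f3a1af1208e6b44f3), (nat_lit 0x107a4e26a62627a4b3a49bc5dacf0ed)]]
noncomputable def xT : List (List Stp) := [[⟨(nat_lit 0), [], []⟩, ⟨(nat_lit 107), [], []⟩, ⟨(nat_lit 215), [], []⟩, ⟨(nat_lit 233), [(nat_lit 479)], [(nat_lit 102), (nat_lit 281)]⟩, ⟨(nat_lit 133), [(nat_lit 413)], [(nat_lit 486), (nat_lit 485)]⟩, ⟨(nat_lit 49), [], [(nat_lit 492), (nat_lit 489)]⟩],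
  [⟨(nat_lit 0), [], []⟩, ⟨(nat_lit 107), [], []⟩, ⟨(nat_lit 215), [], []⟩, ⟨(nat_lit 233), [(nat_lit 493)], [(nat_lit 467), (nat_lit 341)]⟩, ⟨(nat_lit 133), [(nat_lit 413)], [(nat_lit 329), (nat_lit 200)]⟩, ⟨(nat_lit 49), [], [(nat_lit 284), (nat_lit 494)]⟩],
  [⟨(nat_lit 0), [], []⟩, ⟨(nat_lit 107), [], []⟩, ⟨(nat_lit 215), [], []⟩, ⟨(nat_lit 233), [(nat_lit 455)], [(nat_lit 495), (nat_lit 300)]⟩, ⟨(nat_lit 133), [(nat_lit 234)], [(nat_lit 498), (nat_lit 282)]⟩, ⟨(nat_lit 49), [], [(nat_lit 336), (nat_lit 500)]⟩],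
  [⟨(nat_lit 0), [], []⟩, ⟨(nat_lit 107), [], []⟩, ⟨(nat_lit 215), [], []⟩, ⟨(nat_lit 276), [], []⟩, ⟨(nat_lit 483), [], []⟩, ⟨(nat_lit 215), [], [(nat_lit 315), (nat_lit 402)]⟩, ⟨(nat_lit 233), [(nat_lit 480)], [(nat_lit 169), (nat_lit 317)]⟩, ⟨(nat_lit 133), [(nat_lit 482)], [(nat_lit 148), (nat_lit 312)]⟩, ⟨(nat_lit 49), [], [(nat_lit 189), (nat_lit 448)]⟩]]
noncomputable def xA : Alg := ⟨mu, e11, fun _ => true, mu, e11, fun _ => true, id, e11, nth (nat_lit 0) L11, nat_lit 30,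
  fun x => mapW NT [x], (nat_lit 0)⟩
noncomputable def xk : Nat → Bool := chkAt xA xF.get xP.get (bsOf xA Ns []) (nth [] xR) xnd.get

end CF.Dce.J4
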