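import Cfsg.Agent.Comp.Pres
import Cfsg.Agent.Dce.J4.Rels
import Cfsg.Agent.Dce.J4.ED

set_option autoImplicit false
set_option maxRecDepth 1000000
set_option maxHeartbeats 0
set_option Elab.async false

namespace CF.Dce.J4
open CF.Comp

theorem e1_all : Cov e1_F 4 4 0 := by
  have h := Cov.zero e1_F 4
  have h := h.blk (b := 4) e1_k0_0 rfl
  have h := h.next (y := 1) rfl rfl
  have h := h.blk (b := 4) e1_k1_0 rfl
  have h := h.next (y := 2) rfl rfl
  have h := h.blk (b := 4) e1_k2_0 rfl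
  have h := h.next (y := 3) rfl rfl
  have h := h.blk (b := 4) e1_k3_0 rfl
  have h := h.next (y := 4) rfl rfl
  exact h

theorem e1 : Enum RT WS H1 24 :=
  ⟨e1_cols, e1_ch, e1_L, e1_H, e1_pb.1, e1_e.get, [(nat_lit 0), (nat_lit 1), (nat_lit 3), (nat_lit 4)], (nat_lit 1), (nat_lit 2), e1_rots, e1_hcs,
    (nat_lit 25), (nat_lit 4), (nat_lit 32), (nat_lit 8), (nat_lit 256), (nat_lit 2047), (nat_lit 8), (nat_lit 255), (nat_lit 11), (nat_lit 2047), (nat_lit 1), (nat_lit 4),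
    fun _ _ => rfl, fun _ => rfl, fun _ _ => rfl, by decide +kernel, e1_all.1⟩

theorem e2_all : Cov e2_F 4 15 0 := by
  have h := Cov.zero e2_F 4
  have h := h.blk (b := 4) e2_k0_0 rfl
  have h := h.next (y := 1) rfl rfl
  have h := h.blk (b := 4) e2_k1_0 rfl
  have h := h.next (y := 2) rfl rfl
  have h := h.blk (b := 4) e2_k2_0 rfl
  have h := h.next (y := 3) rfl rfl
  have h := h.blk (b := 4) e2_k3_0 rfl
  have h := h.next (y := 4) rfl rfl
  have h := h.blk (b := 4) e2_k4_0 rfl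
  have h := h.next (y := 5) rfl rfl
  have h := h.blk (b := 4) e2_k5_0 rfl
  have h := h.next (y := 6) rfl rfl
  have h := h.blk (b := 4) e2_k6_0 rfl
  have h := h.next (y := 7) rfl rfl
  have h := h.blk (b := 4) e2_k7_0 rfl
  have h := h.next (y := 8) rfl rfl
  have h := h.blk (b := 4) e2_k8_0 rfl
  have h := h.next (y := 9) rfl rfl
  have h := h.blk (b := 4) e2_k9_0 rfl
  have h := h.next (y := 10) rfl rfl
  have h := h.blk (b := 4) e2_k10_0 rfl
  have h := h.next (y := 11) rfl rfl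
  have h := h.blk (b := 4) e2_k11_0 rfl
  have h := h.next (y := 12) rfl rfl
  have h := h.blk (b := 4) e2_k12_0 rfl
  have h := h.next (y := 13) rfl rfl
  have h := h.blk (b := 4) e2_k13_0 rfl
  have h := h.next (y := 14) rfl rfl
  have h := h.blk (b := 4) e2_k14_0 rfl
  have h := h.next (y := 15) rfl rfl
  exact h

theorem e2 : Enum R1 K2 K1 23 :=
  ⟨e2_cols, e2_ch, e2_L, e2_H, e2_pb.1, e2_e.get, [(nat_lit 0), (nat_lit 1), (nat_lit 2), (nat_lit 3), (nat_lit 4), (nat_lit 5), (nat_lit 6), (nat_lit 7), (nat_lit 8), (nat_lit 9), (nat_lit 10), (nat_lit 11), (nat_lit 12), (nat_lit 13), (nat_lit 14)], (nat_lit 0), (nat_lit 7), e2_rots, e2_hcs,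
    (nat_lit 24), (nat_lit 15), (nat_lit 64), (nat_lit 256), (nat_lit 16384), (nat_lit 4095), (nat_lit 8), (nat_lit 255), (nat_lit 20), (nat_lit 1048575), (nat_lit 1), (nat_lit 4),
    fun _ _ => rfl, fun _ => rfl, fun _ _ => rfl, by decide +kernel, e2_all.1⟩

theorem e3_all : Cov e3_F 4 9 0 := by
  have h := Cov.zero e3_F 4
  have h := h.blk (b := 4) e3_k0_0 rfl
  have h := h.next (y := 1) rfl rfl
  have h := h.blk (b := 4) e3_k1_0 rfl
  have h := h.next (y := 2) rfl rfl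
  have h := h.blk (b := 4) e3_k2_0 rfl
  have h := h.next (y := 3) rfl rfl
  have h := h.blk (b := 4) e3_k3_0 rfl
  have h := h.next (y := 4) rfl rfl
  have h := h.blk (b := 4) e3_k4_0 rfl
  have h := h.next (y := 5) rfl rfl
  have h := h.blk (b := 4) e3_k5_0 rfl
  have h := h.next (y := 6) rfl rfl
  have h := h.blk (b := 4) e3_k6_0 rfl
  have h := h.next (y := 7) rfl rfl
  have h := h.blk (b := 4) e3_k7_0 rfl
  have h := h.next (y := 8) rfl rfl
  have h := h.blk (b := 4) e3_k8_0 rfl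
  have h := h.next (y := 9) rfl rfl
  exact h

theorem e3 : Enum R2 K3 K2 77 :=
  ⟨e3_cols, e3_ch, e3_L, e3_H, e3_pb.1, e3_e.get, [(nat_lit 0), (nat_lit 5), (nat_lit 6), (nat_lit 7), (nat_lit 8), (nat_lit 11), (nat_lit 12), (nat_lit 13), (nat_lit 14)], (nat_lit 0), (nat_lit 7), e3_rots, e3_hcs,
    (nat_lit 78), (nat_lit 9), (nat_lit 128), (nat_lit 128), (nat_lit 16384), (nat_lit 8191), (nat_lit 8), (nat_lit 255), (nat_lit 21), (nat_lit 2097151), (nat_lit 1), (nat_lit 4),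
    fun _ _ => rfl, fun _ => rfl, fun _ _ => rfl, by decide +kernel, e3_all.1⟩

theorem e4_all : Cov e4_F 92 7 0 := by
  have h := Cov.zero e4_F 92
  have h := h.blk (b := 92) e4_k0_0 rfl
  have h := h.next (y := 1) rfl rfl
  have h := h.blk (b := 92) e4_k1_0 rfl
  have h := h.next (y := 2) rfl rfl
  have h := h.blk (b := 92) e4_k2_0 rfl
  have h := h.next (y := 3) rfl rfl
  have h := h.blk (b := 92) e4_k3_0 rfl
  have h := h.next (y := 4) rfl rfl
  have h := h.blk (b := 92) e4_k4_0 rfl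
  have h := h.next (y := 5) rfl rfl
  have h := h.blk (b := 92) e4_k5_0 rfl
  have h := h.next (y := 6) rfl rfl
  have h := h.blk (b := 92) e4_k6_0 rfl
  have h := h.next (y := 7) rfl rfl
  exact h

theorem e4 : Enum R3 K4 K3 5760 :=
  ⟨e4_cols, e4_ch, e4_L, e4_H, e4_pb.1, e4_e.get, [(nat_lit 0), (nat_lit 5), (nat_lit 6), (nat_lit 7), (nat_lit 8), (nat_lit 11), (nat_lit 12)], (nat_lit 0), (nat_lit 7), e4_rots, e4_hcs,
    (nat_lit 5761), (nat_lit 7), (nat_lit 8192), (nat_lit 64), (nat_lit 524288), (nat_lit 524287), (nat_lit 8), (nat_lit 255), (nat_lit 28), (nat_lit 268435455), (nat_lit 23), (nat_lit 92),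
    fun _ _ => rfl, fun _ => rfl, fun _ _ => rfl, by decide +kernel, e4_all.1⟩


end CF.Dce.J4
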