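import Cfsg.Agent.Comp.Defs

set_option autoImplicit false
set_option maxRecDepth 1000000
set_option maxHeartbeats 0
set_option Elab.async false

namespace CF.Dce.J4
open CF.Comp

noncomputable def N0_0 : Net := (Net.cons (nat_lit 1) (nat_lit 256) (Net.cons (nat_lit 2) (nat_lit 2167344) (Net.cons (nat_lit 4) (nat_lit 262656) (Net.cons (nat_lit 8) (nat_lit 21) (Net.cons (nat_lit 16) (nat_lit 53) (Net.cons (nat_lit 8) (nat_lit 121) (Net.cons (nat_lit 4) (nat_lit 853775) (Net.cons (nat_lit 2) (nat_lit 3223842) (Net.cons (nat_lit 1) (nat_lit 4259921) Net.nil)))))))))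
noncomputable def N0_1 : Net := (Net.cons (nat_lit 1) (nat_lit 17412) (Net.cons (nat_lit 2) (nat_lit 3346688) (Net.cons (nat_lit 4) (nat_lit 720896) (Net.cons (nat_lit 8) (nat_lit 19) (Net.cons (nat_lit 16) (nat_lit 211) (Net.cons (nat_lit 8) (nat_lit 9) (Net.cons (nat_lit 4) (nat_lit 524289) (Net.cons (nat_lit 2) (nat_lit 2298641) (Net.cons (nat_lit 1) (nat_lit 4539393) Net.nil)))))))))
noncomputable def N0 : List Net := [N0_0, N0_1]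
noncomputable def N1_0 : Net := (Net.cons (nat_lit 1) (nat_lit 4456464) (Net.cons (nat_lit 2) (nat_lit 1057040) (Net.cons (nat_lit 4) (nat_lit 394240) (Net.cons (nat_lit 8) (nat_lit 104) (Net.cons (nat_lit 16) (nat_lit 232) (Net.cons (nat_lit 8) (nat_lit 78) (Net.cons (nat_lit 4) (nat_lit 6) (Net.cons (nat_lit 2) (nat_lit 1188608) (Net.cons (nat_lit 1) (nat_lit 1327360) Net.nil)))))))))
noncomputable def N1_1 : Net := (Net.cons (nat_lit 1) (nat_lit 1069056) (Net.cons (nat_lit 2) (nat_lit 3145728) (Net.cons (nat_lit 4) (nat_lit 524288) (Net.cons (nat_lit 8) (nat_lit 32) (Net.cons (nat_lit 16) (nat_lit 104) (Net.cons (nat_lit 8) (nat_lit 42) (Net.cons (nat_lit 4) (nat_lit 590090) (Net.cons (nat_lit 2) (nat_lit 3154176) (Net.cons (nat_lit 1) (nat_lit 86080) Net.nil)))))))))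
noncomputable def N1_2 : Net := (Net.cons (nat_lit 1) (nat_lit 5325904) (Net.cons (nat_lit 2) (nat_lit 1114144) (Net.cons (nat_lit 4) (nat_lit 133120) (Net.cons (nat_lit 8) (nat_lit 72) (Net.cons (nat_lit 16) (nat_lit 108) (Net.cons (nat_lit 8) (nat_lit 20) (Net.cons (nat_lit 4) (nat_lit 591628) (Net.cons (nat_lit 2) (nat_lit 2302768) (Net.cons (nat_lit 1) (nat_lit 5309524) Net.nil)))))))))
noncomputable def N1_3 : Net := (Net.cons (nat_lit 1) (nat_lit 17744) (Net.cons (nat_lit 2) (nat_lit 2109440) (Net.cons (nat_lit 4) (nat_lit 66816) (Net.cons (nat_lit 8) (nat_lit 8) (Net.cons (nat_lit 16) (nat_lit 60) (Net.cons (nat_lit 8) (nat_lit 60) (Net.cons (nat_lit 4) (nat_lit 592136) (Net.cons (nat_lit 2) (nat_lit 2109952) (Net.cons (nat_lit 1) (nat_lit 282896) Net.nil)))))))))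
noncomputable def N1_4 : Net := (Net.cons (nat_lit 1) (nat_lit 4461568) (Net.cons (nat_lit 2) (nat_lit 3212064) (Net.cons (nat_lit 4) (nat_lit 591872) (Net.cons (nat_lit 8) (nat_lit 72) (Net.cons (nat_lit 16) (nat_lit 248) (Net.cons (nat_lit 8) (nat_lit 144) (Net.cons (nat_lit 4) (nat_lit 395520) (Net.cons (nat_lit 2) (nat_lit 73776) (Net.cons (nat_lit 1) (nat_lit 5592128) Net.nil)))))))))
noncomputable def N1_5 : Net := (Net.cons (nat_lit 1) (nat_lit 5570576) (Net.cons (nat_lit 2) (nat_lit 2232864) (Net.cons (nat_lit 4) (nat_lit 2304) (Net.cons (nat_lit 8) (nat_lit 67) (Net.cons (nat_lit 16) (nat_lit 195) (Net.cons (nat_lit 8) (nat_lit 59) (Net.cons (nat_lit 4) (nat_lit 264) (Net.cons (nat_lit 2) (nat_lit 1057312) (Net.cons (nat_lit 1) (nat_lit 69712) Net.nil)))))))))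
noncomputable def N1_6 : Net := (Net.cons (nat_lit 1) (nat_lit 82240) (Net.cons (nat_lit 2) (nat_lit 196608) (Net.cons (nat_lit 4) (nat_lit 395264) (Net.cons (nat_lit 8) (nat_lit 101) (Net.cons (nat_lit 16) (nat_lit 229) (Net.cons (nat_lit 8) (nat_lit 181) (Net.cons (nat_lit 4) (nat_lit 263936) (Net.cons (nat_lit 2) (nat_lit 139312) (Net.cons (nat_lit 1) (nat_lit 333056) Net.nil)))))))))
noncomputable def N1_7 : Net := (Net.cons (nat_lit 1) (nat_lit 4276224) (Net.cons (nat_lit 2) (nat_lit 1188608) (Net.cons (nat_lit 4) (nat_lit 65792) (Net.cons (nat_lit 8) (nat_lit 76) (Net.cons (nat_lit 16) (nat_lit 124) (Net.cons (nat_lit 8) (nat_lit 220) (Net.cons (nat_lit 4) (nat_lit 396800) (Net.cons (nat_lit 2) (nat_lit 1191984) (Net.cons (nat_lit 1) (nat_lit 1065232) Net.nil)))))))))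
noncomputable def N1_8 : Net := (Net.cons (nat_lit 1) (nat_lit 1064960) (Net.cons (nat_lit 2) (nat_lit 1187840) (Net.cons (nat_lit 4) (nat_lit 265216) (Net.cons (nat_lit 8) (nat_lit 45) (Net.cons (nat_lit 16) (nat_lit 45) (Net.cons (nat_lit 8) (nat_lit 205) (Net.cons (nat_lit 4) (nat_lit 918784) (Net.cons (nat_lit 2) (nat_lit 1254144) (Net.cons (nat_lit 1) (nat_lit 69952) Net.nil)))))))))
noncomputable def N1_9 : Net := (Net.cons (nat_lit 1) (nat_lit 320) (Net.cons (nat_lit 2) (nat_lit 131072) (Net.cons (nat_lit 4) (nat_lit 525824) (Net.cons (nat_lit 16) (nat_lit 128) (Net.cons (nat_lit 8) (nat_lit 96) (Net.cons (nat_lit 4) (nat_lit 852736) (Net.cons (nat_lit 2) (nat_lit 1118976) (Net.cons (nat_lit 1) (nat_lit 5259584) Net.nil))))))))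
noncomputable def N1_10 : Net := (Net.cons (nat_lit 1) (nat_lit 5264384) (Net.cons (nat_lit 2) (nat_lit 1118208) (Net.cons (nat_lit 4) (nat_lit 395264) (Net.cons (nat_lit 8) (nat_lit 26) (Net.cons (nat_lit 16) (nat_lit 90) (Net.cons (nat_lit 8) (nat_lit 154) (Net.cons (nat_lit 4) (nat_lit 1536) (Net.cons (nat_lit 2) (nat_lit 3355392) (Net.cons (nat_lit 1) (nat_lit 1315840) Net.nil)))))))))
noncomputable def N1_11 : Net := (Net.cons (nat_lit 1) (nat_lit 5264384) (Net.cons (nat_lit 2) (nat_lit 1118208) (Net.cons (nat_lit 4) (nat_lit 395264) (Net.cons (nat_lit 8) (nat_lit 26) (Net.cons (nat_lit 16) (nat_lit 90) (Net.cons (nat_lit 8) (nat_lit 154) (Net.cons (nat_lit 4) (nat_lit 1536) (Net.cons (nat_lit 2) (nat_lit 3355392) (Net.cons (nat_lit 1) (nat_lit 1315840) Net.nil)))))))))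
noncomputable def N1 : List Net := [N1_0, N1_1, N1_2, N1_3, N1_4, N1_5, N1_6, N1_7, N1_8, N1_9, N1_10, N1_11]
noncomputable def W1 : List (List Nat) := [[(nat_lit 3), (nat_lit 2), (nat_lit 3), (nat_lit 1), (nat_lit 4), (nat_lit 4), (nat_lit 1), (nat_lit 4), (nat_lit 1), (nat_lit 3), (nat_lit 3)],
  [(nat_lit 1), (nat_lit 3), (nat_lit 1)],
  [(nat_lit 6), (nat_lit 8), (nat_lit 5), (nat_lit 7), (nat_lit 6), (nat_lit 7), (nat_lit 7), (nat_lit 6)],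
  [(nat_lit 6), (nat_lit 7), (nat_lit 6), (nat_lit 8), (nat_lit 5), (nat_lit 8), (nat_lit 5)],
  [(nat_lit 9), (nat_lit 9), (nat_lit 11)],
  [(nat_lit 9), (nat_lit 12), (nat_lit 10), (nat_lit 12), (nat_lit 9), (nat_lit 11), (nat_lit 11), (nat_lit 10), (nat_lit 12)],
  [(nat_lit 13), (nat_lit 13), (nat_lit 13), (nat_lit 16)],
  [(nat_lit 13), (nat_lit 16), (nat_lit 16), (nat_lit 16), (nat_lit 14), (nat_lit 16), (nat_lit 13), (nat_lit 16), (nat_lit 16)],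
  [(nat_lit 20), (nat_lit 20), (nat_lit 20), (nat_lit 17), (nat_lit 19), (nat_lit 18), (nat_lit 20), (nat_lit 20), (nat_lit 18)],
  [(nat_lit 18), (nat_lit 19), (nat_lit 18), (nat_lit 20), (nat_lit 20), (nat_lit 17), (nat_lit 20), (nat_lit 17), (nat_lit 17), (nat_lit 20)],
  [(nat_lit 17), (nat_lit 17), (nat_lit 20), (nat_lit 18)],
  [(nat_lit 22), (nat_lit 24), (nat_lit 22), (nat_lit 25), (nat_lit 21), (nat_lit 24)]]
noncomputable def CK : List Lvl := [⟨(nat_lit 0), [[(nat_lit 1)],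
  [(nat_lit 3)]], (nat_lit 6)⟩,
  ⟨(nat_lit 1), [[(nat_lit 5)],
  [(nat_lit 7)]], (nat_lit 9)⟩,
  ⟨(nat_lit 2), [[(nat_lit 9)],
  [(nat_lit 11)]], (nat_lit 5)⟩,
  ⟨(nat_lit 3), [[(nat_lit 13)],
  [(nat_lit 15)]], (nat_lit 4)⟩,
  ⟨(nat_lit 4), [[(nat_lit 17)],
  [(nat_lit 19)]], (nat_lit 4)⟩,
  ⟨(nat_lit 5), [[(nat_lit 21)],
  [(nat_lit 23)],
  [(nat_lit 25)]], (nat_lit 3)⟩,
  ⟨(nat_lit 6), [[(nat_lit 27)]], (nat_lit 2)⟩]
noncomputable def CT : List Lvl := [⟨(nat_lit 0), [[(nat_lit 1)],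
  [(nat_lit 3)]], (nat_lit 5)⟩,
  ⟨(nat_lit 1), [[(nat_lit 1), (nat_lit 3), (nat_lit 3), (nat_lit 1)],
  [(nat_lit 4), (nat_lit 1), (nat_lit 4), (nat_lit 1), (nat_lit 3), (nat_lit 1)],
  [(nat_lit 3), (nat_lit 3), (nat_lit 1), (nat_lit 3), (nat_lit 1), (nat_lit 3), (nat_lit 3), (nat_lit 1), (nat_lit 4)]], (nat_lit 3)⟩,
  ⟨(nat_lit 2), [[(nat_lit 1), (nat_lit 3), (nat_lit 3), (nat_lit 1)],
  [(nat_lit 4), (nat_lit 1), (nat_lit 4), (nat_lit 1), (nat_lit 3), (nat_lit 3), (nat_lit 1), (nat_lit 3), (nat_lit 1), (nat_lit 3)],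
  [(nat_lit 4), (nat_lit 1), (nat_lit 3), (nat_lit 1), (nat_lit 3), (nat_lit 3), (nat_lit 1), (nat_lit 4), (nat_lit 1), (nat_lit 3)],
  [(nat_lit 4), (nat_lit 1), (nat_lit 3), (nat_lit 3), (nat_lit 1), (nat_lit 4), (nat_lit 1), (nat_lit 3), (nat_lit 1), (nat_lit 3), (nat_lit 1), (nat_lit 4)]], (nat_lit 2)⟩,
  ⟨(nat_lit 3), [[(nat_lit 1), (nat_lit 3), (nat_lit 3), (nat_lit 1)],
  [(nat_lit 3), (nat_lit 3), (nat_lit 1), (nat_lit 3), (nat_lit 1), (nat_lit 4), (nat_lit 1), (nat_lit 3), (nat_lit 1), (nat_lit 4), (nat_lit 1), (nat_lit 3), (nat_lit 3), (nat_lit 1), (nat_lit 3), (nat_lit 1)],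
  [(nat_lit 4), (nat_lit 1), (nat_lit 4), (nat_lit 1), (nat_lit 3), (nat_lit 3), (nat_lit 1), (nat_lit 4), (nat_lit 1), (nat_lit 4), (nat_lit 1), (nat_lit 3), (nat_lit 1), (nat_lit 3), (nat_lit 1), (nat_lit 4)]], (nat_lit 1)⟩,
  ⟨(nat_lit 4), [[(nat_lit 4), (nat_lit 1), (nat_lit 4), (nat_lit 1), (nat_lit 3), (nat_lit 3), (nat_lit 1), (nat_lit 3), (nat_lit 1), (nat_lit 4), (nat_lit 1), (nat_lit 4), (nat_lit 1), (nat_lit 3), (nat_lit 1), (nat_lit 4), (nat_lit 1), (nat_lit 4), (nat_lit 1), (nat_lit 3), (nat_lit 1), (nat_lit 3)]], (nat_lit 2)⟩]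
noncomputable def CS : List Lvl := [⟨(nat_lit 0), [[(nat_lit 1)],
  [(nat_lit 3)]], (nat_lit 4)⟩,
  ⟨(nat_lit 1), [[(nat_lit 2), (nat_lit 2), (nat_lit 3)],
  [(nat_lit 3), (nat_lit 1), (nat_lit 1), (nat_lit 4)],
  [(nat_lit 1), (nat_lit 3), (nat_lit 1), (nat_lit 4), (nat_lit 1)]], (nat_lit 3)⟩,
  ⟨(nat_lit 2), [[(nat_lit 2), (nat_lit 4), (nat_lit 2), (nat_lit 3), (nat_lit 1), (nat_lit 3), (nat_lit 1)],
  [(nat_lit 3), (nat_lit 1), (nat_lit 4), (nat_lit 1), (nat_lit 3), (nat_lit 2), (nat_lit 3), (nat_lit 2), (nat_lit 4)],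
  [(nat_lit 1), (nat_lit 3), (nat_lit 2), (nat_lit 2), (nat_lit 2), (nat_lit 4), (nat_lit 1)]], (nat_lit 2)⟩,
  ⟨(nat_lit 4), [[(nat_lit 3), (nat_lit 2), (nat_lit 2), (nat_lit 2), (nat_lit 4), (nat_lit 2), (nat_lit 3), (nat_lit 1), (nat_lit 3), (nat_lit 2), (nat_lit 4)],
  [(nat_lit 1), (nat_lit 1), (nat_lit 1), (nat_lit 4), (nat_lit 2), (nat_lit 4), (nat_lit 2), (nat_lit 2), (nat_lit 3), (nat_lit 2), (nat_lit 3)],
  [(nat_lit 2), (nat_lit 3), (nat_lit 2), (nat_lit 4), (nat_lit 2), (nat_lit 2), (nat_lit 2), (nat_lit 4), (nat_lit 2), (nat_lit 2), (nat_lit 4)]], (nat_lit 1)⟩,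
  ⟨(nat_lit 3), [[(nat_lit 2), (nat_lit 4), (nat_lit 2), (nat_lit 4), (nat_lit 2), (nat_lit 3), (nat_lit 1), (nat_lit 1), (nat_lit 4), (nat_lit 1), (nat_lit 4), (nat_lit 1), (nat_lit 3)],
  [(nat_lit 1), (nat_lit 4), (nat_lit 1), (nat_lit 3), (nat_lit 1), (nat_lit 3), (nat_lit 1), (nat_lit 1), (nat_lit 4), (nat_lit 2), (nat_lit 3), (nat_lit 2), (nat_lit 3)]], (nat_lit 2)⟩]
noncomputable def cC1 : List Lvl := [⟨(nat_lit 0), [[(nat_lit 1)],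
  [(nat_lit 3)]], (nat_lit 5)⟩,
  ⟨(nat_lit 1), [[(nat_lit 1), (nat_lit 3), (nat_lit 3), (nat_lit 1)],
  [(nat_lit 4), (nat_lit 1), (nat_lit 4), (nat_lit 1), (nat_lit 3), (nat_lit 1)],
  [(nat_lit 3), (nat_lit 3), (nat_lit 1), (nat_lit 3), (nat_lit 1), (nat_lit 3), (nat_lit 3), (nat_lit 1), (nat_lit 4)]], (nat_lit 3)⟩,
  ⟨(nat_lit 3), [[(nat_lit 1), (nat_lit 3), (nat_lit 3), (nat_lit 1)],
  [(nat_lit 4), (nat_lit 1), (nat_lit 4), (nat_lit 1), (nat_lit 3), (nat_lit 3), (nat_lit 1), (nat_lit 3), (nat_lit 1), (nat_lit 3)],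
  [(nat_lit 4), (nat_lit 1), (nat_lit 3), (nat_lit 1), (nat_lit 3), (nat_lit 3), (nat_lit 1), (nat_lit 4), (nat_lit 1), (nat_lit 3)],
  [(nat_lit 4), (nat_lit 1), (nat_lit 3), (nat_lit 3), (nat_lit 1), (nat_lit 4), (nat_lit 1), (nat_lit 3), (nat_lit 1), (nat_lit 3), (nat_lit 1), (nat_lit 4)]], (nat_lit 1)⟩,
  ⟨(nat_lit 2), [[(nat_lit 3), (nat_lit 3), (nat_lit 1), (nat_lit 4), (nat_lit 1), (nat_lit 3), (nat_lit 1), (nat_lit 4), (nat_lit 1), (nat_lit 4), (nat_lit 1), (nat_lit 3), (nat_lit 1), (nat_lit 3), (nat_lit 1), (nat_lit 3), (nat_lit 3), (nat_lit 1)],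
  [(nat_lit 4), (nat_lit 1), (nat_lit 3), (nat_lit 3), (nat_lit 1), (nat_lit 3), (nat_lit 3), (nat_lit 1), (nat_lit 3), (nat_lit 1), (nat_lit 3), (nat_lit 1), (nat_lit 4), (nat_lit 1), (nat_lit 4), (nat_lit 1), (nat_lit 4), (nat_lit 1)]], (nat_lit 3)⟩,
  ⟨(nat_lit 4), [[(nat_lit 4), (nat_lit 1), (nat_lit 4), (nat_lit 1), (nat_lit 3), (nat_lit 3), (nat_lit 1), (nat_lit 3), (nat_lit 1), (nat_lit 4), (nat_lit 1), (nat_lit 4), (nat_lit 1), (nat_lit 3), (nat_lit 1), (nat_lit 4), (nat_lit 1), (nat_lit 4), (nat_lit 1), (nat_lit 3), (nat_lit 1), (nat_lit 3)]], (nat_lit 2)⟩]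
noncomputable def cC2 : List Lvl := [⟨(nat_lit 0), [[(nat_lit 1)],
  [(nat_lit 3)]], (nat_lit 6)⟩,
  ⟨(nat_lit 1), [[(nat_lit 3)],
  [(nat_lit 1), (nat_lit 4), (nat_lit 4), (nat_lit 1)]], (nat_lit 2)⟩,
  ⟨(nat_lit 3), [[(nat_lit 1), (nat_lit 4), (nat_lit 4), (nat_lit 1)],
  [(nat_lit 2), (nat_lit 4), (nat_lit 1), (nat_lit 1), (nat_lit 3), (nat_lit 1)]], (nat_lit 2)⟩]
noncomputable def cC3 : List Lvl := [⟨(nat_lit 0), [[(nat_lit 1)],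
  [(nat_lit 3)]], (nat_lit 3)⟩,
  ⟨(nat_lit 1), [[(nat_lit 3), (nat_lit 3)],
  [(nat_lit 3), (nat_lit 1), (nat_lit 3), (nat_lit 3), (nat_lit 1)]], (nat_lit 1)⟩]
noncomputable def cC4 : List Lvl := [⟨(nat_lit 0), [[(nat_lit 1)],
  [(nat_lit 3)]], (nat_lit 6)⟩,
  ⟨(nat_lit 1), [[(nat_lit 4), (nat_lit 1)]], (nat_lit 7)⟩]
noncomputable def cC5 : List Lvl := [⟨(nat_lit 0), [[(nat_lit 1)],
  [(nat_lit 3)],
  [(nat_lit 5)]], (nat_lit 4)⟩,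
  ⟨(nat_lit 1), [[(nat_lit 5), (nat_lit 3)],
  [(nat_lit 2), (nat_lit 5), (nat_lit 1)]], (nat_lit 1)⟩,
  ⟨(nat_lit 2), [[(nat_lit 3), (nat_lit 2), (nat_lit 5), (nat_lit 1), (nat_lit 3)]], (nat_lit 1)⟩]
noncomputable def cC7 : List Lvl := [⟨(nat_lit 0), [[(nat_lit 1)]], (nat_lit 2)⟩]
noncomputable def cC8 : List Lvl := [⟨(nat_lit 0), [[(nat_lit 1)],
  [(nat_lit 3)],
  [(nat_lit 5)]], (nat_lit 2)⟩,
  ⟨(nat_lit 1), [[(nat_lit 3), (nat_lit 1), (nat_lit 1)]], (nat_lit 1)⟩]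
noncomputable def cC9 : List Lvl := [⟨(nat_lit 1), [[(nat_lit 1)],
  [(nat_lit 3)]], (nat_lit 1)⟩,
  ⟨(nat_lit 0), [[(nat_lit 3), (nat_lit 1)]], (nat_lit 2)⟩]
noncomputable def cC10 : List Lvl := [⟨(nat_lit 1), [[(nat_lit 1)],
  [(nat_lit 3)],
  [(nat_lit 5)]], (nat_lit 3)⟩,
  ⟨(nat_lit 0), [[(nat_lit 4), (nat_lit 1), (nat_lit 3)],
  [(nat_lit 5), (nat_lit 3), (nat_lit 1)]], (nat_lit 4)⟩,
  ⟨(nat_lit 2), [[(nat_lit 4), (nat_lit 1), (nat_lit 3)],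
  [(nat_lit 5), (nat_lit 1), (nat_lit 6)]], (nat_lit 1)⟩]
noncomputable def cC11 : List Lvl := [⟨(nat_lit 0), [[(nat_lit 1)],
  [(nat_lit 3)]], (nat_lit 2)⟩,
  ⟨(nat_lit 2), [[(nat_lit 3), (nat_lit 3), (nat_lit 2)]], (nat_lit 1)⟩]
noncomputable def cC12 : List Lvl := [⟨(nat_lit 0), [[(nat_lit 1)],
  [(nat_lit 3)]], (nat_lit 3)⟩,
  ⟨(nat_lit 1), [[(nat_lit 3), (nat_lit 3), (nat_lit 1), (nat_lit 1)],
  [(nat_lit 1), (nat_lit 3), (nat_lit 3), (nat_lit 1)],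
  [(nat_lit 4), (nat_lit 1), (nat_lit 3), (nat_lit 1), (nat_lit 3)]], (nat_lit 1)⟩,
  ⟨(nat_lit 2), [[(nat_lit 4), (nat_lit 1), (nat_lit 4), (nat_lit 1), (nat_lit 3)]], (nat_lit 1)⟩]
noncomputable def cC13 : List Lvl := [⟨(nat_lit 1), [[(nat_lit 1)],
  [(nat_lit 3)],
  [(nat_lit 5)]], (nat_lit 3)⟩,
  ⟨(nat_lit 0), [[(nat_lit 3)],
  [(nat_lit 6), (nat_lit 1), (nat_lit 5)]], (nat_lit 1)⟩,
  ⟨(nat_lit 2), [[(nat_lit 6), (nat_lit 3), (nat_lit 5), (nat_lit 1)]], (nat_lit 1)⟩]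
noncomputable def cC14 : List Lvl := [⟨(nat_lit 0), [[(nat_lit 1)],
  [(nat_lit 3)]], (nat_lit 4)⟩,
  ⟨(nat_lit 1), [[(nat_lit 4), (nat_lit 2), (nat_lit 3), (nat_lit 1)],
  [(nat_lit 4), (nat_lit 1), (nat_lit 3), (nat_lit 1), (nat_lit 1)]], (nat_lit 3)⟩,
  ⟨(nat_lit 2), [[(nat_lit 3), (nat_lit 3), (nat_lit 2), (nat_lit 2), (nat_lit 4), (nat_lit 1)],
  [(nat_lit 1), (nat_lit 3), (nat_lit 2), (nat_lit 3), (nat_lit 2), (nat_lit 3), (nat_lit 1)]], (nat_lit 1)⟩,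
  ⟨(nat_lit 3), [[(nat_lit 4), (nat_lit 1), (nat_lit 4), (nat_lit 1), (nat_lit 3), (nat_lit 1), (nat_lit 3)]], (nat_lit 1)⟩]
noncomputable def cC15 : List Lvl := [⟨(nat_lit 0), [[(nat_lit 1)],
  [(nat_lit 3)],
  [(nat_lit 5)]], (nat_lit 2)⟩,
  ⟨(nat_lit 1), [[(nat_lit 1), (nat_lit 1)],
  [(nat_lit 6), (nat_lit 3)],
  [(nat_lit 5), (nat_lit 3), (nat_lit 1), (nat_lit 3)]], (nat_lit 1)⟩,
  ⟨(nat_lit 2), [[(nat_lit 5), (nat_lit 2), (nat_lit 2), (nat_lit 3)]], (nat_lit 1)⟩]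
noncomputable def cC16 : List Lvl := [⟨(nat_lit 0), [[(nat_lit 1)],
  [(nat_lit 3)]], (nat_lit 4)⟩,
  ⟨(nat_lit 1), [[(nat_lit 3), (nat_lit 1)]], (nat_lit 10)⟩]
noncomputable def cC17 : List Lvl := [⟨(nat_lit 0), [[(nat_lit 1)],
  [(nat_lit 3)],
  [(nat_lit 5)]], (nat_lit 2)⟩,
  ⟨(nat_lit 1), [[(nat_lit 1), (nat_lit 3), (nat_lit 1)],
  [(nat_lit 3), (nat_lit 1), (nat_lit 4), (nat_lit 1), (nat_lit 3)],
  [(nat_lit 5), (nat_lit 3), (nat_lit 5), (nat_lit 3)],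
  [(nat_lit 5), (nat_lit 1), (nat_lit 3), (nat_lit 1), (nat_lit 5), (nat_lit 4)],
  [(nat_lit 5), (nat_lit 1), (nat_lit 5), (nat_lit 3), (nat_lit 1), (nat_lit 5)]], (nat_lit 1)⟩,
  ⟨(nat_lit 2), [[(nat_lit 5), (nat_lit 1), (nat_lit 4), (nat_lit 1), (nat_lit 3), (nat_lit 5), (nat_lit 1)],
  [(nat_lit 4), (nat_lit 1), (nat_lit 3), (nat_lit 1), (nat_lit 4), (nat_lit 1), (nat_lit 3), (nat_lit 1)],
  [(nat_lit 5), (nat_lit 4), (nat_lit 5), (nat_lit 1), (nat_lit 4), (nat_lit 1), (nat_lit 4)],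
  [(nat_lit 1), (nat_lit 5), (nat_lit 1), (nat_lit 4), (nat_lit 1), (nat_lit 5), (nat_lit 3), (nat_lit 1)]], (nat_lit 2)⟩,
  ⟨(nat_lit 5), [[(nat_lit 1), (nat_lit 5), (nat_lit 1), (nat_lit 4), (nat_lit 1), (nat_lit 5), (nat_lit 3), (nat_lit 1)]], (nat_lit 1)⟩]
noncomputable def cC18 : List Lvl := [⟨(nat_lit 0), [[(nat_lit 1)],
  [(nat_lit 3)],
  [(nat_lit 5)],
  [(nat_lit 7)]], (nat_lit 2)⟩,
  ⟨(nat_lit 1), [[(nat_lit 7), (nat_lit 5), (nat_lit 3)],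
  [(nat_lit 5), (nat_lit 7), (nat_lit 3)],
  [(nat_lit 1), (nat_lit 3), (nat_lit 3), (nat_lit 1)],
  [(nat_lit 8), (nat_lit 1), (nat_lit 3), (nat_lit 1)]], (nat_lit 2)⟩,
  ⟨(nat_lit 2), [[(nat_lit 1), (nat_lit 7), (nat_lit 4), (nat_lit 1)],
  [(nat_lit 3), (nat_lit 8), (nat_lit 4), (nat_lit 1)],
  [(nat_lit 4), (nat_lit 1), (nat_lit 3), (nat_lit 5), (nat_lit 1)]], (nat_lit 2)⟩,
  ⟨(nat_lit 3), [[(nat_lit 7), (nat_lit 5), (nat_lit 1), (nat_lit 7), (nat_lit 1)],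
  [(nat_lit 7), (nat_lit 4), (nat_lit 5), (nat_lit 1), (nat_lit 3)]], (nat_lit 2)⟩,
  ⟨(nat_lit 4), [[(nat_lit 7), (nat_lit 5), (nat_lit 1), (nat_lit 7), (nat_lit 1)],
  [(nat_lit 7), (nat_lit 1), (nat_lit 7), (nat_lit 5), (nat_lit 1)]], (nat_lit 1)⟩]
noncomputable def cC19 : List Lvl := [⟨(nat_lit 0), [[(nat_lit 1)],
  [(nat_lit 3)],
  [(nat_lit 5)]], (nat_lit 2)⟩,
  ⟨(nat_lit 1), [[(nat_lit 5), (nat_lit 3), (nat_lit 2)],
  [(nat_lit 4), (nat_lit 6), (nat_lit 2)],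
  [(nat_lit 6), (nat_lit 1), (nat_lit 3), (nat_lit 1)]], (nat_lit 1)⟩,
  ⟨(nat_lit 5), [[(nat_lit 3), (nat_lit 2), (nat_lit 4), (nat_lit 1)],
  [(nat_lit 3), (nat_lit 1), (nat_lit 4), (nat_lit 2)],
  [(nat_lit 6), (nat_lit 1), (nat_lit 3), (nat_lit 1)],
  [(nat_lit 4), (nat_lit 5), (nat_lit 1), (nat_lit 3)]], (nat_lit 2)⟩,
  ⟨(nat_lit 3), [[(nat_lit 5), (nat_lit 1), (nat_lit 5), (nat_lit 2)],
  [(nat_lit 2), (nat_lit 4), (nat_lit 1), (nat_lit 1), (nat_lit 3), (nat_lit 1)],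
  [(nat_lit 4), (nat_lit 2), (nat_lit 6), (nat_lit 1), (nat_lit 1), (nat_lit 3)],
  [(nat_lit 6), (nat_lit 4), (nat_lit 1), (nat_lit 4), (nat_lit 4), (nat_lit 2)]], (nat_lit 1)⟩,
  ⟨(nat_lit 2), [[(nat_lit 4), (nat_lit 6), (nat_lit 6), (nat_lit 3), (nat_lit 1), (nat_lit 3), (nat_lit 1)]], (nat_lit 1)⟩]
noncomputable def cC26 : List Lvl := [⟨(nat_lit 0), [[(nat_lit 1)],
  [(nat_lit 3)],
  [(nat_lit 5)]], (nat_lit 3)⟩,
  ⟨(nat_lit 1), [[(nat_lit 3), (nat_lit 2), (nat_lit 3), (nat_lit 1)],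
  [(nat_lit 5), (nat_lit 3), (nat_lit 2), (nat_lit 2)],
  [(nat_lit 5), (nat_lit 1), (nat_lit 3), (nat_lit 2)]], (nat_lit 3)⟩,
  ⟨(nat_lit 2), [[(nat_lit 3), (nat_lit 2), (nat_lit 3), (nat_lit 1)],
  [(nat_lit 3), (nat_lit 5), (nat_lit 2), (nat_lit 3), (nat_lit 2)],
  [(nat_lit 5), (nat_lit 2), (nat_lit 5), (nat_lit 1), (nat_lit 1), (nat_lit 1)],
  [(nat_lit 1), (nat_lit 3), (nat_lit 2), (nat_lit 5), (nat_lit 2), (nat_lit 3), (nat_lit 5), (nat_lit 2), (nat_lit 2)]], (nat_lit 2)⟩,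
  ⟨(nat_lit 4), [[(nat_lit 3), (nat_lit 5), (nat_lit 2), (nat_lit 2), (nat_lit 3), (nat_lit 1), (nat_lit 3), (nat_lit 1)],
  [(nat_lit 5), (nat_lit 1), (nat_lit 5), (nat_lit 1), (nat_lit 5), (nat_lit 2), (nat_lit 2), (nat_lit 2)],
  [(nat_lit 3), (nat_lit 2), (nat_lit 2), (nat_lit 3), (nat_lit 5), (nat_lit 2), (nat_lit 5), (nat_lit 3), (nat_lit 2), (nat_lit 5), (nat_lit 2)]], (nat_lit 2)⟩,
  ⟨(nat_lit 3), [[(nat_lit 5), (nat_lit 1), (nat_lit 5), (nat_lit 1), (nat_lit 5), (nat_lit 2), (nat_lit 2), (nat_lit 2)],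
  [(nat_lit 3), (nat_lit 2), (nat_lit 2), (nat_lit 3), (nat_lit 5), (nat_lit 2), (nat_lit 5), (nat_lit 3), (nat_lit 2), (nat_lit 5), (nat_lit 2)]], (nat_lit 2)⟩,
  ⟨(nat_lit 5), [[(nat_lit 3), (nat_lit 2), (nat_lit 2), (nat_lit 3), (nat_lit 5), (nat_lit 2), (nat_lit 5), (nat_lit 3), (nat_lit 2), (nat_lit 5), (nat_lit 2)]], (nat_lit 1)⟩]
noncomputable def cC : List (List Lvl) := [[], cC1, cC2, cC3, cC4, cC5, [], cC7, cC8, cC9, cC10, cC11, cC12, cC13, cC14, cC15, cC16, cC17, cC18, cC19, [], [], [], [], [], [], cC26, [], [], [], [], []]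
noncomputable def cO : List Nat := [(nat_lit 1), (nat_lit 64512), (nat_lit 768), (nat_lit 48), (nat_lit 192), (nat_lit 128), (nat_lit 1), (nat_lit 3), (nat_lit 16), (nat_lit 6), (nat_lit 512), (nat_lit 20), (nat_lit 96), (nat_lit 32), (nat_lit 1152), (nat_lit 96), (nat_lit 253), (nat_lit 4608), (nat_lit 21504), (nat_lit 9216), (nat_lit 1), (nat_lit 1), (nat_lit 1), (nat_lit 1), (nat_lit 1), (nat_lit 1), (nat_lit 138240), (nat_lit 1), (nat_lit 1), (nat_lit 1), (nat_lit 1), (nat_lit 1)]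
noncomputable def hC1 : List Lvl := [⟨(nat_lit 0), [[(nat_lit 1)],
  [(nat_lit 3)],
  [(nat_lit 5)]], (nat_lit 3)⟩,
  ⟨(nat_lit 1), [[(nat_lit 3), (nat_lit 1), (nat_lit 3)],
  [(nat_lit 5), (nat_lit 3), (nat_lit 1), (nat_lit 5), (nat_lit 1)],
  [(nat_lit 5), (nat_lit 1), (nat_lit 5), (nat_lit 1), (nat_lit 5), (nat_lit 2)]], (nat_lit 3)⟩,
  ⟨(nat_lit 2), [[(nat_lit 5), (nat_lit 2), (nat_lit 5), (nat_lit 1), (nat_lit 5), (nat_lit 2), (nat_lit 5), (nat_lit 1)],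
  [(nat_lit 3), (nat_lit 5), (nat_lit 3), (nat_lit 5), (nat_lit 2), (nat_lit 3), (nat_lit 2)],
  [(nat_lit 2), (nat_lit 5), (nat_lit 3), (nat_lit 5), (nat_lit 1), (nat_lit 3), (nat_lit 5), (nat_lit 2)],
  [(nat_lit 3), (nat_lit 1), (nat_lit 3), (nat_lit 5), (nat_lit 1), (nat_lit 3), (nat_lit 2), (nat_lit 5), (nat_lit 2)]], (nat_lit 2)⟩,
  ⟨(nat_lit 3), [[(nat_lit 3), (nat_lit 1), (nat_lit 5), (nat_lit 1), (nat_lit 5), (nat_lit 2), (nat_lit 5), (nat_lit 1), (nat_lit 5), (nat_lit 1), (nat_lit 3)],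
  [(nat_lit 3), (nat_lit 5), (nat_lit 1), (nat_lit 5), (nat_lit 3), (nat_lit 5), (nat_lit 2), (nat_lit 3), (nat_lit 5), (nat_lit 1)],
  [(nat_lit 5), (nat_lit 3), (nat_lit 2), (nat_lit 3), (nat_lit 1), (nat_lit 5), (nat_lit 3), (nat_lit 1), (nat_lit 3), (nat_lit 5), (nat_lit 2)]], (nat_lit 2)⟩,
  ⟨(nat_lit 4), [[(nat_lit 1), (nat_lit 5), (nat_lit 2), (nat_lit 5), (nat_lit 3), (nat_lit 2), (nat_lit 3), (nat_lit 1), (nat_lit 5), (nat_lit 3), (nat_lit 1), (nat_lit 3), (nat_lit 2)]], (nat_lit 1)⟩]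
noncomputable def hC2 : List Lvl := [⟨(nat_lit 0), [[(nat_lit 1)],
  [(nat_lit 3)]], (nat_lit 5)⟩,
  ⟨(nat_lit 1), [[(nat_lit 1), (nat_lit 3), (nat_lit 1), (nat_lit 3), (nat_lit 2)],
  [(nat_lit 2), (nat_lit 3), (nat_lit 2), (nat_lit 3), (nat_lit 1), (nat_lit 3), (nat_lit 1), (nat_lit 3), (nat_lit 1)],
  [(nat_lit 3), (nat_lit 1), (nat_lit 3), (nat_lit 1), (nat_lit 3), (nat_lit 1), (nat_lit 3), (nat_lit 2), (nat_lit 3)]], (nat_lit 3)⟩,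
  ⟨(nat_lit 2), [[(nat_lit 2), (nat_lit 3), (nat_lit 2), (nat_lit 3), (nat_lit 1), (nat_lit 3), (nat_lit 1), (nat_lit 3), (nat_lit 1)],
  [(nat_lit 3), (nat_lit 2), (nat_lit 3), (nat_lit 1), (nat_lit 3), (nat_lit 2), (nat_lit 3), (nat_lit 1), (nat_lit 3), (nat_lit 2), (nat_lit 3), (nat_lit 2), (nat_lit 3), (nat_lit 1)]], (nat_lit 4)⟩,
  ⟨(nat_lit 4), [[(nat_lit 1), (nat_lit 3), (nat_lit 2), (nat_lit 3), (nat_lit 2), (nat_lit 3), (nat_lit 2), (nat_lit 3), (nat_lit 2), (nat_lit 3), (nat_lit 2), (nat_lit 3), (nat_lit 2), (nat_lit 3), (nat_lit 1)],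
  [(nat_lit 1), (nat_lit 3), (nat_lit 1), (nat_lit 3), (nat_lit 1), (nat_lit 3), (nat_lit 1), (nat_lit 3), (nat_lit 2), (nat_lit 3), (nat_lit 1), (nat_lit 3), (nat_lit 1), (nat_lit 3), (nat_lit 2), (nat_lit 3), (nat_lit 2), (nat_lit 3), (nat_lit 2), (nat_lit 3), (nat_lit 2)],
  [(nat_lit 3), (nat_lit 2), (nat_lit 3), (nat_lit 1), (nat_lit 3), (nat_lit 2), (nat_lit 3), (nat_lit 1), (nat_lit 3), (nat_lit 1), (nat_lit 3), (nat_lit 1), (nat_lit 3), (nat_lit 1), (nat_lit 3), (nat_lit 2), (nat_lit 3), (nat_lit 2), (nat_lit 3), (nat_lit 1), (nat_lit 3), (nat_lit 2)]], (nat_lit 2)⟩,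
  ⟨(nat_lit 3), [[(nat_lit 3), (nat_lit 2), (nat_lit 3), (nat_lit 2), (nat_lit 3), (nat_lit 1), (nat_lit 3), (nat_lit 1), (nat_lit 3), (nat_lit 1), (nat_lit 3), (nat_lit 2), (nat_lit 3), (nat_lit 2), (nat_lit 3), (nat_lit 2), (nat_lit 3), (nat_lit 2), (nat_lit 3), (nat_lit 2), (nat_lit 3), (nat_lit 2), (nat_lit 3), (nat_lit 1), (nat_lit 3), (nat_lit 2), (nat_lit 3), (nat_lit 2), (nat_lit 3), (nat_lit 1), (nat_lit 3), (nat_lit 1), (nat_lit 3)],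
  [(nat_lit 3), (nat_lit 1), (nat_lit 3), (nat_lit 1), (nat_lit 3), (nat_lit 1), (nat_lit 3), (nat_lit 2), (nat_lit 3), (nat_lit 1), (nat_lit 3), (nat_lit 1), (nat_lit 3), (nat_lit 1), (nat_lit 3), (nat_lit 2), (nat_lit 3), (nat_lit 2), (nat_lit 3), (nat_lit 1), (nat_lit 3), (nat_lit 1), (nat_lit 3), (nat_lit 1), (nat_lit 3), (nat_lit 2), (nat_lit 3), (nat_lit 1), (nat_lit 3), (nat_lit 2), (nat_lit 3), (nat_lit 2), (nat_lit 3), (nat_lit 1), (nat_lit 3), (nat_lit 2), (nat_lit 3), (nat_lit 2)]], (nat_lit 2)⟩,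
  ⟨(nat_lit 5), [[(nat_lit 3), (nat_lit 1), (nat_lit 3), (nat_lit 1), (nat_lit 3), (nat_lit 1), (nat_lit 3), (nat_lit 2), (nat_lit 3), (nat_lit 1), (nat_lit 3), (nat_lit 1), (nat_lit 3), (nat_lit 1), (nat_lit 3), (nat_lit 2), (nat_lit 3), (nat_lit 2), (nat_lit 3), (nat_lit 1), (nat_lit 3), (nat_lit 1), (nat_lit 3), (nat_lit 1), (nat_lit 3), (nat_lit 2), (nat_lit 3), (nat_lit 1), (nat_lit 3), (nat_lit 2), (nat_lit 3), (nat_lit 2), (nat_lit 3), (nat_lit 1), (nat_lit 3), (nat_lit 2), (nat_lit 3), (nat_lit 2)]], (nat_lit 1)⟩]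
noncomputable def hC : List (List Lvl) := [[], hC1, hC2, []]
noncomputable def hO : List Nat := [(nat_lit 1), (nat_lit 138240), (nat_lit 887040), (nat_lit 1)]

end CF.Dce.J4
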